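import Mathlib
import Cfsg.Agent.H890.K6Lines_m3
import Cfsg.Agent.H890.Y3Tools
import Cfsg.Agent.H907.FieldAdj
import Cfsg.Agent.StandardComponent.AltAut
import Cfsg.Agent.FastGrp
import Cfsg.Agent.Prune
set_option linter.all false

section
prune_inst 0x7fb0a9f9ebbcabffdfff7e77a6dccffdfdb97fffe6dff9cbffe061ff0bdf0b80c9c5ab8d0be010fe0fd6601410f87b43fb7eefffe86fdc7ffffd5ff41ffbffdfedf7b508119488340f3c0ffe03f07f8e7f3fffffffffffffffffffffffffffbeffbfffffffff

-- part: H910/Six/Hex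
section
prune_inst 0x4f00021043500000000000512220000202800000000000000c0a0084005016060054228408a000502182004000801000811000000022800000a000400000001000080040081080108220006000000000000000000000000000000000000000000000000000
set_option linter.all false
open scoped Cfsg.Agent.FastGrp

/-!
# The groups `3.A₆` in dimension six: lifts (helper910)

`Hex m φ`: `m` is a faithful six-dimensional representation of `G`, `φ : G → S₆` has image `A₆`, the kernel acts by
cube roots of unity and the lifts of `(0 1 2)` and `(3 4 5)` do not commute.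
-/

set_option autoImplicit false
set_option linter.unusedSectionVars false

open Matrix Equiv

namespace Cfsg.Agent.H910.Six

variable {F : Type*} [Field F]

/-- six by six matrices -/
abbrev M6 (F : Type*) := Matrix (Fin 6) (Fin 6) F

section idem

variable {n : Type*} [Fintype n] [DecidableEq n]

theorem trace_idem {E : Matrix n n F} (h : E * E = E) : E.trace = (E.rank : F) := by
  have h1 : LinearMap.IsProj (LinearMap.range E.mulVecLin) E.mulVecLin := by
    refine ⟨fun x => ⟨x, rfl⟩, ?_⟩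
    rintro _ ⟨y, rfl⟩
    rw [Matrix.mulVecLin_apply, Matrix.mulVecLin_apply, Matrix.mulVec_mulVec, h]
  have h2 := h1.trace
  rw [← Matrix.toLin'_apply' E, Matrix.trace_toLin'_eq] at h2
  rw [h2]
  rfl

/-- `rank_eq_zero` for idempotents -/
theorem eq_zero_of_rank {E : Matrix n n F} (h : E.rank = 0) : E = 0 := by
  rw [Matrix.rank, Submodule.finrank_eq_zero, LinearMap.range_eq_bot] at h
  rw [← Matrix.toLin'_apply', ← map_zero (Matrix.toLin' : Matrix n n F ≃ₗ[F] _)] at h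
  exact Matrix.toLin'.injective h

/-- an idempotent of trace `0` bounded by an idempotent of small rank is zero -/
theorem idem_eq_zero {p : ℕ} [CharP F p] {E D : Matrix n n F} (hE : E * E = E) (ht : E.trace = 0) (hED : E * D = E)
    (hr : D.rank < p) : E = 0 := by
  apply eq_zero_of_rank
  have h1 : (E.rank : F) = 0 := by rw [← trace_idem hE, ht]
  rw [CharP.cast_eq_zero_iff F p] at h1
  have h2 : E.rank ≤ D.rank := by
    conv_lhs => rw [← hED]
    exact Matrix.rank_mul_le_right _ _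
  exact Nat.eq_zero_of_dvd_of_lt h1 (lt_of_le_of_lt h2 hr)

end idem

section ring

variable {R : Type*} [Ring R] {A B X U : R}

theorem r_x (ma : A * A = 1) (mab : A * B = B * A) (mxa : X * A = A * B * X) (mxb : X * B = A * X)
    (mx : X * X * X = 1) : X * ((1 + A) * (1 + B) * (1 + X + X * X)) = (1 + A) * (1 + B) * (1 + X + X * X) := by
  have e1 : X * ((1 + A) * (1 + B)) = (1 + A) * (1 + B) * X := by
    have e : A * B * (A * X) = B * X := by
      rw [mab]
      calc B * A * (A * X) = B * (A * A) * X := by noncomm_ring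
        _ = B * X := by rw [ma, mul_one]
    calc X * ((1 + A) * (1 + B)) = X + X * A + X * B + (X * A) * B := by noncomm_ring
      _ = X + A * B * X + X * B + A * B * X * B := by rw [mxa]
      _ = X + A * B * X + X * B + A * B * (X * B) := by rw [mul_assoc (A * B) X B]
      _ = X + A * B * X + A * X + A * B * (A * X) := by rw [mxb]
      _ = X + A * B * X + A * X + B * X := by rw [e]
      _ = (1 + A) * (1 + B) * X := by noncomm_ring
  rw [← mul_assoc, e1, mul_assoc]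
  congr 1
  calc X * (1 + X + X * X) = X + X * X + X * X * X := by noncomm_ring
    _ = 1 + X + X * X := by rw [mx]; abel

theorem r_a (ma : A * A = 1) : A * ((1 + A) * (1 + B) * (1 + X + X * X)) = (1 + A) * (1 + B) * (1 + X + X * X) := by
  have : A * (1 + A) = 1 + A := by rw [mul_add, ma, mul_one, add_comm]
  rw [← mul_assoc, ← mul_assoc, this]

theorem r_b (mb : B * B = 1) (mab : A * B = B * A) :
    B * ((1 + A) * (1 + B) * (1 + X + X * X)) = (1 + A) * (1 + B) * (1 + X + X * X) := by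
  have e : B * ((1 + A) * (1 + B)) = (1 + A) * (1 + B) := by
    calc B * ((1 + A) * (1 + B)) = B + B * B + B * A + (B * A) * B := by noncomm_ring
      _ = B + 1 + A * B + A * B * B := by rw [mb, ← mab]
      _ = B + 1 + A * B + A * (B * B) := by rw [mul_assoc A B B]
      _ = (1 + A) * (1 + B) := by rw [mb]; noncomm_ring
  rw [← mul_assoc, e]

theorem r_sq (mx : X * X * X = 1) : (1 + X + X * X) * (1 + X + X * X) = 3 * (1 + X + X * X) := by
  calc (1 + X + X * X) * (1 + X + X * X) =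
      1 + 2 * X + 3 * (X * X) + 2 * (X * X * X) + X * X * X * X := by noncomm_ring
    _ = 3 * (1 + X + X * X) := by rw [mx]; noncomm_ring

theorem r_us (mx : X * X * X = 1) (mux : U * X = X * X * U) : U * (1 + X + X * X) = (1 + X + X * X) * U := by
  have e : X * X * U * X = X * U := by
    rw [mul_assoc (X * X), mux]
    calc X * X * (X * X * U) = X * X * X * (X * U) := by noncomm_ring
      _ = X * U := by rw [mx, one_mul]
  calc U * (1 + X + X * X) = U + U * X + (U * X) * X := by noncomm_ring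
    _ = U + X * X * U + X * X * U * X := by rw [mux]
    _ = U + X * X * U + X * U := by rw [e]
    _ = (1 + X + X * X) * U := by noncomm_ring

theorem r_expand : (1 + A) * (1 + B) * (1 + X + X * X) = 1 + A + B + A * B + X + X * X +
    A * X + B * X + A * B * X + A * (X * X) + B * (X * X) + A * B * (X * X) := by noncomm_ring

theorem r_idem {S : R} (mu : U * U = 1) (us : U * S = S * U) (ss : S * S = 3 * S) :
    (1 - U) * S * ((1 - U) * S) = 6 * ((1 - U) * S) := by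
  have e1 : (1 - U) * (1 - U) = 2 * (1 - U) := by
    calc (1 - U) * (1 - U) = 1 - 2 * U + U * U := by noncomm_ring
      _ = 2 * (1 - U) := by rw [mu]; noncomm_ring
  have e2 : S * (1 - U) = (1 - U) * S := by rw [mul_sub, sub_mul, us, mul_one, one_mul]
  calc (1 - U) * S * ((1 - U) * S) = (1 - U) * (S * (1 - U)) * S := by noncomm_ring
    _ = (1 - U) * (1 - U) * (S * S) := by rw [e2]; noncomm_ring
    _ = 6 * ((1 - U) * S) := by rw [e1, ss]; noncomm_ring

end ring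

/-- See the head of the file. -/
structure Hex {G : Type*} [Group G] (m : G →* M6 F) (φ : G →* Perm (Fin 6)) : Prop where
  inj : Function.Injective m
  onto : ∀ σ : Perm (Fin 6), Perm.sign σ = 1 → ∃ g, φ g = σ
  even : ∀ g, Perm.sign (φ g) = 1
  ker : ∀ g, φ g = 1 → ∃ c : F, c ^ 3 = 1 ∧ m g = c • (1 : M6 F)
  nc : ∃ x y, φ x = c[(0 : Fin 6), 1, 2] ∧ φ y = c[(3 : Fin 6), 4, 5] ∧ x * y ≠ y * x

section lifts

variable {G : Type*} [Group G] {m : G →* M6 F} {φ : G →* Perm (Fin 6)}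

theorem Hex.smul_of_ker (h : Hex m φ) {k : G} (hk : φ k = 1) : ∃ c : F, c ^ 3 = 1 ∧ c ≠ 0 ∧
    (∀ g, m (k * g) = c • m g) ∧ (c = 1 → k = 1) := by
  obtain ⟨c, hc, hm⟩ := h.ker k hk
  refine ⟨c, hc, ?_, ?_, ?_⟩
  · rintro rfl; norm_num at hc
  · intro g; rw [map_mul, hm, smul_mul_assoc, one_mul]
  · rintro rfl
    apply h.inj
    rw [hm, one_smul, map_one]

theorem Hex.central (h : Hex m φ) {k : G} (hk : φ k = 1) (g : G) : k * g = g * k := by
  obtain ⟨c, hc, hm⟩ := h.ker k hk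
  apply h.inj
  rw [map_mul, map_mul, hm, smul_mul_assoc, one_mul, mul_smul_comm, mul_one]

theorem Hex.cube (h : Hex m φ) {k : G} (hk : φ k = 1) : k * k * k = 1 := by
  obtain ⟨c, hc, hm⟩ := h.ker k hk
  apply h.inj
  rw [map_mul, map_mul, hm, map_one, smul_mul_smul_comm, smul_mul_smul_comm, one_mul, one_mul,
    show c * c * c = c ^ 3 by ring, hc, one_smul]

/-- uniqueness of the involution over an involution -/
theorem Hex.uniq (h : Hex m φ) {g g' : G} (h1 : φ g = φ g') (hg : g * g = 1) (hg' : g' * g' = 1) : g = g' := by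
  have hk : φ (g⁻¹ * g') = 1 := by rw [map_mul, map_inv, h1, inv_mul_cancel]
  have hc := h.central hk g
  have h3 := h.cube hk
  have e : g' = g * (g⁻¹ * g') := by group
  generalize g⁻¹ * g' = k at *
  have h4 : k * k = 1 := by
    have : g' * g' = g * g * (k * k) := by
      rw [e]
      calc g * k * (g * k) = g * (k * g) * k := by group
        _ = g * (g * k) * k := by rw [hc]
        _ = g * g * (k * k) := by group
    rw [hg, hg', one_mul] at this
    exact this.symm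
  rw [h4, one_mul] at h3
  rw [e, h3, mul_one]

theorem Hex.exists_inv (h : Hex m φ) (s : Perm (Fin 6)) (hs : s * s = 1) (hsg : Perm.sign s = 1) :
    ∃ g, φ g = s ∧ g * g = 1 := by
  obtain ⟨g, hg⟩ := h.onto s hsg
  have hk : φ (g * g) = 1 := by rw [map_mul, hg, hs]
  refine ⟨g * (g * g), by rw [map_mul, hk, hg, mul_one], ?_⟩
  have h3 := h.cube hk
  calc g * (g * g) * (g * (g * g)) = g * g * (g * g) * (g * g) := by group
    _ = 1 := h3

/-- lifts of commuting involutions commute -/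
theorem Hex.comm (h : Hex m φ) {a b : G} (hab : φ a * φ b = φ b * φ a) (hb : b * b = 1) :
    a * b = b * a := by
  have h1 : a * b * a⁻¹ = b := h.uniq (by rw [map_mul, map_mul, hab, map_inv, mul_inv_cancel_right])
    (by rw [show a * b * a⁻¹ * (a * b * a⁻¹) = a * (b * b) * a⁻¹ by group, hb, mul_one, mul_inv_cancel]) hb
  calc a * b = a * b * a⁻¹ * a := by group
    _ = b * a := by rw [h1]

/-- the conjugate of an involution is the involution over the conjugate -/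
theorem Hex.conj (h : Hex m φ) {a b k : G} (hab : φ k * φ a * (φ k)⁻¹ = φ b) (ha : a * a = 1) (hb : b * b = 1) :
    k * a * k⁻¹ = b :=
  h.uniq (by rw [map_mul, map_mul, map_inv, hab])
    (by rw [show k * a * k⁻¹ * (k * a * k⁻¹) = k * (a * a) * k⁻¹ by group, ha, mul_one, mul_inv_cancel]) hb

theorem Hex.mul_inv (h : Hex m φ) {a b c : G} (hab : φ a * φ b = φ b * φ a) (ha : a * a = 1) (hb : b * b = 1)
    (hc : c * c = 1) (habc : φ a * φ b = φ c) : a * b = c := by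
  refine h.uniq (by rw [map_mul, habc]) ?_ hc
  have := h.comm hab hb
  calc a * b * (a * b) = a * (b * a) * b := by group
    _ = a * (a * b) * b := by rw [this]
    _ = (a * a) * (b * b) := by group
    _ = 1 := by rw [ha, hb, mul_one]

/-- the lift of an element of order three inverted by an involution -/
theorem Hex.exists_three (h : Hex m φ) {s : Perm (Fin 6)} {u : G} (hsg : Perm.sign s = 1)
    (hinv : φ u * s * φ u = s⁻¹) : ∃ x, φ x = s ∧ u * x * u = x⁻¹ := by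
  obtain ⟨x, hx⟩ := h.onto s hsg
  have hk : φ (u * x * u * x) = 1 := by rw [map_mul, map_mul, map_mul, hx, hinv, inv_mul_cancel]
  have hc := fun g => h.central hk g
  have h3 := h.cube hk
  generalize hkk : u * x * u * x = k at *
  refine ⟨x * k, by rw [map_mul, hk, hx, mul_one], ?_⟩
  rw [eq_inv_iff_mul_eq_one]
  calc u * (x * k) * u * (x * k) = u * x * (k * u) * (x * k) := by group
    _ = u * x * (u * k) * (x * k) := by rw [hc]
    _ = u * x * u * (k * x) * k := by group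
    _ = u * x * u * (x * k) * k := by rw [hc]
    _ = (u * x * u * x) * k * k := by group
    _ = 1 := by rw [hkk, h3]

theorem Hex.cube_three (h : Hex m φ) {x u : G} (hx : φ x * φ x * φ x = 1) (hu : u * u = 1) (hinv : u * x * u = x⁻¹) :
    x * x * x = 1 := by
  have hk : φ (x * x * x) = 1 := by rw [map_mul, map_mul, hx]
  have hc := h.central hk u
  have h3 := h.cube hk
  have h4 : u * (x * x * x) * u = (x * x * x)⁻¹ := by
    calc u * (x * x * x) * u = (u * x * u) * (u⁻¹ * u⁻¹) * (u * x * u) * (u⁻¹ * u⁻¹) * (u * x * u) := by group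
      _ = x⁻¹ * x⁻¹ * x⁻¹ := by
        rw [hinv, show u⁻¹ * u⁻¹ = (u * u)⁻¹ by group, hu, inv_one, mul_one, mul_one]
      _ = (x * x * x)⁻¹ := by group
  generalize x * x * x = k at *
  have h5 : u * k * u = k := by rw [mul_assoc, hc, ← mul_assoc, hu, one_mul]
  rw [h5] at h4
  have h6 : k * k = 1 := by nth_rewrite 1 [h4]; exact inv_mul_cancel k
  rw [h6, one_mul] at h3
  exact h3

theorem tr_conj' (m : G →* M6 F) (k g : G) : (m (k * g * k⁻¹)).trace = (m g).trace := by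
  rw [map_mul, Matrix.trace_mul_comm, ← map_mul, inv_mul_cancel_left]

/-- the trace of an element over a three-cycle is zero -/
theorem Hex.trace_zero (h : Hex m φ) {x : G} (hx : φ x = c[(0 : Fin 6), 1, 2]) : (m x).trace = 0 := by
  obtain ⟨x', y, h1, h2, h3⟩ := h.nc
  have hk : φ (x'⁻¹ * x) = 1 := by rw [map_mul, map_inv, h1, hx, inv_mul_cancel]
  have h3' : x * y ≠ y * x := by
    intro h4
    apply h3
    have hc := h.central hk
    have e : x' = x * (x'⁻¹ * x)⁻¹ := by group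
    generalize x'⁻¹ * x = k at *
    have hc' : ∀ g, k⁻¹ * g = g * k⁻¹ := fun g => by
      rw [inv_mul_eq_iff_eq_mul, ← mul_assoc, hc, mul_inv_cancel_right]
    rw [e]
    calc x * k⁻¹ * y = x * (k⁻¹ * y) := by group
      _ = x * y * k⁻¹ := by rw [hc']; group
      _ = y * x * k⁻¹ := by rw [h4]
      _ = y * (x * k⁻¹) := by group
  have hk2 : φ (y * x * y⁻¹ * x⁻¹) = 1 := by
    rw [map_mul, map_mul, map_mul, map_inv, map_inv, hx, h2]; decide
  obtain ⟨c, hc, hc0, hm, h1'⟩ := h.smul_of_ker hk2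
  have h5 : (m (y * x * y⁻¹)).trace = c * (m x).trace := by
    rw [show y * x * y⁻¹ = y * x * y⁻¹ * x⁻¹ * x by group, hm, Matrix.trace_smul, smul_eq_mul]
  rw [tr_conj'] at h5
  have hc1 : c ≠ 1 := by
    intro hc1
    apply h3'
    have := h1' hc1
    have h6 : y * x * y⁻¹ * x⁻¹ = 1 := this
    have h7 : y * x = x * y := by
      calc y * x = (y * x * y⁻¹ * x⁻¹) * (x * y) := by group
        _ = x * y := by rw [h6, one_mul]
    exact h7.symm
  have h8 : (1 - c) * (m x).trace = 0 := by linear_combination h5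
  rcases mul_eq_zero.1 h8 with h9 | h9
  · exact absurd (by linear_combination -h9 : c = 1) hc1
  · exact h9

/-- the chosen lifts -/
structure Data (m : G →* M6 F) (φ : G →* Perm (Fin 6)) (t1 t2 u r x a b : G) : Prop where
  ht1 : φ t1 = c[(0 : Fin 6), 1] * c[(2 : Fin 6), 3]
  ht2 : φ t2 = c[(0 : Fin 6), 2] * c[(1 : Fin 6), 3]
  hu : φ u = c[(0 : Fin 6), 1] * c[(4 : Fin 6), 5]
  hr : φ r = c[(2 : Fin 6), 4] * c[(3 : Fin 6), 5]
  hx : φ x = c[(0 : Fin 6), 1, 2]
  ha : φ a = c[(0 : Fin 6), 1] * c[(2 : Fin 6), 4]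
  hb : φ b = c[(0 : Fin 6), 2] * c[(1 : Fin 6), 4]
  qt1 : t1 * t1 = 1
  qt2 : t2 * t2 = 1
  qu : u * u = 1
  qr : r * r = 1
  qa : a * a = 1
  qb : b * b = 1
  qx : x * x * x = 1
  ux : u * x * u = x⁻¹

theorem Hex.exists_data (h : Hex m φ) : ∃ t1 t2 u r x a b : G, Data m φ t1 t2 u r x a b := by
  obtain ⟨t1, ht1, qt1⟩ := h.exists_inv (c[(0 : Fin 6), 1] * c[(2 : Fin 6), 3]) (by decide) (by decide)
  obtain ⟨t2, ht2, qt2⟩ := h.exists_inv (c[(0 : Fin 6), 2] * c[(1 : Fin 6), 3]) (by decide) (by decide)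
  obtain ⟨u, hu, qu⟩ := h.exists_inv (c[(0 : Fin 6), 1] * c[(4 : Fin 6), 5]) (by decide) (by decide)
  obtain ⟨r, hr, qr⟩ := h.exists_inv (c[(2 : Fin 6), 4] * c[(3 : Fin 6), 5]) (by decide) (by decide)
  obtain ⟨a, ha, qa⟩ := h.exists_inv (c[(0 : Fin 6), 1] * c[(2 : Fin 6), 4]) (by decide) (by decide)
  obtain ⟨b, hb, qb⟩ := h.exists_inv (c[(0 : Fin 6), 2] * c[(1 : Fin 6), 4]) (by decide) (by decide)
  obtain ⟨x, hx, ux⟩ := h.exists_three (s := c[(0 : Fin 6), 1, 2]) (u := u) (by decide) (by rw [hu]; decide)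
  exact ⟨t1, t2, u, r, x, a, b, ht1, ht2, hu, hr, hx, ha, hb, qt1, qt2, qu, qr, qa, qb,
    h.cube_three (by rw [hx]; decide) qu ux, ux⟩

variable {t1 t2 u r x a b : G}

theorem Data.inv_x (d : Data m φ t1 t2 u r x a b) : x⁻¹ = x * x := by
  rw [inv_eq_iff_mul_eq_one, ← mul_assoc]; exact d.qx

/-- the group `A₄` on `{0, 1, 2, 4}` -/
theorem Data.rel (h : Hex m φ) (d : Data m φ t1 t2 u r x a b) :
    a * b = b * a ∧ x * a * x⁻¹ = a * b ∧ x * b * x⁻¹ = a := by
  have h1 : a * b = b * a := h.comm (by rw [d.ha, d.hb]; decide) d.qb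
  have q : a * b * (a * b) = 1 := by
    calc a * b * (a * b) = a * (b * a) * b := by group
      _ = (a * a) * (b * b) := by rw [← h1]; group
      _ = 1 := by rw [d.qa, d.qb, mul_one]
  refine ⟨h1, h.conj (by rw [map_mul, d.hx, d.ha, d.hb]; decide) d.qa q,
    h.conj (by rw [d.hx, d.ha, d.hb]; decide) d.qb d.qa⟩

theorem Data.traces (h : Hex m φ) (d : Data m φ t1 t2 u r x a b) :
    (m x).trace = 0 ∧ (m (x * x)).trace = 0 ∧ (m (a * x)).trace = 0 ∧ (m (b * x)).trace = 0 ∧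
    (m (a * b * x)).trace = 0 ∧ (m (a * (x * x))).trace = 0 ∧ (m (b * (x * x))).trace = 0 ∧
    (m (a * b * (x * x))).trace = 0 := by
  obtain ⟨h1, h2, h3⟩ := d.rel h
  have h4 : x * (a * b) * x⁻¹ = b := by
    calc x * (a * b) * x⁻¹ = (x * a * x⁻¹) * (x * b * x⁻¹) := by group
      _ = a * b * a := by rw [h2, h3]
      _ = b * (a * a) := by rw [h1]; group
      _ = b := by rw [d.qa, mul_one]
  have z := h.trace_zero d.hx
  have z2 : (m (x * x)).trace = 0 := by
    rw [← d.inv_x, ← d.ux]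
    have : u = u⁻¹ := by rw [eq_inv_iff_mul_eq_one]; exact d.qu
    nth_rewrite 2 [this]
    rw [tr_conj', z]
  have ia : a⁻¹ = a := by rw [inv_eq_iff_mul_eq_one]; exact d.qa
  have ib : b⁻¹ = b := by rw [inv_eq_iff_mul_eq_one]; exact d.qb
  have iab : (a * b)⁻¹ = a * b := by rw [_root_.mul_inv_rev, ia, ib, h1]
  refine ⟨z, z2, ?_, ?_, ?_, ?_, ?_, ?_⟩
  · have e : a * b * x * (a * b)⁻¹ = a * x := by
      rw [iab]
      calc a * b * x * (a * b) = a * b * (x * (a * b) * x⁻¹) * x := by group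
        _ = a * (b * b) * x := by rw [h4]; group
        _ = a * x := by rw [d.qb, mul_one]
    rw [← e, tr_conj', z]
  · have e : a * x * a⁻¹ = b * x := by
      rw [ia]
      calc a * x * a = a * (x * a * x⁻¹) * x := by group
        _ = (a * a) * b * x := by rw [h2]; group
        _ = b * x := by rw [d.qa, one_mul]
    rw [← e, tr_conj', z]
  · have e : b * x * b⁻¹ = a * b * x := by
      rw [ib]
      calc b * x * b = b * (x * b * x⁻¹) * x := by group
        _ = a * b * x := by rw [h3, h1]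
    rw [← e, tr_conj', z]
  · have e : b * (x * x) * b⁻¹ = a * (x * x) := by
      rw [ib]
      calc b * (x * x) * b = b * (x * (x * b * x⁻¹) * x⁻¹) * (x * x) := by group
        _ = b * (a * b) * (x * x) := by rw [h3, h2]
        _ = (b * a) * b * (x * x) := by group
        _ = a * (b * b) * (x * x) := by rw [← h1]; group
        _ = a * (x * x) := by rw [d.qb, mul_one]
    rw [← e, tr_conj', z2]
  · have e : a * b * (x * x) * (a * b)⁻¹ = b * (x * x) := by
      rw [iab]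
      calc a * b * (x * x) * (a * b) = a * b * (x * (x * (a * b) * x⁻¹) * x⁻¹) * (x * x) := by group
        _ = (a * b) * a * (x * x) := by rw [h4, h3]
        _ = b * (a * a) * (x * x) := by rw [h1]; group
        _ = b * (x * x) := by rw [d.qa, mul_one]
    rw [← e, tr_conj', z2]
  · have e : a * (x * x) * a⁻¹ = a * b * (x * x) := by
      rw [ia]
      calc a * (x * x) * a = a * (x * (x * a * x⁻¹) * x⁻¹) * (x * x) := by group
        _ = a * b * (x * x) := by rw [h2, h4]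
    rw [← e, tr_conj', z2]

/-- the vector fixed by the group `A₅` of the point `3` -/
theorem Data.exists_fixed {p : ℕ} [CharP F p] (hp : 5 ≤ p) (h : Hex m φ) (d : Data m φ t1 t2 u r x a b)
    (htr : ∀ g : G, g * g = 1 → φ g ≠ 1 → (m g).trace = 2) :
    ∃ v : Fin 6 → F, v ≠ 0 ∧ m x *ᵥ v = v ∧ m a *ᵥ v = v ∧ m b *ᵥ v = v ∧ m u *ᵥ v = v := by
  obtain ⟨h1, h2, h3⟩ := d.rel h
  obtain ⟨z, z2, z3, z4, z5, z6, z7, z8⟩ := d.traces h
  have hne : ∀ n : ℕ, ¬ p ∣ n → (n : F) ≠ 0 := fun n hn h => hn ((CharP.cast_eq_zero_iff F p n).1 h)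
  have n2 : (2 : F) ≠ 0 := by
    have := hne 2 (fun h => by have := Nat.le_of_dvd (by norm_num) h; omega)
    exact_mod_cast this
  have n3 : (3 : F) ≠ 0 := by
    have := hne 3 (fun h => by have := Nat.le_of_dvd (by norm_num) h; omega)
    exact_mod_cast this
  have q : a * b * (a * b) = 1 := by
    calc a * b * (a * b) = a * (b * a) * b := by group
      _ = (a * a) * (b * b) := by rw [← h1]; group
      _ = 1 := by rw [d.qa, d.qb, mul_one]
  have ta := htr a d.qa (by rw [d.ha]; decide)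
  have tb := htr b d.qb (by rw [d.hb]; decide)
  have tab := htr (a * b) q (by rw [map_mul, d.ha, d.hb]; decide)
  have t1' : (1 : M6 F).trace = 6 := by simp
  have mx : m x * m x * m x = 1 := by rw [← map_mul, ← map_mul, d.qx, map_one]
  have ma : m a * m a = 1 := by rw [← map_mul, d.qa, map_one]
  have mb : m b * m b = 1 := by rw [← map_mul, d.qb, map_one]
  have mu : m u * m u = 1 := by rw [← map_mul, d.qu, map_one]
  have mab : m a * m b = m b * m a := by rw [← map_mul, h1, map_mul]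
  have mxa : m x * m a = m a * m b * m x := by
    rw [← map_mul, ← map_mul, ← map_mul, ← h2]; congr 1; group
  have mxb : m x * m b = m a * m x := by
    rw [← map_mul, ← map_mul, ← h3]; congr 1; group
  -- the sum over `A₄`
  have hE : ((1 + m a) * (1 + m b) * (1 + m x + m x * m x)).trace = 12 := by
    have e : (1 + m a) * (1 + m b) * (1 + m x + m x * m x) = 1 + m a + m b + m (a * b) + m x + m (x * x) +
        m (a * x) + m (b * x) + m (a * b * x) + m (a * (x * x)) + m (b * (x * x)) + m (a * b * (x * x)) := by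
      rw [r_expand]
      simp only [map_mul]
    rw [e]
    simp only [Matrix.trace_add, t1', ta, tb, tab, z, z2, z3, z4, z5, z6, z7, z8]
    norm_num
  have hE0 : (1 + m a) * (1 + m b) * (1 + m x + m x * m x) ≠ 0 := by
    intro h0
    rw [h0, Matrix.trace_zero] at hE
    have h12 : (12 : F) = 2 * 2 * 3 := by norm_num
    rw [h12] at hE
    exact mul_ne_zero (mul_ne_zero n2 n2) n3 hE.symm
  have xE := r_x ma mab mxa mxb mx
  have aE := r_a (B := m b) (X := m x) ma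
  have bE := r_b (A := m a) (X := m x) mb mab
  have sx := r_sq mx
  have mux : m u * m x = m x * m x * m u := by
    have : u * x = x * x * u := by
      rw [← d.inv_x, ← d.ux, mul_assoc (u * x), d.qu, mul_one]
    rw [← map_mul, this, map_mul, map_mul]
  have mus := r_us mx mux
  set S : M6 F := 1 + m x + m x * m x with hS
  -- `S / 3` has rank two
  have tS : S.trace = 6 := by
    rw [hS, Matrix.trace_add, Matrix.trace_add, t1', z, ← map_mul, z2]; norm_num
  have hpos : (3 : F)⁻¹ * 3 = 1 := inv_mul_cancel₀ n3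
  have hpos2 : (2 : F)⁻¹ * 2 = 1 := inv_mul_cancel₀ n2
  have three_eq : (3 : M6 F) = (3 : F) • (1 : M6 F) := by
    ext i j
    simp [Matrix.one_apply, Matrix.ofNat_apply]
  have idS : ((3 : F)⁻¹ • S) * ((3 : F)⁻¹ • S) = (3 : F)⁻¹ • S := by
    rw [smul_mul_smul_comm, sx, three_eq, smul_mul_assoc, one_mul, smul_smul]
    congr 1
    field_simp
  have rS : ((3 : F)⁻¹ • S).rank < p := by
    have e1 := trace_idem idS
    rw [Matrix.trace_smul, tS, smul_eq_mul] at e1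
    have e2 : ((((3 : F)⁻¹ • S).rank : ℕ) : F) = ((2 : ℕ) : F) := by
      rw [← e1]; push_cast; field_simp; norm_num
    have e3 : ((3 : F)⁻¹ • S).rank ≤ 6 := by
      have := Matrix.rank_le_card_width ((3 : F)⁻¹ • S)
      simpa using this
    rw [CharP.cast_eq_iff_mod_eq F p] at e2
    rw [Nat.mod_eq_of_lt (show 2 < p by omega)] at e2
    by_contra hlt
    push Not at hlt
    have e4 : ((3 : F)⁻¹ • S).rank % p = ((3 : F)⁻¹ • S).rank - p := by
      rw [Nat.mod_eq_sub_mod hlt, Nat.mod_eq_of_lt (by omega)]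
    omega
  have six_eq : (6 : M6 F) = (6 : F) • (1 : M6 F) := by
    ext i j
    simp [Matrix.one_apply, Matrix.ofNat_apply]
  have n6 : (6 : F) ≠ 0 := by rw [show (6 : F) = 2 * 3 by norm_num]; exact mul_ne_zero n2 n3
  have hD := r_idem (S := S) mu mus sx
  have idE : ((6 : F)⁻¹ • ((1 - m u) * S)) * ((6 : F)⁻¹ • ((1 - m u) * S)) = (6 : F)⁻¹ • ((1 - m u) * S) := by
    rw [smul_mul_smul_comm, hD, six_eq, smul_mul_assoc, one_mul, smul_smul]
    congr 1
    field_simp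
  have tux : (m (u * x)).trace = 2 := by
    apply htr
    · calc u * x * (u * x) = (u * x * u) * x := by group
        _ = 1 := by rw [d.ux, inv_mul_cancel]
    · rw [map_mul, d.hu, d.hx]; decide
  have tuxx : (m (u * (x * x))).trace = 2 := by
    apply htr
    · calc u * (x * x) * (u * (x * x)) = (u * x * u) * (u * u)⁻¹ * (u * x * u) * (x * x) := by group
        _ = 1 := by rw [d.ux, d.qu]; group
    · rw [map_mul, map_mul, d.hu, d.hx]; decide
  have tE : ((6 : F)⁻¹ • ((1 - m u) * S)).trace = 0 := by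
    have e : m u * S = m u + m (u * x) + m (u * (x * x)) := by
      rw [hS, mul_add, mul_add, mul_one, map_mul, map_mul, map_mul]
    rw [Matrix.trace_smul, sub_mul, one_mul, Matrix.trace_sub, tS, e, Matrix.trace_add, Matrix.trace_add, tux, tuxx,
      htr u d.qu (by rw [d.hu]; decide)]
    norm_num
  have hED : ((6 : F)⁻¹ • ((1 - m u) * S)) * ((3 : F)⁻¹ • S) = (6 : F)⁻¹ • ((1 - m u) * S) := by
    rw [smul_mul_smul_comm, mul_assoc, sx, three_eq, smul_mul_assoc, one_mul, mul_smul_comm, smul_smul]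
    congr 1
    field_simp
  have hz := idem_eq_zero idE tE hED rS
  have hz' : (1 - m u) * S = 0 := by
    rcases smul_eq_zero.1 hz with h0 | h0
    · exact absurd h0 (inv_ne_zero n6)
    · exact h0
  -- a non-zero column
  obtain ⟨j, hj⟩ : ∃ j, ((1 + m a) * (1 + m b) * S) *ᵥ (Pi.single j 1) ≠ 0 := by
    by_contra hcon
    push Not at hcon
    apply hE0
    ext i k
    have := congrFun (hcon k) i
    rwa [Matrix.mulVec_single_one] at this
  refine ⟨_, hj, ?_, ?_, ?_, ?_⟩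
  · rw [Matrix.mulVec_mulVec, xE]
  · rw [Matrix.mulVec_mulVec, aE]
  · rw [Matrix.mulVec_mulVec, bE]
  · set v := ((1 + m a) * (1 + m b) * S) *ᵥ (Pi.single j 1) with hv
    have xv : m x *ᵥ v = v := by rw [hv, Matrix.mulVec_mulVec, xE]
    have sv : S *ᵥ v = (3 : F) • v := by
      rw [hS, Matrix.add_mulVec, Matrix.add_mulVec, Matrix.one_mulVec, ← Matrix.mulVec_mulVec, xv, xv]
      rw [show (3 : F) = 1 + 1 + 1 by norm_num, add_smul, add_smul, one_smul]
    have h0 : ((1 - m u) * S) *ᵥ v = 0 := by rw [hz', Matrix.zero_mulVec]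
    rw [← Matrix.mulVec_mulVec, sv, Matrix.mulVec_smul, Matrix.sub_mulVec, Matrix.one_mulVec] at h0
    rcases smul_eq_zero.1 h0 with h1 | h1
    · exact absurd h1 n3
    · exact (sub_eq_zero.1 h1).symm

end lifts

end Cfsg.Agent.H910.Six
end

-- part: H890/A7/SixRel_mg
section
prune_inst 0x40000000000080010000000000000200000000000002000200000000000000000000000000000000000000000000200000000000000000000000000000000000000000000000000000000000000000000000000000000000000004000000000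
set_option linter.all false
open scoped Cfsg.Agent.FastGrp

-- part: H890/A7/Block
section
/-!
# Dimension six: two operators of order three with `ab = ω ba` (helper890)

`F⁶ = F³ ⊗ F²`, `a = diag(1, ω, ω²) ⊗ 1`, `b = cyclic ⊗ 1`.
-/

set_option autoImplicit false
set_option linter.unusedSectionVars false

namespace Cfsg.Agent.H890.A7

open Matrix

variable {F : Type*} [Field F]

/-- block matrices -/
def rho : Matrix (Fin 3) (Fin 3) (Matrix (Fin 2) (Fin 2) F) ≃+* Matrix (Fin 6) (Fin 6) F :=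
  (Matrix.compRingEquiv (Fin 3) (Fin 2) F).trans
    (Matrix.reindexRingEquiv F (finProdFinEquiv : Fin 3 × Fin 2 ≃ Fin 6))

theorem rho_apply (M : Matrix (Fin 3) (Fin 3) (Matrix (Fin 2) (Fin 2) F)) (i j : Fin 6) :
    rho M i j = M (finProdFinEquiv.symm i : Fin 3 × Fin 2).1 (finProdFinEquiv.symm j : Fin 3 × Fin 2).1
      (finProdFinEquiv.symm i : Fin 3 × Fin 2).2 (finProdFinEquiv.symm j : Fin 3 × Fin 2).2 := rfl

section gen

variable {R : Type*} [Ring R] [Algebra F R]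

/-- `diag(1, ω, ω²)` -/
def a3 (ω : F) : Matrix (Fin 3) (Fin 3) R :=
  Matrix.of fun i j => if i = j then (ω ^ (j : ℕ)) • 1 else 0

/-- the cyclic permutation -/
def b3 : Matrix (Fin 3) (Fin 3) R := Matrix.of fun i j => if i = j + 1 then 1 else 0

theorem a3_apply (ω : F) (i j : Fin 3) : (a3 ω : Matrix (Fin 3) (Fin 3) R) i j =
    if i = j then (ω ^ (j : ℕ)) • 1 else 0 := rfl

theorem b3_apply (i j : Fin 3) : (b3 : Matrix (Fin 3) (Fin 3) R) i j = if i = j + 1 then 1 else 0 := rfl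

theorem mul3 (A B : Matrix (Fin 3) (Fin 3) R) (i j : Fin 3) :
    (A * B) i j = A i 0 * B 0 j + A i 1 * B 1 j + A i 2 * B 2 j := by
  rw [Matrix.mul_apply, Fin.sum_univ_three]

theorem mul_a3 (A : Matrix (Fin 3) (Fin 3) R) (ω : F) (i j : Fin 3) :
    (A * a3 ω : Matrix (Fin 3) (Fin 3) R) i j = ω ^ (j : ℕ) • A i j := by
  rw [Matrix.mul_apply, Finset.sum_eq_single j]
  · rw [a3_apply, if_pos rfl, mul_smul_comm, mul_one]
  · intro l _ h
    rw [a3_apply, if_neg h, mul_zero]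
  · intro h; exact absurd (Finset.mem_univ _) h

theorem a3_mul (A : Matrix (Fin 3) (Fin 3) R) (ω : F) (i j : Fin 3) :
    (a3 ω * A : Matrix (Fin 3) (Fin 3) R) i j = ω ^ (i : ℕ) • A i j := by
  rw [Matrix.mul_apply, Finset.sum_eq_single i]
  · rw [a3_apply, if_pos rfl, smul_mul_assoc, one_mul]
  · intro l _ h
    rw [a3_apply, if_neg (Ne.symm h), zero_mul]
  · intro h; exact absurd (Finset.mem_univ _) h

theorem mul_b3 (A : Matrix (Fin 3) (Fin 3) R) (i j : Fin 3) :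
    (A * b3 : Matrix (Fin 3) (Fin 3) R) i j = A i (j + 1) := by
  rw [Matrix.mul_apply, Finset.sum_eq_single (j + 1)]
  · rw [b3_apply, if_pos rfl, mul_one]
  · intro l _ h
    rw [b3_apply, if_neg h, mul_zero]
  · intro h; exact absurd (Finset.mem_univ _) h

theorem b3_mul (A : Matrix (Fin 3) (Fin 3) R) (i j : Fin 3) :
    (b3 * A : Matrix (Fin 3) (Fin 3) R) (i + 1) j = A i j := by
  rw [Matrix.mul_apply, Finset.sum_eq_single i]
  · rw [b3_apply, if_pos rfl, one_mul]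
  · intro l _ h
    rw [b3_apply, if_neg (fun h' => h (add_right_cancel h').symm), zero_mul]
  · intro h; exact absurd (Finset.mem_univ _) h

end gen

theorem sum_single (c : Fin 3 × Fin 2 → (Fin 6 → F)) (x : F) (j₀ : Fin 3) (i : Fin 2) :
    (∑ j' : Fin 3, ∑ i' : Fin 2, (if j' = j₀ then x • (1 : Matrix (Fin 2) (Fin 2) F) else 0) i' i • c (j', i')) =
      x • c (j₀, i) := by
  rw [Finset.sum_eq_single j₀, Finset.sum_eq_single i]
  · rw [if_pos rfl, Matrix.smul_apply, Matrix.one_apply_eq, smul_eq_mul, mul_one]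
  · intro i' _ h
    rw [if_pos rfl, Matrix.smul_apply, Matrix.one_apply_ne h, smul_zero, zero_smul]
  · intro h; exact absurd (Finset.mem_univ _) h
  · intro j' _ h
    apply Finset.sum_eq_zero
    intro i' _
    rw [if_neg h, Matrix.zero_apply, zero_smul]
  · intro h; exact absurd (Finset.mem_univ _) h

section basis

variable {A B : Matrix (Fin 6) (Fin 6) F} {ω : F}

/-- the fixed space -/
def V0 (A : Matrix (Fin 6) (Fin 6) F) : Submodule F (Fin 6 → F) where
  carrier := {v | A *ᵥ v = v}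
  add_mem' := fun {u v} hu hv => by
    change A *ᵥ (u + v) = u + v
    rw [Matrix.mulVec_add, show A *ᵥ u = u from hu, show A *ᵥ v = v from hv]
  zero_mem' := Matrix.mulVec_zero _
  smul_mem' := fun c v hv => by
    change A *ᵥ (c • v) = c • v
    rw [Matrix.mulVec_smul, show A *ᵥ v = v from hv]

theorem mem_V0 {v : Fin 6 → F} : v ∈ V0 A ↔ A *ᵥ v = v := Iff.rfl

variable (hA : A ^ 3 = 1) (hB : B ^ 3 = 1) (hAB : A * B = ω • (B * A)) (hω : ω ^ 2 + ω + 1 = 0) (h3 : (3 : F) ≠ 0)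

include hA in
theorem proj_mem (v : Fin 6 → F) : (3 : F)⁻¹ • (v + A *ᵥ v + A *ᵥ (A *ᵥ v)) ∈ V0 A := by
  rw [mem_V0, Matrix.mulVec_smul, Matrix.mulVec_add, Matrix.mulVec_add]
  have : A *ᵥ (A *ᵥ (A *ᵥ v)) = v := by
    rw [Matrix.mulVec_mulVec, Matrix.mulVec_mulVec, ← sq, ← pow_succ, hA, Matrix.one_mulVec]
  rw [this]
  congr 1
  abel

/-- the projection -/
def pi0 (A : Matrix (Fin 6) (Fin 6) F) : (Fin 6 → F) →ₗ[F] (Fin 6 → F) :=
  (3 : F)⁻¹ • (LinearMap.id + Matrix.mulVecLin A + Matrix.mulVecLin (A * A))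

theorem pi0_apply (v : Fin 6 → F) : pi0 A v = (3 : F)⁻¹ • (v + A *ᵥ v + A *ᵥ (A *ᵥ v)) := by
  simp [pi0, Matrix.mulVec_mulVec]

include hAB in
theorem A_B (v : Fin 6 → F) : A *ᵥ (B *ᵥ v) = ω • (B *ᵥ (A *ᵥ v)) := by
  rw [Matrix.mulVec_mulVec, hAB, Matrix.smul_mulVec, Matrix.mulVec_mulVec]

include h3 in
theorem pi0_of_mem {v : Fin 6 → F} (hv : v ∈ V0 A) : pi0 A v = v := by
  rw [pi0_apply, mem_V0.1 hv, mem_V0.1 hv, ← smul_right_inj h3, smul_smul, mul_inv_cancel₀ h3, one_smul]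
  module

include hAB hω in
theorem pi0_B {v : Fin 6 → F} (hv : v ∈ V0 A) : pi0 A (B *ᵥ v) = 0 := by
  have h1 := A_B hAB v
  rw [mem_V0.1 hv] at h1
  rw [pi0_apply, h1, Matrix.mulVec_smul, h1]
  have : (B *ᵥ v + ω • B *ᵥ v + ω • ω • B *ᵥ v) = (ω ^ 2 + ω + 1) • (B *ᵥ v) := by module
  rw [this, hω, zero_smul, smul_zero]

include hAB hω in
theorem pi0_BB {v : Fin 6 → F} (hv : v ∈ V0 A) : pi0 A (B *ᵥ (B *ᵥ v)) = 0 := by
  have h1 : A *ᵥ (B *ᵥ (B *ᵥ v)) = (ω ^ 2) • (B *ᵥ (B *ᵥ v)) := by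
    rw [A_B hAB, A_B hAB, mem_V0.1 hv, Matrix.mulVec_smul, smul_smul, sq]
  rw [pi0_apply, h1, Matrix.mulVec_smul, h1]
  have h2 : ω ^ 4 = ω := by linear_combination (ω ^ 2 - ω) * hω
  have : (B *ᵥ (B *ᵥ v) + ω ^ 2 • B *ᵥ (B *ᵥ v) + ω ^ 2 • ω ^ 2 • B *ᵥ (B *ᵥ v)) =
      (ω ^ 4 + ω ^ 2 + 1) • (B *ᵥ (B *ᵥ v)) := by module
  rw [this, h2, show ω + ω ^ 2 + 1 = 0 by rw [← hω]; ring, zero_smul, smul_zero]

/-- `V₀³ → F⁶` -/
def Phi (A B : Matrix (Fin 6) (Fin 6) F) : (Fin 3 → V0 A) →ₗ[F] (Fin 6 → F) :=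
  (V0 A).subtype ∘ₗ LinearMap.proj 0 + (B.mulVecLin ∘ₗ (V0 A).subtype) ∘ₗ LinearMap.proj 1 +
    ((B * B).mulVecLin ∘ₗ (V0 A).subtype) ∘ₗ LinearMap.proj 2

theorem Phi_apply (x : Fin 3 → V0 A) :
    Phi A B x = (x 0 : Fin 6 → F) + B *ᵥ (x 1 : Fin 6 → F) + B *ᵥ (B *ᵥ (x 2 : Fin 6 → F)) := by
  simp only [Phi, Matrix.mulVec_mulVec, _root_.Fin.isValue, _root_.Matrix.mulVecLin_mul, _root_.LinearMap.add_apply, _root_.LinearMap.coe_comp, _root_.Submodule.coe_subtype, _root_.LinearMap.coe_proj, _root_.Function.comp_apply, _root_.Function.eval, _root_.Matrix.mulVecBilin_apply]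

include hB hAB hω h3 in
theorem Phi_injective : Function.Injective (Phi A B) := by
  rw [injective_iff_map_eq_zero]
  intro x hx
  rw [Phi_apply] at hx
  have hBBB : ∀ v : Fin 6 → F, B *ᵥ (B *ᵥ (B *ᵥ v)) = v := by
    intro v
    rw [Matrix.mulVec_mulVec, Matrix.mulVec_mulVec, ← sq, ← pow_succ, hB, Matrix.one_mulVec]
  have h0 := congrArg (pi0 A) hx
  rw [map_add, map_add, pi0_of_mem h3 (x 0).2, pi0_B hAB hω (x 1).2, pi0_BB hAB hω (x 2).2, map_zero, add_zero,
    add_zero] at h0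
  have h2 := congrArg (fun v => pi0 A (B *ᵥ v)) hx
  simp only [Matrix.mulVec_add, hBBB, map_add, Matrix.mulVec_zero, map_zero] at h2
  rw [pi0_B hAB hω (x 0).2, pi0_BB hAB hω (x 1).2, pi0_of_mem h3 (x 2).2, zero_add, zero_add] at h2
  have h1 := congrArg (fun v => pi0 A (B *ᵥ (B *ᵥ v))) hx
  simp only [Matrix.mulVec_add, hBBB, map_add, Matrix.mulVec_zero, map_zero] at h1
  rw [pi0_BB hAB hω (x 0).2, pi0_B hAB hω (x 2).2, pi0_of_mem h3 (x 1).2, zero_add, add_zero] at h1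
  funext j
  fin_cases j
  · exact Subtype.ext h0
  · exact Subtype.ext h1
  · exact Subtype.ext h2

include hA hB hAB hω h3 in
theorem Phi_surjective : Function.Surjective (Phi A B) := by
  intro v
  refine ⟨![⟨_, proj_mem hA v⟩, ⟨_, proj_mem hA (B *ᵥ (B *ᵥ v))⟩, ⟨_, proj_mem hA (B *ᵥ v)⟩], ?_⟩
  rw [Phi_apply]
  simp only [Matrix.cons_val_zero, Matrix.cons_val_one, Matrix.cons_val]
  have hBBB : ∀ v : Fin 6 → F, B *ᵥ (B *ᵥ (B *ᵥ v)) = v := by
    intro v
    rw [Matrix.mulVec_mulVec, Matrix.mulVec_mulVec, ← sq, ← pow_succ, hB, Matrix.one_mulVec]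
  have e1 : ∀ v, B *ᵥ (A *ᵥ (B *ᵥ (B *ᵥ v))) = (ω ^ 2) • (A *ᵥ v) := by
    intro v
    rw [A_B hAB, Matrix.mulVec_smul, A_B hAB, Matrix.mulVec_smul, Matrix.mulVec_smul, hBBB, smul_smul, sq]
  have hω3 : ω ^ 3 = 1 := by linear_combination (ω - 1) * hω
  have hBB : ∀ v : Fin 6 → F, B *ᵥ (B *ᵥ (A *ᵥ (B *ᵥ v))) = ω • (A *ᵥ v) := by
    intro v
    rw [A_B hAB, Matrix.mulVec_smul, Matrix.mulVec_smul, hBBB]
  have hB3 : ∀ v, (ω ^ 2) • (A *ᵥ v) = B *ᵥ (A *ᵥ (B *ᵥ (B *ᵥ v))) := fun v => (e1 v).symm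
  have e2 : ∀ v, B *ᵥ (A *ᵥ (A *ᵥ (B *ᵥ (B *ᵥ v)))) = ω • (A *ᵥ (A *ᵥ v)) := by
    intro v
    have h1 : A *ᵥ (A *ᵥ (B *ᵥ (B *ᵥ v))) = (ω ^ 4) • (B *ᵥ (B *ᵥ (A *ᵥ (A *ᵥ v)))) := by
      simp only [A_B hAB, Matrix.mulVec_smul, smul_smul]
      congr 1
      ring
    rw [h1, Matrix.mulVec_smul, hBBB]
    congr 1
    linear_combination (ω) * hω3
  have e3 : ∀ v, B *ᵥ (B *ᵥ (A *ᵥ (A *ᵥ (B *ᵥ v)))) = (ω ^ 2) • (A *ᵥ (A *ᵥ v)) := by
    intro v
    have h1 : A *ᵥ (A *ᵥ (B *ᵥ v)) = (ω ^ 2) • (B *ᵥ (A *ᵥ (A *ᵥ v))) := by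
      simp only [A_B hAB, Matrix.mulVec_smul, smul_smul]
      congr 1
      ring
    rw [h1, Matrix.mulVec_smul, Matrix.mulVec_smul, hBBB]
  simp only [Matrix.mulVec_smul, Matrix.mulVec_add, e1, e2, e3, hBBB, hBB]
  rw [← smul_right_inj h3]
  simp only [smul_add, smul_smul, mul_inv_cancel₀ h3]
  have h4 : ω ^ 2 = -1 - ω := by linear_combination hω
  rw [h4]
  simp only [← mul_assoc, mul_inv_cancel₀ h3]
  module

include hA hB hAB hω h3 in
theorem finrank_V0 : Module.finrank F (V0 A) = 2 := by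
  have e := LinearEquiv.ofBijective (Phi A B) ⟨Phi_injective hB hAB hω h3, Phi_surjective hA hB hAB hω h3⟩
  have h1 := e.finrank_eq
  rw [Module.finrank_pi_fintype] at h1
  simp at h1
  omega

/-- the six vectors -/
def cvec (B : Matrix (Fin 6) (Fin 6) F) (β : Fin 2 → (Fin 6 → F)) (s : Fin 3 × Fin 2) : Fin 6 → F :=
  (B ^ (s.1 : ℕ)) *ᵥ β s.2

theorem cvec_zero (β : Fin 2 → (Fin 6 → F)) (i : Fin 2) : cvec B β (0, i) = β i := by simp [cvec]
theorem cvec_one (β : Fin 2 → (Fin 6 → F)) (i : Fin 2) : cvec B β (1, i) = B *ᵥ β i := by simp [cvec]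
theorem cvec_two (β : Fin 2 → (Fin 6 → F)) (i : Fin 2) : cvec B β (2, i) = B *ᵥ (B *ᵥ β i) := by
  simp [cvec, sq, Matrix.mulVec_mulVec]

/-- the matrix with columns `cvec` -/
def Tm (c : Fin 3 × Fin 2 → (Fin 6 → F)) : Matrix (Fin 6) (Fin 6) F :=
  Matrix.of fun r s => c (finProdFinEquiv.symm s : Fin 3 × Fin 2) r

theorem mul_Tm (c : Fin 3 × Fin 2 → (Fin 6 → F)) (M : Matrix (Fin 6) (Fin 6) F)
    (N : Matrix (Fin 3) (Fin 3) (Matrix (Fin 2) (Fin 2) F))
    (h : ∀ (j : Fin 3) (i : Fin 2), M *ᵥ c (j, i) = ∑ j' : Fin 3, ∑ i' : Fin 2, N j' j i' i • c (j', i')) :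
    M * Tm c = Tm c * rho N := by
  ext r s
  obtain ⟨⟨j, i⟩, rfl⟩ := (finProdFinEquiv : Fin 3 × Fin 2 ≃ Fin 6).surjective s
  have h4 := congrFun (h j i) r
  rw [Matrix.mul_apply, Matrix.mul_apply]
  have e1 : (M *ᵥ c (j, i)) r = ∑ x, M r x * Tm c x (finProdFinEquiv (j, i)) := by
    show ∑ x, M r x * c (j, i) x = _
    apply Finset.sum_congr rfl
    intro x _
    show M r x * c (j, i) x = M r x * c ((finProdFinEquiv : Fin 3 × Fin 2 ≃ Fin 6).symm (finProdFinEquiv (j, i))) x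
    rw [Equiv.symm_apply_apply]
  rw [← e1, h4, Finset.sum_apply, ← (finProdFinEquiv : Fin 3 × Fin 2 ≃ Fin 6).sum_comp, Fintype.sum_prod_type]
  apply Finset.sum_congr rfl
  intro j' _
  rw [Finset.sum_apply]
  apply Finset.sum_congr rfl
  intro i' _
  rw [rho_apply, Equiv.symm_apply_apply, Equiv.symm_apply_apply, Pi.smul_apply, smul_eq_mul, mul_comm]
  show c (j', i') r * _ = c ((finProdFinEquiv : Fin 3 × Fin 2 ≃ Fin 6).symm (finProdFinEquiv (j', i'))) r * _
  rw [Equiv.symm_apply_apply]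

include hA hB hAB hω h3 in
theorem exists_cvec : ∃ β : Fin 2 → (Fin 6 → F), (∀ i, A *ᵥ β i = β i) ∧ LinearIndependent F (cvec B β) := by
  have hrank := finrank_V0 hA hB hAB hω h3
  let β : Module.Basis (Fin 2) F (V0 A) := Module.finBasisOfFinrankEq F _ hrank
  let e := LinearEquiv.ofBijective (Phi A B) ⟨Phi_injective hB hAB hω h3, Phi_surjective hA hB hAB hω h3⟩
  refine ⟨fun i => (β i : Fin 6 → F), fun i => (β i).2, ?_⟩
  have h1 : LinearIndependent F (Pi.basis (fun _ : Fin 3 => β)) := Module.Basis.linearIndependent _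
  have h2 := h1.map' e.toLinearMap e.ker
  have h3 := h2.comp (Equiv.sigmaEquivProd (Fin 3) (Fin 2)).symm (Equiv.injective _)
  have key : cvec B (fun i => (β i : Fin 6 → F)) =
      (e.toLinearMap ∘ (Pi.basis (fun _ : Fin 3 => β))) ∘ (Equiv.sigmaEquivProd (Fin 3) (Fin 2)).symm := by
    funext s
    obtain ⟨j, i⟩ := s
    show (B ^ (j : ℕ)) *ᵥ (β i : Fin 6 → F) = Phi A B (Pi.basis (fun _ : Fin 3 => β) ⟨j, i⟩)
    rw [Pi.basis_apply, Phi_apply]
    fin_cases j
    · simp only [_root_.pow_zero, _root_.Matrix.one_mulVec, _root_.Fin.zero_eta, _root_.Fin.isValue, _root_.Pi.single_eq_same, _root_.ne_eq, _root_.one_ne_zero, _root_.not_false_eq_true, _root_.Pi.single_eq_of_ne, _root_.ZeroMemClass.coe_zero, _root_.Matrix.mulVec_zero, _root_.add_zero, _root_.Fin.reduceEq]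
    · simp only [_root_.pow_one, _root_.Fin.mk_one, _root_.Fin.isValue, _root_.ne_eq, _root_.zero_ne_one, _root_.not_false_eq_true, _root_.Pi.single_eq_of_ne, _root_.ZeroMemClass.coe_zero, _root_.Pi.single_eq_same, _root_.zero_add, _root_.Fin.reduceEq, _root_.Matrix.mulVec_zero, _root_.add_zero]
    · simp only [sq, Matrix.mulVec_mulVec, _root_.Fin.reduceFinMk, _root_.Fin.isValue, _root_.ne_eq, _root_.Fin.reduceEq, _root_.not_false_eq_true, _root_.Pi.single_eq_of_ne, _root_.ZeroMemClass.coe_zero, _root_.Matrix.mulVec_zero, _root_.add_zero, _root_.Pi.single_eq_same, _root_.zero_add]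
  rw [key]
  exact h3

include hA hB hAB hω h3 in
/-- **Normal form of `a`, `b`.** -/
theorem exists_block : ∃ T : GL (Fin 6) F,
    A * (T : Matrix (Fin 6) (Fin 6) F) = (T : Matrix (Fin 6) (Fin 6) F) * rho (a3 ω) ∧
    B * (T : Matrix (Fin 6) (Fin 6) F) = (T : Matrix (Fin 6) (Fin 6) F) * rho b3 := by
  obtain ⟨β, hβ, hc⟩ := exists_cvec hA hB hAB hω h3
  have hT : IsUnit (Tm (cvec B β)) := by
    rw [← Matrix.linearIndependent_cols_iff_isUnit]
    have h1 := hc.comp ((finProdFinEquiv : Fin 3 × Fin 2 ≃ Fin 6).symm) (Equiv.injective _)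
    have e1 : (Tm (cvec B β)).col = cvec B β ∘ ((finProdFinEquiv : Fin 3 × Fin 2 ≃ Fin 6).symm) := by
      funext s r
      rfl
    rw [e1]
    exact h1
  obtain ⟨T, hT⟩ := hT
  refine ⟨T, ?_, ?_⟩ <;> rw [hT] <;> apply mul_Tm
  · intro j i
    simp only [a3_apply]
    have e1 : ∀ j' : Fin 3, (if j' = j then ω ^ (j : ℕ) • (1 : Matrix (Fin 2) (Fin 2) F) else 0) =
      if j' = j then ω ^ (j : ℕ) • (1 : Matrix (Fin 2) (Fin 2) F) else 0 := fun _ => rfl
    rw [sum_single]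
    have h0 : (j : ℕ) = 0 ∨ (j : ℕ) = 1 ∨ (j : ℕ) = 2 := by omega
    rcases h0 with h0 | h0 | h0
    · obtain rfl : j = 0 := Fin.ext h0
      rw [h0, cvec_zero, hβ, pow_zero, one_smul]
    · obtain rfl : j = 1 := Fin.ext h0
      rw [h0, cvec_one, A_B hAB, hβ, pow_one]
    · obtain rfl : j = 2 := Fin.ext h0
      rw [h0, cvec_two, A_B hAB, A_B hAB, hβ, Matrix.mulVec_smul, smul_smul, ← sq]
  · intro j i
    simp only [b3_apply]
    have h1 := sum_single (cvec B β) 1 (j + 1) i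
    simp only [one_smul] at h1
    rw [h1]
    have h0 : (j : ℕ) = 0 ∨ (j : ℕ) = 1 ∨ (j : ℕ) = 2 := by omega
    rcases h0 with h0 | h0 | h0
    · obtain rfl : j = 0 := Fin.ext h0
      show B *ᵥ cvec B β (0, i) = cvec B β (1, i)
      rw [cvec_zero, cvec_one]
    · obtain rfl : j = 1 := Fin.ext h0
      show B *ᵥ cvec B β (1, i) = cvec B β (2, i)
      rw [cvec_one, cvec_two]
    · obtain rfl : j = 2 := Fin.ext h0
      show B *ᵥ cvec B β (2, i) = cvec B β (0, i)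
      rw [cvec_two, Matrix.mulVec_mulVec, Matrix.mulVec_mulVec, ← sq, ← pow_succ, hB, Matrix.one_mulVec, cvec_zero]

end basis

end Cfsg.Agent.H890.A7
end

-- part: H890/A7/Alg
section
/-!
# `3.A₇` : the relations in `M₃(R)` (helper890)
-/

set_option autoImplicit false
set_option linter.unusedSectionVars false

namespace Cfsg.Agent.H890.A7

open Matrix

section gen

variable {F : Type*} [Field F] {R : Type*} [Ring R] [Algebra F R] {ω : F}

/-- `diag(x, y, z)` -/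
def dg (x y z : R) : Matrix (Fin 3) (Fin 3) R :=
  Matrix.of fun i j => if i = j then (if i = 0 then x else if i = 1 then y else z) else 0

/-- `(ω^(-ij)) x` -/
def gm (ω : F) (x : R) : Matrix (Fin 3) (Fin 3) R := Matrix.of fun i j => ω ^ (2 * (i : ℕ) * (j : ℕ)) • x

theorem omega_cube (hω : ω ^ 2 + ω + 1 = 0) : ω ^ 3 = 1 := by linear_combination (ω - 1) * hω

theorem omega_ne (hω : ω ^ 2 + ω + 1 = 0) (h3 : (3 : F) ≠ 0) : ω ≠ 1 := by
  rintro rfl
  apply h3
  linear_combination hω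

theorem omega_ne_zero (hω : ω ^ 2 + ω + 1 = 0) : ω ≠ 0 := by
  rintro rfl
  norm_num at hω

theorem fin3 (i : Fin 3) : i = 0 ∨ i = 1 ∨ i = 2 := by
  have := i.2
  rcases (by omega : (i : ℕ) = 0 ∨ (i : ℕ) = 1 ∨ (i : ℕ) = 2) with h | h | h
  · exact Or.inl (Fin.ext h)
  · exact Or.inr (Or.inl (Fin.ext h))
  · exact Or.inr (Or.inr (Fin.ext h))

theorem ext3 {A B : Matrix (Fin 3) (Fin 3) R} (h00 : A 0 0 = B 0 0) (h01 : A 0 1 = B 0 1) (h02 : A 0 2 = B 0 2)
    (h10 : A 1 0 = B 1 0) (h11 : A 1 1 = B 1 1) (h12 : A 1 2 = B 1 2) (h20 : A 2 0 = B 2 0) (h21 : A 2 1 = B 2 1)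
    (h22 : A 2 2 = B 2 2) : A = B := by
  ext i j
  rcases fin3 i with rfl | rfl | rfl <;> rcases fin3 j with rfl | rfl | rfl <;> assumption

theorem diag_of_comm (hω : ω ^ 2 + ω + 1 = 0) (h3 : (3 : F) ≠ 0) {k : Matrix (Fin 3) (Fin 3) R}
    (h : k * a3 ω = a3 ω * k) : k = dg (k 0 0) (k 1 1) (k 2 2) := by
  have h1 : ∀ i j : Fin 3, i ≠ j → k i j = 0 := by
    intro i j hij
    have h2 := congrFun (congrFun h i) j
    rw [mul_a3, a3_mul, ← sub_eq_zero, ← sub_smul] at h2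
    refine (smul_eq_zero.1 h2).resolve_left fun h4 => ?_
    have hne := omega_ne hω h3
    have hne0 := omega_ne_zero hω
    have hi : (i : ℕ) = 0 ∨ (i : ℕ) = 1 ∨ (i : ℕ) = 2 := by omega
    have hj : (j : ℕ) = 0 ∨ (j : ℕ) = 1 ∨ (j : ℕ) = 2 := by omega
    have hij' : (i : ℕ) ≠ j := fun h => hij (Fin.ext h)
    rcases hi with hi | hi | hi <;> rcases hj with hj | hj | hj <;> rw [hi, hj] at h4 hij' <;>
      first
      | exact hij' rfl
      | (apply hne; linear_combination h4)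
      | (apply hne; linear_combination -h4)
      | (apply hne; linear_combination (ω - 1) * hω - ω * h4)
      | (apply hne; linear_combination (ω - 1) * hω + ω * h4)
      | (apply hne; have : ω * (ω - 1) = 0 := by linear_combination h4
         exact sub_eq_zero.1 ((mul_eq_zero.1 this).resolve_left hne0))
      | (apply hne; have : ω * (ω - 1) = 0 := by linear_combination -h4
         exact sub_eq_zero.1 ((mul_eq_zero.1 this).resolve_left hne0))
  apply ext3 <;> first | rfl | (rw [h1 _ _ (by decide)]; rfl)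

theorem gm_of (hω : ω ^ 2 + ω + 1 = 0) {g : Matrix (Fin 3) (Fin 3) R}
    (h : g * a3 ω = b3 * g) (h' : a3 ω * (g * b3) = g) : g = gm ω (g 0 0) := by
  have h1 : ∀ i j : Fin 3, g i j = ω ^ (j : ℕ) • g (i + 1) j := by
    intro i j
    have h2 := congrFun (congrFun h (i + 1)) j
    rw [mul_a3, b3_mul] at h2
    exact h2.symm
  have h2 : ∀ i j : Fin 3, g i j = ω ^ (i : ℕ) • g i (j + 1) := by
    intro i j
    have h2 := congrFun (congrFun h' i) j
    rw [a3_mul, mul_b3] at h2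
    exact h2.symm
  have e02 : g 0 2 = g 0 0 := by rw [h2 0 2]; simp
  have e01 : g 0 1 = g 0 0 := by rw [h2 0 1, show (1 : Fin 3) + 1 = 2 from rfl, e02]; simp
  have hω3 := omega_cube hω
  have e2 : ∀ j, g 2 j = ω ^ (j : ℕ) • g 0 j := fun j => h1 2 j
  have e1 : ∀ j, g 1 j = ω ^ (2 * (j : ℕ)) • g 0 j := by
    intro j
    rw [h1 1 j, show (1 : Fin 3) + 1 = 2 from rfl, e2, smul_smul, two_mul, pow_add]
  apply ext3
  · simp [gm]
  · rw [e01]; simp [gm]
  · rw [e02]; simp [gm]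
  · rw [e1]; simp [gm]
  · rw [e1, e01]; simp [gm]
  · rw [e1, e02]; simp [gm]
  · rw [e2]; simp [gm]
  · rw [e2, e01]
    show ω ^ 1 • g 0 0 = ω ^ (2 * 2 * 1) • g 0 0
    rw [show ω ^ (2 * 2 * 1) = ω ^ 3 * ω by ring, hω3]
    simp
  · rw [e2, e02]
    show ω ^ 2 • g 0 0 = ω ^ (2 * 2 * 2) • g 0 0
    rw [show ω ^ (2 * 2 * 2) = (ω ^ 3) ^ 2 * ω ^ 2 by ring, hω3]
    simp

/-- entries of `gm` with all exponents reduced -/
theorem gm_entries (hω : ω ^ 2 + ω + 1 = 0) (x : R) :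
    gm ω x 0 0 = x ∧ gm ω x 0 1 = x ∧ gm ω x 0 2 = x ∧ gm ω x 1 0 = x ∧ gm ω x 1 1 = ω ^ 2 • x ∧ gm ω x 1 2 = ω • x ∧
      gm ω x 2 0 = x ∧ gm ω x 2 1 = ω • x ∧ gm ω x 2 2 = ω ^ 2 • x := by
  have hω3 := omega_cube hω
  refine ⟨by simp [gm], by simp [gm], by simp [gm], by simp [gm], by simp [gm], ?_, by simp [gm], ?_, ?_⟩
  · show ω ^ (2 * 1 * 2) • x = _
    rw [show ω ^ (2 * 1 * 2) = ω ^ 3 * ω by ring, hω3, one_mul]
  · show ω ^ (2 * 2 * 1) • x = _
    rw [show ω ^ (2 * 2 * 1) = ω ^ 3 * ω by ring, hω3, one_mul]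
  · show ω ^ (2 * 2 * 2) • x = _
    rw [show ω ^ (2 * 2 * 2) = (ω ^ 3) ^ 2 * ω ^ 2 by ring, hω3, one_pow, one_mul]

/-- `x ⊗ (i ↦ -i)` -/
def rm (x : R) : Matrix (Fin 3) (Fin 3) R := Matrix.of fun i j => if i + j = 0 then x else 0

theorem gm_mul_gm (hω : ω ^ 2 + ω + 1 = 0) (x y : R) : gm ω x * gm ω y = rm ((3 : F) • (x * y)) := by
  obtain ⟨a00, a01, a02, a10, a11, a12, a20, a21, a22⟩ := gm_entries hω x
  obtain ⟨b00, b01, b02, b10, b11, b12, b20, b21, b22⟩ := gm_entries hω y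
  have h1 : (ω ^ 2 * ω ^ 2 + ω * ω + 1 : F) = 0 := by linear_combination (ω ^ 2 - ω + 1) * hω
  have h2 : (1 + ω ^ 2 * ω + ω * ω ^ 2 : F) = 3 := by linear_combination (2 * (ω - 1)) * hω
  apply ext3 <;> rw [mul3] <;>
    simp only [a00, a01, a02, a10, a11, a12, a20, a21, a22, b00, b01, b02, b10, b11, b12, b20, b21, b22,
      smul_mul_assoc, mul_smul_comm, smul_smul] <;>
    simp only [rm, Matrix.of_apply]
  · rw [if_pos (by decide)]; module
  · rw [if_neg (by decide)]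
    calc _ = (ω ^ 2 + ω + 1) • (x * y) := by module
      _ = 0 := by rw [hω, zero_smul]
  · rw [if_neg (by decide)]
    calc _ = (ω ^ 2 + ω + 1) • (x * y) := by module
      _ = 0 := by rw [hω, zero_smul]
  · rw [if_neg (by decide)]
    calc _ = (ω ^ 2 + ω + 1) • (x * y) := by module
      _ = 0 := by rw [hω, zero_smul]
  · rw [if_neg (by decide)]
    calc _ = (ω ^ 2 * ω ^ 2 + ω * ω + 1) • (x * y) := by module
      _ = 0 := by rw [h1, zero_smul]
  · rw [if_pos (by decide), ← h2]; module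
  · rw [if_neg (by decide)]
    calc _ = (ω ^ 2 + ω + 1) • (x * y) := by module
      _ = 0 := by rw [hω, zero_smul]
  · rw [if_pos (by decide), ← h2]; module
  · rw [if_neg (by decide)]
    calc _ = (ω ^ 2 * ω ^ 2 + ω * ω + 1) • (x * y) := by module
      _ = 0 := by rw [h1, zero_smul]

theorem rm_entries (x : R) : rm x 0 0 = x ∧ rm x 0 1 = 0 ∧ rm x 0 2 = 0 ∧ rm x 1 0 = 0 ∧ rm x 1 1 = 0 ∧ rm x 1 2 = x ∧
    rm x 2 0 = 0 ∧ rm x 2 1 = x ∧ rm x 2 2 = 0 := by
  refine ⟨?_, ?_, ?_, ?_, ?_, ?_, ?_, ?_, ?_⟩ <;> simp only [rm, Matrix.of_apply] <;>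
    first | exact if_pos (by decide) | exact if_neg (by decide)

theorem dg_entries (x y z : R) : dg x y z 0 0 = x ∧ dg x y z 0 1 = 0 ∧ dg x y z 0 2 = 0 ∧ dg x y z 1 0 = 0 ∧
    dg x y z 1 1 = y ∧ dg x y z 1 2 = 0 ∧ dg x y z 2 0 = 0 ∧ dg x y z 2 1 = 0 ∧ dg x y z 2 2 = z := by
  refine ⟨rfl, rfl, rfl, rfl, rfl, rfl, rfl, rfl, rfl⟩

/-- First consequences. -/
theorem stage_one (hω : ω ^ 2 + ω + 1 = 0) (h3 : (3 : F) ≠ 0) {k g : Matrix (Fin 3) (Fin 3) R}
    (ka : k * a3 ω = a3 ω * k) (ga : g * a3 ω = b3 * g) (gb : a3 ω * (g * b3) = g) (k2 : k * k = 1)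
    (g4 : (g * g) * (g * g) = 1) (sk : (g * g) * k = k * (g * g)) (v4 : k * b3 * k * b3 = b3 * (b3 * k)) :
    ∃ x d₀ d₁ d₂ t : R, k = dg d₀ d₁ d₂ ∧ g = gm ω x ∧ t = (3 : F) • (x * x) ∧ g * g = rm t ∧ t * t = 1 ∧
      t * d₀ = d₀ * t ∧ t * d₂ = d₁ * t ∧ t * d₁ = d₂ * t ∧ d₀ * d₀ = 1 ∧ d₁ * d₁ = 1 ∧ d₂ * d₂ = 1 ∧
      d₂ * d₁ = d₀ ∧ d₀ * d₂ = d₁ ∧ d₁ * d₀ = d₂ := by
  obtain ⟨x, hx⟩ : ∃ x, x = g 0 0 := ⟨_, rfl⟩
  obtain ⟨d₀, hd₀⟩ : ∃ x, x = k 0 0 := ⟨_, rfl⟩
  obtain ⟨d₁, hd₁⟩ : ∃ x, x = k 1 1 := ⟨_, rfl⟩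
  obtain ⟨d₂, hd₂⟩ : ∃ x, x = k 2 2 := ⟨_, rfl⟩
  have hk := diag_of_comm hω h3 ka
  have hg := gm_of hω ga gb
  rw [← hd₀, ← hd₁, ← hd₂] at hk
  rw [← hx] at hg
  have hgg : g * g = rm ((3 : F) • (x * x)) := by
    rw [hg, gm_mul_gm hω]
  obtain ⟨t, ht⟩ : ∃ t, t = (3 : F) • (x * x) := ⟨_, rfl⟩
  rw [← ht] at hgg
  obtain ⟨r00, r01, r02, r10, r11, r12, r20, r21, r22⟩ := rm_entries t
  obtain ⟨k00, k01, k02, k10, k11, k12, k20, k21, k22⟩ := dg_entries d₀ d₁ d₂
  rw [hgg, hk] at sk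
  rw [hgg] at g4
  rw [hk] at k2 v4
  have s1 := congrFun (congrFun g4 0) 0
  rw [mul3, r00, r01, r02, zero_mul, zero_mul, add_zero, add_zero, Matrix.one_apply_eq] at s1
  have s2 := congrFun (congrFun sk 0) 0
  rw [mul3, mul3, r00, r01, r02, k00, k01, k02, r10, r20] at s2
  simp only [zero_mul, mul_zero, add_zero] at s2
  have s3 := congrFun (congrFun sk 1) 2
  rw [mul3, mul3, r10, r11, r12, k02, k12, k22, k10, k11, r02, r22] at s3
  simp only [mul_zero, add_zero, zero_add] at s3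
  have s4 := congrFun (congrFun sk 2) 1
  rw [mul3, mul3, r20, r21, r22, k01, k11, k21, k20, k22, r01, r11] at s4
  simp only [mul_zero, add_zero, zero_add] at s4
  have q0 := congrFun (congrFun k2 0) 0
  rw [mul3, k00, k01, k02, Matrix.one_apply_eq] at q0
  simp only [zero_mul, add_zero] at q0
  have q1 := congrFun (congrFun k2 1) 1
  rw [mul3, k10, k11, k12, Matrix.one_apply_eq] at q1
  simp only [zero_mul, add_zero, zero_add] at q1
  have q2 := congrFun (congrFun k2 2) 2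
  rw [mul3, k20, k21, k22, Matrix.one_apply_eq] at q2
  simp only [zero_mul, add_zero, zero_add] at q2
  have key : ∀ j : Fin 3, dg d₀ d₁ d₂ (j + 2) (j + 2) * dg d₀ d₁ d₂ (j + 1) (j + 1) = dg d₀ d₁ d₂ j j := by
    intro j
    have h1 := congrFun (congrFun v4 (j + 1 + 1)) j
    rw [b3_mul, b3_mul, mul_b3] at h1
    rw [← h1]
    have h2 : ∀ i l : Fin 3, (dg d₀ d₁ d₂ * b3 * dg d₀ d₁ d₂ : Matrix (Fin 3) (Fin 3) R) i l =
        dg d₀ d₁ d₂ i i * (if i = l + 1 then 1 else 0) * dg d₀ d₁ d₂ l l := by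
      intro i l
      rw [Matrix.mul_apply, Finset.sum_eq_single l]
      · rw [Matrix.mul_apply, Finset.sum_eq_single i]
        · rfl
        · intro b _ h
          rw [show dg d₀ d₁ d₂ i b = 0 from if_neg (Ne.symm h), zero_mul]
        · intro h; exact absurd (Finset.mem_univ _) h
      · intro b _ h
        rw [show dg d₀ d₁ d₂ b l = 0 from if_neg h, mul_zero]
      · intro h; exact absurd (Finset.mem_univ _) h
    rw [h2, if_pos rfl, mul_one]
    rcases fin3 j with rfl | rfl | rfl <;> rfl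
  refine ⟨x, d₀, d₁, d₂, t, hk, hg, ht, hgg, s1, s2, s3, s4, q0, q1, q2, key 0, ?_, ?_⟩
  · exact key 1
  · exact key 2

/-- `p` on the diagonal, `q` elsewhere -/
def Km (p q : R) : Matrix (Fin 3) (Fin 3) R := Matrix.of fun i j => if i = j then p else q

theorem Km_entries (p q : R) : Km p q 0 0 = p ∧ Km p q 0 1 = q ∧ Km p q 0 2 = q ∧ Km p q 1 0 = q ∧
    Km p q 1 1 = p ∧ Km p q 1 2 = q ∧ Km p q 2 0 = q ∧ Km p q 2 1 = q ∧ Km p q 2 2 = p :=
  ⟨rfl, rfl, rfl, rfl, rfl, rfl, rfl, rfl, rfl⟩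

theorem K_eq (hω : ω ^ 2 + ω + 1 = 0) (x δ : R) :
    gm ω x * dg 1 δ δ * (gm ω x * rm 1) = Km (x * x + (x * δ * x + x * δ * x)) (x * x - x * δ * x) := by
  obtain ⟨a00, a01, a02, a10, a11, a12, a20, a21, a22⟩ := gm_entries hω x
  obtain ⟨r00, r01, r02, r10, r11, r12, r20, r21, r22⟩ := rm_entries (1 : R)
  obtain ⟨k00, k01, k02, k10, k11, k12, k20, k21, k22⟩ := dg_entries (1 : R) δ δ
  obtain ⟨p00, p01, p02, p10, p11, p12, p20, p21, p22⟩ := Km_entries (x * x + (x * δ * x + x * δ * x)) (x * x - x * δ * x)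
  have h1 : (ω ^ 2 * ω ^ 2 + ω * ω : F) = -1 := by linear_combination (ω ^ 2 - ω + 1) * hω
  have h2 : (ω ^ 2 * ω + ω * ω ^ 2 : F) = 2 := by linear_combination (2 * (ω - 1)) * hω
  have h3 : (ω ^ 2 + ω : F) = -1 := by linear_combination hω
  apply ext3 <;> simp only [mul3, p00, p01, p02, p10, p11, p12, p20, p21, p22] <;>
    simp only [a00, a01, a02, a10, a11, a12, a20, a21, a22, r00, r01, r02, r10, r11, r12, r20, r21, r22,
      k00, k01, k02, k10, k11, k12, k20, k21, k22, mul_zero, zero_mul, add_zero, zero_add, mul_one,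
      smul_mul_assoc, mul_smul_comm, smul_smul, smul_zero]
  · module
  · calc _ = x * x + (ω ^ 2 + ω) • (x * δ * x) := by module
      _ = _ := by rw [h3]; module
  · calc _ = x * x + (ω ^ 2 + ω) • (x * δ * x) := by module
      _ = _ := by rw [h3]; module
  · calc _ = x * x + (ω ^ 2 + ω) • (x * δ * x) := by module
      _ = _ := by rw [h3]; module
  · calc _ = x * x + (ω ^ 2 * ω + ω * ω ^ 2) • (x * δ * x) := by module
      _ = _ := by rw [h2]; module
  · calc _ = x * x + (ω ^ 2 * ω ^ 2 + ω * ω) • (x * δ * x) := by module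
      _ = _ := by rw [h1]; module
  · calc _ = x * x + (ω ^ 2 + ω) • (x * δ * x) := by module
      _ = _ := by rw [h3]; module
  · calc _ = x * x + (ω ^ 2 * ω ^ 2 + ω * ω) • (x * δ * x) := by module
      _ = _ := by rw [h1]; module
  · calc _ = x * x + (ω ^ 2 * ω + ω * ω ^ 2) • (x * δ * x) := by module
      _ = _ := by rw [h2]; module

theorem stage_two (hω : ω ^ 2 + ω + 1 = 0) {x δ : R} (hx : (3 : F) • (x * x) = 1) (hδ : δ * δ = 1) {l : F}
    (r6 : (dg 1 δ δ * (gm ω x * dg 1 δ δ * (gm ω x * (gm ω x * gm ω x)))) ^ 3 = l • (gm ω x * gm ω x)) :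
    ∃ p q : R, p = x * x + (x * δ * x + x * δ * x) ∧ q = x * x - x * δ * x ∧
      p = l • (p * p + (q * δ * q + q * δ * q)) ∧ δ * (p - q) * δ = -(l • ((p - q) * δ * (p - q))) := by
  have hs : gm ω x * gm ω x = rm 1 := by rw [gm_mul_gm hω, hx]
  rw [hs, K_eq hω] at r6
  refine ⟨_, _, rfl, rfl, ?_⟩
  have hKK : Km (x * x + (x * δ * x + x * δ * x)) (x * x - x * δ * x) *
      Km (x * x + (x * δ * x + x * δ * x)) (x * x - x * δ * x) = 1 := by
    rw [← K_eq hω]
    have hss : rm 1 * rm 1 = (1 : Matrix (Fin 3) (Fin 3) R) := by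
      obtain ⟨r00, r01, r02, r10, r11, r12, r20, r21, r22⟩ := rm_entries (1 : R)
      apply ext3 <;> simp only [mul3, r00, r01, r02, r10, r11, r12, r20, r21, r22] <;> simp
    have hkk : dg 1 δ δ * dg 1 δ δ = (1 : Matrix (Fin 3) (Fin 3) R) := by
      obtain ⟨k00, k01, k02, k10, k11, k12, k20, k21, k22⟩ := dg_entries (1 : R) δ δ
      apply ext3 <;> simp only [mul3, k00, k01, k02, k10, k11, k12, k20, k21, k22, hδ] <;> simp
    have hgs : gm ω x * rm 1 * gm ω x = 1 := by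
      rw [← hs, mul_assoc, mul_assoc, ← mul_assoc (gm ω x) (gm ω x), hs, hss]
    calc _ = gm ω x * dg 1 δ δ * (gm ω x * rm 1 * gm ω x) * dg 1 δ δ * (gm ω x * rm 1) := by noncomm_ring
      _ = gm ω x * (dg 1 δ δ * dg 1 δ δ) * (gm ω x * rm 1) := by rw [hgs]; noncomm_ring
      _ = gm ω x * gm ω x * rm 1 := by rw [hkk]; noncomm_ring
      _ = 1 := by rw [hs, hss]
  generalize x * x + (x * δ * x + x * δ * x) = p at r6 hKK ⊢
  generalize x * x - x * δ * x = q at r6 hKK ⊢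
  have hkk : dg 1 δ δ * dg 1 δ δ = (1 : Matrix (Fin 3) (Fin 3) R) := by
    obtain ⟨k00, k01, k02, k10, k11, k12, k20, k21, k22⟩ := dg_entries (1 : R) δ δ
    apply ext3 <;> simp only [mul3, k00, k01, k02, k10, k11, k12, k20, k21, k22, hδ] <;> simp
  have hrel : dg 1 δ δ * Km p q * dg 1 δ δ = l • (rm 1 * (Km p q * dg 1 δ δ * Km p q)) := by
    rw [← Matrix.smul_mul, ← r6]
    symm
    calc _ = dg 1 δ δ * Km p q * dg 1 δ δ * Km p q * (dg 1 δ δ * (Km p q * Km p q) * dg 1 δ δ) * Km p q := by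
          noncomm_ring
      _ = dg 1 δ δ * Km p q * dg 1 δ δ * (Km p q * (dg 1 δ δ * dg 1 δ δ) * Km p q) := by rw [hKK]; noncomm_ring
      _ = dg 1 δ δ * Km p q * dg 1 δ δ := by rw [hkk, mul_one, hKK, mul_one]
  obtain ⟨k00, k01, k02, k10, k11, k12, k20, k21, k22⟩ := dg_entries (1 : R) δ δ
  obtain ⟨r00, r01, r02, r10, r11, r12, r20, r21, r22⟩ := rm_entries (1 : R)
  obtain ⟨p00, p01, p02, p10, p11, p12, p20, p21, p22⟩ := Km_entries p q
  have e00 := congrFun (congrFun hrel 0) 0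
  have e11 := congrFun (congrFun hrel 1) 1
  have e12 := congrFun (congrFun hrel 1) 2
  simp only [Matrix.smul_apply, mul3, p00, p01, p02, p10, p11, p12, p20, p21, p22, k00, k01, k02, k10, k11, k12, k20,
    k21, k22, r00, r01, r02, r10, r11, r12, mul_zero, zero_mul, add_zero, zero_add, mul_one, one_mul] at e00 e11 e12
  refine ⟨?_, ?_⟩
  · rw [← add_assoc]; exact e00
  · rw [mul_sub, sub_mul, e11, e12, ← smul_sub, ← smul_neg]
    congr 1
    noncomm_ring

end gen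

end Cfsg.Agent.H890.A7
end

-- part: H890/A7/Two
section
/-!
# `3.A₇` : the multiplicity space (helper890)
-/

set_option autoImplicit false
set_option linter.unusedSectionVars false

namespace Cfsg.Agent.H890.A7

open Matrix

section two

variable {F : Type*} [Field F]

local notation "R2" => Matrix (Fin 2) (Fin 2) F

/-- Cayley-Hamilton -/
theorem ch2 (x : Matrix (Fin 2) (Fin 2) F) : x * x = x.trace • x - x.det • 1 := by
  rw [Matrix.trace_fin_two, Matrix.det_fin_two]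
  ext i j
  (revert i j; simp only [Matrix.mul_apply, Fin.sum_univ_two, _root_.Fin.forall_fin_succ, Fin.isValue, _root_.Matrix.sub_apply, _root_.Matrix.smul_apply, _root_.smul_eq_mul, _root_.Fin.succ_zero_eq_one, _root_.IsEmpty.forall_iff, _root_.and_true, _root_.Matrix.one_apply_eq, _root_.mul_one, Nat.reduceAdd, _root_.ne_eq, _root_.zero_ne_one, _root_.not_false_eq_true, _root_.Matrix.one_apply_ne, _root_.MulZeroClass.mul_zero, _root_.sub_zero, _root_.Fin.succ_ne_zero]) <;> (repeat' with_reducible apply And.intro) <;> ring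

/-- polarised Cayley-Hamilton -/
theorem ch2' (x y : Matrix (Fin 2) (Fin 2) F) :
    x * y + y * x = x.trace • y + y.trace • x + ((x * y).trace - x.trace * y.trace) • 1 := by
  rw [Matrix.trace_fin_two, Matrix.trace_fin_two, Matrix.trace_fin_two]
  ext i j
  (revert i j; simp only [Matrix.mul_apply, Fin.sum_univ_two, _root_.Fin.forall_fin_succ, _root_.Matrix.add_apply, Fin.isValue, _root_.Matrix.smul_apply, _root_.smul_eq_mul, _root_.Fin.succ_zero_eq_one, _root_.IsEmpty.forall_iff, _root_.and_true, _root_.Matrix.one_apply_eq, _root_.mul_one, Nat.reduceAdd, _root_.ne_eq, _root_.zero_ne_one, _root_.not_false_eq_true, _root_.Matrix.one_apply_ne, _root_.MulZeroClass.mul_zero, _root_.add_zero, _root_.Fin.succ_ne_zero]) <;> (repeat' with_reducible apply And.intro) <;> ring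

/-- a scalar matrix -/
def IsSc (x : Matrix (Fin 2) (Fin 2) F) : Prop := ∃ c : F, x = c • 1

theorem not_all_sc : ¬ ∀ X : Matrix (Fin 2) (Fin 2) F, IsSc X := by
  intro h
  obtain ⟨c, hc⟩ := h !![0, 1; 0, 0]
  have := congrFun (congrFun hc 0) 1
  simp at this

theorem coeff_zero {x : Matrix (Fin 2) (Fin 2) F} (hx : ¬ IsSc x) {a b : F} (h : a • x + b • 1 = 0) :
    a = 0 ∧ b = 0 := by
  have ha : a = 0 := by
    by_contra ha
    apply hx
    refine ⟨-(a⁻¹ * b), ?_⟩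
    have h1 : a⁻¹ • (a • x + b • (1 : Matrix (Fin 2) (Fin 2) F)) = 0 := by rw [h, smul_zero]
    rw [smul_add, smul_smul, smul_smul, inv_mul_cancel₀ ha, one_smul] at h1
    rw [neg_smul]
    exact eq_neg_of_add_eq_zero_left h1
  refine ⟨ha, ?_⟩
  rw [ha, zero_smul, zero_add] at h
  have := congrFun (congrFun h 0) 0
  simpa using this

theorem IsSc.comm {x : Matrix (Fin 2) (Fin 2) F} (hx : IsSc x) (y : Matrix (Fin 2) (Fin 2) F) : x * y = y * x := by
  obtain ⟨c, rfl⟩ := hx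
  rw [smul_mul_assoc, one_mul, mul_smul_comm, mul_one]

/-- `det (3x²)² = 1` and `(-3 det x)³ = 1` ⟹ `3 x² = 1`, unless `x` is scalar. -/
theorem t_eq_one {x : Matrix (Fin 2) (Fin 2) F} (h3 : (3 : F) ≠ 0)
    (ht : ((3 : F) • (x * x)) * ((3 : F) • (x * x)) = 1) (hd : (-3 * x.det) ^ 3 = 1) (hx : ¬ IsSc x) :
    x.trace = 0 ∧ (3 : F) • (x * x) = 1 := by
  have hd4 : (-3 * x.det) ^ 4 = 1 := by
    have h1 := congrArg Matrix.det ht
    rw [Matrix.det_mul, Matrix.det_smul, Matrix.det_mul, Matrix.det_one, Fintype.card_fin] at h1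
    linear_combination h1
  have hdet : -3 * x.det = 1 := by linear_combination hd4 - (-3 * x.det) * hd
  have hc := ch2 x
  have h1 : (3 : F) • (x * x) = (3 * x.trace) • x + 1 := by
    rw [hc, smul_sub, smul_smul, smul_smul]
    rw [show (3 : F) * x.det = -1 by linear_combination -hdet]
    module
  rw [h1] at ht
  have h2 : ((3 * x.trace) • x + 1) * ((3 * x.trace) • x + 1) =
      (3 * x.trace ^ 2) • ((3 : F) • (x * x)) + (6 * x.trace) • x + 1 := by
    simp only [add_mul, mul_add, smul_mul_smul_comm, mul_one, one_mul]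
    module
  rw [h2, h1] at ht
  have h3' : (9 * x.trace ^ 3 + 6 * x.trace) • x + (3 * x.trace ^ 2) • (1 : Matrix (Fin 2) (Fin 2) F) = 0 := by
    have : (9 * x.trace ^ 3 + 6 * x.trace) • x + (3 * x.trace ^ 2) • (1 : Matrix (Fin 2) (Fin 2) F) =
      ((3 * x.trace ^ 2) • ((3 * x.trace) • x + 1) + (6 * x.trace) • x + 1) - 1 := by module
    rw [this, ht, sub_self]
  obtain ⟨-, h4⟩ := coeff_zero hx h3'
  have h5 : x.trace = 0 := by
    rcases mul_eq_zero.1 h4 with h | h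
    · exact absurd h h3
    · exact pow_eq_zero_iff (two_ne_zero) |>.1 h
  refine ⟨h5, ?_⟩
  rw [h1, h5, mul_zero, zero_smul, zero_add]

/-- The multiplicity space. -/
theorem stage_three {ω : F} (hω : ω ^ 2 + ω + 1 = 0) (h3 : (3 : F) ≠ 0) {k g : Matrix (Fin 3) (Fin 3) R2}
    (ka : k * a3 ω = a3 ω * k) (ga : g * a3 ω = b3 * g) (gb : a3 ω * (g * b3) = g) (k2 : k * k = 1)
    (g4 : (g * g) * (g * g) = 1) (sk : (g * g) * k = k * (g * g)) (v4 : k * b3 * k * b3 = b3 * (b3 * k))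
    {l : F} (r6 : (k * (g * k * (g * (g * g)))) ^ 3 = l • (g * g))
    (hdet : ∀ x, g = gm ω x → (-3 * x.det) ^ 3 = 1)
    (hC : ∀ X : R2, (dg X X X) * k = k * (dg X X X) → (dg X X X) * g = g * (dg X X X) → IsSc X) :
    ∃ x δ : R2, ∃ κ : F, k = dg 1 δ δ ∧ g = gm ω x ∧ (3 : F) • (x * x) = 1 ∧ δ * δ = 1 ∧ ¬ IsSc δ ∧
      x * δ + δ * x = κ • 1 ∧ κ ^ 2 = 1 := by
  obtain ⟨x, d₀, d₁, d₂, t, hk, hg, ht, hgg, htt, ht0, ht2, ht1, h00, h11, h22, h21, h02, h10⟩ :=
    stage_one hω h3 ka ga gb k2 g4 sk v4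
  have hC' : ∀ X : R2, X * x = x * X → X * d₀ = d₀ * X → X * d₁ = d₁ * X → X * d₂ = d₂ * X → IsSc X := by
    intro X e1 e2 e3 e4
    apply hC X
    · rw [hk]
      obtain ⟨k00, k01, k02, k10, k11, k12, k20, k21, k22⟩ := dg_entries d₀ d₁ d₂
      obtain ⟨X00, X01, X02, X10, X11, X12, X20, X21, X22⟩ := dg_entries X X X
      apply ext3 <;> simp only [mul3, k00, k01, k02, k10, k11, k12, k20, k21, k22, X00, X01, X02, X10, X11, X12, X20,
        X21, X22, e2, e3, e4, mul_zero, zero_mul, add_zero, zero_add]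
    · rw [hg]
      obtain ⟨a00, a01, a02, a10, a11, a12, a20, a21, a22⟩ := gm_entries hω x
      obtain ⟨X00, X01, X02, X10, X11, X12, X20, X21, X22⟩ := dg_entries X X X
      apply ext3 <;> simp only [mul3, a00, a01, a02, a10, a11, a12, a20, a21, a22, X00, X01, X02, X10, X11, X12, X20,
        X21, X22, e1, mul_zero, zero_mul, add_zero, zero_add, mul_smul_comm, smul_mul_assoc, smul_zero]
  have hxsc : ¬ IsSc x := by
    intro hx
    have hcomm := hx.comm
    have e21 : d₂ = d₁ := by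
      have h1 : t * d₂ = t * d₁ := by
        rw [ht2, ht, mul_smul_comm, smul_mul_assoc, ← mul_assoc, ← hcomm, mul_assoc, ← hcomm]
      have h2 : t * (t * d₂) = t * (t * d₁) := by rw [h1]
      rwa [← mul_assoc, ← mul_assoc, htt, one_mul, one_mul] at h2
    have e0 : d₀ = 1 := by rw [← h21, e21, h11]
    have hd1 : IsSc d₁ := hC' d₁ (by rw [hcomm]) (by rw [e0, mul_one, one_mul]) rfl (by rw [e21])
    apply not_all_sc (F := F)
    intro X
    exact hC' X (by rw [hcomm]) (by rw [e0, mul_one, one_mul]) (by rw [hd1.comm]) (by rw [e21, hd1.comm])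
  obtain ⟨htr, ht1'⟩ := t_eq_one h3 (by rw [← ht]; exact htt) (hdet x hg) hxsc
  rw [ht1'] at ht
  rw [ht, one_mul, mul_one] at ht2
  subst ht2
  have e0 : d₀ = 1 := by rw [← h21, h22]
  subst e0
  obtain ⟨δ, rfl⟩ : ∃ δ, δ = d₂ := ⟨_, rfl⟩
  have hδsc : ¬ IsSc δ := fun hδ =>
    hxsc (hC' x rfl (by rw [mul_one, one_mul]) (by rw [hδ.comm]) (by rw [hδ.comm]))
  have hncomm : δ * x ≠ x * δ := fun h => hδsc (hC' δ h (by rw [mul_one, one_mul]) rfl rfl)
  have hδtr : δ.trace = 0 := by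
    have h1 := ch2 δ
    rw [h22] at h1
    have h2 : δ.trace • δ + (-(δ.det) - 1) • (1 : R2) = 0 := by
      have h3 : δ.trace • δ + (-(δ.det) - 1) • (1 : R2) = (δ.trace • δ - δ.det • 1) - 1 := by module
      rw [h3, ← h1, sub_self]
    exact (coeff_zero hδsc h2).1
  obtain ⟨κ, hκ⟩ : ∃ κ : F, x * δ + δ * x = κ • 1 := ⟨(x * δ).trace, by
    rw [ch2', htr, hδtr, mul_zero, sub_zero, zero_smul, zero_smul, zero_add, zero_add]⟩
  refine ⟨x, δ, κ, hk, hg, ht1', h22, hδsc, hκ, ?_⟩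
  rw [hk, hg] at r6
  obtain ⟨p, q, hp, hq, hE1, hE2⟩ := stage_two hω ht1' h22 r6
  obtain ⟨D, hD⟩ : ∃ D, D = (3 : F) • (x * δ * x) := ⟨_, rfl⟩
  have hxx : x * x = (3 : F)⁻¹ • 1 := by
    rw [← ht1', smul_smul, inv_mul_cancel₀ h3, one_smul]
  have hD' : D = (3 * κ) • x - δ := by
    have e1 : x * δ = κ • 1 - δ * x := eq_sub_of_add_eq hκ
    rw [hD, e1, sub_mul, mul_assoc, hxx, smul_mul_assoc, one_mul, mul_smul_comm, mul_one, smul_sub, smul_smul,
      smul_smul, mul_inv_cancel₀ h3, one_smul]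
  have hγ : δ * D + D * δ = (3 * κ ^ 2 - 2) • 1 := by
    rw [hD', mul_sub, sub_mul, mul_smul_comm, smul_mul_assoc, h22]
    calc _ = (3 * κ) • (x * δ + δ * x) - (2 : F) • 1 := by module
      _ = _ := by rw [hκ]; module
  have hDD : D * D = 1 := by
    rw [hD']
    calc _ = (9 * κ ^ 2) • (x * x) - (3 * κ) • (x * δ + δ * x) + δ * δ := by
          simp only [sub_mul, mul_sub, smul_mul_assoc, mul_smul_comm]; module
      _ = 1 := by
          rw [hκ, hxx, h22, smul_smul, smul_smul]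
          rw [show 9 * κ ^ 2 * (3 : F)⁻¹ = 3 * κ * κ by
            rw [show (9 : F) = 3 * 3 by norm_num]
            field_simp]
          module
  obtain ⟨γ, hγ'⟩ : ∃ γ : F, γ = 3 * κ ^ 2 - 2 := ⟨_, rfl⟩
  rw [← hγ'] at hγ
  have hpD : p = (3 : F)⁻¹ • (1 + (2 : F) • D) := by
    rw [hp, hD, hxx, smul_add, smul_smul, smul_smul]
    rw [show (3 : F)⁻¹ * 2 * 3 = 2 by field_simp]
    module
  have hqD : q = (3 : F)⁻¹ • (1 - D) := by
    rw [hq, hD, hxx, smul_sub, smul_smul, inv_mul_cancel₀ h3, one_smul]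
  have hpq : p - q = D := by
    rw [hpD, hqD, ← smul_sub]
    rw [show (1 + (2 : F) • D - (1 - D)) = (3 : F) • D by module, smul_smul, inv_mul_cancel₀ h3, one_smul]
  have hDδ : D * δ = γ • 1 - δ * D := eq_sub_of_add_eq (by rw [← hγ]; abel)
  have hδD : δ * D = γ • 1 - D * δ := eq_sub_of_add_eq hγ
  have hDδD : D * δ * D = γ • D - δ := by
    rw [hDδ, sub_mul, mul_assoc, hDD, smul_mul_assoc, one_mul, mul_one]
  have hδDδ : δ * D * δ = γ • δ - D := by
    rw [hδD, sub_mul, mul_assoc, h22, smul_mul_assoc, one_mul, mul_one]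
  -- E1
  have hl1 : l = 1 ∧ (2 : F) * (γ - 1) = 0 := by
    have h1 : (9 : F) • p = (9 : F) • (l • (p * p + (q * δ * q + q * δ * q))) := by rw [← hE1]
    rw [smul_comm, hpD, hqD] at h1
    have h2 : (9 : F) * ((3 : F)⁻¹ * (3 : F)⁻¹) = 1 := by
      rw [show (9 : F) = 3 * 3 by norm_num]; field_simp
    have h9 : (9 : F) * (3 : F)⁻¹ = 3 := by
      rw [show (9 : F) = 3 * 3 by norm_num]; field_simp
    have h3' : ∀ X Y : R2, (9 : F) • ((3 : F)⁻¹ • X * (3 : F)⁻¹ • X +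
        ((3 : F)⁻¹ • Y * δ * (3 : F)⁻¹ • Y + (3 : F)⁻¹ • Y * δ * (3 : F)⁻¹ • Y)) =
        X * X + (Y * δ * Y + Y * δ * Y) := by
      intro X Y
      simp only [smul_mul_assoc, mul_smul_comm, smul_smul, smul_add, h2, one_smul]
    rw [h3', smul_smul, h9] at h1
    have h4 : (1 + (2 : F) • D) * (1 + (2 : F) • D) = (5 : F) • 1 + (4 : F) • D := by
      have : (1 + (2 : F) • D) * (1 + (2 : F) • D) = 1 + (4 : F) • D + (4 : F) • (D * D) := by
        simp only [add_mul, mul_add, smul_mul_assoc, mul_smul_comm, one_mul, mul_one]; module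
      rw [this, hDD]; module
    have h5 : (1 - D) * δ * (1 - D) = γ • (D - 1) := by
      have : (1 - D) * δ * (1 - D) = δ - (δ * D + D * δ) + D * δ * D := by noncomm_ring
      rw [this, hγ, hDδD]; module
    rw [h4, h5] at h1
    have hDne : ¬ IsSc D := by
      rintro ⟨c, hc⟩
      rw [hc] at hD'
      apply hncomm
      have h6 : δ = (3 * κ) • x - c • 1 := by rw [hD']; abel
      rw [h6, sub_mul, mul_sub, smul_mul_assoc, mul_smul_comm, smul_mul_assoc, mul_smul_comm, one_mul, mul_one]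
    have h6 : (l * (4 + 2 * γ) - 6) • D + (l * (5 - 2 * γ) - 3) • (1 : R2) = 0 := by
      have h7 : (l * (4 + 2 * γ) - 6) • D + (l * (5 - 2 * γ) - 3) • (1 : R2) =
        l • ((5 : F) • 1 + (4 : F) • D + (γ • (D - 1) + γ • (D - 1))) - (3 : F) • (1 + (2 : F) • D) := by module
      rw [h7, ← h1, sub_self]
    obtain ⟨h8, h9'⟩ := coeff_zero hDne h6
    have h10 : (3 : F) * (3 * (l - 1)) = 0 := by linear_combination h8 + h9'
    have h11 : l = 1 := sub_eq_zero.1 ((mul_eq_zero.1 ((mul_eq_zero.1 h10).resolve_left h3)).resolve_left h3)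
    refine ⟨h11, ?_⟩
    rw [h11] at h8
    linear_combination h8
  obtain ⟨hl, hE1'⟩ := hl1
  -- E2
  rw [hl, one_smul, hpq, hδDδ, hDδD] at hE2
  have hE2' : (γ - 1) * (3 * κ) = 0 := by
    have h1 : ((γ - 1) * (3 * κ)) • x + (0 : F) • (1 : R2) = 0 := by
      have h2 : ((γ - 1) * (3 * κ)) • x + (0 : F) • (1 : R2) = (γ - 1) • (D + δ) := by
        rw [hD']; module
      rw [h2]
      have h3 : (γ - 1) • (D + δ) = (γ • δ - D) - -(γ • D - δ) := by module
      rw [h3, hE2, sub_self]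
    exact (coeff_zero hxsc h1).1
  have hγ1 : γ = 1 := by
    by_cases h2 : (2 : F) = 0
    · have hκ0 : κ ≠ 0 := by
        rintro rfl
        apply hncomm
        rw [zero_smul] at hκ
        have h5 : δ * x = -(x * δ) := eq_neg_of_add_eq_zero_right hκ
        rw [h5]
        have h6 : -(x * δ) = x * δ - (2 : F) • (x * δ) := by module
        rw [h6, h2, zero_smul, sub_zero]
      have h4 : (3 : F) * κ ≠ 0 := mul_ne_zero h3 hκ0
      exact sub_eq_zero.1 ((mul_eq_zero.1 hE2').resolve_right h4)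
    · exact sub_eq_zero.1 ((mul_eq_zero.1 hE1').resolve_left h2)
  have h7 : (3 : F) * (κ ^ 2 - 1) = 0 := by rw [hγ1] at hγ'; linear_combination -hγ'
  exact sub_eq_zero.1 ((mul_eq_zero.1 h7).resolve_left h3)

/-- `x = [[0, 1/3], [1, 0]]`, `δ = [[1, 1], [0, -1]]` in the basis `v, xv`, where `δ v = v`. -/
theorem sim_pair {x δ : Matrix (Fin 2) (Fin 2) F} (h3 : (3 : F) ≠ 0) (hx : (3 : F) • (x * x) = 1) (hδ : δ * δ = 1)
    (hsc : ¬ IsSc δ) (h : x * δ + δ * x = 1) : ∃ S : GL (Fin 2) F,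
    x * (S : Matrix (Fin 2) (Fin 2) F) = (S : Matrix (Fin 2) (Fin 2) F) * !![0, (3 : F)⁻¹; 1, 0] ∧
    δ * (S : Matrix (Fin 2) (Fin 2) F) = (S : Matrix (Fin 2) (Fin 2) F) * !![1, 1; 0, -1] := by
  have h1 : δ + 1 ≠ 0 := fun h1 => hsc ⟨-1, by rw [eq_neg_of_add_eq_zero_left h1, neg_smul, one_smul]⟩
  obtain ⟨u, hu⟩ : ∃ u : Fin 2 → F, (δ + 1) *ᵥ u ≠ 0 := by
    by_contra hcon
    push Not at hcon
    apply h1
    ext i j
    have := congrFun (hcon (Pi.single j 1)) i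
    rwa [Matrix.mulVec_single_one] at this
  obtain ⟨v, hv⟩ : ∃ v, v = (δ + 1) *ᵥ u := ⟨_, rfl⟩
  rw [← hv] at hu
  have hδv : δ *ᵥ v = v := by
    rw [hv, Matrix.mulVec_mulVec, mul_add, hδ, mul_one, add_comm]
  have hxxv : x *ᵥ (x *ᵥ v) = (3 : F)⁻¹ • v := by
    have hxx : x * x = (3 : F)⁻¹ • 1 := by rw [← hx, smul_smul, inv_mul_cancel₀ h3, one_smul]
    rw [Matrix.mulVec_mulVec, hxx, Matrix.smul_mulVec, Matrix.one_mulVec]
  have hδxv : δ *ᵥ (x *ᵥ v) = v - x *ᵥ v := by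
    have e1 : δ * x = 1 - x * δ := eq_sub_of_add_eq (by rw [← h]; abel)
    rw [Matrix.mulVec_mulVec, e1, Matrix.sub_mulVec, Matrix.one_mulVec, ← Matrix.mulVec_mulVec, hδv]
  let S₀ : Matrix (Fin 2) (Fin 2) F := Matrix.of fun i j => if j = 0 then v i else (x *ᵥ v) i
  have c0 : ∀ i, S₀ i 0 = v i := fun i => rfl
  have c1 : ∀ i, S₀ i 1 = (x *ᵥ v) i := fun i => rfl
  have hdet : S₀.det ≠ 0 := by
    intro hdet
    rw [← Matrix.exists_mulVec_eq_zero_iff] at hdet
    obtain ⟨y, hy, hy0⟩ := hdet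
    have e1 : y 0 • v + y 1 • (x *ᵥ v) = 0 := by
      funext i
      have := congrFun hy0 i
      rw [Matrix.mulVec, dotProduct, Fin.sum_univ_two, c0, c1] at this
      rw [Pi.add_apply, Pi.smul_apply, Pi.smul_apply, smul_eq_mul, smul_eq_mul, mul_comm, mul_comm (y 1)]
      exact this
    by_cases hy1 : y 1 = 0
    · rw [hy1, zero_smul, add_zero] at e1
      rcases smul_eq_zero.1 e1 with h2 | h2
      · apply hy
        funext i
        fin_cases i
        · exact h2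
        · exact hy1
      · exact hu h2
    · obtain ⟨l, hl⟩ : ∃ l : F, x *ᵥ v = l • v := by
        refine ⟨-((y 1)⁻¹ * y 0), ?_⟩
        have e2 : (y 1)⁻¹ • (y 0 • v + y 1 • (x *ᵥ v)) = 0 := by rw [e1, smul_zero]
        rw [smul_add, smul_smul, smul_smul, inv_mul_cancel₀ hy1, one_smul] at e2
        rw [neg_smul]
        exact eq_neg_of_add_eq_zero_right e2
      rw [hl, Matrix.mulVec_smul, hδv] at hδxv
      rw [hl, Matrix.mulVec_smul, hl, smul_smul] at hxxv
      have e3 : (2 * l - 1) • v = 0 := by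
        have : (2 * l - 1) • v = l • v - (v - l • v) := by module
        rw [this]
        exact sub_eq_zero.2 hδxv
      have e4 : (3 * (l * l) - 1) • v = 0 := by
        have : (3 * (l * l) - 1) • v = (3 : F) • ((l * l) • v) - v := by module
        rw [this, hxxv, smul_smul, mul_inv_cancel₀ h3, one_smul, sub_self]
      have e5 := (smul_eq_zero.1 e3).resolve_right hu
      have e6 := (smul_eq_zero.1 e4).resolve_right hu
      exact one_ne_zero (α := F) (by linear_combination (3 * (2 * l + 1)) * e5 - 4 * e6)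
  let S : GL (Fin 2) F := Matrix.GeneralLinearGroup.mkOfDetNeZero S₀ hdet
  have hS : (S : Matrix (Fin 2) (Fin 2) F) = S₀ := rfl
  refine ⟨S, ?_, ?_⟩
  · rw [hS]
    ext i j
    have key : ∀ j, (x * S₀) i j = (x *ᵥ fun i => S₀ i j) i := fun j => rfl
    rw [key, Matrix.mul_apply, Fin.sum_univ_two, c0, c1]
    fin_cases j
    · show (x *ᵥ v) i = _
      simp only [_root_.Matrix.mulVec_fin_two, _root_.Nat.succ_eq_add_one, _root_.Nat.reduceAdd, _root_.Fin.isValue, _root_.Fin.zero_eta, _root_.Matrix.of_apply, _root_.Matrix.cons_val', _root_.Matrix.cons_val_zero, _root_.Matrix.cons_val_fin_one, _root_.MulZeroClass.mul_zero, _root_.Matrix.cons_val_one, _root_.mul_one, _root_.zero_add]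
    · show (x *ᵥ (x *ᵥ v)) i = _
      rw [hxxv]
      simp only [mul_comm, _root_.Pi.smul_apply, _root_.smul_eq_mul, _root_.Fin.isValue, _root_.Fin.mk_one, _root_.Matrix.of_apply, _root_.Matrix.cons_val', _root_.Matrix.cons_val_one, _root_.Matrix.cons_val_fin_one, _root_.Matrix.cons_val_zero, _root_.Matrix.mulVec_fin_two, _root_.Nat.succ_eq_add_one, _root_.Nat.reduceAdd, _root_.MulZeroClass.zero_mul, _root_.add_zero]
  · rw [hS]
    ext i j
    have key : ∀ j, (δ * S₀) i j = (δ *ᵥ fun i => S₀ i j) i := fun j => rfl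
    rw [key, Matrix.mul_apply, Fin.sum_univ_two, c0, c1]
    fin_cases j
    · show (δ *ᵥ v) i = _
      rw [hδv]
      simp only [_root_.Fin.isValue, _root_.Fin.zero_eta, _root_.Matrix.of_apply, _root_.Matrix.cons_val', _root_.Matrix.cons_val_zero, _root_.Matrix.cons_val_fin_one, _root_.mul_one, _root_.Matrix.mulVec_fin_two, _root_.Nat.succ_eq_add_one, _root_.Nat.reduceAdd, _root_.Matrix.cons_val_one, _root_.MulZeroClass.mul_zero, _root_.add_zero]
    · show (δ *ᵥ (x *ᵥ v)) i = _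
      rw [hδxv]
      simp only [sub_eq_add_neg, _root_.Matrix.mulVec_fin_two, _root_.Nat.succ_eq_add_one, _root_.Nat.reduceAdd, _root_.Fin.isValue, _root_.Pi.sub_apply, _root_.Fin.mk_one, _root_.Matrix.of_apply, _root_.Matrix.cons_val', _root_.Matrix.cons_val_one, _root_.Matrix.cons_val_fin_one, _root_.Matrix.cons_val_zero, _root_.mul_one, _root_.mul_neg]

end two

end Cfsg.Agent.H890.A7
end

-- part: H890/A7/Rel
section
/-!
# `3.A₇` : exact relations between lifts (helper890)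
-/

set_option autoImplicit false
set_option linter.unusedSectionVars false

namespace Cfsg.Agent.H890.A7

open Cfsg Cfsg.Geo Matrix Cfsg.Agent.H913.N6
open Equiv Equiv.Perm Cfsg.Agent.H890.Y3

section cover

variable {ι : Type} [Fintype ι] [DecidableEq ι] {F : Type*} [Field F] {P : Subgroup (GL ι F)}
  {T : Type*} [Group T] {C : Cov P T}

/-- all scalars in `P` have order dividing six -/
def Z6 (P : Subgroup (GL ι F)) : Prop := ∀ c : Fˣ, sc c ∈ P → c ^ 6 = 1

theorem L_congr {x : GL ι F} {σ τ : T} (h : C.L x σ) (e : σ = τ) : C.L x τ := by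
  rw [← e]; exact h

theorem eq_one_of {c : Fˣ} (h3 : c ^ 3 = 1) (h2 : c ^ 2 = 1) : c = 1 := by
  have : c ^ 3 = c ^ 2 * c := pow_succ c 2
  rw [this, h2, one_mul] at h3
  exact h3

theorem sc_commute (c : Fˣ) (x : GL ι F) : Commute (sc c) x := sc_comm c x

/-- A lift can be multiplied by a scalar such that its cube has order prime to two: `x³ = c`, `c³ = 1`. -/
theorem exists_cube (hZ : Z6 P) {σ : T} (hσ : σ ^ 3 = 1) : ∃ x c, C.L x σ ∧ sc c ∈ P ∧ c ^ 3 = 1 ∧ x ^ 3 = sc c := by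
  obtain ⟨y, hy⟩ := C.exists_lift σ
  have h1 := hy.pow 3
  rw [hσ, Cov.L.one_iff] at h1
  obtain ⟨hm, c, hc⟩ := h1
  have hcP : sc c ∈ P := hc ▸ hm
  have hc6 := hZ c hcP
  have hpow : ∀ n : ℕ, sc (c ^ n) ∈ P := fun n => by rw [sc_pow]; exact pow_mem hcP n
  refine ⟨sc (c ^ 3) * y, c ^ 10, hy.sc_mul (hpow 3), hpow 10, ?_, ?_⟩
  · rw [← pow_mul, show 10 * 3 = 6 * 5 by norm_num, pow_mul, hc6, one_pow]
  · rw [(sc_commute _ y).mul_pow, hc, ← sc_pow, ← sc_mul, ← pow_mul, ← pow_succ]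

/-- squares of lifts of conjugates of `κ`, if one lift of `κ` has square `e`, `e² = 1` -/
theorem sq_conj (hZ : Z6 P) {κ : T} {k₀ : GL ι F} (hk : C.L k₀ κ) {e : Fˣ} (hk2 : k₀ ^ 2 = sc e)
    {σ : T} (hσ : ∃ γ, γ * κ * γ⁻¹ = σ) {x : GL ι F} (hx : C.L x σ) :
    ∃ c, sc c ∈ P ∧ c ^ 3 = 1 ∧ x ^ 2 = sc (e * c) := by
  obtain ⟨γ, hγ⟩ := hσ
  obtain ⟨y, hy⟩ := C.exists_lift γ
  obtain ⟨c, hcP, rfl⟩ := hx.exists_sc (L_congr (hk.conj hy) hγ)
  refine ⟨c ^ 2, by rw [sc_pow]; exact pow_mem hcP 2, by rw [← pow_mul]; exact hZ c hcP, ?_⟩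
  rw [(sc_commute _ _).mul_pow, conj_pow, hk2, ← sc_comm e y, mul_inv_cancel_right, ← sc_pow, ← sc_mul, mul_comm]

variable [Nonempty ι]

/-- Two lifts of commuting conjugates of `κ` with square `e`, whose product is again a conjugate of `κ`:
`xy = e yx`. -/
theorem sq_comm (hZ : Z6 P) {κ : T} {k₀ : GL ι F} (hk : C.L k₀ κ) {e : Fˣ} (he : e ^ 2 = 1) (hk2 : k₀ ^ 2 = sc e)
    {σ τ : T} (hστ : σ * τ = τ * σ) (hγ : ∃ γ, γ * κ * γ⁻¹ = σ * τ)
    {x y : GL ι F} (hx : C.L x σ) (hy : C.L y τ) (hx2 : x ^ 2 = sc e) (hy2 : y ^ 2 = sc e) :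
    x * y = sc e * (y * x) := by
  obtain ⟨c, hcP, hc⟩ := (L_congr (hx.mul hy) hστ).exists_sc (hy.mul hx)
  obtain ⟨d, -, hd3, hd⟩ := sq_conj hZ hk hk2 hγ (hx.mul hy)
  -- `c² = 1`
  have h1 : (x * y * x⁻¹) ^ 2 = sc (c ^ 2) * y ^ 2 := by
    have : x * y * x⁻¹ = sc c * y := by rw [hc]; group
    rw [this, (sc_commute _ _).mul_pow, sc_pow]
  rw [conj_pow, hy2, ← sc_comm e x, mul_inv_cancel_right, ← sc_mul] at h1
  have h2 : c ^ 2 = 1 := by
    have := sc_inj h1
    exact (mul_eq_right.1 this.symm)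
  have h3 : (x * y) ^ 2 = sc c := by
    have : (x * y) ^ 2 = sc c * (y * x) * (x * y) := by rw [← hc, sq]
    rw [this]
    calc sc c * (y * x) * (x * y) = sc c * (y * x ^ 2 * y) := by rw [sq]; group
      _ = sc c * (sc e * y ^ 2) := by rw [hx2, ← sc_comm e y, mul_assoc, ← sq]
      _ = sc c := by rw [hy2, ← sc_mul, ← sq, he, sc_one, mul_one]
  rw [hd] at h3
  have h4 := sc_inj h3
  have h5 : d = 1 := by
    refine eq_one_of hd3 ?_
    have : d = e⁻¹ * c := by rw [← h4]; group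
    rw [this, mul_pow, inv_pow, he, h2]
    simp
  rw [h5, mul_one] at h4
  rw [hc, ← h4]

omit [Nonempty ι] in
theorem conj_three {a x : GL ι F} {c : Fˣ} (h : a * x = sc c * (x * a)) : a ^ 3 * x = sc (c ^ 3) * (x * a ^ 3) := by
  have h2 : a * (a * x) = sc (c ^ 2) * (x * (a * a)) := by
    rw [h, ← mul_assoc a (sc c), ← sc_comm c a, mul_assoc (sc c) a, ← mul_assoc a x, h, sq, sc_mul]
    simp only [mul_assoc]
  calc a ^ 3 * x = a * (a * (a * x)) := by rw [pow_succ, sq]; simp only [mul_assoc]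
    _ = a * sc (c ^ 2) * (x * (a * a)) := by rw [h2, mul_assoc]
    _ = sc (c ^ 2) * (a * x) * (a * a) := by rw [← sc_comm]; simp only [mul_assoc]
    _ = sc (c ^ 3) * (x * a ^ 3) := by
        rw [h, pow_succ c 2, sc_mul, pow_succ a 2, sq a]; simp only [mul_assoc]

theorem cube_of_comm {a x : GL ι F} {c : Fˣ} (h : a * x = sc c * (x * a)) (ha : a ^ 3 = 1) : c ^ 3 = 1 := by
  have h1 := conj_three h
  rw [ha, one_mul, mul_one] at h1
  have h2 : (1 : GL ι F) * x = sc (c ^ 3) * x := by rw [one_mul]; exact h1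
  have h3 := mul_right_cancel h2
  rw [← sc_one] at h3
  exact (sc_inj h3).symm

/-- an element of order three commutes with the lifts of order `2`, `4` -/
theorem comm_three {σ τ : T} (hστ : σ * τ = τ * σ) {a x : GL ι F} (ha : C.L a σ) (hx : C.L x τ) (ha3 : a ^ 3 = 1)
    {e : Fˣ} (hx2 : x ^ 2 = sc e) : a * x = x * a := by
  obtain ⟨c, hcP, hc⟩ := (L_congr (ha.mul hx) hστ).exists_sc (hx.mul ha)
  have e1 : a * x * a⁻¹ = sc c * x := by rw [hc]; group
  have h1 : (a * x * a⁻¹) ^ 2 = sc (c ^ 2) * x ^ 2 := by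
    rw [e1, (sc_commute _ _).mul_pow, sc_pow]
  rw [conj_pow, hx2, ← sc_comm e a, mul_inv_cancel_right, ← sc_mul] at h1
  have h2 : c ^ 2 = 1 := mul_eq_right.1 (sc_inj h1).symm
  rw [hc, eq_one_of (cube_of_comm hc ha3) h2, sc_one, one_mul]

end cover

def kk : alternatingGroup (Fin 7) := ⟨c[(3 : Fin 7), 4] * c[(5 : Fin 7), 6], mem_alternatingGroup.2 (by decide)⟩

theorem kk_sq : kk ^ 2 = 1 := by decide +kernel
theorem kk_ne : kk ≠ 1 := by decide +kernel
theorem kk_r3 : r3 * kk = kk * r3 := by decide +kernel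
theorem kk_g4 : g4 ^ 2 * kk = kk * g4 ^ 2 := by decide +kernel
theorem kk_v4 : kk * (r3' * kk * r3'⁻¹) = r3' ^ 2 * kk * (r3' ^ 2)⁻¹ := by decide +kernel
theorem kk_v4' : kk * (r3' * kk * r3'⁻¹) = (r3' * kk * r3'⁻¹) * kk := by decide +kernel
theorem kk_r6 : (kk * (g4 * kk * g4⁻¹)) ^ 3 = g4 ^ 2 := by decide +kernel
theorem g4_sq_r3 : g4 ^ 2 * r3 * (g4 ^ 2)⁻¹ = r3⁻¹ := by decide +kernel

theorem conj_g4 : ∃ γ, γ * kk * γ⁻¹ = g4 ^ 2 :=
  ⟨⟨c[(3 : Fin 7), 0, 5] * c[(4 : Fin 7), 1, 6] * c[(3 : Fin 7), 5] * c[(4 : Fin 7), 6], mem_alternatingGroup.2 (by decide)⟩, by decide +kernel⟩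

theorem conj_g4k : ∃ γ, γ * kk * γ⁻¹ = g4 ^ 2 * kk :=
  ⟨⟨c[(3 : Fin 7), 0] * c[(4 : Fin 7), 1], mem_alternatingGroup.2 (by decide)⟩, by decide +kernel⟩

theorem conj_v4 : ∃ γ, γ * kk * γ⁻¹ = kk * (r3' * kk * r3'⁻¹) := ⟨r3' ^ 2, by decide +kernel⟩

/-- The exact relations (`e = 1` for `3.A₇`, `e = -1` for `6.A₇`). -/
structure Rel {ι : Type} [Fintype ι] [DecidableEq ι] {F : Type*} [Field F] (e ω : Fˣ) (a b k g : GL ι F) : Prop where
  ω3 : ω ^ 3 = 1
  a3 : a ^ 3 = 1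
  b3 : b ^ 3 = 1
  ab : a * b = sc ω * (b * a)
  ga : g * a = b * g
  gb : g * b = a⁻¹ * g
  g4 : g ^ 4 = sc e
  k2 : k ^ 2 = sc e
  k1 : ∀ c, k ≠ sc c
  ka : k * a = a * k
  sk : g ^ 2 * k = sc e * (k * g ^ 2)
  v4 : k * (b * k * b⁻¹) = b ^ 2 * k * (b ^ 2)⁻¹
  r6 : ∃ l : Fˣ, (k * (g * k * g⁻¹)) ^ 3 = sc l * g ^ 2

section main

variable {ι : Type} [Fintype ι] [DecidableEq ι] [Nonempty ι] {F : Type*} [Field F] {P : Subgroup (GL ι F)}
  {C : Cov P (alternatingGroup (Fin 7))}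

/-- there is a lift of `kk` with square `e`, `e² = 1` -/
theorem exists_k (hZ : Z6 P) : ∃ k e, C.L k kk ∧ e ^ 2 = 1 ∧ k ^ 2 = sc e ∧ sc e ∈ P := by
  obtain ⟨y, hy⟩ := C.exists_lift kk
  have h1 := hy.pow 2
  rw [kk_sq, Cov.L.one_iff] at h1
  obtain ⟨hm, c, hc⟩ := h1
  have hcP : sc c ∈ P := hc ▸ hm
  have hc6 := hZ c hcP
  have hpow : ∀ n : ℕ, sc (c ^ n) ∈ P := fun n => by rw [sc_pow]; exact pow_mem hcP n
  refine ⟨sc (c ^ 4) * y, c ^ 9, hy.sc_mul (hpow 4), ?_, ?_, hpow 9⟩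
  · rw [← pow_mul, show 9 * 2 = 6 * 3 by norm_num, pow_mul, hc6, one_pow]
  · rw [(sc_commute _ y).mul_pow, hc, ← sc_pow, ← sc_mul, ← pow_mul, ← pow_succ]

theorem exists_rel (hZ : Z6 P) {e : Fˣ} (he : e ^ 2 = 1) {k₀ : GL ι F} (hk₀ : C.L k₀ kk) (hk₀2 : k₀ ^ 2 = sc e) :
    ∃ (ω : Fˣ) (a b k g : GL ι F), Rel e ω a b k g ∧ C.L a r3 ∧ C.L b r3' ∧ C.L k kk ∧ C.L g g4 ∧ sc ω ∈ P := by
  -- `g`
  obtain ⟨g, hg, hg4⟩ : ∃ g, C.L g g4 ∧ g ^ 4 = sc e := by
    obtain ⟨y, hy⟩ := C.exists_lift g4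
    obtain ⟨c, hcP, hc3, hc⟩ := sq_conj hZ hk₀ hk₀2 conj_g4 (hy.pow 2)
    refine ⟨sc (c ^ 2) * y, hy.sc_mul (by rw [sc_pow]; exact pow_mem hcP 2), ?_⟩
    rw [← pow_mul] at hc
    rw [(sc_commute _ y).mul_pow, hc, ← sc_pow, ← sc_mul, mul_left_comm, ← pow_mul, ← pow_succ,
      show 2 * 4 + 1 = 3 * 3 by norm_num, pow_mul, hc3, one_pow, mul_one]
  have hs : C.L (g ^ 2) (g4 ^ 2) := hg.pow 2
  have hs2 : (g ^ 2) ^ 2 = sc e := by rw [← pow_mul]; exact hg4
  -- `a`
  obtain ⟨a, ha, hsa, ha3⟩ : ∃ a, C.L a r3 ∧ g ^ 2 * a * (g ^ 2)⁻¹ = a⁻¹ ∧ a ^ 3 = 1 := by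
    obtain ⟨a₀, c, ha₀, hcP, hc3, hc⟩ := exists_cube (C := C) hZ r3_pow
    obtain ⟨f, hfP, hf⟩ := (L_congr (ha₀.conj hs) g4_sq_r3).exists_sc ha₀.inv
    have h1 : (sc c : GL ι F) = sc (f ^ 3 * c⁻¹) := by
      have h2 : (g ^ 2 * a₀ * (g ^ 2)⁻¹) ^ 3 = sc c := by
        rw [conj_pow, hc, ← sc_comm, mul_inv_cancel_right]
      rw [← h2, hf, (sc_commute _ _).mul_pow, inv_pow, hc, sc_mul, sc_pow, sc_inv]
    have h2 : f ^ 3 = c ^ 2 := by
      have := sc_inj h1
      rw [sq]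
      nth_rewrite 1 [this]
      group
    have hf3 : f ^ 3 = 1 := by
      have h3 : (f ^ 3) ^ 3 = 1 := by rw [h2, ← pow_mul, mul_comm, pow_mul, hc3, one_pow]
      have h4 : (f ^ 3) ^ 2 = 1 := by rw [← pow_mul]; exact hZ f hfP
      exact eq_one_of h3 h4
    have hc1 : c = 1 := eq_one_of hc3 (by rw [← h2, hf3])
    have hff : f * f = f⁻¹ := by rw [eq_inv_iff_mul_eq_one, ← sq, ← pow_succ]; exact hf3
    refine ⟨sc f * a₀, ha₀.sc_mul hfP, ?_, ?_⟩
    · have e1 : g ^ 2 * (sc f * a₀) * (g ^ 2)⁻¹ = sc f * (g ^ 2 * a₀ * (g ^ 2)⁻¹) := by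
        rw [← mul_assoc (g ^ 2), ← sc_comm f (g ^ 2)]; group
      rw [e1, hf, _root_.mul_inv_rev, ← sc_inv, ← sc_comm, ← mul_assoc, ← sc_mul, hff]
    · rw [(sc_commute _ _).mul_pow, hc, ← sc_pow, hf3, hc1, sc_one, one_mul]
  have hb : C.L (g * a * g⁻¹) r3' := L_congr (ha.conj hg) g4_r3
  obtain ⟨b, hbe⟩ : ∃ b, b = g * a * g⁻¹ := ⟨_, rfl⟩
  rw [← hbe] at hb
  have hb3 : b ^ 3 = 1 := by rw [hbe, conj_pow, ha3, mul_one, mul_inv_cancel]
  have hga : g * a = b * g := by rw [hbe]; group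
  have hgb : g * b = a⁻¹ * g := by rw [hbe, ← hsa, sq]; group
  obtain ⟨ω, hωm, hω⟩ := (L_congr (ha.mul hb) r3_comm).exists_sc (hb.mul ha)
  have hω3 := cube_of_comm hω ha3
  -- `k`
  have hkk : ∀ k, C.L k kk → k ^ 2 = sc e → ∃ c, sc c ∈ P ∧ c ^ 2 = 1 ∧
      k * (b * k * b⁻¹) = sc c * (b ^ 2 * k * (b ^ 2)⁻¹) := by
    intro k hk hk2
    obtain ⟨c, hcP, hc⟩ := (L_congr (hk.mul (hk.conj hb)) kk_v4).exists_sc (hk.conj (hb.pow 2))
    refine ⟨c, hcP, ?_, hc⟩
    have hK2 : (b * k * b⁻¹) ^ 2 = sc e := by rw [conj_pow, hk2, ← sc_comm, mul_inv_cancel_right]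
    have h1 := sq_comm hZ hk₀ he hk₀2 kk_v4' conj_v4 hk (hk.conj hb) hk2 hK2
    have h2 : (k * (b * k * b⁻¹)) ^ 2 = sc e := by
      calc (k * (b * k * b⁻¹)) ^ 2 = (k * (b * k * b⁻¹)) * (k * (b * k * b⁻¹)) := sq _
        _ = (sc e * ((b * k * b⁻¹) * k)) * (k * (b * k * b⁻¹)) := by rw [← h1]
        _ = sc e * ((b * k * b⁻¹) * k ^ 2 * (b * k * b⁻¹)) := by rw [sq]; group
        _ = sc e * (sc e * (b * k * b⁻¹) ^ 2) := by rw [hk2, ← sc_comm, mul_assoc (sc e) (b * k * b⁻¹), ← sq (b * k * b⁻¹)]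
        _ = sc e := by rw [hK2, ← sc_mul, ← sc_mul, ← mul_assoc, ← sq, he, one_mul]
    rw [hc, (sc_commute _ _).mul_pow, conj_pow, hk2, ← sc_comm e (b ^ 2), mul_inv_cancel_right, ← sc_pow, ← sc_mul] at h2
    exact mul_eq_right.1 (sc_inj h2)
  obtain ⟨k, hk, hk2, hv4⟩ : ∃ k, C.L k kk ∧ k ^ 2 = sc e ∧ k * (b * k * b⁻¹) = b ^ 2 * k * (b ^ 2)⁻¹ := by
    obtain ⟨c, hcP, hc2, hc⟩ := hkk k₀ hk₀ hk₀2
    refine ⟨sc c * k₀, hk₀.sc_mul hcP, ?_, ?_⟩
    · rw [(sc_commute _ _).mul_pow, hk₀2, ← sc_pow, hc2, sc_one, one_mul]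
    · have e1 : b * (sc c * k₀) * b⁻¹ = sc c * (b * k₀ * b⁻¹) := by
        rw [← mul_assoc b, ← sc_comm c b]; group
      have e2 : b ^ 2 * (sc c * k₀) * (b ^ 2)⁻¹ = sc c * (b ^ 2 * k₀ * (b ^ 2)⁻¹) := by
        rw [← mul_assoc (b ^ 2), ← sc_comm c (b ^ 2)]; group
      have e3 : sc c * k₀ * (sc c * (b * k₀ * b⁻¹)) = sc (c ^ 2) * (k₀ * (b * k₀ * b⁻¹)) := by
        rw [mul_assoc, ← mul_assoc k₀, ← sc_comm c k₀, sq, sc_mul]; group
      rw [e1, e2, e3, hc2, sc_one, one_mul, hc]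
  refine ⟨ω, a, b, k, g, ⟨hω3, ha3, hb3, hω, hga, hgb, hg4, hk2, ?_, ?_, ?_, hv4, ?_⟩, ha, hb, hk, hg, hωm⟩
  · rintro c rfl
    exact kk_ne (hk.unique (Cov.L.of_sc hk.mem))
  · exact (comm_three kk_r3 ha hk ha3 hk2).symm
  · exact sq_comm hZ hk₀ he hk₀2 kk_g4 conj_g4k hs hk hs2 hk2
  · obtain ⟨l, -, hl⟩ := (L_congr ((hk.mul (hk.conj hg)).pow 3) kk_r6).exists_sc hs
    exact ⟨l, hl⟩

end main

end Cfsg.Agent.H890.A7
end

-- part: H890/A7/Norm
section
/-!
# `3.A₇` : normal form in dimension six (helper890)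
-/

set_option autoImplicit false
set_option linter.unusedSectionVars false

namespace Cfsg.Agent.H890.A7

open Matrix Cfsg.Agent.H913.N6
open scoped Kronecker

variable {F : Type*} [Field F]

local notation "R2" => Matrix (Fin 2) (Fin 2) F
local notation "M3" => Matrix (Fin 3) (Fin 3) (Matrix (Fin 2) (Fin 2) F)
local notation "M6" => Matrix (Fin 6) (Fin 6) F

theorem omega_sum {ω : F} (h3 : ω ^ 3 = 1) (h1 : ω ≠ 1) : ω ^ 2 + ω + 1 = 0 := by
  have : (ω - 1) * (ω ^ 2 + ω + 1) = 0 := by linear_combination h3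
  exact (mul_eq_zero.1 this).resolve_left (sub_ne_zero.2 h1)

theorem three_ne {ω : F} (h3 : ω ^ 3 = 1) (h1 : ω ≠ 1) : (3 : F) ≠ 0 := by
  intro h
  have : (ω - 1) ^ 2 = 0 := by linear_combination omega_sum h3 h1 - ω * h
  exact h1 (sub_eq_zero.1 (pow_eq_zero_iff two_ne_zero |>.1 this))

theorem rho_smul (c : F) (M : M3) : rho (c • M) = c • rho M := by
  ext i j
  rfl

/-- the DFT matrix -/
def Wm (ω : F) : Matrix (Fin 3) (Fin 3) F := Matrix.of fun i j => ω ^ (2 * (i : ℕ) * (j : ℕ))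

theorem rho_gm (ω : F) (x : R2) : rho (gm ω x) =
    Matrix.reindex (finProdFinEquiv : Fin 3 × Fin 2 ≃ Fin 6) (finProdFinEquiv : Fin 3 × Fin 2 ≃ Fin 6) (Wm ω ⊗ₖ x) := by
  ext i j
  rfl

theorem det_Wm {ω : F} (hω : ω ^ 2 + ω + 1 = 0) : (Wm ω).det ^ 2 = -27 := by
  have hω3 := omega_cube hω
  have h1 : (Wm ω).det = 3 * ω - 3 * ω ^ 2 := by
    rw [Matrix.det_fin_three]
    have e : ∀ i j : Fin 3, Wm ω i j = ω ^ (2 * (i : ℕ) * (j : ℕ)) := fun i j => rfl
    rw [e, e, e, e, e, e, e, e, e]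
    simp only [Fin.val_zero, Fin.val_one, Fin.val_two, mul_zero, zero_mul, pow_zero, mul_one, one_mul]
    linear_combination ((ω ^ 7 + ω ^ 4 + ω) - 2 * (ω ^ 5 + ω ^ 2) + 2 * ω) * hω3
  rw [h1]
  linear_combination (9 * ω - 18) * hω3 + 9 * hω

theorem det_rho_gm {ω : F} (hω : ω ^ 2 + ω + 1 = 0) (x : R2) : (rho (gm ω x)).det = (-3 * x.det) ^ 3 := by
  rw [rho_gm, Matrix.reindex_apply, Matrix.det_submatrix_equiv_self, Matrix.det_kronecker, Fintype.card_fin,
    Fintype.card_fin, det_Wm hω]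
  ring

/-- `X T = T ρ(X')` -/
def Im (T : GL (Fin 6) F) (X : M6) (X' : M3) : Prop := X * (T : M6) = (T : M6) * rho X'

theorem Im.exists (T : GL (Fin 6) F) (X : M6) : ∃ X', Im T X X' := by
  refine ⟨rho.symm (((T⁻¹ : GL (Fin 6) F) : M6) * X * (T : M6)), ?_⟩
  rw [Im, RingEquiv.apply_symm_apply, ← mul_assoc, ← mul_assoc, ← Units.val_mul, mul_inv_cancel, Units.val_one, one_mul]

theorem Im.mul {T : GL (Fin 6) F} {X Y : M6} {X' Y' : M3} (h : Im T X X') (h' : Im T Y Y') :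
    Im T (X * Y) (X' * Y') := by
  rw [Im, map_mul, mul_assoc, h', ← mul_assoc, h, mul_assoc]

theorem Im.one (T : GL (Fin 6) F) : Im T 1 1 := by rw [Im, map_one, one_mul, mul_one]

theorem Im.pow {T : GL (Fin 6) F} {X : M6} {X' : M3} (h : Im T X X') (n : ℕ) : Im T (X ^ n) (X' ^ n) := by
  induction n with
  | zero => rw [pow_zero, pow_zero]; exact Im.one T
  | succ n ih => rw [pow_succ, pow_succ]; exact ih.mul h

theorem Im.unique {T : GL (Fin 6) F} {X : M6} {X' Y' : M3} (h : Im T X X') (h' : Im T X Y') : X' = Y' := by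
  have h1 : (T : M6) * rho X' = (T : M6) * rho Y' := h.symm.trans h'
  have h2 := congrArg (fun Z => ((T⁻¹ : GL (Fin 6) F) : M6) * Z) h1
  simp only [← mul_assoc, ← Units.val_mul, inv_mul_cancel, Units.val_one, one_mul] at h2
  exact rho.injective h2

theorem Im.inj {T : GL (Fin 6) F} {X Y : M6} {X' : M3} (h : Im T X X') (h' : Im T Y X') : X = Y := by
  have h1 : X * (T : M6) = Y * (T : M6) := h.trans h'.symm
  have h2 := congrArg (fun Z => Z * ((T⁻¹ : GL (Fin 6) F) : M6)) h1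
  simp only [mul_assoc, ← Units.val_mul, mul_inv_cancel, Units.val_one, mul_one] at h2
  exact h2

theorem Im.exists' (T : GL (Fin 6) F) (X' : M3) : ∃ X, Im T X X' := by
  refine ⟨(T : M6) * rho X' * ((T⁻¹ : GL (Fin 6) F) : M6), ?_⟩
  rw [Im, mul_assoc, ← Units.val_mul, inv_mul_cancel, Units.val_one, mul_one]

theorem Im.det {T : GL (Fin 6) F} {X : M6} {X' : M3} (h : Im T X X') : X.det = (rho X').det := by
  have h1 := congrArg Matrix.det h
  rw [Matrix.det_mul, Matrix.det_mul, mul_comm] at h1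
  have h2 : (T : M6).det ≠ 0 := by
    rw [← Matrix.GeneralLinearGroup.val_det_apply]
    exact Units.ne_zero _
  exact mul_left_cancel₀ h2 h1

/-- the standard `x` and `δ` -/
def x0 (ω : F) : R2 := (ω - ω ^ 2)⁻¹ • !![0, -1; 1, 0]
def d0 (ω : F) : R2 := !![0, ω; ω ^ 2, 0]

theorem theta_sq {ω : F} (hω : ω ^ 2 + ω + 1 = 0) : (ω - ω ^ 2) * (ω - ω ^ 2) = -3 := by
  linear_combination (ω ^ 2 - 3 * ω + 3) * hω

theorem theta_ne {ω : F} (hω : ω ^ 2 + ω + 1 = 0) (h3 : (3 : F) ≠ 0) : ω - ω ^ 2 ≠ 0 := by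
  intro h
  apply h3
  linear_combination theta_sq hω - (ω - ω ^ 2) * h

theorem x0_sq {ω : F} (hω : ω ^ 2 + ω + 1 = 0) (h3 : (3 : F) ≠ 0) : (3 : F) • (x0 ω * x0 ω) = 1 := by
  have h1 := theta_ne hω h3
  have h2 : (3 : F) * ((ω - ω ^ 2)⁻¹ * (ω - ω ^ 2)⁻¹) = -1 := by
    rw [← mul_inv, theta_sq hω]
    field_simp
  have h3 : (!![0, -1; 1, 0] : R2) * !![0, -1; 1, 0] = -1 := by
    ext i j
    (revert i j; simp only [_root_.Fin.forall_fin_succ, _root_.Matrix.cons_mul, _root_.Nat.succ_eq_add_one, Nat.reduceAdd, _root_.Matrix.vecMul_cons, _root_.Matrix.head_cons, _root_.zero_smul, _root_.Matrix.tail_cons, _root_.neg_smul, _root_.one_smul, _root_.Matrix.neg_cons, _root_.neg_zero, _root_.Matrix.neg_empty, _root_.Matrix.empty_vecMul, _root_.add_zero, _root_.zero_add, _root_.Matrix.empty_mul, _root_.Equiv.symm_apply_apply, _root_.Matrix.of_apply, _root_.Matrix.cons_val', _root_.Matrix.cons_val_fin_one, _root_.Matrix.neg_apply, Fin.isValue,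 _root_.Matrix.cons_val_zero, _root_.Matrix.cons_val_succ, _root_.IsEmpty.forall_iff, _root_.and_true, _root_.Matrix.one_apply_eq, _root_.Fin.succ_zero_eq_one, _root_.ne_eq, _root_.zero_ne_one, _root_.not_false_eq_true, _root_.Matrix.one_apply_ne, _root_.and_self, _root_.Fin.succ_ne_zero, _root_.neg_inj, _root_.true_and])
  rw [x0, smul_mul_smul_comm, smul_smul, h2, h3]
  simp only [_root_.smul_neg, _root_.neg_smul, _root_.one_smul, _root_.neg_neg]

theorem d0_sq {ω : F} (hω : ω ^ 2 + ω + 1 = 0) : d0 ω * d0 ω = 1 := by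
  have hω3 := omega_cube hω
  ext i j
  (revert i j; simp only [d0, _root_.Fin.forall_fin_succ, _root_.Matrix.cons_mul, _root_.Nat.succ_eq_add_one, Nat.reduceAdd, _root_.Matrix.vecMul_cons, _root_.Matrix.head_cons, _root_.zero_smul, _root_.Matrix.tail_cons, _root_.Matrix.smul_cons, _root_.smul_eq_mul, _root_.MulZeroClass.mul_zero, _root_.Matrix.smul_empty, _root_.Matrix.empty_vecMul, _root_.add_zero, _root_.zero_add, _root_.Matrix.empty_mul, _root_.Equiv.symm_apply_apply, _root_.Matrix.of_apply, _root_.Matrix.cons_val', _root_.Matrix.cons_val_fin_one, Fin.isValue, _root_.Matrix.cons_val_zero, _root_.Matrix.cons_val_succ, _root_.IsEmpty.forall_iff, _root_.Matrix.one_apply_eq, _root_.Fin.succ_zero_eq_one, _root_.ne_eq, _root_.zero_ne_one, _root_.not_false_eq_true, _root_.Matrix.one_apply_ne, _root_.Fin.succ_ne_zero, _root_.and_true, _root_.true_and]) <;> (repeat' with_reducible apply And.intro)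
  · linear_combination hω3
  · linear_combination hω3

theorem x0_d0 {ω : F} (hω : ω ^ 2 + ω + 1 = 0) (h3 : (3 : F) ≠ 0) : x0 ω * d0 ω + d0 ω * x0 ω = 1 := by
  have h1 := theta_ne hω h3
  have h2 : (!![0, -1; 1, 0] : R2) * d0 ω + d0 ω * !![0, -1; 1, 0] = (ω - ω ^ 2) • 1 := by
    ext i j
    (revert i j; simp only [d0, _root_.Fin.forall_fin_succ, _root_.Matrix.cons_mul, _root_.Nat.succ_eq_add_one, Nat.reduceAdd, _root_.Matrix.vecMul_cons, _root_.Matrix.head_cons, _root_.zero_smul, _root_.Matrix.tail_cons, _root_.neg_smul, _root_.one_smul, _root_.Matrix.neg_cons, _root_.neg_zero, _root_.Matrix.neg_empty, _root_.Matrix.empty_vecMul, _root_.add_zero, _root_.zero_add, _root_.Matrix.empty_mul, _root_.Equiv.symm_apply_apply, _root_.Matrix.smul_cons, _root_.smul_eq_mul, _root_.mul_one, _root_.MulZeroClass.mul_zero, _root_.Matrix.smul_empty, _root_.mul_neg, _root_.Matrix.add_apply, _root_.Matrix.of_apply, _root_.Matrix.cons_val',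 _root_.Matrix.cons_val_fin_one, _root_.Matrix.smul_apply, Fin.isValue, _root_.Matrix.cons_val_zero, _root_.Matrix.cons_val_succ, _root_.IsEmpty.forall_iff, _root_.and_true, _root_.Matrix.one_apply_eq, _root_.Fin.succ_zero_eq_one, _root_.ne_eq, _root_.zero_ne_one, _root_.not_false_eq_true, _root_.Matrix.one_apply_ne, _root_.Fin.succ_ne_zero, _root_.true_and]) <;> (repeat' with_reducible apply And.intro) <;> ring
  rw [x0, smul_mul_assoc, mul_smul_comm, ← smul_add, h2, smul_smul, inv_mul_cancel₀ h1, one_smul]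

theorem d0_not_sc {ω : F} (hω : ω ^ 2 + ω + 1 = 0) : ¬ IsSc (d0 ω) := by
  rintro ⟨c, hc⟩
  have := congrFun (congrFun hc 0) 1
  simp [d0] at this
  exact omega_ne_zero hω this

theorem dg_mul (x y z x' y' z' : R2) : dg x y z * dg x' y' z' = dg (x * x') (y * y') (z * z') := by
  obtain ⟨X00, X01, X02, X10, X11, X12, X20, X21, X22⟩ := dg_entries x y z
  obtain ⟨Y00, Y01, Y02, Y10, Y11, Y12, Y20, Y21, Y22⟩ := dg_entries x' y' z'
  obtain ⟨Z00, Z01, Z02, Z10, Z11, Z12, Z20, Z21, Z22⟩ := dg_entries (x * x') (y * y') (z * z')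
  apply ext3 <;> simp only [mul3, X00, X01, X02, X10, X11, X12, X20, X21, X22, Y00, Y01, Y02, Y10, Y11, Y12, Y20, Y21,
    Y22, Z00, Z01, Z02, Z10, Z11, Z12, Z20, Z21, Z22, mul_zero, zero_mul, add_zero, zero_add]

theorem dg_one : dg (1 : R2) 1 1 = 1 := by apply ext3 <;> rfl

theorem dg_a3 (ω : F) (X : R2) : dg X X X * a3 ω = a3 ω * dg X X X := by
  obtain ⟨X00, X01, X02, X10, X11, X12, X20, X21, X22⟩ := dg_entries X X X
  ext1 i j
  rw [mul_a3, a3_mul]
  rcases fin3 i with rfl | rfl | rfl <;> rcases fin3 j with rfl | rfl | rfl <;>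
    simp only [X00, X01, X02, X10, X11, X12, X20, X21, X22, smul_zero]

theorem dg_b3 (X : R2) : dg X X X * b3 = b3 * dg X X X := by
  ext1 i j
  rw [mul_b3]
  have e2 := b3_mul (dg X X X) (i + 2) j
  rw [show i + 2 + 1 = i by rcases fin3 i with rfl | rfl | rfl <;> rfl] at e2
  rw [e2]
  rcases fin3 i with rfl | rfl | rfl <;> rcases fin3 j with rfl | rfl | rfl <;> rfl

theorem gm_dg {ω : F} (hω : ω ^ 2 + ω + 1 = 0) {x τ x' : R2} {κ : F} (h : x * τ = κ • (τ * x')) :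
    gm ω x * dg τ τ τ = dg τ τ τ * (κ • gm ω x') := by
  obtain ⟨X00, X01, X02, X10, X11, X12, X20, X21, X22⟩ := dg_entries τ τ τ
  obtain ⟨a00, a01, a02, a10, a11, a12, a20, a21, a22⟩ := gm_entries hω x
  obtain ⟨b00, b01, b02, b10, b11, b12, b20, b21, b22⟩ := gm_entries hω x'
  have e1 : ∀ c : F, (κ * c) • (τ * x') = (c * κ) • (τ * x') := fun c => by rw [mul_comm]
  apply ext3 <;> simp only [mul3, Matrix.smul_apply, a00, a01, a02, a10, a11, a12, a20, a21, a22, b00, b01, b02, b10,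
    b11, b12, b20, b21, b22, X00, X01, X02, X10, X11, X12, X20, X21, X22, h, mul_zero, zero_mul, add_zero,
    zero_add, mul_smul_comm, smul_mul_assoc, smul_smul, smul_zero, e1]

/-- `diag(τ, τ, τ)` as an element of `GL₆` -/
theorem exists_dg (τ : GL (Fin 2) F) : ∃ D : GL (Fin 6) F, (D : M6) = rho (dg (τ : R2) τ τ) := by
  have h1 : (τ : R2) * ((τ⁻¹ : GL (Fin 2) F) : R2) = 1 := by rw [← Units.val_mul, mul_inv_cancel, Units.val_one]
  have h2 : ((τ⁻¹ : GL (Fin 2) F) : R2) * (τ : R2) = 1 := by rw [← Units.val_mul, inv_mul_cancel, Units.val_one]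
  refine ⟨⟨rho (dg (τ : R2) τ τ), rho (dg ((τ⁻¹ : GL (Fin 2) F) : R2) (τ⁻¹ : GL (Fin 2) F) (τ⁻¹ : GL (Fin 2) F)), ?_, ?_⟩, rfl⟩
  · rw [← map_mul, dg_mul, h1, dg_one, map_one]
  · rw [← map_mul, dg_mul, h2, dg_one, map_one]

theorem dg_comm {T : GL (Fin 6) F} {X : M6} {X' : M3} {τ : R2} {D : GL (Fin 6) F} (h : Im T X X')
    (hD : (D : M6) = rho (dg τ τ τ)) {Y' : M3} (h' : X' * dg τ τ τ = dg τ τ τ * Y') : Im (T * D) X Y' := by
  rw [Im, Units.val_mul, ← mul_assoc, h, mul_assoc, hD, ← map_mul, h', map_mul, mul_assoc]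

theorem Im.eq_of {T : GL (Fin 6) F} {X Y : M6} {X' Y' : M3} (h : Im T X X') (h' : Im T Y Y') (e : X = Y) :
    X' = Y' := by
  subst e
  exact h.unique h'

theorem Im.smul {T : GL (Fin 6) F} {X : M6} {X' : M3} (h : Im T X X') (c : F) : Im T (c • X) (c • X') := by
  rw [Im, rho_smul, Matrix.smul_mul, Matrix.mul_smul, h]

/-- the relations as matrices -/
theorem Rel.mat {e ω : Fˣ} {a b k g : GL (Fin 6) F} (h : Rel e ω a b k g) :
    (g : M6) * a = b * g ∧ (a : M6) * (g * b) = g ∧ (k : M6) * k = (e : F) • 1 ∧ ((g : M6) * g) * (g * g) = (e : F) • 1 ∧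
      (k : M6) * a = a * k ∧ ((g : M6) * g) * k = (e : F) • (k * (g * g)) ∧ (k : M6) * b * k * b = b * (b * k) ∧
      ∃ l : F, ((k : M6) * (g * k * (g * (g * g)))) ^ 3 = l • (g * g) := by
  refine ⟨congrArg (fun g : GL (Fin 6) F => (g : M6)) h.ga, ?_, ?_, ?_,
    congrArg (fun g : GL (Fin 6) F => (g : M6)) h.ka, ?_, ?_, ?_⟩
  · have h1 : a * (g * b) = g := by rw [h.gb, mul_inv_cancel_left]
    exact congrArg (fun g : GL (Fin 6) F => (g : M6)) h1
  · have h1 : k * k = sc e := by rw [← sq, h.k2]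
    have h2 := congrArg (fun g : GL (Fin 6) F => (g : M6)) h1
    simp only [Units.val_mul, coe_sc] at h2
    exact h2
  · have h1 : (g * g) * (g * g) = sc e := by rw [← sq, ← sq, ← pow_mul, h.g4]
    have h2 := congrArg (fun g : GL (Fin 6) F => (g : M6)) h1
    simp only [Units.val_mul, coe_sc] at h2
    exact h2
  · have h1 : (g * g) * k = sc e * (k * (g * g)) := by rw [← sq, h.sk]
    have h2 := congrArg (fun g : GL (Fin 6) F => (g : M6)) h1
    simp only [Units.val_mul, coe_sc, Matrix.smul_mul, Matrix.one_mul] at h2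
    exact h2
  · have h1 : k * b * k * b = b * (b * k) := by
      have h2 := congrArg (fun z => z * b ^ 2) h.v4
      simp only [inv_mul_cancel_right] at h2
      calc k * b * k * b = k * (b * k * b⁻¹) * b ^ 2 := by group
        _ = b ^ 2 * k := h2
        _ = b * (b * k) := by rw [sq, mul_assoc]
    exact congrArg (fun g : GL (Fin 6) F => (g : M6)) h1
  · obtain ⟨l, hl⟩ := h.r6
    have h1 : (k * (g * k * (g * (g * g)))) ^ 3 = sc (e ^ 3 * l) * (g * g) := by
      have h2 : g * (g * g) = sc e * g⁻¹ := by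
        rw [← h.g4, pow_succ, pow_succ, sq, mul_assoc g g g, mul_inv_cancel_right]
      rw [h2]
      have h3 : k * (g * k * (sc e * g⁻¹)) = sc e * (k * (g * k * g⁻¹)) := by
        rw [← mul_assoc (g * k), ← sc_comm e (g * k), mul_assoc (sc e), ← mul_assoc k (sc e), ← sc_comm e k]
        simp only [mul_assoc]
      rw [h3, (sc_commute _ _).mul_pow, hl, ← sc_pow, sc_mul, sq g, mul_assoc]
    refine ⟨((e ^ 3 * l : Fˣ) : F), ?_⟩
    have h2 := congrArg (fun g : GL (Fin 6) F => (g : M6)) h1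
    simp only [Units.val_pow_eq_pow_val, Units.val_mul, coe_sc, Matrix.smul_mul, Matrix.one_mul] at h2
    simp only [Units.val_pow_eq_pow_val, Units.val_mul]
    exact h2

theorem first_form {ω : Fˣ} {a b k g : GL (Fin 6) F} (h : Rel 1 ω a b k g) (hω : (ω : F) ^ 2 + ω + 1 = 0)
    (h3 : (3 : F) ≠ 0) (hdet : (g : M6).det = 1)
    (hcent : ∀ X : M6, X * a = a * X → X * b = b * X → X * k = k * X → X * g = g * X → ∃ c : F, X = c • 1) :
    ∃ (T : GL (Fin 6) F) (x δ : R2) (κ : F), Im T a (a3 (ω : F)) ∧ Im T b b3 ∧ Im T k (dg 1 δ δ) ∧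
      Im T g (gm (ω : F) x) ∧ (3 : F) • (x * x) = 1 ∧ δ * δ = 1 ∧ ¬ IsSc δ ∧ x * δ + δ * x = κ • 1 ∧ κ ^ 2 = 1 := by
  obtain ⟨T, hTa, hTb⟩ := exists_block (A := (a : M6)) (B := (b : M6)) (ω := (ω : F))
    (by rw [← Units.val_pow_eq_pow_val, h.a3]; rfl) (by rw [← Units.val_pow_eq_pow_val, h.b3]; rfl)
    (by
      have h1 := congrArg (fun g : GL (Fin 6) F => (g : M6)) h.ab
      simp only [Units.val_mul, coe_sc, Matrix.smul_mul, Matrix.one_mul] at h1
      exact h1) hω h3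
  have hA : Im T a (a3 (ω : F)) := hTa
  have hB : Im T b b3 := hTb
  obtain ⟨k', hK⟩ := Im.exists T k
  obtain ⟨g', hG⟩ := Im.exists T g
  obtain ⟨ga', gb', k2', g4', ka', sk', v4', l, r6'⟩ := h.mat
  rw [Units.val_one, one_smul] at k2' g4' sk'
  have e1 := (hK.mul hA).eq_of (hA.mul hK) ka'
  have e2 := (hG.mul hA).eq_of (hB.mul hG) ga'
  have e3 := (hA.mul (hG.mul hB)).eq_of hG gb'
  have e4 := (hK.mul hK).eq_of (Im.one T) k2'
  have e5 := ((hG.mul hG).mul (hG.mul hG)).eq_of (Im.one T) g4'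
  have e6 := ((hG.mul hG).mul hK).eq_of (hK.mul (hG.mul hG)) sk'
  have e7 := (((hK.mul hB).mul hK).mul hB).eq_of (hB.mul (hB.mul hK)) v4'
  have e8 := ((hK.mul ((hG.mul hK).mul (hG.mul (hG.mul hG)))).pow 3).eq_of ((hG.mul hG).smul l) r6'
  obtain ⟨x, δ, κ, hk, hg, hx, hδ, hδsc, hxδ, hκ⟩ := stage_three hω h3 e1 e2 e3 e4 e5 e6 e7 e8
    (by
      intro x hx
      rw [← det_rho_gm hω, ← hx, ← hG.det, hdet])
    (by
      intro X h1 h2
      obtain ⟨Y, hY⟩ := Im.exists' T (dg X X X)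
      obtain ⟨c, hc⟩ := hcent Y
        ((hY.mul hA).inj (by rw [dg_a3]; exact hA.mul hY))
        ((hY.mul hB).inj (by rw [dg_b3]; exact hB.mul hY))
        ((hY.mul hK).inj (by rw [h1]; exact hK.mul hY)) ((hY.mul hG).inj (by rw [h2]; exact hG.mul hY))
      refine ⟨c, ?_⟩
      have h4 : Im T Y (c • (1 : M3)) := by
        rw [Im, hc, rho_smul, map_one, Matrix.smul_mul, Matrix.mul_smul, Matrix.one_mul, Matrix.mul_one]
      have h5 := congrFun (congrFun (hY.unique h4) 0) 0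
      exact h5)
  rw [hk] at hK
  rw [hg] at hG
  exact ⟨T, x, δ, κ, hA, hB, hK, hG, hx, hδ, hδsc, hxδ, hκ⟩

theorem pair_conj {S S₀ : GL (Fin 2) F} {y y₀ N : R2} (h1 : y * (S : R2) = S * N) (h2 : y₀ * (S₀ : R2) = S₀ * N) :
    y * ((S * S₀⁻¹ : GL (Fin 2) F) : R2) = ((S * S₀⁻¹ : GL (Fin 2) F) : R2) * y₀ := by
  have h4 : y₀ = S₀ * N * ((S₀⁻¹ : GL (Fin 2) F) : R2) := by
    rw [← h2, mul_assoc, ← Units.val_mul, mul_inv_cancel, Units.val_one, mul_one]
  rw [h4, Units.val_mul, ← mul_assoc, h1]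
  have h5 : ((S₀⁻¹ : GL (Fin 2) F) : R2) * (S₀ : R2) = 1 := by
    rw [← Units.val_mul, inv_mul_cancel, Units.val_one]
  calc _ = (S : R2) * 1 * N * ((S₀⁻¹ : GL (Fin 2) F) : R2) := by rw [mul_one]
    _ = _ := by rw [← h5]; simp only [mul_assoc]

/-- **Normal form.** -/
theorem normal_form {ω : Fˣ} {a b k g : GL (Fin 6) F} (h : Rel 1 ω a b k g) (hω : (ω : F) ^ 2 + ω + 1 = 0)
    (h3 : (3 : F) ≠ 0) (hdet : (g : M6).det = 1)
    (hcent : ∀ X : M6, X * a = a * X → X * b = b * X → X * k = k * X → X * g = g * X → ∃ c : F, X = c • 1) :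
    ∃ (T : GL (Fin 6) F) (ε : F), ε ^ 2 = 1 ∧ Im T a (a3 (ω : F)) ∧ Im T b b3 ∧ Im T k (dg 1 (d0 (ω : F)) (d0 (ω : F))) ∧
      Im T g (ε • gm (ω : F) (x0 (ω : F))) := by
  obtain ⟨T, x, δ, κ, hA, hB, hK, hG, hx, hδ, hδsc, hxδ, hκ⟩ := first_form h hω h3 hdet hcent
  obtain ⟨S, hS1, hS2⟩ := sim_pair (x := κ • x) (δ := δ) h3
    (by rw [smul_mul_smul_comm, ← sq, hκ, one_smul, hx]) hδ hδsc
    (by rw [smul_mul_assoc, mul_smul_comm, ← smul_add, hxδ, smul_smul, ← sq, hκ, one_smul])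
  obtain ⟨S₀, hS1', hS2'⟩ := sim_pair h3 (x0_sq hω h3) (d0_sq hω) (d0_not_sc hω) (x0_d0 hω h3)
  obtain ⟨D, hD⟩ := exists_dg (S * S₀⁻¹)
  have hx' := pair_conj hS1 hS1'
  have hδ' := pair_conj hS2 hS2'
  generalize ((S * S₀⁻¹ : GL (Fin 2) F) : R2) = τ at hx' hδ' hD
  refine ⟨T * D, κ, hκ, dg_comm hA hD (dg_a3 _ _).symm, dg_comm hB hD (dg_b3 _).symm, dg_comm hK hD ?_,
    dg_comm hG hD (gm_dg hω ?_)⟩
  · rw [dg_mul, dg_mul, hδ', one_mul, mul_one]
  · rw [← hx', smul_mul_assoc, smul_smul, ← sq, hκ, one_smul]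

end Cfsg.Agent.H890.A7
end

-- part: H890/A7/SixRel
section
/-!
# `6.A₇` : normal form in dimension six (helper890)

`k = diag(D₀, D₁, D₂)`, `D_i` the quaternion matrices, `g = DFT ⊗ x`, `x = u (1 - t)`, `t = α (D₁ - D₂)`, `2 α² = 1`,
`6 u² = -1`.
-/

set_option autoImplicit false
set_option linter.unusedSectionVars false

namespace Cfsg.Agent.H890.A7

open Matrix Cfsg.Agent.H913.N6

section gen

variable {F : Type*} [Field F] {R : Type*} [Ring R] [Algebra F R] {ω : F}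

/-- First consequences, `e = -1`. -/
theorem stage_one_neg (hω : ω ^ 2 + ω + 1 = 0) (h3 : (3 : F) ≠ 0) {k g : Matrix (Fin 3) (Fin 3) R}
    (ka : k * a3 ω = a3 ω * k) (ga : g * a3 ω = b3 * g) (gb : a3 ω * (g * b3) = g) (k2 : k * k = -1)
    (g4 : (g * g) * (g * g) = -1) (sk : (g * g) * k = -(k * (g * g))) (v4 : k * b3 * k * b3 = b3 * (b3 * k)) :
    ∃ x d₀ d₁ d₂ t : R, k = dg d₀ d₁ d₂ ∧ g = gm ω x ∧ t = (3 : F) • (x * x) ∧ g * g = rm t ∧ t * t = -1 ∧
      t * d₀ = -(d₀ * t) ∧ t * d₂ = -(d₁ * t) ∧ t * d₁ = -(d₂ * t) ∧ d₀ * d₀ = -1 ∧ d₁ * d₁ = -1 ∧ d₂ * d₂ = -1 ∧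
      d₂ * d₁ = d₀ ∧ d₀ * d₂ = d₁ ∧ d₁ * d₀ = d₂ := by
  obtain ⟨x, hx⟩ : ∃ x, x = g 0 0 := ⟨_, rfl⟩
  obtain ⟨d₀, hd₀⟩ : ∃ x, x = k 0 0 := ⟨_, rfl⟩
  obtain ⟨d₁, hd₁⟩ : ∃ x, x = k 1 1 := ⟨_, rfl⟩
  obtain ⟨d₂, hd₂⟩ : ∃ x, x = k 2 2 := ⟨_, rfl⟩
  have hk := diag_of_comm hω h3 ka
  have hg := gm_of hω ga gb
  rw [← hd₀, ← hd₁, ← hd₂] at hk
  rw [← hx] at hg
  have hgg : g * g = rm ((3 : F) • (x * x)) := by
    rw [hg, gm_mul_gm hω]
  obtain ⟨t, ht⟩ : ∃ t, t = (3 : F) • (x * x) := ⟨_, rfl⟩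
  rw [← ht] at hgg
  obtain ⟨r00, r01, r02, r10, r11, r12, r20, r21, r22⟩ := rm_entries t
  obtain ⟨k00, k01, k02, k10, k11, k12, k20, k21, k22⟩ := dg_entries d₀ d₁ d₂
  rw [hgg, hk] at sk
  rw [hgg] at g4
  rw [hk] at k2 v4
  have neg1 : ∀ i : Fin 3, (-1 : Matrix (Fin 3) (Fin 3) R) i i = -1 := fun i => by
    rw [Matrix.neg_apply, Matrix.one_apply_eq]
  have s1 := congrFun (congrFun g4 0) 0
  rw [mul3, r00, r01, r02, zero_mul, zero_mul, add_zero, add_zero, neg1] at s1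
  have s2 := congrFun (congrFun sk 0) 0
  rw [Matrix.neg_apply, mul3, mul3, r00, r01, r02, k00, k01, k02, r10, r20] at s2
  simp only [zero_mul, mul_zero, add_zero] at s2
  have s3 := congrFun (congrFun sk 1) 2
  rw [Matrix.neg_apply, mul3, mul3, r10, r11, r12, k02, k12, k22, k10, k11, r02, r22] at s3
  simp only [mul_zero, add_zero, zero_add] at s3
  have s4 := congrFun (congrFun sk 2) 1
  rw [Matrix.neg_apply, mul3, mul3, r20, r21, r22, k01, k11, k21, k20, k22, r01, r11] at s4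
  simp only [mul_zero, add_zero, zero_add] at s4
  have q0 := congrFun (congrFun k2 0) 0
  rw [mul3, k00, k01, k02, neg1] at q0
  simp only [zero_mul, add_zero] at q0
  have q1 := congrFun (congrFun k2 1) 1
  rw [mul3, k10, k11, k12, neg1] at q1
  simp only [zero_mul, add_zero, zero_add] at q1
  have q2 := congrFun (congrFun k2 2) 2
  rw [mul3, k20, k21, k22, neg1] at q2
  simp only [zero_mul, add_zero, zero_add] at q2
  have key : ∀ j : Fin 3, dg d₀ d₁ d₂ (j + 2) (j + 2) * dg d₀ d₁ d₂ (j + 1) (j + 1) = dg d₀ d₁ d₂ j j := by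
    intro j
    have h1 := congrFun (congrFun v4 (j + 1 + 1)) j
    rw [b3_mul, b3_mul, mul_b3] at h1
    rw [← h1]
    have h2 : ∀ i l : Fin 3, (dg d₀ d₁ d₂ * b3 * dg d₀ d₁ d₂ : Matrix (Fin 3) (Fin 3) R) i l =
        dg d₀ d₁ d₂ i i * (if i = l + 1 then 1 else 0) * dg d₀ d₁ d₂ l l := by
      intro i l
      rw [Matrix.mul_apply, Finset.sum_eq_single l]
      · rw [Matrix.mul_apply, Finset.sum_eq_single i]
        · rfl
        · intro b _ h
          rw [show dg d₀ d₁ d₂ i b = 0 from if_neg (Ne.symm h), zero_mul]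
        · intro h; exact absurd (Finset.mem_univ _) h
      · intro b _ h
        rw [show dg d₀ d₁ d₂ b l = 0 from if_neg h, mul_zero]
      · intro h; exact absurd (Finset.mem_univ _) h
    rw [h2, if_pos rfl, mul_one]
    rcases fin3 j with rfl | rfl | rfl <;> rfl
  refine ⟨x, d₀, d₁, d₂, t, hk, hg, ht, hgg, s1, s2, s3, s4, q0, q1, q2, key 0, ?_, ?_⟩
  · exact key 1
  · exact key 2

end gen

section two

variable {F : Type*} [Field F]

local notation "R2" => Matrix (Fin 2) (Fin 2) F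

/-- what commutes with a non-scalar matrix `t` is `u + v t` -/
theorem exists_uv {t x : R2} (ht : ¬ IsSc t) (h : x * t = t * x) : ∃ u v : F, x = u • 1 + v • t := by
  have e00 := congrFun (congrFun h 0) 0
  have e01 := congrFun (congrFun h 0) 1
  have e10 := congrFun (congrFun h 1) 0
  have e11 := congrFun (congrFun h 1) 1
  simp only [Matrix.mul_apply, Fin.sum_univ_two] at e00 e01 e10 e11
  by_cases h01 : t 0 1 = 0
  · by_cases h10 : t 1 0 = 0
    · have hd : t 0 0 - t 1 1 ≠ 0 := by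
        intro hd
        apply ht
        refine ⟨t 0 0, ?_⟩
        ext i j
        (revert i j; simp only [h01, h10, _root_.Fin.forall_fin_succ, Fin.isValue, _root_.Matrix.smul_apply, _root_.smul_eq_mul, _root_.Fin.succ_zero_eq_one, _root_.IsEmpty.forall_iff, _root_.Matrix.one_apply_eq, _root_.mul_one, Nat.reduceAdd, _root_.ne_eq, _root_.zero_ne_one, _root_.not_false_eq_true, _root_.Matrix.one_apply_ne, _root_.MulZeroClass.mul_zero, _root_.Fin.succ_ne_zero, _root_.and_true, _root_.true_and]) <;> (repeat' with_reducible apply And.intro)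
        linear_combination -hd
      refine ⟨x 0 0 - (x 0 0 - x 1 1) / (t 0 0 - t 1 1) * t 0 0, (x 0 0 - x 1 1) / (t 0 0 - t 1 1), ?_⟩
      rw [h01] at e01
      rw [h10] at e10
      have hx01 : x 0 1 = 0 := by
        have : x 0 1 * (t 0 0 - t 1 1) = 0 := by linear_combination -e01
        exact (mul_eq_zero.1 this).resolve_right hd
      have hx10 : x 1 0 = 0 := by
        have : x 1 0 * (t 0 0 - t 1 1) = 0 := by linear_combination e10
        exact (mul_eq_zero.1 this).resolve_right hd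
      ext i j
      (revert i j; simp only [h01, h10, hx01, hx10, _root_.Fin.forall_fin_succ, Fin.isValue, _root_.Matrix.add_apply, _root_.Matrix.smul_apply, _root_.smul_eq_mul, _root_.Fin.succ_zero_eq_one, _root_.IsEmpty.forall_iff, _root_.Matrix.one_apply_eq, _root_.mul_one, _root_.sub_add_cancel, Nat.reduceAdd, _root_.ne_eq, _root_.zero_ne_one, _root_.not_false_eq_true, _root_.Matrix.one_apply_ne, _root_.MulZeroClass.mul_zero, _root_.add_zero, _root_.Fin.succ_ne_zero, _root_.zero_add, _root_.and_true, _root_.true_and]) <;> (repeat' with_reducible apply And.intro)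
      field_simp
      ring
    · refine ⟨x 0 0 - x 1 0 / t 1 0 * t 0 0, x 1 0 / t 1 0, ?_⟩
      ext i j
      (revert i j; simp only [_root_.Fin.forall_fin_succ, Fin.isValue, _root_.Matrix.add_apply, _root_.Matrix.smul_apply, _root_.smul_eq_mul, _root_.Fin.succ_zero_eq_one, _root_.IsEmpty.forall_iff, _root_.Matrix.one_apply_eq, _root_.mul_one, _root_.sub_add_cancel, Nat.reduceAdd, _root_.ne_eq, _root_.zero_ne_one, _root_.not_false_eq_true, _root_.Matrix.one_apply_ne, _root_.MulZeroClass.mul_zero, _root_.zero_add, _root_.Fin.succ_ne_zero, _root_.and_true, _root_.true_and]) <;> (repeat' with_reducible apply And.intro)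
      · field_simp
        linear_combination e00
      · field_simp
      · field_simp
        linear_combination e10
  · refine ⟨x 0 0 - x 0 1 / t 0 1 * t 0 0, x 0 1 / t 0 1, ?_⟩
    ext i j
    (revert i j; simp only [_root_.Fin.forall_fin_succ, Fin.isValue, _root_.Matrix.add_apply, _root_.Matrix.smul_apply, _root_.smul_eq_mul, _root_.Fin.succ_zero_eq_one, _root_.IsEmpty.forall_iff, _root_.Matrix.one_apply_eq, _root_.mul_one, _root_.sub_add_cancel, Nat.reduceAdd, _root_.ne_eq, _root_.zero_ne_one, _root_.not_false_eq_true, _root_.Matrix.one_apply_ne, _root_.MulZeroClass.mul_zero, _root_.zero_add, _root_.Fin.succ_ne_zero, _root_.and_true, _root_.true_and]) <;> (repeat' with_reducible apply And.intro)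
    · field_simp
    · field_simp
      linear_combination -e00
    · field_simp
      linear_combination -e01

/-- The multiplicity space of `6.A₇`. -/
theorem stage_neg {d₀ d₁ d₂ t x : R2} (h2 : (2 : F) ≠ 0) (h3 : (3 : F) ≠ 0) (ht : t = (3 : F) • (x * x))
    (htt : t * t = -1) (ht0 : t * d₀ = -(d₀ * t)) (ht2 : t * d₂ = -(d₁ * t))
    (h00 : d₀ * d₀ = -1) (h11 : d₁ * d₁ = -1) (h22 : d₂ * d₂ = -1) (h21 : d₂ * d₁ = d₀) (h02 : d₀ * d₂ = d₁)
    (h10 : d₁ * d₀ = d₂) (hdet : (-3 * x.det) ^ 3 = 1) :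
    ∃ α u : F, 2 * α ^ 2 = 1 ∧ 6 * u ^ 2 = -1 ∧ t = α • (d₁ - d₂) ∧ x = u • (1 - t) := by
  have hdsc : ¬ IsSc d₀ := by
    intro h
    have h4 := h.comm t
    rw [ht0] at h4
    have h5 : (2 : F) • (d₀ * t) = 0 := by
      rw [two_smul]
      nth_rewrite 1 [h4]
      exact neg_add_cancel _
    have h6 := (smul_eq_zero.1 h5).resolve_left h2
    have h7 : (d₀ * t) * t = 0 := by rw [h6, zero_mul]
    rw [mul_assoc, htt, mul_neg, mul_one] at h7
    have h8 := neg_eq_zero.1 h7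
    rw [h8, zero_mul] at h00
    have := congrFun (congrFun h00 0) 0
    simp at this
  have h01 : d₀ * d₁ = -d₂ := by
    rw [← h02, ← mul_assoc, h00, neg_mul, one_mul]
  have h20 : d₂ * d₀ = -d₁ := by
    have : d₂ * d₀ = d₂ * (d₂ * d₁) := by rw [h21]
    rw [this, ← mul_assoc, h22, neg_mul, one_mul]
  have h12 : d₁ * d₂ = -d₀ := by
    have : d₁ * d₂ = d₁ * (d₁ * d₀) := by rw [h10]
    rw [this, ← mul_assoc, h11, neg_mul, one_mul]
  -- `t (d₁ - d₂)` is a scalar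
  obtain ⟨c, hc⟩ : ∃ c : F, t * (d₁ - d₂) = c • 1 := by
    have e0 : t * (d₁ - d₂) * d₀ = d₀ * (t * (d₁ - d₂)) := by
      have e1 : (d₁ - d₂) * d₀ = -(d₀ * (d₁ - d₂)) := by
        rw [sub_mul, mul_sub, h10, h20, h01, h02]
        abel
      rw [mul_assoc, e1, mul_neg, ← mul_assoc, ht0, neg_mul, neg_neg, mul_assoc]
    obtain ⟨p, q, hpq⟩ := exists_uv hdsc e0
    have e2 : t * (d₁ - d₂) * d₁ = d₁ * (t * (d₁ - d₂)) := by
      have e3 : t * (d₁ - d₂) * d₁ = -(t * (1 + d₀)) := by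
        rw [mul_assoc, sub_mul, h11, h21, ← mul_neg]
        congr 1
        abel
      have e4 : d₁ * (t * (d₁ - d₂)) = -(t * (1 + d₀)) := by
        have e5 : d₁ * t = -(t * d₂) := by rw [ht2, neg_neg]
        rw [← mul_assoc, e5, neg_mul, mul_assoc, mul_sub, h21, h22]
        congr 2
        abel
      rw [e3, e4]
    rw [hpq, add_mul, mul_add, smul_mul_assoc, mul_smul_comm, smul_mul_assoc, mul_smul_comm, one_mul, mul_one, h01, h10] at e2
    have e6 : (2 * q) • d₂ = 0 := by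
      have : (2 * q) • d₂ = (p • d₁ + q • d₂) - (p • d₁ + q • -d₂) := by module
      rw [this, e2, sub_self]
    have e7 : q = 0 := by
      rcases smul_eq_zero.1 e6 with h | h
      · exact (mul_eq_zero.1 h).resolve_left h2
      · exfalso
        rw [h, zero_mul] at h22
        have := congrFun (congrFun h22 0) 0
        simp at this
    exact ⟨p, by rw [hpq, e7, zero_smul, add_zero]⟩
  have hD : (d₁ - d₂) * (d₁ - d₂) = (-2 : F) • 1 := by
    have : (d₁ - d₂) * (d₁ - d₂) = d₁ * d₁ - d₁ * d₂ - d₂ * d₁ + d₂ * d₂ := by noncomm_ring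
    rw [this, h11, h22, h12, h21]
    module
  have ht' : t = (-c / 2) • (d₁ - d₂) := by
    have e1 : t * (d₁ - d₂) * (d₁ - d₂) = c • (d₁ - d₂) := by rw [hc, smul_mul_assoc, one_mul]
    rw [mul_assoc, hD, mul_smul_comm, mul_one] at e1
    have e2 : t = (-2 : F)⁻¹ • ((-2 : F) • t) := by
      rw [smul_smul, inv_mul_cancel₀ (neg_ne_zero.2 h2), one_smul]
    rw [e2, e1, smul_smul]
    congr 1
    field_simp
  obtain ⟨α, hα⟩ : ∃ α : F, α = -c / 2 := ⟨_, rfl⟩
  rw [← hα] at ht'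
  have hα2 : 2 * α ^ 2 = 1 := by
    have e1 : t * t = (α * α * -2) • 1 := by
      rw [ht', smul_mul_smul_comm, hD, smul_smul]
    rw [htt] at e1
    have := congrFun (congrFun e1 0) 0
    simp at this
    linear_combination -this
  have htsc : ¬ IsSc t := by
    intro h
    have h4 := h.comm d₀
    rw [ht0] at h4
    have h5 : (2 : F) • (d₀ * t) = 0 := by
      rw [two_smul]
      nth_rewrite 1 [← h4]
      exact neg_add_cancel _
    have h6 := (smul_eq_zero.1 h5).resolve_left h2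
    have h7 : (d₀ * t) * t = 0 := by rw [h6, zero_mul]
    rw [mul_assoc, htt, mul_neg, mul_one] at h7
    exact hdsc ⟨0, by rw [neg_eq_zero.1 h7, zero_smul]⟩
  obtain ⟨u, v, hx⟩ := exists_uv htsc (show x * t = t * x by
    rw [ht, mul_smul_comm, smul_mul_assoc, mul_assoc])
  have hxx : x * x = (u * u - v * v) • 1 + (2 * u * v) • t := by
    rw [hx]
    have : (u • 1 + v • t) * (u • 1 + v • t) = (u * u) • (1 : R2) + (2 * u * v) • t + (v * v) • (t * t) := by
      simp only [add_mul, mul_add, smul_mul_assoc, mul_smul_comm, mul_one, one_mul]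
      module
    rw [this, htt]
    module
  have h4 : (6 * u * v - 1) • t + (3 * (u * u - v * v)) • (1 : R2) = 0 := by
    have : (6 * u * v - 1) • t + (3 * (u * u - v * v)) • (1 : R2) =
      (3 : F) • ((u * u - v * v) • 1 + (2 * u * v) • t) - t := by module
    rw [this, ← hxx, ← ht, sub_self]
  obtain ⟨h5, h6⟩ := coeff_zero htsc h4
  have h7 : u * u = v * v := sub_eq_zero.1 ((mul_eq_zero.1 h6).resolve_left h3)
  have htr : t.trace = 0 ∧ t.det = 1 := by
    have e1 := ch2 t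
    rw [htt] at e1
    have e2 : t.trace • t + (1 - t.det) • (1 : R2) = 0 := by
      have : t.trace • t + (1 - t.det) • (1 : R2) = (t.trace • t - t.det • 1) - (-1) := by module
      rw [this, ← e1, sub_self]
    obtain ⟨e3, e4⟩ := coeff_zero htsc e2
    exact ⟨e3, by linear_combination -e4⟩
  have hxdet : x.det = u * u + v * v := by
    have e1 : (u • (1 : R2) + v • t).det = u * u + u * v * t.trace + v * v * t.det := by
      rw [Matrix.det_fin_two, Matrix.det_fin_two, Matrix.trace_fin_two]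
      simp only [_root_.Fin.isValue, _root_.Matrix.add_apply, _root_.Matrix.smul_apply, _root_.Matrix.one_apply_eq, _root_.smul_eq_mul, _root_.mul_one, _root_.ne_eq, _root_.zero_ne_one, _root_.not_false_eq_true, _root_.Matrix.one_apply_ne, _root_.MulZeroClass.mul_zero, _root_.zero_add, _root_.one_ne_zero]
      ring
    rw [hx, e1, htr.1, htr.2]
    ring
  rw [hxdet, ← h7] at hdet
  have h8 : v = -u ∧ 6 * u ^ 2 = -1 := by
    have h9 : (v - u) * (v + u) = 0 := by linear_combination -h7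
    rcases mul_eq_zero.1 h9 with h | h
    · exfalso
      have e1 : v = u := sub_eq_zero.1 h
      rw [e1] at h5
      have e2 : -3 * (u * u + u * u) = -1 := by linear_combination -h5
      rw [e2] at hdet
      apply h2
      linear_combination -hdet
    · have e1 : v = -u := eq_neg_of_add_eq_zero_left h
      refine ⟨e1, ?_⟩
      rw [e1] at h5
      linear_combination -h5
  refine ⟨α, u, hα2, h8.2, ht', ?_⟩
  rw [hx, h8.1]
  module

/-- the quaternion matrices -/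
def Q0 : R2 := !![0, -1; 1, 0]
def Q1 (A B : F) : R2 := !![A, B; B, -A]
def Q2 (A B : F) : R2 := !![B, -A; -A, -B]

theorem Q10 (A B : F) : Q1 A B * Q0 = Q2 A B := by
  ext i j
  (revert i j; simp [Q0, Q1, Q2, _root_.Fin.forall_fin_succ])

/-- Two anticommuting square roots of `-1`. -/
theorem quat_pair {d₀ d₁ : R2} (h2 : (2 : F) ≠ 0) {A B : F} (hAB : A ^ 2 + B ^ 2 = -1) (h00 : d₀ * d₀ = -1)
    (h11 : d₁ * d₁ = -1) (h01 : d₀ * d₁ = -(d₁ * d₀)) : ∃ S : GL (Fin 2) F,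
    d₀ * (S : R2) = (S : R2) * Q0 ∧ d₁ * (S : R2) = (S : R2) * Q1 A B := by
  have hne : d₁ - B • d₀ + A • 1 ≠ 0 := by
    intro h
    have e1 : d₁ = B • d₀ - A • 1 := by
      have : d₁ = (d₁ - B • d₀ + A • 1) + (B • d₀ - A • 1) := by abel
      rw [this, h, zero_add]
    have e2 : d₀ * d₁ = d₁ * d₀ := by
      rw [e1, mul_sub, sub_mul, mul_smul_comm, smul_mul_assoc, mul_smul_comm, smul_mul_assoc, mul_one, one_mul]
    rw [h01] at e2
    have e3 : (2 : F) • (d₁ * d₀) = 0 := by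
      rw [two_smul]
      nth_rewrite 1 [← e2]
      exact neg_add_cancel _
    have e4 := (smul_eq_zero.1 e3).resolve_left h2
    have e5 : d₁ * d₀ * d₀ = 0 := by rw [e4, zero_mul]
    rw [mul_assoc, h00, mul_neg, mul_one, neg_eq_zero] at e5
    rw [e5, zero_mul] at h11
    have := congrFun (congrFun h11 0) 0
    simp at this
  obtain ⟨w, hw⟩ : ∃ w : Fin 2 → F, (d₁ - B • d₀ + A • 1) *ᵥ w ≠ 0 := by
    by_contra hcon
    push Not at hcon
    apply hne
    ext i j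
    have := congrFun (hcon (Pi.single j 1)) i
    rwa [Matrix.mulVec_single_one] at this
  obtain ⟨v, hv⟩ : ∃ v, v = (d₁ - B • d₀ + A • 1) *ᵥ w := ⟨_, rfl⟩
  rw [← hv] at hw
  have hEE : (d₁ - B • d₀) * (d₁ - B • d₀ + A • 1) = A • (d₁ - B • d₀ + A • 1) := by
    have e1 : (d₁ - B • d₀) * (d₁ - B • d₀) = (A * A) • 1 := by
      have : (d₁ - B • d₀) * (d₁ - B • d₀) = d₁ * d₁ - B • (d₁ * d₀ + d₀ * d₁) + (B * B) • (d₀ * d₀) := by
        simp only [sub_mul, mul_sub, smul_mul_assoc, mul_smul_comm]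
        module
      rw [this, h11, h00, h01, add_neg_cancel, smul_zero, sub_zero]
      have e2 : -1 - B * B = A * A := by linear_combination -hAB
      rw [← e2]
      module
    rw [mul_add, e1, mul_smul_comm, mul_one]
    module
  have hEv : (d₁ - B • d₀) *ᵥ v = A • v := by
    rw [hv, Matrix.mulVec_mulVec, hEE, Matrix.smul_mulVec]
  have h1v : d₁ *ᵥ v = A • v + B • (d₀ *ᵥ v) := by
    rw [Matrix.sub_mulVec, Matrix.smul_mulVec] at hEv
    rw [← hEv]
    abel
  have h00v : d₀ *ᵥ (d₀ *ᵥ v) = -v := by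
    rw [Matrix.mulVec_mulVec, h00, Matrix.neg_mulVec, Matrix.one_mulVec]
  have h10v : d₁ *ᵥ (d₀ *ᵥ v) = B • v - A • (d₀ *ᵥ v) := by
    have e1 : d₁ * d₀ = -(d₀ * d₁) := by rw [h01, neg_neg]
    rw [Matrix.mulVec_mulVec, e1, Matrix.neg_mulVec, ← Matrix.mulVec_mulVec, h1v, Matrix.mulVec_add, Matrix.mulVec_smul,
      Matrix.mulVec_smul, h00v]
    module
  let S₀ : R2 := Matrix.of fun i j => if j = 0 then v i else (d₀ *ᵥ v) i
  have c0 : ∀ i, S₀ i 0 = v i := fun i => rfl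
  have c1 : ∀ i, S₀ i 1 = (d₀ *ᵥ v) i := fun i => rfl
  have hdet : S₀.det ≠ 0 := by
    intro hdet
    rw [← Matrix.exists_mulVec_eq_zero_iff] at hdet
    obtain ⟨y, hy, hy0⟩ := hdet
    have e1 : y 0 • v + y 1 • (d₀ *ᵥ v) = 0 := by
      funext i
      have := congrFun hy0 i
      rw [Matrix.mulVec, dotProduct, Fin.sum_univ_two, c0, c1] at this
      rw [Pi.add_apply, Pi.smul_apply, Pi.smul_apply, smul_eq_mul, smul_eq_mul, mul_comm, mul_comm (y 1)]
      exact this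
    by_cases hy1 : y 1 = 0
    · rw [hy1, zero_smul, add_zero] at e1
      rcases smul_eq_zero.1 e1 with h2 | h2
      · apply hy
        funext i
        fin_cases i
        · exact h2
        · exact hy1
      · exact hw h2
    · obtain ⟨l, hl⟩ : ∃ l : F, d₀ *ᵥ v = l • v := by
        refine ⟨-((y 1)⁻¹ * y 0), ?_⟩
        have e2 : (y 1)⁻¹ • (y 0 • v + y 1 • (d₀ *ᵥ v)) = 0 := by rw [e1, smul_zero]
        rw [smul_add, smul_smul, smul_smul, inv_mul_cancel₀ hy1, one_smul] at e2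
        rw [neg_smul]
        exact eq_neg_of_add_eq_zero_right e2
      rw [hl, Matrix.mulVec_smul, hl, smul_smul] at h00v
      rw [hl, Matrix.mulVec_smul, h1v, hl] at h10v
      have e3 : (l * l + 1) • v = 0 := by
        rw [add_smul, h00v, one_smul, neg_add_cancel]
      have e4 : (2 * l * A + B * (l * l - 1)) • v = 0 := by
        have : (2 * l * A + B * (l * l - 1)) • v = l • (A • v + B • l • v) - (B • v - A • l • v) := by module
        rw [this, h10v, sub_self]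
      have e5 := (smul_eq_zero.1 e3).resolve_right hw
      have e6 := (smul_eq_zero.1 e4).resolve_right hw
      have e7 : 2 * (l * A - B) = 0 := by linear_combination e6 - B * e5
      have e8 := (mul_eq_zero.1 e7).resolve_left h2
      exact one_ne_zero (α := F) (by linear_combination (1 : F) * hAB + (l * A + B) * e8 + (-A ^ 2) * e5)
  let S : GL (Fin 2) F := Matrix.GeneralLinearGroup.mkOfDetNeZero S₀ hdet
  have hS : (S : R2) = S₀ := rfl
  refine ⟨S, ?_, ?_⟩
  · rw [hS]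
    ext i j
    have key : ∀ j, (d₀ * S₀) i j = (d₀ *ᵥ fun i => S₀ i j) i := fun j => rfl
    rw [key, Matrix.mul_apply, Fin.sum_univ_two, c0, c1]
    fin_cases j
    · show (d₀ *ᵥ v) i = _
      simp only [Q0, _root_.Matrix.mulVec_fin_two, _root_.Nat.succ_eq_add_one, _root_.Nat.reduceAdd, _root_.Fin.isValue, _root_.Fin.zero_eta, _root_.Matrix.of_apply, _root_.Matrix.cons_val', _root_.Matrix.cons_val_zero, _root_.Matrix.cons_val_fin_one, _root_.MulZeroClass.mul_zero, _root_.Matrix.cons_val_one, _root_.mul_one, _root_.zero_add]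
    · show (d₀ *ᵥ (d₀ *ᵥ v)) i = _
      rw [h00v]
      simp only [Q0, _root_.Pi.neg_apply, _root_.Fin.isValue, _root_.Fin.mk_one, _root_.Matrix.of_apply, _root_.Matrix.cons_val', _root_.Matrix.cons_val_one, _root_.Matrix.cons_val_fin_one, _root_.Matrix.cons_val_zero, _root_.mul_neg, _root_.mul_one, _root_.Matrix.mulVec_fin_two, _root_.Nat.succ_eq_add_one, _root_.Nat.reduceAdd, _root_.MulZeroClass.mul_zero, _root_.add_zero]
  · rw [hS]
    ext i j
    have key : ∀ j, (d₁ * S₀) i j = (d₁ *ᵥ fun i => S₀ i j) i := fun j => rfl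
    rw [key, Matrix.mul_apply, Fin.sum_univ_two, c0, c1]
    fin_cases j
    · show (d₁ *ᵥ v) i = _
      rw [h1v]
      generalize d₀ *ᵥ v = z
      simp only [Q1, mul_comm, _root_.Pi.add_apply, _root_.Pi.smul_apply, _root_.smul_eq_mul, _root_.Fin.isValue, _root_.Fin.zero_eta, _root_.Matrix.of_apply, _root_.Matrix.cons_val', _root_.Matrix.cons_val_zero, _root_.Matrix.cons_val_fin_one, _root_.Matrix.cons_val_one]
    · show (d₁ *ᵥ (d₀ *ᵥ v)) i = _
      rw [h10v]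
      generalize d₀ *ᵥ v = z
      simp [Q1, mul_comm, sub_eq_add_neg]

end two

section nf

variable {F : Type*} [Field F]

local notation "R2" => Matrix (Fin 2) (Fin 2) F
local notation "M3" => Matrix (Fin 3) (Fin 3) (Matrix (Fin 2) (Fin 2) F)
local notation "M6" => Matrix (Fin 6) (Fin 6) F

/-- the matrix `x` -/
def xneg (A B α u : F) : R2 := u • (1 - α • (Q1 A B - Q2 A B))

/-- **Normal form of `6.A₇`.** -/
theorem normal_form_neg {ω : Fˣ} {a b k g : GL (Fin 6) F} (h : Rel (-1) ω a b k g) (hω : (ω : F) ^ 2 + ω + 1 = 0)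
    (h2 : (2 : F) ≠ 0) (h3 : (3 : F) ≠ 0) (hdet : (g : M6).det = 1) {A B : F} (hAB : A ^ 2 + B ^ 2 = -1) :
    ∃ (T : GL (Fin 6) F) (α u : F), 2 * α ^ 2 = 1 ∧ 6 * u ^ 2 = -1 ∧ Im T a (a3 (ω : F)) ∧ Im T b b3 ∧
      Im T k (dg Q0 (Q1 A B) (Q2 A B)) ∧ Im T g (gm (ω : F) (xneg A B α u)) := by
  obtain ⟨T, hTa, hTb⟩ := exists_block (A := (a : M6)) (B := (b : M6)) (ω := (ω : F))
    (by rw [← Units.val_pow_eq_pow_val, h.a3]; rfl) (by rw [← Units.val_pow_eq_pow_val, h.b3]; rfl)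
    (by
      have h1 := congrArg (fun g : GL (Fin 6) F => (g : M6)) h.ab
      simp only [Units.val_mul, coe_sc, Matrix.smul_mul, Matrix.one_mul] at h1
      exact h1) hω h3
  have hA : Im T a (a3 (ω : F)) := hTa
  have hB : Im T b b3 := hTb
  obtain ⟨k', hK⟩ := Im.exists T k
  obtain ⟨g', hG⟩ := Im.exists T g
  obtain ⟨ga', gb', k2', g4', ka', sk', v4', -⟩ := h.mat
  rw [Units.val_neg, Units.val_one] at k2' g4' sk'
  have e1 := (hK.mul hA).eq_of (hA.mul hK) ka'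
  have e2 := (hG.mul hA).eq_of (hB.mul hG) ga'
  have e3 := (hA.mul (hG.mul hB)).eq_of hG gb'
  have e4 := (hK.mul hK).eq_of ((Im.one T).smul (-1)) k2'
  have e5 := ((hG.mul hG).mul (hG.mul hG)).eq_of ((Im.one T).smul (-1)) g4'
  have e6 := ((hG.mul hG).mul hK).eq_of ((hK.mul (hG.mul hG)).smul (-1)) sk'
  have e7 := (((hK.mul hB).mul hK).mul hB).eq_of (hB.mul (hB.mul hK)) v4'
  rw [neg_smul, one_smul] at e4 e5 e6
  obtain ⟨x, d₀, d₁, d₂, t, hk, hg, ht, hgg, htt, ht0, ht2, ht1, h00, h11, h22, h21, h02, h10⟩ :=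
    stage_one_neg hω h3 e1 e2 e3 e4 e5 e6 e7
  obtain ⟨α, u, hα, hu, ht', hx⟩ := stage_neg h2 h3 ht htt ht0 ht2 h00 h11 h22 h21 h02 h10
    (by rw [← det_rho_gm hω, ← hg, ← hG.det, hdet])
  have h01 : d₀ * d₁ = -(d₁ * d₀) := by
    rw [h10, ← h02, ← mul_assoc, h00, neg_mul, one_mul]
  obtain ⟨S, hS0, hS1⟩ := quat_pair h2 hAB h00 h11 h01
  obtain ⟨D, hD⟩ := exists_dg S
  rw [hk] at hK
  rw [hg] at hG
  have hS2 : d₂ * (S : R2) = (S : R2) * Q2 A B := by
    rw [← h10, mul_assoc, hS0, ← mul_assoc, hS1, mul_assoc, Q10]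
  generalize (S : R2) = τ at hS0 hS1 hS2 hD
  refine ⟨T * D, α, u, hα, hu, dg_comm hA hD (dg_a3 _ _).symm, dg_comm hB hD (dg_b3 _).symm, dg_comm hK hD ?_,
    dg_comm hG hD ?_⟩
  · rw [dg_mul, dg_mul, hS0, hS1, hS2]
  · have h4 := gm_dg hω (x := x) (τ := τ) (x' := xneg A B α u) (κ := 1) (by
      rw [one_smul, hx, ht', xneg, smul_mul_assoc, mul_smul_comm, sub_mul, mul_sub, one_mul, mul_one, smul_mul_assoc,
        mul_smul_comm, sub_mul, mul_sub, hS1, hS2])
    rw [one_smul] at h4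
    exact h4

end nf

end Cfsg.Agent.H890.A7
end

-- part: H890/A7/XLines
section
/-!
# `3.A₇` : the stabiliser of the 126 lines (helper890)
-/

set_option autoImplicit false
set_option linter.unusedSectionVars false

namespace Cfsg.Agent.H890.A7

open Matrix Cfsg.Agent.H913.N6 Cfsg.Agent.H890.K6

variable {F : Type*} [Field F]

local notation "R2" => Matrix (Fin 2) (Fin 2) F
local notation "M3" => Matrix (Fin 3) (Fin 3) (Matrix (Fin 2) (Fin 2) F)
local notation "M6" => Matrix (Fin 6) (Fin 6) F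

theorem entries_iff {M : M6} {N : M3} (hM : M = rho N) {θ : F} {T : ℕ → ℕ → E} {ω : F}
    (h : ∀ (i i' : Fin 3) (j j' : Fin 2), θ * N i i' j j' = ev ω (T (j + 2 * i) (j' + 2 * i'))) (r s : Fin 6) :
    θ * M r s = ev ω (T r s) := by
  obtain ⟨⟨i, j⟩, rfl⟩ := (finProdFinEquiv : Fin 3 × Fin 2 ≃ Fin 6).surjective r
  obtain ⟨⟨i', j'⟩, rfl⟩ := (finProdFinEquiv : Fin 3 × Fin 2 ≃ Fin 6).surjective s
  rw [hM, rho_apply, Equiv.symm_apply_apply, Equiv.symm_apply_apply]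
  exact h i i' j j'

theorem ent_A {ω : F} (hω : ω ^ 2 + ω + 1 = 0) (r s : Fin 6) : 1 * rho (a3 ω) r s = ev ω (ME_A r s) := by
  refine entries_iff rfl (fun i i' j j' => ?_) r s
  have h2 : ω ^ 2 = -1 - ω := by linear_combination hω
  rcases fin3 i with rfl | rfl | rfl <;> rcases fin3 i' with rfl | rfl | rfl <;> (revert j j'; simp only [a3_apply, ME_A, pwE, ev, h2, _root_.Fin.forall_fin_succ, Fin.isValue, ↓reduceIte, _root_.Fin.coe_ofNat_eq_mod, _root_.Nat.zero_mod, _root_.pow_zero, _root_.Matrix.smul_apply, _root_.smul_eq_mul, _root_.one_mul, _root_.MulZeroClass.mul_zero, _root_.add_zero, Int.reduceNeg, _root_.Fin.val_eq_zero_iff, _root_.Fin.val_succ, _root_.Fin.val_eq_zero, _root_.zero_add, _root_.IsEmpty.forall_iff, _root_.and_true, _root_.Matrix.one_apply_eq, _root_.Nat.zero_div, _root_.Int.cast_one, _root_.Int.cast_zero, _root_.MulZeroClass.zero_mul, Nat.reduceAdd, _root_.Fin.succ_zero_eq_one, _root_.ne_eq, _root_.zero_ne_one,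 _root_.not_false_eq_true, _root_.Matrix.one_apply_ne, _root_.and_self, _root_.Fin.succ_ne_zero, Nat.reduceDiv, _root_.true_and, _root_.Matrix.zero_apply, _root_.Nat.one_mod, _root_.mul_one, _root_.forall_const, _root_.OfNat.zero_ne_ofNat, _root_.OfNat.one_ne_ofNat, _root_.implies_true, Fin.reduceEq, _root_.Nat.mod_succ, Nat.reduceMul, _root_.one_ne_zero, _root_.Order.lt_two_iff, _root_.zero_le, _root_.Nat.add_div_right, _root_.Nat.add_eq_zero_iff, _root_.OfNat.ofNat_ne_zero, _root_.and_false, Nat.reduceEqDiff, _root_.pow_one, _root_.Nat.add_right_cancel_iff, _root_.OfNat.ofNat_ne_one, _root_.Int.cast_neg, _root_.neg_mul]) <;> (repeat' with_reducible apply And.intro) <;> ring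

theorem ent_B {ω : F} (r s : Fin 6) : 1 * rho (b3 : M3) r s = ev ω (ME_B r s) := by
  refine entries_iff rfl (fun i i' j j' => ?_) r s
  rcases fin3 i with rfl | rfl | rfl <;> rcases fin3 i' with rfl | rfl | rfl <;> (revert j j'; simp only [b3_apply, ME_B, ev, _root_.Fin.forall_fin_succ, Fin.isValue, _root_.zero_add, _root_.zero_ne_one, ↓reduceIte, _root_.Matrix.zero_apply, _root_.MulZeroClass.mul_zero, _root_.Fin.coe_ofNat_eq_mod, _root_.Nat.zero_mod, _root_.add_zero, _root_.Nat.zero_div, _root_.Nat.one_mod, _root_.Fin.val_succ, _root_.Fin.val_eq_zero, Nat.reduceDiv, _root_.Nat.mod_succ, _root_.forall_const, _root_.and_true, _root_.Int.cast_zero, _root_.MulZeroClass.zero_mul, _root_.and_self, _root_.one_ne_zero, _root_.implies_true, Fin.reduceAdd, Fin.reduceEq, _root_.mul_one, _root_.Order.lt_two_iff, _root_.zero_le, _root_.Nat.add_div_right, _root_.Nat.add_mod_right, Nat.reduceAdd, _root_.OfNat.zero_ne_ofNat, _root_.one_mul,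 Nat.reduceMul, _root_.Nat.mod_self, _root_.Nat.div_eq_zero_iff, _root_.OfNat.ofNat_ne_zero, _root_.false_or, Nat.reduceMod, _root_.IsEmpty.forall_iff, _root_.Matrix.one_apply_eq, _root_.Int.cast_one, _root_.Fin.succ_zero_eq_one, _root_.ne_eq, _root_.not_false_eq_true, _root_.Matrix.one_apply_ne, _root_.and_false, _root_.Fin.succ_ne_zero, _root_.Std.le_refl, _root_.true_and, _root_.Nat.add_eq_right, Nat.reduceEqDiff, _root_.Nat.add_eq_zero_iff, _root_.false_and, _root_.OfNat.ofNat_ne_one, Nat.reduceLeDiff, _root_.or_self])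

theorem ent_K {ω : F} (hω : ω ^ 2 + ω + 1 = 0) (r s : Fin 6) : 1 * rho (dg 1 (d0 ω) (d0 ω)) r s = ev ω (ME_K r s) := by
  refine entries_iff rfl (fun i i' j j' => ?_) r s
  have h2 : ω ^ 2 = -1 - ω := by linear_combination hω
  rcases fin3 i with rfl | rfl | rfl <;> rcases fin3 i' with rfl | rfl | rfl <;> (revert j j'; simp only [dg, d0, ME_K, ev, h2, _root_.Fin.forall_fin_succ, Fin.isValue, _root_.ite_self, _root_.Matrix.of_apply, ↓reduceIte, _root_.one_mul, _root_.Fin.coe_ofNat_eq_mod, _root_.Nat.zero_mod, _root_.MulZeroClass.mul_zero, _root_.add_zero, _root_.Nat.div_eq_zero_iff, _root_.OfNat.ofNat_ne_zero, _root_.Order.lt_two_iff, _root_.false_or, Int.reduceNeg, _root_.zero_le, _root_.or_true, _root_.Fin.val_eq_zero_iff, _root_.Fin.val_succ, _root_.Fin.val_eq_zero, _root_.zero_add, _root_.Std.le_refl, _root_.IsEmpty.forall_iff, _root_.and_true, _root_.Matrix.one_apply_eq, _root_.Int.cast_one, _root_.Int.cast_zero, _root_.MulZeroClass.zero_mul,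 Nat.reduceAdd, _root_.Fin.succ_zero_eq_one, _root_.ne_eq, _root_.zero_ne_one, _root_.not_false_eq_true, _root_.Matrix.one_apply_ne, _root_.and_self, _root_.Fin.succ_ne_zero, _root_.true_and, _root_.Matrix.zero_apply, _root_.Nat.one_mod, _root_.mul_one, _root_.Nat.add_div_right, _root_.Nat.add_eq_zero_iff, _root_.one_ne_zero, _root_.and_false, _root_.or_false, _root_.Nat.add_mod_right, _root_.Nat.zero_div, Nat.reduceDiv, _root_.Nat.mod_succ, _root_.forall_const, _root_.OfNat.zero_ne_ofNat, _root_.OfNat.one_ne_ofNat, _root_.implies_true, Fin.reduceEq, Nat.reduceMul, Nat.reduceLeDiff, _root_.or_self, Nat.reduceMod, Nat.reduceEqDiff, _root_.Matrix.cons_val', _root_.Matrix.cons_val_fin_one, _root_.Nat.add_right_cancel_iff, _root_.Matrix.cons_val_zero, _root_.Matrix.cons_val_succ, _root_.Int.cast_neg, _root_.neg_mul, _root_.OfNat.ofNat_ne_one]) <;> (repeat' with_reducible apply And.intro) <;> ring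

theorem ent_G {ω ε : F} (hω : ω ^ 2 + ω + 1 = 0) (h3 : (3 : F) ≠ 0) (hε : ε ^ 2 = 1) (r s : Fin 6) :
    (ε * (ω - ω ^ 2)) * rho (ε • gm ω (x0 ω)) r s = ev ω (ME_G r s) := by
  refine entries_iff rfl (fun i i' j j' => ?_) r s
  have hθ := theta_ne hω h3
  have h1 : (ε * (ω - ω ^ 2)) * (ε • gm ω (x0 ω)) i i' j j' =
      ω ^ (2 * (i : ℕ) * (i' : ℕ)) * (!![0, -1; 1, 0] : R2) j j' := by
    show (ε * (ω - ω ^ 2)) * (ε * (ω ^ (2 * (i : ℕ) * (i' : ℕ)) * ((ω - ω ^ 2)⁻¹ * (!![0, -1; 1, 0] : R2) j j'))) = _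
    have : (ε * (ω - ω ^ 2)) * (ε * (ω ^ (2 * (i : ℕ) * (i' : ℕ)) * ((ω - ω ^ 2)⁻¹ * (!![0, -1; 1, 0] : R2) j j'))) =
      ε ^ 2 * ((ω - ω ^ 2) * (ω - ω ^ 2)⁻¹) * (ω ^ (2 * (i : ℕ) * (i' : ℕ)) * (!![0, -1; 1, 0] : R2) j j') := by ring
    rw [this, hε, mul_inv_cancel₀ hθ, one_mul, one_mul]
  rw [h1]
  have h2 : ω ^ 2 = -1 - ω := by linear_combination hω
  have h4 : ω ^ 4 = ω := by linear_combination (ω ^ 2 - ω) * hω
  have h8 : ω ^ 8 = -1 - ω := by linear_combination (ω ^ 6 - ω ^ 5 + ω ^ 3 - ω ^ 2 + 1) * hω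
  rcases fin3 i with rfl | rfl | rfl <;> rcases fin3 i' with rfl | rfl | rfl <;> fin_cases j <;> fin_cases j' <;>
    simp [ME_G, ev, pwE, negE, h2, h4, h8]
  all_goals ring

/-- `diag(ω, ω², 1, 1, 1, 1)` -/
def dD (ω : F) : M3 := dg !![ω, 0; 0, ω ^ 2] 1 1

theorem ent_D {ω : F} (hω : ω ^ 2 + ω + 1 = 0) (r s : Fin 6) : 1 * rho (dD ω) r s = ev ω (ME_D r s) := by
  refine entries_iff rfl (fun i i' j j' => ?_) r s
  have h2 : ω ^ 2 = -1 - ω := by linear_combination hω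
  rcases fin3 i with rfl | rfl | rfl <;> rcases fin3 i' with rfl | rfl | rfl <;> (revert j j'; simp only [dD, dg, ME_D, ev, h2, _root_.Fin.forall_fin_succ, Fin.isValue, _root_.ite_self, _root_.Matrix.of_apply, ↓reduceIte, _root_.Matrix.cons_val', _root_.Matrix.cons_val_fin_one, _root_.one_mul, _root_.Fin.coe_ofNat_eq_mod, _root_.Nat.zero_mod, _root_.MulZeroClass.mul_zero, _root_.add_zero, _root_.Fin.val_eq_zero_iff, Int.reduceNeg, _root_.Matrix.cons_val_zero, _root_.Matrix.cons_val_succ, _root_.Fin.val_succ, _root_.Fin.val_eq_zero, _root_.zero_add, _root_.forall_const, _root_.Int.cast_zero, _root_.Int.cast_one, _root_.zero_ne_one, _root_.MulZeroClass.zero_mul, _root_.and_self, _root_.Fin.succ_ne_zero, _root_.Int.cast_neg, _root_.neg_mul, _root_.true_and, _root_.Matrix.zero_apply, _root_.Nat.one_mod, _root_.mul_one, Nat.reduceAdd, _root_.OfNat.zero_ne_ofNat, _root_.OfNat.one_ne_ofNat, _root_.implies_true, Fin.reduceEq, _root_.Nat.mod_succ,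 Nat.reduceMul, _root_.one_ne_zero, _root_.Nat.add_eq_zero_iff, _root_.OfNat.ofNat_ne_zero, _root_.and_false, Nat.reduceEqDiff, _root_.Nat.add_right_cancel_iff, _root_.IsEmpty.forall_iff, _root_.and_true, _root_.Matrix.one_apply_eq, _root_.Fin.succ_zero_eq_one, _root_.ne_eq, _root_.not_false_eq_true, _root_.Matrix.one_apply_ne]) <;> (repeat' with_reducible apply And.intro) <;> ring

/-- the stabiliser of the 126 lines -/
def X [Finite F] (ω : F) : Subgroup (GL (Fin 6) F) where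
  carrier := {g | ∀ v, IsLine ω v → IsLine ω ((g : M6) *ᵥ v)}
  one_mem' := fun v hv => by rw [Units.val_one, Matrix.one_mulVec]; exact hv
  mul_mem' := fun {a b} ha hb v hv => by
    rw [Units.val_mul, ← Matrix.mulVec_mulVec]
    exact ha _ (hb _ hv)
  inv_mem' := fun {a} ha => by
    have key : ∀ n : ℕ, ∀ v, IsLine ω v → IsLine ω (((a ^ n : GL (Fin 6) F) : M6) *ᵥ v) := by
      intro n
      induction n with
      | zero => intro v hv; rw [pow_zero, Units.val_one, Matrix.one_mulVec]; exact hv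
      | succ n ih =>
        intro v hv
        rw [pow_succ, Units.val_mul, ← Matrix.mulVec_mulVec]
        exact ih _ (ha _ hv)
    have h1 : a⁻¹ = a ^ (orderOf a - 1) := by
      rw [inv_eq_iff_mul_eq_one, ← pow_succ', Nat.sub_add_cancel (orderOf_pos a), pow_orderOf_eq_one]
    change ∀ v, IsLine ω v → IsLine ω (((a⁻¹ : GL (Fin 6) F) : M6) *ᵥ v)
    rw [h1]
    exact key _

theorem mem_X [Finite F] {ω : F} {g : GL (Fin 6) F} : g ∈ X ω ↔ ∀ v, IsLine ω v → IsLine ω ((g : M6) *ᵥ v) := Iff.rfl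

theorem sc_mem_X [Finite F] (ω : F) (c : Fˣ) : (sc c : GL (Fin 6) F) ∈ X ω := by
  rintro v ⟨n, hn, d, hd, h⟩
  refine ⟨n, hn, c * d, mul_ne_zero c.ne_zero hd, fun s => ?_⟩
  rw [coe_sc, Matrix.smul_mulVec, Matrix.one_mulVec, Pi.smul_apply, smul_eq_mul, h, mul_assoc]

/-! ### an element outside -/

/-- `-DFT ⊕ 1` -/
def Wn (ω : F) : M6 :=
  (Matrix.fromBlocks (-(ω - ω ^ 2)⁻¹ • Wm ω) 0 0 1).submatrix (finSumFinEquiv (m := 3) (n := 3)).symm
    (finSumFinEquiv (m := 3) (n := 3)).symm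

theorem det_Wm' {ω : F} (hω : ω ^ 2 + ω + 1 = 0) : (Wm ω).det = 3 * (ω - ω ^ 2) := by
  have hω3 := omega_cube hω
  rw [Matrix.det_fin_three]
  have e : ∀ i j : Fin 3, Wm ω i j = ω ^ (2 * (i : ℕ) * (j : ℕ)) := fun i j => rfl
  rw [e, e, e, e, e, e, e, e, e]
  simp only [Fin.val_zero, Fin.val_one, Fin.val_two, mul_zero, zero_mul, pow_zero, mul_one, one_mul]
  linear_combination ((ω ^ 7 + ω ^ 4 + ω) - 2 * (ω ^ 5 + ω ^ 2) + 2 * ω) * hω3

theorem det_Wn {ω : F} (hω : ω ^ 2 + ω + 1 = 0) (h3 : (3 : F) ≠ 0) : (Wn ω).det = 1 := by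
  have hθ := theta_ne hω h3
  rw [Wn, Matrix.det_submatrix_equiv_self, Matrix.det_fromBlocks_zero₂₁, Matrix.det_one, mul_one, Matrix.det_smul,
    Fintype.card_fin, det_Wm' hω]
  have h1 : (3 : F) = -((ω - ω ^ 2) * (ω - ω ^ 2)) := by rw [theta_sq hω]; ring
  rw [h1]
  generalize ω - ω ^ 2 = t at hθ
  field_simp

theorem vl (i : Fin 3) : ((finSumFinEquiv (m := 3) (n := 3) (Sum.inl i) : Fin 6) : ℕ) = i := rfl
theorem vr (i : Fin 3) : ((finSumFinEquiv (m := 3) (n := 3) (Sum.inr i) : Fin 6) : ℕ) = 3 + i := rfl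

theorem Wn_mulVec {ω : F} (s : Fin 6) : (Wn ω *ᵥ (fun s : Fin 6 => ev ω (ln 6 s))) s =
    if (s : ℕ) < 3 then -(ω - ω ^ 2)⁻¹ else if (s : ℕ) = 3 then -1 else 0 := by
  rw [Matrix.mulVec, dotProduct, ← (finSumFinEquiv (m := 3) (n := 3)).sum_comp, Fintype.sum_sum_type]
  have hl : ∀ i : Fin 3, ev ω (ln 6 ((finSumFinEquiv (m := 3) (n := 3) (Sum.inl i) : Fin 6) : ℕ)) =
      if i = 0 then 1 else 0 := by
    intro i
    rw [vl]
    rcases fin3 i with rfl | rfl | rfl <;> simp [ln, pairs, ev]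
  have hr : ∀ i : Fin 3, ev ω (ln 6 ((finSumFinEquiv (m := 3) (n := 3) (Sum.inr i) : Fin 6) : ℕ)) =
      if i = 0 then -1 else 0 := by
    intro i
    rw [vr]
    rcases fin3 i with rfl | rfl | rfl <;> simp [ln, pairs, ev, negE, pwE]
  simp only [hl, hr]
  obtain ⟨s', rfl⟩ := (finSumFinEquiv (m := 3) (n := 3)).surjective s
  rcases s' with i | i
  · have h1 : ∀ j, Wn ω (finSumFinEquiv (m := 3) (n := 3) (Sum.inl i)) (finSumFinEquiv (m := 3) (n := 3) (Sum.inl j)) =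
      -(ω - ω ^ 2)⁻¹ * ω ^ (2 * (i : ℕ) * (j : ℕ)) := by
      intro j
      rw [Wn, Matrix.submatrix_apply, Equiv.symm_apply_apply, Equiv.symm_apply_apply]
      rfl
    have h2 : ∀ j, Wn ω (finSumFinEquiv (m := 3) (n := 3) (Sum.inl i)) (finSumFinEquiv (m := 3) (n := 3) (Sum.inr j)) = 0 := by
      intro j
      rw [Wn, Matrix.submatrix_apply, Equiv.symm_apply_apply, Equiv.symm_apply_apply]
      rfl
    simp only [h1, h2, zero_mul, Finset.sum_const_zero, add_zero]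
    rw [Fin.sum_univ_three]
    rw [vl, if_pos i.2]
    simp only [_root_.Fin.isValue, _root_.Fin.coe_ofNat_eq_mod, _root_.Nat.zero_mod, _root_.MulZeroClass.mul_zero, _root_.pow_zero, _root_.mul_one, ↓ _root_.reduceIte, _root_.Nat.one_mod, _root_.neg_mul, _root_.one_ne_zero, _root_.add_zero, _root_.Nat.mod_succ, _root_.Fin.reduceEq]
  · have h1 : ∀ j, Wn ω (finSumFinEquiv (m := 3) (n := 3) (Sum.inr i)) (finSumFinEquiv (m := 3) (n := 3) (Sum.inl j)) = 0 := by
      intro j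
      rw [Wn, Matrix.submatrix_apply, Equiv.symm_apply_apply, Equiv.symm_apply_apply]
      rfl
    have h2 : ∀ j, Wn ω (finSumFinEquiv (m := 3) (n := 3) (Sum.inr i)) (finSumFinEquiv (m := 3) (n := 3) (Sum.inr j)) =
        if i = j then 1 else 0 := by
      intro j
      rw [Wn, Matrix.submatrix_apply, Equiv.symm_apply_apply, Equiv.symm_apply_apply]
      rfl
    simp only [h1, h2, zero_mul, Finset.sum_const_zero, zero_add]
    rw [vr]
    rcases fin3 i with rfl | rfl | rfl <;> simp only [_root_.Fin.isValue, _root_.mul_ite, _root_.mul_neg, _root_.mul_one, _root_.MulZeroClass.mul_zero, _root_.Finset.sum_ite_eq', _root_.Finset.mem_univ, ↓ _root_.reduceIte, _root_.Fin.coe_ofNat_eq_mod, _root_.Nat.zero_mod, _root_.add_zero, _root_.lt_self_iff_false, _root_.one_ne_zero, _root_.neg_zero, _root_.Nat.one_mod, _root_.Nat.reduceAdd, _root_.Nat.reduceLT, _root_.Nat.succ_ne_self, _root_.Fin.reduceEq, _root_.Nat.mod_succ, _root_.Nat.reduceEqDiff]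

theorem Wn_not {ω : F} (hω : ω ^ 2 + ω + 1 = 0) (h3 : (3 : F) ≠ 0) :
    ¬ ∀ v, IsLine ω v → IsLine ω (Wn ω *ᵥ v) := by
  intro h
  have h1 := h (fun s : Fin 6 => ev ω (ln 6 s)) ⟨6, by norm_num, 1, one_ne_zero, fun s => by rw [one_mul]⟩
  obtain ⟨n, hn, c, hc, h2⟩ := h1
  simp only [Wn_mulVec] at h2
  have hθ := theta_ne hω h3
  have h4 := List.all_eq_true.1 no_ln n (List.mem_range.2 hn)
  have h5 := List.all_eq_true.1 units_ln n (List.mem_range.2 hn)
  rw [List.all_eq_true] at h5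
  have e0 : ln n 0 ≠ (0, 0) := by
    intro h0
    have := h2 0
    simp [h0, ev_zero] at this
    exact hθ this
  have e1 : ln n 1 ≠ (0, 0) := by
    intro h0
    have := h2 1
    simp [h0, ev_zero] at this
    exact hθ this
  have e2 : ln n 2 ≠ (0, 0) := by
    intro h0
    have := h2 2
    simp [h0, ev_zero] at this
    exact hθ this
  have e4 : ln n 4 = (0, 0) := by
    have h6 := h5 4 (List.mem_range.2 (by norm_num))
    rw [Bool.or_eq_true, beq_iff_eq] at h6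
    rcases h6 with h6 | h6
    · exact h6
    · exfalso
      have := h2 4
      simp at this
      rcases this with h7 | h7
      · exact hc h7
      · exact ev_ne_zero hω h3 (x := ln n 4) (by rw [nz, h6]; rfl) h7
  simp [e0, e1, e2, e4] at h4

end Cfsg.Agent.H890.A7
end

-- part: H890/A7/Unit
section
/-!
# `3.A₇` : the unitary form (helper890)
-/

set_option autoImplicit false
set_option linter.unusedSectionVars false

namespace Cfsg.Agent.H890.A7

open Matrix Cfsg.Agent.H913.N6 Cfsg.Agent.H890.K6 Cfsg.Agent.H907 Cfsg.Agent.LieClassical.HermBasic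

variable {F : Type*} [Field F] [Fintype F] {q : ℕ} (hF : Fintype.card F = q ^ 2)

local notation "R2" => Matrix (Fin 2) (Fin 2) F
local notation "M3" => Matrix (Fin 3) (Fin 3) (Matrix (Fin 2) (Fin 2) F)
local notation "M6" => Matrix (Fin 6) (Fin 6) F

/-- conjugate transpose for block matrices -/
def dag (q : ℕ) (M : M3) : M3 := Matrix.of fun i j => ct q (M j i)

theorem ct_rho (M : M3) : ct q (rho M) = rho (dag q M) := by
  ext r s
  rfl

theorem dag_apply (M : M3) (i j : Fin 3) : dag q M i j = ct q (M j i) := rfl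

theorem sq_eq_one_iff_of_side {ε : F} (hε : ε ^ 2 = 1) : ε = 1 ∨ ε = -1 := by
  have : (ε - 1) * (ε + 1) = 0 := by linear_combination hε
  rcases mul_eq_zero.1 this with h | h
  · exact Or.inl (sub_eq_zero.1 h)
  · exact Or.inr (eq_neg_of_add_eq_zero_left h)

include hF

theorem dag_dg (x y z : R2) : dag q (dg x y z) = dg (ct q x) (ct q y) (ct q z) := by
  obtain ⟨X00, X01, X02, X10, X11, X12, X20, X21, X22⟩ := dg_entries x y z
  obtain ⟨Z00, Z01, Z02, Z10, Z11, Z12, Z20, Z21, Z22⟩ := dg_entries (ct q x) (ct q y) (ct q z)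
  apply ext3 <;> simp only [dag_apply, X00, X01, X02, X10, X11, X12, X20, X21, X22, Z00, Z01, Z02, Z10, Z11, Z12, Z20,
    Z21, Z22, ct_zero hF]

theorem ct_smul {n : ℕ} (c : F) (A : Matrix (Fin n) (Fin n) F) : ct q (c • A) = c ^ q • ct q A := by
  ext i j
  simp [ct, mul_pow]

theorem a3_eq_dg (ω : F) : (a3 ω : M3) = dg 1 (ω • 1) (ω ^ 2 • 1) := by
  obtain ⟨Z00, Z01, Z02, Z10, Z11, Z12, Z20, Z21, Z22⟩ := dg_entries (1 : R2) (ω • 1) (ω ^ 2 • 1)
  apply ext3 <;> simp only [a3_apply, Z00, Z01, Z02, Z10, Z11, Z12, Z20, Z21, Z22] <;> simp only [↓ _root_.reduceIte, _root_.Fin.isValue, _root_.Fin.coe_ofNat_eq_mod, _root_.Nat.zero_mod, _root_.pow_zero, _root_.one_smul, _root_.zero_ne_one, _root_.Fin.reduceEq, _root_.one_ne_zero, _root_.Nat.one_mod, _root_.pow_one, _root_.Nat.mod_succ]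

variable {ω : F}

theorem un_a3 (hω : ω ^ 2 + ω + 1 = 0) (hq : ω ^ q = ω ^ 2) : dag q (a3 ω : M3) * a3 ω = 1 := by
  have hω3 := omega_cube hω
  rw [a3_eq_dg hF, dag_dg hF, dg_mul, ct_one hF, ct_smul_one hF, ct_smul_one hF, ← dg_one]
  congr 1
  · rw [one_mul]
  · rw [smul_mul_smul_comm, one_mul, hq, ← pow_succ, hω3, one_smul]
  · rw [smul_mul_smul_comm, one_mul, ← pow_mul, mul_comm 2 q, pow_mul, hq, ← pow_mul, ← pow_add]
    rw [show 2 * 2 + 2 = 3 * 2 by norm_num, pow_mul, hω3, one_pow, one_smul]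

theorem un_b3 : dag q (b3 : M3) * b3 = 1 := by
  have e : dag q (b3 : M3) = Matrix.of fun i j : Fin 3 => if j = i + 1 then 1 else 0 := by
    ext1 i j
    rw [dag_apply, b3_apply, Matrix.of_apply]
    split_ifs
    · exact ct_one hF
    · exact ct_zero hF
  rw [e]
  ext1 i j
  rw [mul_b3, Matrix.of_apply, Matrix.one_apply]
  by_cases h : i = j
  · rw [if_pos (by rw [h]), if_pos h]
  · rw [if_neg (fun h' => h (add_right_cancel h').symm), if_neg h]

theorem ct_d0 (hω : ω ^ 2 + ω + 1 = 0) (hq : ω ^ q = ω ^ 2) : ct q (d0 ω) = d0 ω := by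
  have hω3 := omega_cube hω
  have h1 : (ω ^ 2) ^ q = ω := by
    rw [← pow_mul, mul_comm 2 q, pow_mul, hq]
    linear_combination ω * hω3
  ext i j
  (revert i j; simp only [ct, d0, zero_pow_q hF, hq, h1, _root_.Fin.forall_fin_succ, _root_.Matrix.of_apply, _root_.Matrix.cons_val', _root_.Matrix.cons_val_fin_one, Fin.isValue, _root_.Matrix.cons_val_zero, _root_.Matrix.cons_val_succ, _root_.forall_const, _root_.and_self, _root_.implies_true])

theorem un_k (hω : ω ^ 2 + ω + 1 = 0) (hq : ω ^ q = ω ^ 2) : dag q (dg 1 (d0 ω) (d0 ω)) * dg 1 (d0 ω) (d0 ω) = 1 := by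
  rw [dag_dg hF, dg_mul, ct_d0 hF hω hq, d0_sq hω, ct_one hF, one_mul, dg_one]

theorem un_D (hω : ω ^ 2 + ω + 1 = 0) (hq : ω ^ q = ω ^ 2) : dag q (dD ω) * dD ω = 1 := by
  have hω3 := omega_cube hω
  rw [dD, dag_dg hF, dg_mul, ct_one hF, one_mul, ← dg_one]
  congr 1
  have h1 : (ω ^ 2) ^ q = ω := by
    rw [← pow_mul, mul_comm 2 q, pow_mul, hq]
    linear_combination ω * hω3
  ext i j
  (revert i j; simp only [ct, zero_pow_q hF, hq, h1, Matrix.mul_apply, Fin.sum_univ_two, _root_.Fin.forall_fin_succ, _root_.Matrix.of_apply, _root_.Matrix.cons_val', _root_.Matrix.cons_val_fin_one, Fin.isValue, _root_.Matrix.cons_val_zero, _root_.Matrix.cons_val_one, _root_.MulZeroClass.mul_zero, _root_.add_zero, _root_.Matrix.cons_val_succ, _root_.zero_add, _root_.IsEmpty.forall_iff, _root_.Matrix.one_apply_eq, _root_.MulZeroClass.zero_mul, Nat.reduceAdd, _root_.Fin.succ_zero_eq_one, _root_.ne_eq, _root_.zero_ne_one, _root_.not_false_eq_true,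 _root_.Matrix.one_apply_ne, _root_.Fin.succ_ne_zero, _root_.and_true, _root_.true_and]) <;> (repeat' with_reducible apply And.intro)
  · linear_combination hω3
  · linear_combination hω3

theorem ct_x0 (hω : ω ^ 2 + ω + 1 = 0) (hq : ω ^ q = ω ^ 2) : ct q (x0 ω) = x0 ω := by
  have hω3 := omega_cube hω
  have h1 : (ω ^ 2) ^ q = ω := by
    rw [← pow_mul, mul_comm 2 q, pow_mul, hq]
    linear_combination ω * hω3
  have h2 : (ω - ω ^ 2) ^ q = -(ω - ω ^ 2) := by rw [sub_pow_q hF, h1, hq]; ring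
  rw [x0, ct_smul hF, inv_pow, h2]
  have h5 : (ω ^ 2 - ω)⁻¹ = -(ω - ω ^ 2)⁻¹ := by rw [← neg_sub ω, inv_neg]
  ext i j
  (revert i j; simp only [ct, zero_pow_q hF, neg_pow_q hF, h5, _root_.Fin.forall_fin_succ, _root_.neg_sub, _root_.Matrix.of_apply, _root_.Matrix.cons_val', _root_.Matrix.cons_val_fin_one, _root_.Matrix.smul_apply, _root_.smul_eq_mul, _root_.neg_mul, Fin.isValue, _root_.Matrix.cons_val_zero, _root_.Matrix.cons_val_succ, _root_.forall_const, _root_.MulZeroClass.mul_zero, _root_.neg_zero, _root_.one_pow, _root_.mul_one, _root_.mul_neg, _root_.and_self, _root_.neg_neg, _root_.implies_true])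

theorem dag_gm (hq : ω ^ q = ω ^ 2) (x : R2) : dag q (gm ω x) = gm (ω ^ 2) (ct q x) := by
  ext1 i j
  show ct q (ω ^ (2 * (j : ℕ) * (i : ℕ)) • x) = (ω ^ 2) ^ (2 * (i : ℕ) * (j : ℕ)) • ct q x
  rw [ct_smul hF, ← pow_mul, mul_comm _ q, pow_mul, hq]
  congr 2
  ring

theorem gm_sq_mul (hω : ω ^ 2 + ω + 1 = 0) (x y : R2) :
    gm (ω ^ 2) x * gm ω y = dg ((3 : F) • (x * y)) ((3 : F) • (x * y)) ((3 : F) • (x * y)) := by
  have hω' : (ω ^ 2) ^ 2 + ω ^ 2 + 1 = 0 := by linear_combination (ω ^ 2 - ω + 1) * hω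
  obtain ⟨a00, a01, a02, a10, a11, a12, a20, a21, a22⟩ := gm_entries hω' x
  obtain ⟨b00, b01, b02, b10, b11, b12, b20, b21, b22⟩ := gm_entries hω y
  obtain ⟨d00, d01, d02, d10, d11, d12, d20, d21, d22⟩ :=
    dg_entries ((3 : F) • (x * y)) ((3 : F) • (x * y)) ((3 : F) • (x * y))
  have hω3 := omega_cube hω
  have h4 : (ω ^ 2) ^ 2 = ω := by linear_combination ω * hω3
  have h1 : (ω * ω ^ 2 + ω ^ 2 * ω + 1 : F) = 3 := by linear_combination 2 * hω3
  have h2 : (1 + ω * ω + ω ^ 2 * ω ^ 2 : F) = 0 := by linear_combination hω + ω * hω3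
  apply ext3 <;> rw [mul3] <;>
    simp only [a00, a01, a02, a10, a11, a12, a20, a21, a22, b00, b01, b02, b10, b11, b12, b20, b21, b22, h4,
      d00, d01, d02, d10, d11, d12, d20, d21, d22, smul_mul_assoc, mul_smul_comm, smul_smul]
  · module
  · calc _ = (ω ^ 2 + ω + 1) • (x * y) := by module
      _ = 0 := by rw [hω, zero_smul]
  · calc _ = (ω ^ 2 + ω + 1) • (x * y) := by module
      _ = 0 := by rw [hω, zero_smul]
  · calc _ = (ω ^ 2 + ω + 1) • (x * y) := by module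
      _ = 0 := by rw [hω, zero_smul]
  · calc _ = (ω * ω ^ 2 + ω ^ 2 * ω + 1) • (x * y) := by module
      _ = _ := by rw [h1]
  · calc _ = (1 + ω * ω + ω ^ 2 * ω ^ 2) • (x * y) := by module
      _ = 0 := by rw [h2, zero_smul]
  · calc _ = (ω ^ 2 + ω + 1) • (x * y) := by module
      _ = 0 := by rw [hω, zero_smul]
  · calc _ = (1 + ω * ω + ω ^ 2 * ω ^ 2) • (x * y) := by module
      _ = 0 := by rw [h2, zero_smul]
  · calc _ = (ω * ω ^ 2 + ω ^ 2 * ω + 1) • (x * y) := by module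
      _ = _ := by rw [h1]

theorem un_g (hω : ω ^ 2 + ω + 1 = 0) (h3 : (3 : F) ≠ 0) (hq : ω ^ q = ω ^ 2) {ε : F} (hε : ε ^ 2 = 1) :
    dag q (ε • gm ω (x0 ω)) * (ε • gm ω (x0 ω)) = 1 := by
  have h1 : dag q (ε • gm ω (x0 ω)) = ε ^ q • gm (ω ^ 2) (x0 ω) := by
    rw [← ct_x0 hF hω hq, ← dag_gm hF hq, ct_x0 hF hω hq]
    ext1 i j
    rw [dag_apply, Matrix.smul_apply, Matrix.smul_apply, dag_apply, ct_smul hF]
  have h2 : ε ^ q * ε = 1 := by
    rcases sq_eq_one_iff_of_side hε with h | h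
    · rw [h, one_pow, mul_one]
    · rw [h, neg_pow_q hF, one_pow]; ring
  rw [h1, Matrix.smul_mul, Matrix.mul_smul, smul_smul, h2, one_smul, gm_sq_mul hF hω, x0_sq hω h3, dg_one]

/-- `(−θ⁻¹ DFT)` is unitary -/
theorem un_W (hω : ω ^ 2 + ω + 1 = 0) (h3 : (3 : F) ≠ 0) (hq : ω ^ q = ω ^ 2) :
    ct q (-(ω - ω ^ 2)⁻¹ • Wm ω) * (-(ω - ω ^ 2)⁻¹ • Wm ω) = 1 := by
  have hω3 := omega_cube hω
  have hθ := theta_ne hω h3
  have h1 : (ω ^ 2) ^ q = ω := by
    rw [← pow_mul, mul_comm 2 q, pow_mul, hq]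
    linear_combination ω * hω3
  have h2 : (ω - ω ^ 2) ^ q = -(ω - ω ^ 2) := by rw [sub_pow_q hF, h1, hq]; ring
  rw [ct_smul hF, neg_pow_q hF, inv_pow, h2, Matrix.smul_mul, Matrix.mul_smul, smul_smul]
  have h4 : ct q (Wm ω) = Matrix.of fun i j : Fin 3 => ω ^ ((i : ℕ) * (j : ℕ)) := by
    ext i j
    show (ω ^ (2 * (j : ℕ) * (i : ℕ))) ^ q = ω ^ ((i : ℕ) * (j : ℕ))
    rw [← pow_mul, mul_comm _ q, pow_mul, hq, ← pow_mul]
    rw [show 2 * (2 * (j : ℕ) * (i : ℕ)) = 3 * ((i : ℕ) * j) + (i : ℕ) * j by ring, pow_add, pow_mul, hω3, one_pow,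
      one_mul]
  have h5 : ct q (Wm ω) * Wm ω = (3 : F) • 1 := by
    rw [h4]
    ext i j
    rw [Matrix.mul_apply, Fin.sum_univ_three]
    simp only [Matrix.of_apply, Wm, Matrix.smul_apply, smul_eq_mul]
    have e4 : ω ^ 4 = ω := by linear_combination ω * hω3
    rcases fin3 i with rfl | rfl | rfl <;> rcases fin3 j with rfl | rfl | rfl <;> simp only [_root_.Fin.isValue, _root_.Fin.coe_ofNat_eq_mod, _root_.Nat.zero_mod, _root_.MulZeroClass.mul_zero, _root_.pow_zero, _root_.mul_one, _root_.Nat.one_mod, _root_.Nat.mod_succ, _root_.MulZeroClass.zero_mul, _root_.Nat.reduceMul, _root_.Matrix.one_apply_eq, _root_.one_mul, _root_.ne_eq, _root_.zero_ne_one, _root_.not_false_eq_true, _root_.Matrix.one_apply_ne, _root_.Fin.reduceEq, _root_.pow_one, _root_.one_ne_zero]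
    · norm_num
    · linear_combination hω + ω * hω3
    · linear_combination hω + (ω ^ 5 + ω ^ 2 + ω) * hω3
    · linear_combination hω
    · linear_combination (ω ^ 3 + 2) * hω3
    · linear_combination hω + (ω ^ 2 + ω ^ 7 + ω ^ 4 + ω) * hω3
    · linear_combination hω + ω * hω3
    · linear_combination hω + (ω + ω ^ 5 + ω ^ 2) * hω3
    · linear_combination (ω ^ 3 + 1 + ω ^ 9 + ω ^ 6 + ω ^ 3 + 1) * hω3
  rw [h5, smul_smul]
  have h6 : -(-(ω - ω ^ 2))⁻¹ * -(ω - ω ^ 2)⁻¹ * 3 = (1 : F) := by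
    have h7 : (3 : F) = -((ω - ω ^ 2) * (ω - ω ^ 2)) := by rw [theta_sq hω]; ring
    rw [h7]
    generalize ω - ω ^ 2 = t at hθ
    field_simp
  rw [h6, one_smul]

theorem un_Wn (hω : ω ^ 2 + ω + 1 = 0) (h3 : (3 : F) ≠ 0) (hq : ω ^ q = ω ^ 2) : ct q (Wn ω) * Wn ω = 1 := by
  have h1 : ct q (Wn ω) = (Matrix.fromBlocks (ct q (-(ω - ω ^ 2)⁻¹ • Wm ω)) 0 0 1).submatrix
      (finSumFinEquiv (m := 3) (n := 3)).symm (finSumFinEquiv (m := 3) (n := 3)).symm := by
    ext r s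
    obtain ⟨r, rfl⟩ := (finSumFinEquiv (m := 3) (n := 3)).surjective r
    obtain ⟨s, rfl⟩ := (finSumFinEquiv (m := 3) (n := 3)).surjective s
    show (Wn ω _ _) ^ q = _
    rw [Wn, Matrix.submatrix_apply, Matrix.submatrix_apply, Equiv.symm_apply_apply, Equiv.symm_apply_apply]
    rcases r with r | r <;> rcases s with s | s
    · rfl
    · simp [zero_pow_q hF]
    · simp [zero_pow_q hF]
    · simp only [Matrix.fromBlocks_apply₂₂, Matrix.one_apply]
      by_cases h : r = s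
      · rw [if_pos h, if_pos h.symm, one_pow]
      · rw [if_neg h, if_neg (Ne.symm h), zero_pow_q hF]
  rw [h1, Wn, Matrix.submatrix_mul_equiv, Matrix.fromBlocks_multiply, un_W hF hω h3 hq]
  simp

end Cfsg.Agent.H890.A7
end

-- part: H890/A7/Kill
section
/-!
# `3.A₇` is not maximal in dimension six (helper890)
-/

set_option autoImplicit false
set_option linter.unusedSectionVars false

namespace Cfsg.Agent.H890.A7

open Cfsg Cfsg.Geo Matrix Cfsg.Agent.H913.N6 Cfsg.Agent.H890.K6 Cfsg.Agent.H890.Y3 Cfsg.Agent.H907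
open Equiv Equiv.Perm
open Cfsg.Agent.H915.LD (Core Soc toSoc tr)

/-! ### the alternating group -/

theorem pow_nine {σ : alternatingGroup (Fin 7)} (h : σ ^ 9 = 1) : σ ^ 3 = 1 := by
  have h1 : (σ : Perm (Fin 7)) ^ 9 = 1 := congrArg Subtype.val h
  apply Subtype.ext
  show (σ : Perm (Fin 7)) ^ 3 = 1
  rw [← orderOf_dvd_iff_pow_eq_one, ← lcm_cycleType, Multiset.lcm_dvd]
  intro n hn
  have h2 : n ∣ 9 := (dvd_of_mem_cycleType hn).trans (orderOf_dvd_of_pow_eq_one h1)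
  have h3 : n ≤ 7 := (le_card_support_of_mem_cycleType hn).trans (by
    have := Finset.card_le_univ (σ : Perm (Fin 7)).support
    rwa [Fintype.card_fin] at this)
  have h4 : n ∈ Nat.divisors 9 := Nat.mem_divisors.2 ⟨h2, by norm_num⟩
  have h5 : Nat.divisors 9 = {1, 3, 9} := by decide
  rw [h5] at h4
  simp only [Finset.mem_insert, Finset.mem_singleton] at h4
  rcases h4 with rfl | rfl | rfl
  · norm_num
  · norm_num
  · omega

theorem gen7 : Subgroup.closure ({r3, r3', kk, g4} : Set (alternatingGroup (Fin 7))) = ⊤ := by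
  apply Subgroup.map_injective (alternatingGroup (Fin 7)).subtype_injective
  rw [MonoidHom.map_closure, ← MonoidHom.range_eq_map, Subgroup.range_subtype]
  set G := Subgroup.closure ((alternatingGroup (Fin 7)).subtype '' {r3, r3', kk, g4}) with hG
  have m1 : (r3 : Perm (Fin 7)) ∈ G := Subgroup.subset_closure ⟨r3, by simp, rfl⟩
  have m2 : (r3' : Perm (Fin 7)) ∈ G := Subgroup.subset_closure ⟨r3', by simp, rfl⟩
  have m3 : (kk : Perm (Fin 7)) ∈ G := Subgroup.subset_closure ⟨kk, by simp, rfl⟩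
  have m4 : (g4 : Perm (Fin 7)) ∈ G := Subgroup.subset_closure ⟨g4, by simp, rfl⟩
  apply le_antisymm
  · rw [hG, Subgroup.closure_le]
    rintro _ ⟨s, -, rfl⟩
    exact s.2
  · have ht : ∀ y : Fin 7, ∃ g ∈ G, g 0 = y := by
      have t0 : ∃ g ∈ G, g 0 = (0 : Fin 7) := ⟨1, one_mem G, rfl⟩
      have step : ∀ {x y : Fin 7} {s : Perm (Fin 7)}, s ∈ G → s x = y → (∃ g ∈ G, g 0 = x) → ∃ g ∈ G, g 0 = y := by
        rintro x y s hs hxy ⟨g, hg, rfl⟩
        exact ⟨s * g, mul_mem hs hg, hxy⟩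
      have t1 := step m1 (by decide : (r3 : Perm (Fin 7)) 0 = 1) t0
      have t2 := step m1 (by decide : (r3 : Perm (Fin 7)) 1 = 2) t1
      have t3 := step m4 (by decide : (g4 : Perm (Fin 7)) 0 = 3) t0
      have t4 := step m2 (by decide : (r3' : Perm (Fin 7)) 3 = 4) t3
      have t5 := step m2 (by decide : (r3' : Perm (Fin 7)) 4 = 5) t4
      have t6 := step m3 (by decide : (kk : Perm (Fin 7)) 5 = 6) t5
      intro y
      fin_cases y
      exacts [t0, t1, t2, t3, t4, t5, t6]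
    have hpt : MulAction.IsPretransitive G (Fin 7) := by
      refine ⟨fun x y => ?_⟩
      obtain ⟨g, hg, rfl⟩ := ht x
      obtain ⟨g', hg', rfl⟩ := ht y
      refine ⟨⟨g' * g⁻¹, mul_mem hg' (inv_mem hg)⟩, ?_⟩
      show (g' * g⁻¹) (g 0) = g' 0
      simp only [_root_.Fin.isValue, _root_.Equiv.Perm.coe_mul, _root_.Equiv.Perm.coe_inv, _root_.Function.comp_apply, _root_.Equiv.symm_apply_apply]
    have hpp : MulAction.IsPreprimitive G (Fin 7) := MulAction.IsPreprimitive.of_prime_card (by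
      rw [Nat.card_eq_fintype_card, Fintype.card_fin]; norm_num)
    exact Perm.alternatingGroup_le_of_isPreprimitive_of_isThreeCycle_mem hpp (g := (r3 : Perm (Fin 7)))
      (by
        rw [← card_support_eq_three_iff]
        decide) m1

/-- `(i, j) ↦ r3 ^ i * r3' ^ j` -/
def f9 : Multiplicative (ZMod 3 × ZMod 3) →* alternatingGroup (Fin 7) :=
  MonoidHom.mk' (fun x => r3 ^ (x.toAdd.1).val * r3' ^ (x.toAdd.2).val) (by decide +kernel)

theorem f9_injective : Function.Injective f9 := by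
  rw [injective_iff_map_eq_one]
  decide +kernel

theorem index_f9 : f9.range.index = 280 := by
  have h1 : Nat.card f9.range = 9 := by
    rw [← Nat.card_congr (MonoidHom.ofInjective f9_injective).toEquiv]
    show Nat.card (ZMod 3 × ZMod 3) = 9
    rw [Nat.card_prod, Nat.card_zmod]
  have h2 := f9.range.card_mul_index
  rw [h1, nat_card_alternatingGroup, Nat.card_eq_fintype_card, Fintype.card_fin] at h2
  have h3 : Nat.factorial 7 / 2 = 9 * 280 := by decide
  rw [h3] at h2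
  exact Nat.eq_of_mul_eq_mul_left (by norm_num) h2

/-! ### the core -/

section core

variable {F : Type*} [Field F] {P : Subgroup (GL (Fin 6) F)}

local notation "R2" => Matrix (Fin 2) (Fin 2) F
local notation "M3" => Matrix (Fin 3) (Fin 3) (Matrix (Fin 2) (Fin 2) F)
local notation "M6" => Matrix (Fin 6) (Fin 6) F

/-- lifts of generators and the scalars of `P` generate `P` -/
theorem le_of_gens {T : Type*} [Group T] (C : Cov P T) {S : Set T} (hS : Subgroup.closure S = ⊤)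
    {Y : Subgroup (GL (Fin 6) F)} (hY : ∀ s ∈ S, ∃ y ∈ Y, C.L y s) (hsc : ∀ c, sc c ∈ P → sc c ∈ Y) : P ≤ Y := by
  have key : ∀ σ : T, ∃ y ∈ Y, C.L y σ := by
    intro σ
    have h1 : σ ∈ Subgroup.closure S := by rw [hS]; exact Subgroup.mem_top _
    induction h1 using Subgroup.closure_induction with
    | mem x hx => exact hY x hx
    | one => exact ⟨1, one_mem Y, Cov.L.one⟩
    | mul x y _ _ h h' =>
      obtain ⟨u, hu, hu'⟩ := h
      obtain ⟨v, hv, hv'⟩ := h'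
      exact ⟨u * v, mul_mem hu hv, hu'.mul hv'⟩
    | inv x _ h =>
      obtain ⟨u, hu, hu'⟩ := h
      exact ⟨u⁻¹, inv_mem hu, hu'.inv⟩
  intro x hx
  obtain ⟨σ, hσ⟩ := Cov.L.of_mem C hx
  obtain ⟨y, hy, hy'⟩ := key σ
  obtain ⟨c, hc, rfl⟩ := hσ.exists_sc hy'
  exact mul_mem (hsc c hc) hy

/-- The data of a normal form. -/
structure Frame (C : Cov P (alternatingGroup (Fin 7))) (ω : Fˣ) (a b k g T : GL (Fin 6) F) (ε : F) : Prop where
  rel : Rel 1 ω a b k g
  La : C.L a r3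
  Lb : C.L b r3'
  Lk : C.L k kk
  Lg : C.L g g4
  hω : (ω : F) ^ 2 + ω + 1 = 0
  h3 : (3 : F) ≠ 0
  hω3 : ω ^ 3 = 1
  hω1 : ω ≠ 1
  mem : sc ω ∈ P
  hε : ε ^ 2 = 1
  IA : Im T a (a3 (ω : F))
  IB : Im T b b3
  IK : Im T k (dg 1 (d0 (ω : F)) (d0 (ω : F)))
  IG : Im T g (ε • gm (ω : F) (x0 (ω : F)))
  cent : ∀ X : M6, X * a = a * X → X * b = b * X → X * k = k * X → X * g = g * X → ∃ c : F, X = c • 1

variable {C : Cov P (alternatingGroup (Fin 7))}

/-- the lifts of the two `3`-cycles do not commute -/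
theorem omega_ne_one [Finite F] (hC : Core P) (hz : ∃ c : Fˣ, c ≠ 1 ∧ c ^ 3 = 1 ∧ sc c ∈ P) {a b : GL (Fin 6) F}
    (La : C.L a r3) (Lb : C.L b r3') : a * b ≠ b * a := by
  intro hab
  obtain ⟨c, hc1, hc3, hc⟩ := hz
  have hcomm : Commute a b := hab
  let S : Subgroup P := f9.range.comap C.π
  have hS : ∀ x ∈ S, ∀ y ∈ S, x * y = y * x := by
    have form : ∀ x ∈ S, ∃ (d : Fˣ) (i j : ℕ), (x : GL (Fin 6) F) = sc d * (a ^ i * b ^ j) := by
      intro x hx
      obtain ⟨m, hm⟩ := hx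
      have h1 : C.L (x : GL (Fin 6) F) (r3 ^ (m.toAdd.1).val * r3' ^ (m.toAdd.2).val) := ⟨x.2, hm.symm⟩
      have h2 := (La.pow (m.toAdd.1).val).mul (Lb.pow (m.toAdd.2).val)
      obtain ⟨d, -, hd⟩ := h1.exists_sc h2
      exact ⟨d, _, _, hd⟩
    intro x hx y hy
    obtain ⟨d, i, j, h1⟩ := form x hx
    obtain ⟨d', i', j', h2⟩ := form y hy
    apply Subtype.ext
    rw [Subgroup.coe_mul, Subgroup.coe_mul, h1, h2]
    have e1 : Commute (a ^ i * b ^ j) (a ^ i' * b ^ j') := by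
      apply Commute.mul_left
      · exact Commute.mul_right (Commute.pow_pow (Commute.refl a) _ _) (hcomm.pow_pow _ _)
      · exact Commute.mul_right (hcomm.symm.pow_pow _ _) (Commute.pow_pow (Commute.refl b) _ _)
    have e2 : ∀ (e : Fˣ) (z : GL (Fin 6) F), Commute (sc e) z := fun e z => sc_comm e z
    exact ((e2 d _).mul_left ((e2 d' _).symm.mul_right e1)).eq
  have hzS : (⟨sc c, hc⟩ : P) ∈ S := by
    show C.π _ ∈ f9.range
    rw [(C.ker ⟨sc c, hc⟩).2 (sc_mem_scalars c)]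
    exact one_mem _
  have h1 := pow_index_mem hC.commutator_top S hS hzS (fun x => Subtype.ext (sc_comm c (x : GL (Fin 6) F)))
  have h2 : S.index = 280 := by
    rw [← index_f9]
    exact Subgroup.index_comap_of_surjective _ C.surj
  rw [h2] at h1
  have h3 : sc (c ^ 280) = (1 : GL (Fin 6) F) := by
    rw [sc_pow]
    exact congrArg Subtype.val h1
  rw [← sc_one] at h3
  have h4 := sc_inj h3
  apply hc1
  have h6 : c ^ 280 = (c ^ 3) ^ 93 * c := by rw [← pow_mul, ← pow_succ]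
  rw [h6, hc3, one_pow, one_mul] at h4
  exact h4

/-- the scalars of a core in dimension six -/
theorem z6_of (hC : Core P) : Z6 P := by
  intro c hc
  have h1 := hC.scalar_pow hc (coe_sc c)
  rw [Fintype.card_fin] at h1
  exact Units.ext (by rw [Units.val_pow_eq_pow_val, h1, Units.val_one])

/-- the common commutant of the generators -/
theorem cent_of_gens (hC : Core P) {a b k g : GL (Fin 6) F} (La : C.L a r3) (Lb : C.L b r3') (Lk : C.L k kk)
    (Lg : C.L g g4) : ∀ X : M6, X * a = a * X → X * b = b * X → X * k = k * X → X * g = g * X → ∃ c : F, X = c • 1 := by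
  intro X ha hb hk hg
  apply hC.absIrred.2
  let Y : Subgroup (GL (Fin 6) F) :=
    { carrier := {x | X * (x : M6) = (x : M6) * X}
      mul_mem' := fun {x y} hx hy => by
        change X * ((x * y : GL (Fin 6) F) : M6) = ((x * y : GL (Fin 6) F) : M6) * X
        rw [Units.val_mul, ← mul_assoc, show X * (x : M6) = (x : M6) * X from hx, mul_assoc,
          show X * (y : M6) = (y : M6) * X from hy, mul_assoc]
      one_mem' := by
        change X * ((1 : GL (Fin 6) F) : M6) = ((1 : GL (Fin 6) F) : M6) * X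
        rw [Units.val_one, mul_one, one_mul]
      inv_mem' := fun {x} hx => by
        change X * ((x⁻¹ : GL (Fin 6) F) : M6) = ((x⁻¹ : GL (Fin 6) F) : M6) * X
        have h1 : ((x⁻¹ : GL (Fin 6) F) : M6) * (X * (x : M6)) * ((x⁻¹ : GL (Fin 6) F) : M6) =
          ((x⁻¹ : GL (Fin 6) F) : M6) * ((x : M6) * X) * ((x⁻¹ : GL (Fin 6) F) : M6) := by
            rw [show X * (x : M6) = (x : M6) * X from hx]
        have h2 : (x : M6) * ((x⁻¹ : GL (Fin 6) F) : M6) = 1 := by rw [← Units.val_mul, mul_inv_cancel, Units.val_one]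
        have h4 : ((x⁻¹ : GL (Fin 6) F) : M6) * (x : M6) = 1 := by rw [← Units.val_mul, inv_mul_cancel, Units.val_one]
        rw [mul_assoc, mul_assoc, h2, mul_one, ← mul_assoc (((x⁻¹ : GL (Fin 6) F) : M6)) (x : M6), h4, one_mul] at h1
        exact h1.symm }
  have hPY : P ≤ Y := by
    refine le_of_gens C gen7 ?_ ?_
    · intro s hs
      simp only [Set.mem_insert_iff, Set.mem_singleton_iff] at hs
      rcases hs with rfl | rfl | rfl | rfl
      exacts [⟨a, ha, La⟩, ⟨b, hb, Lb⟩, ⟨k, hk, Lk⟩, ⟨g, hg, Lg⟩]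
    · intro c _
      change X * ((sc c : GL (Fin 6) F) : M6) = ((sc c : GL (Fin 6) F) : M6) * X
      rw [coe_sc, mul_smul_comm, smul_mul_assoc, mul_one, one_mul]
  rintro _ ⟨x, hx, rfl⟩
  exact hPY hx

/-- The data, `e = ± 1` -/
theorem exists_data [Finite F] (hC : Core P) (C : Cov P (alternatingGroup (Fin 7)))
    (hz : ∃ c : Fˣ, c ≠ 1 ∧ c ^ 3 = 1 ∧ sc c ∈ P) : ∃ (e ω : Fˣ) (a b k g : GL (Fin 6) F), e ^ 2 = 1 ∧ sc e ∈ P ∧
      Rel e ω a b k g ∧ C.L a r3 ∧ C.L b r3' ∧ C.L k kk ∧ C.L g g4 ∧ sc ω ∈ P ∧ ω ^ 3 = 1 ∧ ω ≠ 1 ∧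
      (ω : F) ^ 2 + ω + 1 = 0 ∧ (3 : F) ≠ 0 ∧
      ∀ X : M6, X * a = a * X → X * b = b * X → X * k = k * X → X * g = g * X → ∃ c : F, X = c • 1 := by
  obtain ⟨k₀, e, hk₀, he, hk₀2, heP⟩ := exists_k (C := C) (z6_of hC)
  obtain ⟨ω, a, b, k, g, hrel, La, Lb, Lk, Lg, hωP⟩ := exists_rel (C := C) (z6_of hC) he hk₀ hk₀2
  have hω1 : ω ≠ 1 := by
    rintro rfl
    apply omega_ne_one hC hz La Lb
    rw [hrel.ab, sc_one, one_mul]
  have hω3 := hrel.ω3
  have hω3' : (ω : F) ^ 3 = 1 := by rw [← Units.val_pow_eq_pow_val, hω3, Units.val_one]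
  have hω1' : (ω : F) ≠ 1 := fun h => hω1 (Units.ext h)
  exact ⟨e, ω, a, b, k, g, he, heP, hrel, La, Lb, Lk, Lg, hωP, hω3, hω1, omega_sum hω3' hω1', three_ne hω3' hω1',
    cent_of_gens hC La Lb Lk Lg⟩

/-- **Existence of the frame.** -/
theorem exists_frame [Finite F] (hC : Core P) (C : Cov P (alternatingGroup (Fin 7)))
    (hz : ∃ c : Fˣ, c ≠ 1 ∧ c ^ 3 = 1 ∧ sc c ∈ P) :
    (∃ ω a b k g T ε, Frame C ω a b k g T ε) ∨
    ((2 : F) ≠ 0 ∧ sc (-1) ∈ P ∧ ∃ (ω : Fˣ) (a b k g : GL (Fin 6) F),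
      Rel (-1) ω a b k g ∧ C.L a r3 ∧ C.L b r3' ∧ C.L k kk ∧ C.L g g4 ∧ sc ω ∈ P ∧ ω ^ 3 = 1 ∧ ω ≠ 1 ∧
      (ω : F) ^ 2 + ω + 1 = 0 ∧ (3 : F) ≠ 0 ∧
      ∀ X : M6, X * a = a * X → X * b = b * X → X * k = k * X → X * g = g * X → ∃ c : F, X = c • 1) := by
  obtain ⟨e, ω, a, b, k, g, he, heP, hrel, La, Lb, Lk, Lg, hωP, hω3, hω1, hω, h3, hcent⟩ := exists_data hC C hz
  by_cases he1 : e = 1
  · left
    subst he1
    have hdet : (g : M6).det = 1 := by
      rw [← Matrix.GeneralLinearGroup.val_det_apply, hC.det Lg.mem, Units.val_one]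
    obtain ⟨T, ε, hε, hA, hB, hK, hG⟩ := normal_form hrel hω h3 hdet hcent
    exact ⟨ω, a, b, k, g, T, ε, hrel, La, Lb, Lk, Lg, hω, h3, hω3, hω1, hωP, hε, hA, hB, hK, hG, hcent⟩
  · right
    have hem : e = -1 := by
      have h1 : ((e : F) - 1) * ((e : F) + 1) = 0 := by
        have : (e : F) ^ 2 = 1 := by rw [← Units.val_pow_eq_pow_val, he, Units.val_one]
        linear_combination this
      rcases mul_eq_zero.1 h1 with h2 | h2
      · exact absurd (Units.ext (sub_eq_zero.1 h2)) he1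
      · exact Units.ext (by rw [Units.val_neg, Units.val_one]; exact eq_neg_of_add_eq_zero_left h2)
    subst hem
    refine ⟨fun h2 => he1 (Units.ext ?_), heP, ω, a, b, k, g, hrel, La, Lb, Lk, Lg, hωP, hω3, hω1, hω, h3, hcent⟩
    rw [Units.val_neg, Units.val_one]
    linear_combination -h2

variable {ω : Fˣ} {a b k g T : GL (Fin 6) F} {ε : F}

/-- `P` preserves the transported lines -/
theorem Frame.le_X [Finite F] (h : Frame C ω a b k g T ε) : P ≤ (X (ω : F)).map (MulAut.conj T).toMonoidHom := by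
  have key : ∀ (x : GL (Fin 6) F) (x' : M3) (M : ℕ → ℕ → E) (tab : List (E × ℕ)) (θ : F), Im T x x' → θ ≠ 0 →
      (∀ r s : Fin 6, θ * rho x' r s = ev (ω : F) (M r s)) → chk M tab = true →
      x ∈ (X (ω : F)).map (MulAut.conj T).toMonoidHom := by
    intro x x' M tab θ hx hθ hM hchk
    refine ⟨T⁻¹ * x * T, ?_, ?_⟩
    · show T⁻¹ * x * T ∈ X (ω : F)
      rw [mem_X]
      intro v hv
      have e : ((T⁻¹ * x * T : GL (Fin 6) F) : M6) = rho x' := by
        rw [mul_assoc, Units.val_mul, Units.val_mul, hx, ← mul_assoc, ← Units.val_mul, inv_mul_cancel, Units.val_one,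
          one_mul]
      rw [e]
      exact isLine_mulVec h.hω h.h3 hchk hθ hM hv
    · show T * (T⁻¹ * x * T) * T⁻¹ = x
      group
  refine le_of_gens C gen7 ?_ ?_
  · intro s hs
    simp only [Set.mem_insert_iff, Set.mem_singleton_iff] at hs
    rcases hs with rfl | rfl | rfl | rfl
    · exact ⟨a, key a _ _ _ 1 h.IA one_ne_zero (ent_A h.hω) chk_A, h.La⟩
    · exact ⟨b, key b _ _ _ 1 h.IB one_ne_zero ent_B chk_B, h.Lb⟩
    · exact ⟨k, key k _ _ _ 1 h.IK one_ne_zero (ent_K h.hω) chk_K, h.Lk⟩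
    · refine ⟨g, key g _ _ _ _ h.IG ?_ (ent_G h.hω h.h3 h.hε) chk_G, h.Lg⟩
      refine mul_ne_zero (fun h0 => ?_) (theta_ne h.hω h.h3)
      have := h.hε
      rw [h0] at this
      norm_num at this
  · intro c _
    refine ⟨sc c, sc_mem_X _ c, ?_⟩
    show T * sc c * T⁻¹ = sc c
    rw [← sc_comm, mul_inv_cancel_right]

/-- no outer automorphisms -/
theorem Frame.mem_of_norm [Finite F] (h : Frame C ω a b k g T ε) {H : Subgroup (GL (Fin 6) F)}
    (hH : IsResidualCore H P) {x : GL (Fin 6) F} (hx : x ∈ H) : ∃ y ∈ P, ∃ c, x = y * sc c := by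
  have hxi : ∀ y ∈ P, x⁻¹ * y * x ∈ P := by
    intro y hy
    have := hH.normal x⁻¹ (inv_mem hx) y hy
    rwa [inv_inv] at this
  obtain ⟨φ, hφ⟩ := Cov.exists_aut C (hH.normal x hx) hxi
  obtain ⟨σ, hσ⟩ := Cfsg.Agent.StandardComponent.AltAut.exists_conj (m := 5) le_rfl φ
  rcases Int.units_eq_one_or (sign σ) with hs | hs
  · obtain ⟨y, c, hy, hc⟩ := Cov.mem_of_inner (C := C) (h := x) (φ := φ)
      (fun g hg hcs => hH.centralizer_scalar _ (mul_mem (inv_mem (hH.le hg)) hx) hcs) hφ (γ := ⟨σ, hs⟩)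
      (fun τ => Subtype.ext (hσ τ))
    exact ⟨y, hy.mem, c, hc⟩
  · exfalso
    have hmem : _root_.Equiv.swap (0 : Fin 7) 1 * σ⁻¹ ∈ alternatingGroup (Fin 7) := by
      rw [mem_alternatingGroup, map_mul, map_inv, hs, sign_swap (by decide)]
      decide
    obtain ⟨y, hy⟩ := C.exists_lift ⟨_root_.Equiv.swap (0 : Fin 7) 1 * σ⁻¹, hmem⟩
    have key : ∀ u τ, C.L u τ → ∀ τ' : alternatingGroup (Fin 7), (τ' : Perm (Fin 7)) =
        _root_.Equiv.swap (0 : Fin 7) 1 * (τ : Perm (Fin 7)) * (_root_.Equiv.swap (0 : Fin 7) 1)⁻¹ →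
        C.L ((y * x) * u * (y * x)⁻¹) τ' := by
      intro u τ hu τ' hτ'
      have h1 := (hφ u τ hu).conj hy
      have e : y * (x * u * x⁻¹) * y⁻¹ = (y * x) * u * (y * x)⁻¹ := by group
      rw [e] at h1
      refine L_congr h1 (Subtype.ext ?_)
      rw [hτ']
      show _root_.Equiv.swap (0 : Fin 7) 1 * σ⁻¹ * (φ τ : Perm (Fin 7)) * (_root_.Equiv.swap (0 : Fin 7) 1 * σ⁻¹)⁻¹ = _
      rw [hσ]
      group
    have h1 := key a r3 h.La r3⁻¹ (by decide)
    have h2 := key b r3' h.Lb r3' (by decide)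
    obtain ⟨c₁, -, hc₁⟩ := h1.exists_sc h.La.inv
    obtain ⟨c₂, -, hc₂⟩ := h2.exists_sc h.Lb
    have h4 : (y * x) * (a * b) * (y * x)⁻¹ = sc (ω : Fˣ) * ((y * x) * (b * a) * (y * x)⁻¹) := by
      rw [h.rel.ab, ← mul_assoc (y * x) (sc ω), ← sc_comm]; group
    have h5 : (y * x) * (a * b) * (y * x)⁻¹ = (sc c₁ * a⁻¹) * (sc c₂ * b) := by rw [← hc₁, ← hc₂]; group
    have h6 : (y * x) * (b * a) * (y * x)⁻¹ = (sc c₂ * b) * (sc c₁ * a⁻¹) := by rw [← hc₁, ← hc₂]; group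
    rw [h5, h6] at h4
    have h7 : a⁻¹ * b = sc ω * (b * a⁻¹) := by
      have e1 : (sc c₁ * a⁻¹) * (sc c₂ * b) = (sc c₁ * sc c₂) * (a⁻¹ * b) := by
        rw [mul_assoc, ← mul_assoc a⁻¹, ← sc_comm c₂ a⁻¹]; group
      have e2 : sc ω * ((sc c₂ * b) * (sc c₁ * a⁻¹)) = (sc c₁ * sc c₂) * (sc ω * (b * a⁻¹)) := by
        rw [mul_assoc (sc c₂) b, ← mul_assoc b, ← sc_comm c₁ b, sc_comm c₁ (sc c₂)]
        rw [← mul_assoc (sc ω), ← mul_assoc (sc ω * sc c₂), sc_comm ω (sc c₂)]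
        rw [mul_assoc (sc c₂) (sc ω), ← mul_assoc (sc ω) (sc c₁), sc_comm ω (sc c₁)]
        group
      rw [e1, e2] at h4
      exact mul_left_cancel h4
    have h8 : b * a = sc ω * (a * b) := by
      calc b * a = a * (a⁻¹ * b) * a := by group
        _ = a * (sc ω * (b * a⁻¹)) * a := by rw [h7]
        _ = sc ω * (a * b) := by rw [← mul_assoc a, ← sc_comm ω a]; group
    rw [h.rel.ab, ← mul_assoc, ← sc_mul] at h8
    have h9 : sc (ω * ω) = (1 : GL (Fin 6) F) := by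
      have := mul_right_cancel (a := (1 : GL (Fin 6) F)) (b := b * a) (c := sc (ω * ω)) (by rw [one_mul]; exact h8)
      exact this.symm
    rw [← sc_one] at h9
    have h10 := sc_inj h9
    exact h.hω1 (eq_one_of h.hω3 (by rw [sq]; exact h10))

/-! ### the elements `D` and `W` -/

theorem det_D {ω : F} (hω : ω ^ 2 + ω + 1 = 0) : (rho (dD ω)).det = 1 := by
  have h1 : rho (dD ω) = Matrix.diagonal (fun s : Fin 6 => ev ω (ME_D s s)) := by
    ext r s
    rw [← one_mul (rho (dD ω) r s), ent_D hω, Matrix.diagonal_apply]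
    by_cases h : r = s
    · rw [if_pos h, h]
    · rw [if_neg h, ME_D, if_neg (fun h' => h (Fin.ext h')), ev_zero]
  rw [h1, Matrix.det_diagonal, Fin.prod_univ_six]
  simp only [ME_D, ev, _root_.Fin.isValue, _root_.Fin.coe_ofNat_eq_mod, _root_.Nat.zero_mod, ↓ _root_.reduceIte, _root_.Int.cast_zero, _root_.Int.cast_one, _root_.one_mul, _root_.zero_add, _root_.Nat.one_mod, _root_.one_ne_zero, _root_.Int.reduceNeg, _root_.Int.cast_neg, _root_.neg_mul, _root_.Nat.reduceMod, _root_.OfNat.ofNat_ne_zero, _root_.OfNat.ofNat_ne_one, _root_.MulZeroClass.zero_mul, _root_.add_zero, _root_.mul_one, _root_.Nat.mod_succ]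
  linear_combination -hω

theorem cube_D (ω : F) : (dD ω * b3) ^ 3 = dg (!![ω, 0; 0, ω ^ 2] : R2) !![ω, 0; 0, ω ^ 2] !![ω, 0; 0, ω ^ 2] := by
  rw [pow_succ, sq, dD]
  obtain ⟨k00, k01, k02, k10, k11, k12, k20, k21, k22⟩ := dg_entries (!![ω, 0; 0, ω ^ 2] : R2) 1 1
  obtain ⟨l00, l01, l02, l10, l11, l12, l20, l21, l22⟩ :=
    dg_entries (!![ω, 0; 0, ω ^ 2] : R2) !![ω, 0; 0, ω ^ 2] !![ω, 0; 0, ω ^ 2]
  have e : ∀ i j, (dg (!![ω, 0; 0, ω ^ 2] : R2) 1 1 * b3 : M3) i j = dg (!![ω, 0; 0, ω ^ 2] : R2) 1 1 i (j + 1) :=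
    fun i j => mul_b3 _ i j
  have e00 := e 0 0
  have e01 := e 0 1
  have e02 := e 0 2
  have e10 := e 1 0
  have e11 := e 1 1
  have e12 := e 1 2
  have e20 := e 2 0
  have e21 := e 2 1
  have e22 := e 2 2
  rw [show (0 : Fin 3) + 1 = 1 from rfl] at e00 e10 e20
  rw [show (1 : Fin 3) + 1 = 2 from rfl] at e01 e11 e21
  rw [show (2 : Fin 3) + 1 = 0 from rfl] at e02 e12 e22
  rw [k01] at e00
  rw [k02] at e01
  rw [k00] at e02
  rw [k11] at e10
  rw [k12] at e11
  rw [k10] at e12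
  rw [k21] at e20
  rw [k22] at e21
  rw [k20] at e22
  apply ext3 <;> simp only [mul3, e00, e01, e02, e10, e11, e12, e20, e21, e22, l00, l01, l02, l10, l11, l12, l20, l21,
    l22, mul_zero, zero_mul, add_zero, zero_add, mul_one, one_mul]

/-- **`H` is not maximal in `S`.** -/
theorem Frame.false_of [Finite F] (h : Frame C ω a b k g T ε) {S H : Subgroup (GL (Fin 6) F)}
    (hmax : IsMaximalIn S H) (hH : IsResidualCore H P)
    (hS : ∀ Y : GL (Fin 6) F, (Y : M6) = rho (dD (ω : F)) ∨ (Y : M6) = Wn (ω : F) → T * Y * T⁻¹ ∈ S) : False := by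
  obtain ⟨D, hD⟩ : ∃ D : GL (Fin 6) F, (D : M6) = rho (dD (ω : F)) :=
    ⟨Matrix.GeneralLinearGroup.mkOfDetNeZero (rho (dD (ω : F))) (by rw [det_D h.hω]; exact one_ne_zero), rfl⟩
  obtain ⟨W, hW⟩ : ∃ W : GL (Fin 6) F, (W : M6) = Wn (ω : F) :=
    ⟨Matrix.GeneralLinearGroup.mkOfDetNeZero (Wn (ω : F)) (by rw [det_Wn h.hω h.h3]; exact one_ne_zero), rfl⟩
  have hHX : H ≤ (X (ω : F)).map (MulAut.conj T).toMonoidHom := by
    intro x hx
    obtain ⟨y, hy, c, rfl⟩ := h.mem_of_norm hH hx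
    refine mul_mem (h.le_X hy) ⟨sc c, sc_mem_X _ c, ?_⟩
    show T * sc c * T⁻¹ = sc c
    rw [← sc_comm, mul_inv_cancel_right]
  have hDX : T * D * T⁻¹ ∈ (X (ω : F)).map (MulAut.conj T).toMonoidHom := by
    refine ⟨D, ?_, rfl⟩
    show D ∈ X (ω : F)
    rw [mem_X]
    intro v hv
    rw [hD]
    exact isLine_mulVec h.hω h.h3 chk_D one_ne_zero (ent_D h.hω) hv
  have hDH : T * D * T⁻¹ ∉ H := by
    intro hDH
    have hy : T * D * T⁻¹ * b ∈ H := mul_mem hDH (hH.le h.Lb.mem)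
    obtain ⟨x, hx, c, hc⟩ := h.mem_of_norm hH hy
    obtain ⟨σ, hσ⟩ := Cov.L.of_mem C hx
    have hIm : Im T ((T * D * T⁻¹ * b : GL (Fin 6) F) : M6) (dD (ω : F) * b3) := by
      have h1 : Im T ((T * D * T⁻¹ : GL (Fin 6) F) : M6) (dD (ω : F)) := by
        rw [Im, ← Units.val_mul, inv_mul_cancel_right, Units.val_mul, hD]
      rw [Units.val_mul (T * D * T⁻¹ : GL (Fin 6) F)]
      exact h1.mul h.IB
    have hIm3 := hIm.pow 3
    rw [cube_D, ← Units.val_pow_eq_pow_val] at hIm3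
    have hδ9 : (!![(ω : F), 0; 0, (ω : F) ^ 2] : R2) * (!![(ω : F), 0; 0, (ω : F) ^ 2] * !![(ω : F), 0; 0, (ω : F) ^ 2]) = 1 := by
      have hω3 := omega_cube h.hω
      ext i j
      (revert i j; simp only [_root_.Fin.forall_fin_succ, _root_.Matrix.cons_mul, _root_.Nat.succ_eq_add_one, Nat.reduceAdd, _root_.Matrix.vecMul_cons, _root_.Matrix.head_cons, _root_.Matrix.smul_cons, _root_.smul_eq_mul, _root_.MulZeroClass.mul_zero, _root_.Matrix.smul_empty, _root_.Matrix.tail_cons, _root_.zero_smul, _root_.Matrix.empty_vecMul, _root_.add_zero, _root_.zero_add, _root_.Matrix.empty_mul, _root_.Equiv.symm_apply_apply, _root_.Matrix.of_apply, _root_.Matrix.cons_val', _root_.Matrix.cons_val_fin_one, Fin.isValue, _root_.Matrix.cons_val_zero, _root_.Matrix.cons_val_succ, _root_.IsEmpty.forall_iff, _root_.Matrix.one_apply_eq, _root_.Fin.succ_zero_eq_one, _root_.ne_eq, _root_.zero_ne_one, _root_.not_false_eq_true, _root_.Matrix.one_apply_ne,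 _root_.Fin.succ_ne_zero, _root_.and_true, _root_.true_and]) <;> (repeat' with_reducible apply And.intro)
      · linear_combination hω3
      · linear_combination ((ω : F) ^ 3 + 1) * hω3
    have hone : (T * D * T⁻¹ * b) ^ 9 = 1 := by
      have h1 := hIm3.pow 3
      have h2 : (dg (!![(ω : F), 0; 0, (ω : F) ^ 2] : R2) !![(ω : F), 0; 0, (ω : F) ^ 2] !![(ω : F), 0; 0, (ω : F) ^ 2]) ^ 3 = 1 := by
        rw [pow_succ, sq, mul_assoc, dg_mul, dg_mul, hδ9, dg_one]
      rw [h2, ← Units.val_pow_eq_pow_val, ← pow_mul] at h1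
      exact Units.ext (h1.inj (Im.one T))
    have hσ9 : σ ^ 9 = 1 := by
      have h1 := hσ.pow 9
      have h2 : x ^ 9 = sc (c⁻¹ ^ 9) := by
        have h3 : x = (T * D * T⁻¹ * b) * sc c⁻¹ := by rw [hc, mul_assoc, ← sc_mul, mul_inv_cancel, sc_one, mul_one]
        rw [h3, ((show Commute (sc c⁻¹ : GL (Fin 6) F) (T * D * T⁻¹ * b) from sc_comm _ _).symm).mul_pow, hone, one_mul,
          sc_pow]
      have h3 : C.L (x ^ 9) 1 := Cov.L.one_iff.2 ⟨pow_mem hx 9, _, h2⟩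
      exact h1.unique h3
    have hσ3 := pow_nine hσ9
    have h1 := hσ.pow 3
    rw [hσ3, Cov.L.one_iff] at h1
    obtain ⟨-, d, hd⟩ := h1
    have h2 : (T * D * T⁻¹ * b) ^ 3 = sc (d * c ^ 3) := by
      rw [hc, ((show Commute (sc c : GL (Fin 6) F) x from sc_comm _ _).symm).mul_pow, hd, ← sc_pow, ← sc_mul]
    rw [h2] at hIm3
    have h4 : Im T ((sc (d * c ^ 3) : GL (Fin 6) F) : M6) (((d * c ^ 3 : Fˣ) : F) • (1 : M3)) := by
      rw [Im, coe_sc, rho_smul, map_one, Matrix.smul_mul, Matrix.mul_smul, Matrix.one_mul, Matrix.mul_one]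
    have h5 := congrFun (congrFun (hIm3.unique h4) 0) 0
    have h6 := congrFun (congrFun h5 0) 0
    have h7 := congrFun (congrFun h5 1) 1
    have h8 : (ω : F) = (d * c ^ 3 : Fˣ) := by
      have e : (((d * c ^ 3 : Fˣ) : F) • (1 : M3)) 0 0 0 0 = (d * c ^ 3 : Fˣ) := by
        show ((d * c ^ 3 : Fˣ) : F) * 1 = _
        rw [mul_one]
      rw [e] at h6
      exact h6
    have h9 : (ω : F) ^ 2 = (d * c ^ 3 : Fˣ) := by
      have e : (((d * c ^ 3 : Fˣ) : F) • (1 : M3)) 0 0 1 1 = (d * c ^ 3 : Fˣ) := by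
        show ((d * c ^ 3 : Fˣ) : F) * 1 = _
        rw [mul_one]
      rw [e] at h7
      exact h7
    have h10 : (ω : F) * (ω - 1) = 0 := by linear_combination h9 - h8
    rcases mul_eq_zero.1 h10 with h11 | h11
    · exact ω.ne_zero h11
    · exact omega_ne h.hω h.h3 (sub_eq_zero.1 h11)
  rcases hmax.2 ((X (ω : F)).map (MulAut.conj T).toMonoidHom ⊓ S) (le_inf hHX hmax.1.le) inf_le_right with h1 | h1
  · exact hDH (by rw [← h1]; exact ⟨hDX, hS D (Or.inl hD)⟩)
  · have h2 : T * W * T⁻¹ ∈ (X (ω : F)).map (MulAut.conj T).toMonoidHom ⊓ S := by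
      rw [h1]; exact hS W (Or.inr hW)
    obtain ⟨W', hW', hW2⟩ := h2.1
    have h3 : W' = W := by
      have h4 : T * W' * T⁻¹ = T * W * T⁻¹ := hW2
      exact mul_left_cancel (mul_right_cancel h4)
    rw [h3] at hW'
    apply Wn_not h.hω h.h3
    intro v hv
    rw [← hW]
    exact (mem_X.1 hW') v hv

end core

end Cfsg.Agent.H890.A7
end

private theorem dce_901aceb158f9 : _root_.True := by
  try have : _root_.True := by simp only [_root_.Cfsg.Agent.H890.K6.pairs.eq_1]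
  try have : _root_.True := by simp only [_root_.Cfsg.Agent.H890.K6.negE.eq_1]
  try have : _root_.True := by simp only [_root_.Cfsg.Agent.H890.K6.ME_D.eq_1]
  try have : _root_.True := by simp only [_root_.Cfsg.Agent.H890.A7.Q2.eq_1]
  try have : _root_.True := by simp only [_root_.Cfsg.Agent.H890.K6.ln.eq_1]
  try have : _root_.True := by simp only [_root_.Cfsg.Agent.H890.A7.Q1.eq_1]
  try have : _root_.True := by simp only [_root_.Cfsg.Agent.H890.A7.xneg.eq_1]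
  try have : _root_.True := by simp only [_root_.Cfsg.Agent.H890.A7.rm.eq_1]
  try have : _root_.True := by simp only [_root_.Cfsg.Agent.H890.K6.ME_B.eq_1]
  try have : _root_.True := by simp only [_root_.Cfsg.Agent.H890.K6.pwE.eq_1]
  try have : _root_.True := by simp only [_root_.Cfsg.Agent.H890.A7.cvec.eq_1]
  try have : _root_.True := by simp only [_root_.Cfsg.Agent.H890.A7.Wm.eq_1]
  try have : _root_.True := by simp only [_root_.Cfsg.Agent.H890.A7.dg.eq_1]
  try have : _root_.True := by simp only [_root_.Cfsg.Agent.H890.A7.pi0.eq_1]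
  try have : _root_.True := by simp only [_root_.Cfsg.Agent.H890.K6.ME_K.eq_1]
  try have : _root_.True := by simp only [_root_.Cfsg.Agent.H890.A7.Wn.eq_1]
  try have : _root_.True := by simp only [_root_.Cfsg.Agent.H890.A7.Phi.eq_1]
  try have : _root_.True := by simp only [_root_.Cfsg.Agent.H890.A7.dD.eq_1]
  try have : _root_.True := by simp only [_root_.Cfsg.Agent.H890.K6.ME_G.eq_1]
  try have : _root_.True := by simp only [_root_.Cfsg.Agent.H890.A7.x0.eq_1]
  try have : _root_.True := by simp only [_root_.Cfsg.Agent.H890.K6.ME_A.eq_1]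
  try have : _root_.True := by simp only [_root_.Cfsg.Agent.H890.A7.Q0.eq_1]
  try have : _root_.True := by simp only [_root_.Cfsg.Agent.H890.A7.Im.eq_1]
  try have : _root_.True := by simp only [_root_.Cfsg.Agent.H890.A7.gm.eq_1]
  try have : _root_.True := by simp only [_root_.Cfsg.Agent.H890.A7.d0.eq_1]
  exact _root_.True.intro
end
end
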