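import Mathlib
import Cfsg.Agent.H890.K6Lines_m3
import Cfsg.Agent.Lib.FastPerm
import Cfsg.Agent.Lib.PermDec
import Cfsg.Agent.H906.Cover_m3
import Cfsg.Agent.LieClassical.SmallIso
import Cfsg.Agent.LieClassical.FieldTransfer
import Cfsg.Prelude.Def_Spor_Mathieu
import Cfsg.Agent.Lib.AltCarmichael
import Cfsg.Agent.StdAlt.Six.Aut
import Cfsg.Agent.OddHalf.D5.SixAut.Theta
import Cfsg.Agent.H910.Six.Hex_m3
import Cfsg.Agent.Lib.PermCode
import Cfsg.Agent.FastGrp
import Cfsg.Agent.Prune
set_option linter.all false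

section
prune_inst 0x7fbca9f82bb8bbffdfff7e77a6d4cdfc3bb13fffe4dff9437fe061ff0bdf0b08c9c5638509e010fe1e96c01410a87b03fbfffeffe86bdc7ffffd5ff41ffbee4fe5f6b508519c88b40fbc2ff603f0778e7f3fffffffffffffffffffffffffffaeffbfffffffff

-- part: H910/Six/OmegaChk
section
set_option linter.all false
open scoped Cfsg.Agent.FastGrp

-- part: H910/Six/Eis
section
/-!
# Computing with Eisenstein integers (helper910)

`E = ℤ × ℤ`, `(a, b)` is `a + b w`; `ev w : E → F`; lists as vectors and matrices.
-/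

set_option autoImplicit false

namespace Cfsg.Agent.H910.Six

/-- Eisenstein integers -/
abbrev E := ℤ × ℤ

/-- sum -/
def eadd (x y : E) : E := (x.1 + y.1, x.2 + y.2)

/-- product -/
def emul (x y : E) : E := (x.1 * y.1 - x.2 * y.2, x.1 * y.2 + x.2 * y.1 - x.2 * y.2)

/-- norm -/
def enorm (x : E) : ℤ := x.1 * x.1 - x.1 * x.2 + x.2 * x.2

/-- scalar product -/
def dot : List E → List E → E
  | a :: l, b :: m => eadd (emul a b) (dot l m)
  | _, _ => (0, 0)

theorem dot_nil (m : List E) : dot [] m = (0, 0) := by cases m <;> rfl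

theorem dot_nil' (l : List E) : dot l [] = (0, 0) := by cases l <;> rfl

/-- matrix times vector -/
def mulV (M : List (List E)) (v : List E) : List E := M.map fun r => dot r v

variable {F : Type*} [Field F]

/-- evaluation -/
def ev (w : F) (x : E) : F := x.1 + x.2 * w

theorem ev_zero (w : F) : ev w (0, 0) = 0 := by simp [ev]

theorem ev_one (w : F) : ev w (1, 0) = 1 := by simp [ev]

theorem ev_add (w : F) (x y : E) : ev w (eadd x y) = ev w x + ev w y := by
  simp only [ev, eadd]; push_cast; ring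

theorem ev_mul {w : F} (hw : w * w + w + 1 = 0) (x y : E) : ev w (emul x y) = ev w x * ev w y := by
  simp only [ev, emul]; push_cast
  linear_combination -(x.2 : F) * y.2 * hw

theorem ev_norm {w : F} (hw : w * w + w + 1 = 0) (x : E) : ev w x * ev w (x.1 - x.2, -x.2) = (enorm x : F) := by
  simp only [ev, enorm]; push_cast
  linear_combination -(x.2 : F) * x.2 * hw

theorem ev_ne_zero {w : F} (hw : w * w + w + 1 = 0) {p : ℕ} [CharP F p] (hp : 5 ≤ p) (hp' : p.Prime) {x : E}
    (h : enorm x ∣ 144) : ev w x ≠ 0 := by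
  intro h0
  have h1 := ev_norm hw x
  rw [h0, zero_mul] at h1
  obtain ⟨k, hk⟩ := h
  have h2 : ((144 : ℤ) : F) = 0 := by rw [hk]; push_cast; rw [← h1, zero_mul]
  have h3 : ((144 : ℕ) : F) = 0 := by exact_mod_cast h2
  rw [CharP.cast_eq_zero_iff F p] at h3
  have h4 : p ∣ 2 ^ 4 * 3 ^ 2 := by norm_num; exact h3
  rcases (Nat.Prime.dvd_mul hp').1 h4 with h5 | h5
  · have := Nat.le_of_dvd (by norm_num) (hp'.dvd_of_dvd_pow h5); omega
  · have := Nat.le_of_dvd (by norm_num) (hp'.dvd_of_dvd_pow h5); omega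

theorem ev_dot {w : F} (hw : w * w + w + 1 = 0) : ∀ (l m : List E) (n : ℕ), l.length ≤ n →
    ev w (dot l m) = ∑ i ∈ Finset.range n, ev w (l.getD i (0, 0)) * ev w (m.getD i (0, 0))
  | [], m, n, _ => by
    rw [dot_nil, ev_zero]
    symm
    apply Finset.sum_eq_zero
    intro i _
    rw [List.getD_nil, ev_zero, zero_mul]
  | a :: l, [], n, _ => by
    rw [dot_nil', ev_zero]
    symm
    apply Finset.sum_eq_zero
    intro i _
    rw [List.getD_nil (n := i), ev_zero, mul_zero]
  | a :: l, b :: m, 0, h => by simp at h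
  | a :: l, b :: m, n + 1, h => by
    rw [dot, ev_add, ev_mul hw, ev_dot hw l m n (by simpa using h), Finset.sum_range_succ']
    simp only [List.getD_cons_zero, List.getD_cons_succ]
    rw [add_comm]

/-- the vector -/
def vec (w : F) (v : List E) : Fin 6 → F := fun i => ev w (v.getD i (0, 0))

/-- the matrix -/
def mat (w : F) (M : List (List E)) : Matrix (Fin 6) (Fin 6) F :=
  Matrix.of fun i j => ev w ((M.getD i []).getD j (0, 0))

open Matrix in
theorem mat_mulVec {w : F} (hw : w * w + w + 1 = 0) {M : List (List E)} (hM : ∀ r ∈ M, r.length ≤ 6) (v : List E) :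
    mat w M *ᵥ vec w v = vec w (mulV M v) := by
  ext i
  have h1 : (mulV M v).getD i (0, 0) = dot (M.getD i []) v := by
    have : ((0, 0) : E) = dot [] v := rfl
    rw [mulV, this, List.getD_map]
  have h2 : (M.getD (i : ℕ) []).length ≤ 6 := by
    by_cases h : (i : ℕ) < M.length
    · rw [List.getD_eq_getElem _ _ h]
      exact hM _ (List.getElem_mem h)
    · rw [List.getD_eq_default _ _ (by omega)]; simp
  rw [vec, h1, ev_dot hw _ v 6 h2, Matrix.mulVec, dotProduct, Finset.sum_range]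
  rfl

theorem vec_smul {w : F} (hw : w * w + w + 1 = 0) (s : E) (v : List E) : vec w (v.map (emul s)) = ev w s • vec w v := by
  ext i
  have h1 : (v.map (emul s)).getD i (0, 0) = emul s (v.getD i (0, 0)) := by
    have : ((0, 0) : E) = emul s (0, 0) := by simp [emul]
    conv_lhs => rw [this, List.getD_map]
  rw [vec, h1, ev_mul hw, Pi.smul_apply, smul_eq_mul, vec]

/-- the check for one matrix: `M v_k = s v_k'` -/
def chk (vs : List (List E)) (M : List (List E)) (T : List (ℕ × E)) : Bool :=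
  decide (T.length = vs.length) && decide (∀ r ∈ M, r.length ≤ 6) &&
  (vs.zip T).all fun q => decide (q.2.1 < vs.length) && decide (enorm q.2.2 ∣ 144) &&
    decide (mulV M q.1 = (vs.getD q.2.1 []).map (emul q.2.2))

theorem chk_spec {vs : List (List E)} {M : List (List E)} {T : List (ℕ × E)} (h : chk vs M T = true) :
    (∀ r ∈ M, r.length ≤ 6) ∧ ∀ v ∈ vs, ∃ v' ∈ vs, ∃ s : E, enorm s ∣ 144 ∧ mulV M v = v'.map (emul s) := by
  rw [chk, Bool.and_eq_true, Bool.and_eq_true, decide_eq_true_eq, decide_eq_true_eq] at h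
  obtain ⟨⟨h1, h2⟩, h3⟩ := h
  refine ⟨h2, fun v hv => ?_⟩
  obtain ⟨k, hk, rfl⟩ := List.mem_iff_getElem.1 hv
  have hk' : k < (vs.zip T).length := by rw [List.length_zip, h1, min_self]; exact hk
  have h4 := List.all_eq_true.1 h3 _ (List.getElem_mem hk')
  rw [Bool.and_eq_true, Bool.and_eq_true, decide_eq_true_eq, decide_eq_true_eq, decide_eq_true_eq,
    List.getElem_zip] at h4
  obtain ⟨⟨h5, h6⟩, h7⟩ := h4
  refine ⟨vs[(T[k]'(by omega)).1]'h5, List.getElem_mem _, (T[k]'(by omega)).2, h6, ?_⟩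
  rw [List.getD_eq_getElem _ _ h5] at h7
  exact h7

/-- matrix product -/
def mulM (M N : List (List E)) : List (List E) :=
  M.map fun r => (List.range 6).map fun j => dot r (N.map fun s => s.getD j (0, 0))

theorem mat_mul {w : F} (hw : w * w + w + 1 = 0) {M N : List (List E)} (hM : ∀ r ∈ M, r.length ≤ 6) (hl : M.length = 6) :
    mat w (mulM M N) = mat w M * mat w N := by
  ext i j
  have hi : (i : ℕ) < M.length := by rw [hl]; exact i.2
  have e1 : (mulM M N).getD i [] = (List.range 6).map fun j => dot (M.getD i []) (N.map fun s => s.getD j (0, 0)) := by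
    rw [mulM, List.getD_eq_getElem _ _ (by rw [List.length_map]; exact hi), List.getElem_map,
      List.getD_eq_getElem _ _ hi]
  have h1 : ((mulM M N).getD i []).getD j (0, 0) = dot (M.getD i []) (N.map fun s => s.getD j (0, 0)) := by
    rw [e1, List.getD_eq_getElem _ _ (by rw [List.length_map, List.length_range]; exact j.2), List.getElem_map,
      List.getElem_range]
  have h2 : (M.getD (i : ℕ) []).length ≤ 6 := by
    rw [List.getD_eq_getElem _ _ hi]
    exact hM _ (List.getElem_mem hi)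
  have h3 : ∀ k : ℕ, (N.map fun s => s.getD j (0, 0)).getD k (0, 0) = (N.getD k []).getD j (0, 0) := by
    intro k
    exact List.getD_map N [] fun s : List E => s.getD j (0, 0)
  rw [mat, Matrix.of_apply, h1, ev_dot hw _ _ 6 h2, Matrix.mul_apply, Finset.sum_range]
  simp only [h3]
  rfl

end Cfsg.Agent.H910.Six
end

-- part: H910/Six/OmegaData
section
/-!
# The 252 lines of `6.L₃(4).2` (helper910), data
-/

set_option autoImplicit false
set_option maxRecDepth 100000

namespace Cfsg.Agent.H910.Six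

/-- decoding an Eisenstein integer -/
def deE (n : ℕ) : E := ((n / 16 : ℕ) - 8, (n % 16 : ℕ) - 8)

/-- decoding a vector -/
def deV (n : ℕ) : List E := (List.range 6).map fun i => deE (n / 256 ^ i % 256)

/-- decoding a table entry -/
def deT (n : ℕ) : ℕ × E := (n / 256, deE (n % 256))

/-- codes of the representatives of the lines -/
def vsc : List ℕ := [
  150119987574936, 150119987578776, 150119987583384, 150119986530456, 150119987513496, 150119988693144,
  150119719143576, 150119970801816, 150120272791704, 150051268102296, 150115692611736, 150193002023064,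
  132527801534616, 149020475951256, 168811685251224, 150119986534536, 150119987517576, 150119988697224,
  150119719147656, 150119970805896, 150120272795784, 150051268106376, 150115692615816, 150193002027144,
  132527801538696, 149020475955336, 168811685255304, 150119720192136, 150119971850376, 150120273840264,
  150051269150856, 150115693660296, 150193003071624, 132527802583176, 149020476999816, 168811686299784,
  150051536537736, 150115961047176, 150193270458504, 132528069970056, 149020744386696, 168811953686664,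
  132596521011336, 149089195427976, 168880404727944, 131497278871704, 151224063662232, 167639428667544,
  151288236513432, 167716486420632, 131355293292696, 167780608940184, 131432300714136, 151146200602776,
  151288487188632, 167716737095832, 131355543967896, 167780909947032, 131432601720984, 151146501609624,
  131496724240536, 151223509031064, 167638874036376, 167781160425624, 131432852199576, 151146752088216,
  131497025050776, 151223809841304, 167639174846616, 151287932360856, 167716182268056, 131354989140120,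
  151288488167832, 167716738075032, 131355544947096, 167780910926232, 131432602700184, 151146502588824,
  131496725219736, 151223510010264, 167638875015576, 167781161601432, 131432853375384, 151146753264024,
  131497026226584, 151223811017112, 167639176022424, 151287933536664, 167716183443864, 131354990315928,
  131497276705176, 151224061495704, 167639426501016, 151288234346904, 167716484254104, 131355291126168,
  167780606773656, 131432298547608, 151146198436248, 167781162579864, 131432854353816, 151146754242456,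
  131497027205016, 151223811995544, 167639177000856, 151287934515096, 167716184422296, 131354991294360,
  131497277880216, 151224062670744, 167639427676056, 151288235521944, 167716485429144, 131355292301208,
  167780607948696, 131432299722648, 151146199611288, 151288486000536, 167716735907736, 131355542779800,
  167780908758936, 131432600532888, 151146500421528, 131496723052440, 151223507842968, 167638872848280,
  131355561789576, 131355275467161, 150119701256601, 151219482433689, 132532095392136, 150046957406361,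
  150124282484889, 151150494521736, 131428558276761, 150051536538009, 151150778615961, 131428274182536,
  132527802583449, 132531811289241, 150047241509256, 150115692681369, 131428305639816, 167707593443481,
  149020492732569, 150046704769416, 149089194313881, 167712172575129, 150046988863641, 149088910219656,
  150188438620569, 131428021536921, 167707877546376, 168738386708616, 150188975490969, 167712174671769,
  168738670802841, 150193270528392, 168811953752217, 150119703476121, 151288503900552, 151288219797657,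
  150120271673241, 167716469709192, 167716753803417, 131501304346521, 168811703081352, 150193019848857,
  131501020252296, 151219515979929, 150124282607769, 112731726772377, 167781162576042, 148874428053657,
  149015913470361, 165444414052761, 131432600537529, 132536423974809, 148951187163801, 168665387862681,
  132587914238361, 149016414820761, 151146199615929, 131354989135530, 131496725223609, 167639426504889,
  151145948944554, 168807374629785, 167574449526954, 152250023053209, 112809588853401, 132523789552281,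
  115004350634154, 149093775551385, 131432851216554, 168743249942169, 132600548660889, 151223811025578,
  149093777901465, 168807978600345, 132459065202585, 132600544327833, 149029051201689, 168743251900569,
  168884731025817, 132523791902361, 149170530326937, 168742142638233, 132601051969689, 152315252668569,
  151287933335466, 168885238667673, 167716433917866, 185235369527193, 149092668245913, 187507393726890,
  188598330104217, 148951791134361, 168884129405337, 168807370295193, 132664669013913, 151365795416490,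
  167780909938617, 168948855711897, 185377356294297, 185442084952473, 147848218376106, 131419717793706,
  112667606419353, 167639178185130, 148810307700633, 149157898254489, 168872098953369, 132317080811673,
  96239607187353, 131497579874730, 132382308468633, 132523793885337, 148952294467737, 151224063653817,
  168820006676121, 132459067578777, 152173268277657, 165585897486489, 185300098185369, 96175482501273,
  152392007444121, 112745468500377, 132459669199257, 188676194142105, 149015911487385, 168961993443225]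

/-- representatives of the lines -/
def vs : List (List E) := vsc.map deV

/-- the matrix -/
def Mt1 : List (List E) := [150119987583112, 150119987579032, 150120256014472, 150119988627592, 150188707055752, 167712173623432].map deV

/-- the table -/
def Tt1 : List (ℕ × E) := [
  120, 647, 409, 4760, 5016, 5272, 3992, 4248, 4504, 5528, 5784, 6040, 6296, 6552,
  6808, 1688, 1944, 2200, 920, 1176, 1432, 2456, 2712, 2968, 3224, 3480, 3736, 7032,
  7559, 7321, 9368, 9624, 9880, 10136, 10392, 10648, 7832, 8088, 8344, 8600, 8856, 9112,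
  10904, 11160, 11416, 11672, 11928, 12184, 13976, 14232, 14488, 16280, 16536, 16792, 12440, 12696,
  12952, 14744, 15000, 15256, 17048, 17304, 17560, 13208, 13464, 13720, 15512, 15768, 16024, 17816,
  18072, 18328, 32137, 31625, 31881, 27529, 27017, 27273, 29833, 29321, 29577, 30601, 30089, 30345,
  25993, 25481, 25737, 28297, 27785, 28041, 31369, 30857, 31113, 26761, 26249, 26505, 29065, 28553,
  28809, 21879, 22135, 21623, 24183, 24439, 23927, 19575, 19831, 19319, 22647, 22903, 22391, 24951,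
  25207, 24695, 20343, 20599, 20087, 21111, 21367, 20855, 23415, 23671, 23159, 18807, 19063, 18551,
  32408, 32664, 32920, 35463, 35736, 35992, 34695, 34968, 35224, 33945, 34200, 34456, 33177, 33432,
  33688, 38535, 38808, 39064, 37767, 38040, 38296, 37017, 37272, 37528, 36249, 36504, 36760, 43128,
  43639, 43383, 42360, 42904, 42648, 40824, 41368, 41112, 41592, 42136, 41880, 40056, 40600, 40344,
  39288, 39817, 39561, 48521, 46985, 45449, 46488, 44952, 50329, 44407, 49817, 48281, 46232, 44696,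
  50073, 44151, 49543, 48007, 49031, 47513, 45959, 43895, 49305, 47769, 48775, 47257, 45703, 46727,
  45191, 50584, 53111, 51575, 56952, 51081, 56457, 54921, 55960, 54392, 52888, 50825, 56201, 54665,
  55672, 54168, 52600, 53623, 52087, 57497, 55448, 53880, 52376, 53367, 51831, 57241, 51320, 56711,
  55175, 57752, 63096, 61560, 62583, 61081, 59511, 60553, 59017, 64393, 62327, 60825, 59255, 60295,
  58759, 64120, 58232, 63640, 62104, 60041, 58505, 63881, 57976, 63384, 61848, 62839, 61304, 59767].map deT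

/-- the matrix -/
def Mt2 : List (List E) := [150119988627592, 150120256014472, 150119987579032, 150119987583112, 150188707055752, 167712173623432].map deV

/-- the table -/
def Tt2 : List (ℕ × E) := [
  7064, 7320, 7576, 888, 1415, 1177, 3960, 4487, 4249, 7832, 8088, 8344, 8600, 8856,
  9112, 1656, 2183, 1945, 4728, 5255, 5017, 9368, 9624, 9880, 10136, 10392, 10648, 152,
  408, 664, 2456, 2712, 2968, 3224, 3480, 3736, 5528, 5784, 6040, 6296, 6552, 6808,
  10904, 11160, 11416, 11672, 11928, 12184, 18584, 18840, 19096, 25496, 25752, 26008, 32137, 31625,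
  31881, 18313, 17801, 18057, 25225, 24713, 24969, 21879, 22135, 21623, 28791, 29047, 28535, 14967,
  15223, 14711, 12440, 12696, 12952, 19352, 19608, 19864, 26264, 26520, 26776, 30601, 30089, 30345,
  16777, 16265, 16521, 23689, 23177, 23433, 22647, 22903, 22391, 29559, 29815, 29303, 15735, 15991,
  15479, 13208, 13464, 13720, 20120, 20376, 20632, 27032, 27288, 27544, 31369, 30857, 31113, 17545,
  17033, 17289, 24457, 23945, 24201, 21111, 21367, 20855, 28023, 28279, 27767, 14199, 14455, 13943,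
  32664, 32408, 32888, 36471, 36728, 36231, 38007, 38264, 37751, 37255, 37496, 36999, 38791, 39032,
  38519, 33689, 33161, 33400, 35225, 34713, 34936, 34441, 33929, 34168, 35977, 35481, 35704, 40088,
  40327, 40583, 39320, 39577, 39833, 40856, 41112, 41368, 41592, 42136, 41880, 43160, 43399, 43655,
  42392, 42649, 42905, 57463, 55943, 56696, 56967, 55415, 56184, 57225, 55704, 56439, 52855, 51337,
  52121, 52344, 50823, 51576, 52615, 51096, 51865, 55193, 53641, 54392, 54648, 53111, 53897, 54921,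
  53400, 54169, 47257, 48024, 46455, 47480, 48263, 46727, 46968, 47769, 46217, 49545, 50328, 48759,
  49783, 50567, 49016, 49272, 50039, 48519, 44937, 45720, 44185, 45176, 45961, 44408, 44697, 45431,
  43913, 57752, 58521, 59271, 57991, 58776, 59511, 58265, 59017, 59800, 60056, 60825, 61577, 60295,
  61080, 61831, 60535, 61337, 62104, 62360, 63095, 63881, 62601, 63384, 64119, 62839, 63625, 64408].map deT

/-- the matrix -/
def Mu : List (List E) := [150119987583112, 150119987579032, 150119988627592, 150120256014472, 167712173623432, 150188707055752].map deV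

/-- the table -/
def Tu : List (ℕ × E) := [
  120, 647, 409, 3992, 4248, 4504, 4760, 5016, 5272, 6296, 6552, 6808, 5528, 5784,
  6040, 920, 1176, 1432, 1688, 1944, 2200, 3224, 3480, 3736, 2456, 2712, 2968, 7064,
  7320, 7576, 8600, 8856, 9112, 7832, 8088, 8344, 10136, 10392, 10648, 9368, 9624, 9880,
  10872, 11399, 11161, 12184, 11928, 11672, 12696, 12440, 12952, 13208, 13720, 13464, 14232, 13976,
  14488, 14744, 15256, 15000, 16024, 15768, 15512, 16280, 16792, 16536, 17560, 17304, 17048, 18072,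
  17816, 18328, 31625, 32137, 31881, 30601, 30345, 30089, 31113, 30857, 31369, 27529, 27273, 27017,
  25737, 25481, 25993, 26249, 26761, 26505, 29577, 29321, 29833, 27785, 28297, 28041, 29065, 28809,
  28553, 21879, 21623, 22135, 22391, 22903, 22647, 21367, 21111, 20855, 23927, 24439, 24183, 25207,
  24951, 24695, 23415, 23159, 23671, 19831, 19575, 19319, 20343, 20087, 20599, 18551, 19063, 18807,
  32408, 32664, 32920, 34695, 34968, 35224, 35463, 35736, 35992, 33177, 33432, 33688, 33945, 34200,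
  34456, 37767, 38040, 38296, 38535, 38808, 39064, 36249, 36504, 36760, 37017, 37272, 37528, 43160,
  43383, 43639, 40056, 40600, 40344, 41592, 42136, 41880, 40824, 41368, 41112, 42360, 42904, 42648,
  39320, 39561, 39817, 45449, 46985, 48521, 44696, 46232, 50073, 43895, 47769, 49305, 44952, 46488,
  50329, 44151, 48007, 49543, 45703, 47257, 48775, 44407, 48281, 49817, 45959, 47513, 49031, 45191,
  46727, 50584, 51575, 53111, 56952, 50825, 54665, 56201, 52376, 53880, 55448, 51081, 54921, 56457,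
  52600, 54168, 55672, 51831, 53367, 57241, 52888, 54392, 55960, 52087, 53623, 57497, 51320, 55175,
  56711, 57752, 61560, 63096, 59255, 60825, 62327, 58505, 60041, 63881, 59511, 61081, 62583, 58759,
  60295, 64120, 57976, 61848, 63384, 59017, 60553, 64393, 58232, 62104, 63640, 59767, 61304, 62839].map deT

/-- the matrix -/
def Mr : List (List E) := [150119987579032, 150119987583112, 150188707055752, 167712173623432, 150119988627592, 150120256014472].map deV

/-- the table -/
def Tr : List (ℕ × E) := [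
  152, 408, 664, 2456, 2712, 2968, 3224, 3480, 3736, 920, 1176, 1432, 1688, 1944,
  2200, 5528, 5784, 6040, 6296, 6552, 6808, 3992, 4248, 4504, 4760, 5016, 5272, 10904,
  11160, 11416, 7800, 8327, 8089, 9336, 9863, 9625, 8568, 9095, 8857, 10104, 10631, 10393,
  7064, 7320, 7576, 13208, 14744, 16280, 12440, 13976, 17816, 11672, 15512, 17048, 12696, 14232,
  18072, 11928, 15768, 17304, 13464, 15000, 16536, 12184, 16024, 17560, 13720, 15256, 16792, 12952,
  14488, 18328, 19352, 20888, 24728, 18584, 22424, 23960, 20120, 21656, 23192, 18840, 22680, 24216,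
  20376, 21912, 23448, 19608, 21144, 24984, 20632, 22168, 23704, 19864, 21400, 25240, 19096, 22936,
  24472, 25496, 29336, 30872, 27032, 28568, 30104, 26264, 27800, 31640, 27288, 28824, 30360, 26520,
  28056, 31896, 25752, 29592, 31128, 26776, 28312, 32152, 26008, 29848, 31384, 27544, 29080, 30616,
  32376, 32920, 32664, 37016, 37272, 37528, 36248, 36504, 36760, 37784, 38040, 38296, 38552, 38808,
  39064, 33944, 34200, 34456, 33176, 33432, 33688, 34712, 34968, 35224, 35480, 35736, 35992, 39288,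
  39832, 39576, 41624, 41880, 42136, 42392, 42648, 42904, 40088, 40344, 40600, 40856, 41112, 41368,
  43160, 43416, 43672, 43928, 44184, 44440, 46232, 46488, 46744, 48536, 48792, 49048, 44696, 44952,
  45208, 47000, 47256, 47512, 49304, 49560, 49816, 45464, 45720, 45976, 47768, 48024, 48280, 50072,
  50328, 50584, 64408, 63896, 64152, 59800, 59288, 59544, 62104, 61592, 61848, 62872, 62360, 62616,
  58264, 57752, 58008, 60568, 60056, 60312, 63640, 63128, 63384, 59032, 58520, 58776, 61336, 60824,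
  61080, 54168, 54424, 53912, 56472, 56728, 56216, 51864, 52120, 51608, 54936, 55192, 54680, 57240,
  57496, 56984, 52632, 52888, 52376, 53400, 53656, 53144, 55704, 55960, 55448, 51096, 51352, 50840].map deT

/-- the matrix -/
def Mx : List (List E) := [150119988627592, 150119987579032, 150119987583112, 150120256014472, 150046973134984, 151219499206792].map deV

/-- the table -/
def Tx : List (ℕ × E) := [
  3992, 4248, 4504, 120, 647, 409, 4760, 5016, 5272, 6040, 5528, 5784, 6552, 6808,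
  6296, 888, 1415, 1177, 7064, 7320, 7576, 8344, 7832, 8088, 8856, 9112, 8600, 1688,
  1944, 2200, 2968, 2456, 2712, 3480, 3736, 3224, 9880, 9368, 9624, 10392, 10648, 10136,
  11383, 10871, 11127, 12184, 11672, 11928, 12952, 12440, 12696, 13720, 13208, 13464, 31881, 32137,
  31625, 30345, 30601, 30089, 31113, 31369, 30857, 21623, 21879, 22135, 22391, 22647, 22903, 20855,
  21111, 21367, 14488, 13976, 14232, 15256, 14744, 15000, 16024, 15512, 15768, 27273, 27529, 27017,
  25737, 25993, 25481, 26505, 26761, 26249, 23927, 24183, 24439, 24695, 24951, 25207, 23159, 23415,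
  23671, 16792, 16280, 16536, 17560, 17048, 17304, 18328, 17816, 18072, 29577, 29833, 29321, 28041,
  28297, 27785, 28809, 29065, 28553, 19319, 19575, 19831, 20087, 20343, 20599, 18551, 18807, 19063,
  42136, 41880, 41592, 35224, 34936, 34695, 43639, 43160, 43383, 40344, 40056, 40583, 37767, 38296,
  38007, 33945, 34441, 34200, 42648, 42905, 42360, 39817, 39561, 39320, 37272, 37017, 37496, 35736,
  35992, 35463, 33432, 33689, 33177, 32920, 32408, 32664, 40824, 41368, 41112, 39064, 38791, 38535,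
  36760, 36504, 36249, 53623, 49031, 58232, 46727, 62839, 51320, 60553, 55960, 44407, 59511, 54921,
  50329, 52600, 48007, 64120, 45703, 61848, 57241, 49305, 58505, 53880, 63096, 51575, 46985, 56201,
  44696, 60825, 47513, 63640, 52087, 61304, 56711, 45191, 54392, 49817, 59017, 51081, 46488, 62583,
  44151, 60295, 55672, 57976, 53367, 48775, 63881, 52376, 47769, 56952, 45449, 61560, 50073, 59255,
  54665, 62104, 57497, 45959, 55175, 50584, 59767, 48281, 64393, 52888, 44952, 61081, 56457, 58759,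
  54168, 49543, 51831, 47257, 63384, 55448, 43895, 60041, 48521, 57752, 53111, 62327, 50825, 46232].map deT

/-- the matrix -/
def Mh : List (List E) := [151223507851416, 131355292309656, 151146500426103, 131432299727223, 151146199611273, 131432600532873].map deV

/-- the table -/
def Th : List (ℕ × E) := [
  32359, 32630, 32919, 33175, 33431, 33654, 33943, 34199, 34422, 34678, 34967, 35190, 35446, 35735,
  35958, 36247, 36503, 36726, 37015, 37271, 37494, 37750, 38039, 38262, 38518, 38807, 39030, 39271,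
  39545, 39783, 40039, 40346, 40569, 40807, 41114, 41337, 41575, 41882, 42105, 42343, 42650, 42873,
  43111, 43433, 43674, 43894, 44135, 44406, 44662, 44918, 45207, 45481, 45686, 45942, 46198, 46454,
  46743, 46999, 47255, 47511, 47767, 47990, 48279, 48553, 48758, 49014, 49303, 49526, 49815, 50089,
  50345, 50583, 50809, 51065, 51318, 51625, 51830, 52086, 52393, 52601, 52905, 53161, 53366, 53622,
  53911, 54134, 54423, 54697, 54953, 55191, 55465, 55673, 55977, 56233, 56489, 56727, 56986, 57257,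
  57513, 57721, 57959, 58215, 58486, 58727, 58998, 59257, 59513, 59766, 60022, 60263, 60534, 60790,
  61046, 61335, 61609, 61814, 62070, 62329, 62585, 62838, 63145, 63350, 63606, 63913, 64121, 64425,
  166, 714, 428, 5578, 5834, 6060, 6346, 6602, 6828, 4780, 5066, 5292, 4012, 4298,
  4524, 2506, 2762, 2988, 3274, 3530, 3756, 1708, 1994, 2220, 940, 1226, 1452, 10858,
  11078, 11370, 9382, 9798, 9572, 7846, 8262, 8036, 10150, 10566, 10340, 8614, 9030, 8804,
  7078, 7524, 7334, 16300, 14698, 13228, 13996, 12460, 17866, 11686, 17068, 15532, 14252, 12716,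
  18122, 11978, 17354, 15818, 16586, 15020, 13514, 12198, 17580, 16044, 16842, 15276, 13770, 14502,
  12966, 18378, 27558, 30630, 28998, 32172, 28230, 26694, 29868, 26022, 31404, 31660, 27718, 26182,
  29290, 25414, 30826, 27052, 30124, 28522, 29612, 25766, 31148, 27308, 30380, 28778, 31946, 28076,
  26540, 21932, 20426, 23498, 19622, 25034, 21158, 24236, 22700, 18854, 19878, 25290, 21414, 24486,
  22950, 19044, 22086, 20646, 23718, 23980, 22444, 18598, 21574, 20134, 23206, 19270, 24748, 20806].map deT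

/-- the matrix -/
def My : List (List E) := [150120004356504, 150120004360329, 150119702370456, 132459083171976, 148951756408968, 132523506501768].map deV

/-- the table -/
def Ty : List (ℕ × E) := [
  151, 1193, 4250, 20376, 19096, 19352, 1431, 681, 3961, 18584, 19608, 20632, 18840, 19864,
  20120, 30857, 31881, 30601, 4503, 410, 889, 32137, 30089, 31113, 31625, 30345, 31369, 14727,
  14489, 15736, 9641, 10138, 11382, 10409, 9370, 11159, 16009, 13961, 14985, 15497, 14217, 15241,
  10873, 9849, 10599, 16538, 18330, 16794, 8888, 8120, 7608, 12969, 12201, 11689, 17050, 17562,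
  16282, 7096, 9144, 8376, 12713, 13225, 12457, 17306, 18074, 17818, 7864, 7352, 8632, 13481,
  13737, 11945, 6283, 5515, 5003, 29302, 28534, 28790, 22167, 20887, 21655, 5259, 6539, 5771,
  29814, 28022, 29558, 22679, 22423, 21911, 6027, 4747, 6795, 28278, 27766, 29046, 22935, 21399,
  21143, 24489, 23721, 23209, 26775, 25495, 26263, 3512, 2744, 2232, 24233, 24745, 23977, 27287,
  27031, 26519, 1720, 3768, 3000, 25001, 25257, 23465, 27543, 26007, 25751, 2488, 1976, 3256,
  46473, 54169, 61848, 47257, 54921, 60312, 33705, 40343, 34729, 48025, 53400, 61081, 35226, 40599,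
  33178, 42921, 37497, 38807, 52121, 44408, 59800, 42650, 39033, 37271, 56183, 48519, 63881, 52871,
  45209, 58264, 42391, 37018, 38569, 56984, 49289, 62360, 51352, 59017, 45977, 40087, 34937, 33401,
  55431, 50039, 63111, 38021, 64151, 62871, 32440, 62121, 52598, 36440, 51574, 54631, 63401, 50601,
  43653, 61353, 58775, 35512, 50839, 60826, 41400, 64407, 41915, 57209, 51881, 33931, 55209, 53929,
  39864, 44698, 62633, 49050, 41605, 60534, 59543, 34187, 52345, 61591, 39352, 49782, 37816, 48809,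
  58007, 32699, 46761, 60055, 36229, 59287, 43192, 50294, 55959, 35768, 48279, 45737, 40837, 58537,
  47785, 63642, 43448, 55703, 51095, 35979, 53673, 53143, 41099, 45430, 42168, 49562, 56745, 34491,
  47514, 44183, 39557, 57769, 46234, 56438, 57447, 38283, 54423, 44954, 32907, 43945, 46966, 36792].map deT

/-- the matrix -/
def Mhs : List (List E) := [131355292309656, 151223507851416, 151146199611273, 131432600532873, 131432299727223, 151146500426103].map deV

/-- the matrix -/
def Mys : List (List E) := [150119988623256, 150119988631671, 168884682918024, 150119987640183, 168742697339016, 132600547543176].map deV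

/-- the matrix -/
def Mn : List (List E) := [132459368392824, 132459368380584, 149015914645383, 149016716806023, 132665526810744, 185235926513784].map deV

end Cfsg.Agent.H910.Six
end

-- part: H910/Six/OmegaChk
section
/-!
# The 252 lines of `6.L₃(4).2` (helper910), checks
-/

set_option autoImplicit false
set_option maxRecDepth 100000

namespace Cfsg.Agent.H910.Six

private noncomputable def frc (x : ℕ) (f : ℕ → Bool) : Bool := Nat.rec (f 0) (fun n _ => f (Nat.succ n)) x

private theorem frc_eq (x : ℕ) (f : ℕ → Bool) : frc x f = f x := by cases x <;> rfl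

/-- the twelve digits -/
private noncomputable def dig (r : ℕ) (k : ℕ → ℕ → ℕ → ℕ → ℕ → ℕ → ℕ → ℕ → ℕ → ℕ → ℕ → ℕ → ℕ → ℕ → Bool) : Bool :=
  frc (Nat.div (Nat.mod (Nat.div r 1) 256) 16) fun a0 => frc (Nat.mod (Nat.mod (Nat.div r 1) 256) 16) fun b0 =>
  frc (Nat.div (Nat.mod (Nat.div r 256) 256) 16) fun a1 => frc (Nat.mod (Nat.mod (Nat.div r 256) 256) 16) fun b1 =>
  frc (Nat.div (Nat.mod (Nat.div r 65536) 256) 16) fun a2 => frc (Nat.mod (Nat.mod (Nat.div r 65536) 256) 16) fun b2 =>
  frc (Nat.div (Nat.mod (Nat.div r 16777216) 256) 16) fun a3 => frc (Nat.mod (Nat.mod (Nat.div r 16777216) 256) 16) fun b3 =>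
  frc (Nat.div (Nat.mod (Nat.div r 4294967296) 256) 16) fun a4 => frc (Nat.mod (Nat.mod (Nat.div r 4294967296) 256) 16) fun b4 =>
  frc (Nat.div (Nat.mod (Nat.div r 1099511627776) 256) 16) fun a5 => frc (Nat.mod (Nat.mod (Nat.div r 1099511627776) 256) 16) fun b5 =>
  frc (Nat.add (Nat.add (Nat.add (Nat.add (Nat.add (a0) (a1)) (a2)) (a3)) (a4)) (a5)) fun sa =>
  frc (Nat.add (Nat.add (Nat.add (Nat.add (Nat.add (b0) (b1)) (b2)) (b3)) (b4)) (b5)) fun sb => k a0 b0 a1 b1 a2 b2 a3 b3 a4 b4 a5 b5 sa sb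

/-- one row -/
private noncomputable def row (a0 b0 a1 b1 a2 b2 a3 b3 a4 b4 a5 b5 sa sb c0 d0 c1 d1 c2 d2 c3 d3 c4 d4 c5 d5 sc sd s1 s2 t : ℕ) : Bool :=
  frc (Nat.div t 16) fun t1 => frc (Nat.mod t 16) fun t2 =>
  frc (Nat.add (Nat.add (Nat.add (Nat.add (Nat.add (Nat.add (Nat.mul b0 d0) (Nat.mul b1 d1)) (Nat.mul b2 d2)) (Nat.mul b3 d3)) (Nat.mul b4 d4)) (Nat.mul b5 d5)) (Nat.mul 8 (Nat.add sa sc))) fun u =>
  frc (Nat.add (Nat.mul s2 t2) (Nat.mul 8 (Nat.add s1 t1))) fun v =>
  Bool.rec false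
    (Nat.beq (Nat.add (Nat.add (Nat.add (Nat.add (Nat.add (Nat.add (Nat.add (Nat.mul a0 c0) (Nat.mul a1 c1)) (Nat.mul a2 c2)) (Nat.mul a3 c3)) (Nat.mul a4 c4)) (Nat.mul a5 c5)) (Nat.mul 8 (Nat.add sb sd))) v)
      (Nat.add u (Nat.add (Nat.mul s1 t1) (Nat.mul 8 (Nat.add s2 t2)))))
    (Nat.beq (Nat.add (Nat.add (Nat.add (Nat.add (Nat.add (Nat.add (Nat.add (Nat.add (Nat.mul a0 d0) (Nat.mul b0 c0)) (Nat.add (Nat.mul a1 d1) (Nat.mul b1 c1))) (Nat.add (Nat.mul a2 d2) (Nat.mul b2 c2))) (Nat.add (Nat.mul a3 d3) (Nat.mul b3 c3))) (Nat.add (Nat.mul a4 d4) (Nat.mul b4 c4))) (Nat.add (Nat.mul a5 d5) (Nat.mul b5 c5))) 320) v)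
      (Nat.add u (Nat.add (Nat.mul s1 t2) (Nat.mul s2 t1))))

private theorem row_spec {r v s t : ℕ} (h : (dig r fun a0 b0 a1 b1 a2 b2 a3 b3 a4 b4 a5 b5 sa sb => dig v fun c0 d0 c1 d1 c2 d2 c3 d3 c4 d4 c5 d5 sc sd =>
    row a0 b0 a1 b1 a2 b2 a3 b3 a4 b4 a5 b5 sa sb c0 d0 c1 d1 c2 d2 c3 d3 c4 d4 c5 d5 sc sd (s / 16) (s % 16) t) = true) : dot (deV r) (deV v) = emul (deE s) (deE t) := by
  have e : ∀ n, deV n = [deE (Nat.mod (Nat.div n 1) 256), deE (Nat.mod (Nat.div n 256) 256),
    deE (Nat.mod (Nat.div n 65536) 256), deE (Nat.mod (Nat.div n 16777216) 256),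
    deE (Nat.mod (Nat.div n 4294967296) 256), deE (Nat.mod (Nat.div n 1099511627776) 256)] := fun _ => rfl
  have key : ∀ a0 b0 a1 b1 a2 b2 a3 b3 a4 b4 a5 b5 c0 d0 c1 d1 c2 d2 c3 d3 c4 d4 c5 d5 s1 s2 t : ℕ, row a0 b0 a1 b1 a2 b2 a3 b3 a4 b4 a5 b5 (Nat.add (Nat.add (Nat.add (Nat.add (Nat.add (a0) (a1)) (a2)) (a3)) (a4)) (a5))
      (Nat.add (Nat.add (Nat.add (Nat.add (Nat.add (b0) (b1)) (b2)) (b3)) (b4)) (b5)) c0 d0 c1 d1 c2 d2 c3 d3 c4 d4 c5 d5 (Nat.add (Nat.add (Nat.add (Nat.add (Nat.add (c0) (c1)) (c2)) (c3)) (c4)) (c5))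
      (Nat.add (Nat.add (Nat.add (Nat.add (Nat.add (d0) (d1)) (d2)) (d3)) (d4)) (d5)) s1 s2 t = true →
      dot [((a0 : ℤ) - 8, (b0 : ℤ) - 8), ((a1 : ℤ) - 8, (b1 : ℤ) - 8), ((a2 : ℤ) - 8, (b2 : ℤ) - 8), ((a3 : ℤ) - 8, (b3 : ℤ) - 8), ((a4 : ℤ) - 8, (b4 : ℤ) - 8), ((a5 : ℤ) - 8, (b5 : ℤ) - 8)]
        [((c0 : ℤ) - 8, (d0 : ℤ) - 8), ((c1 : ℤ) - 8, (d1 : ℤ) - 8), ((c2 : ℤ) - 8, (d2 : ℤ) - 8), ((c3 : ℤ) - 8, (d3 : ℤ) - 8), ((c4 : ℤ) - 8, (d4 : ℤ) - 8), ((c5 : ℤ) - 8, (d5 : ℤ) - 8)] =
      emul ((s1 : ℤ) - 8, (s2 : ℤ) - 8) ((Nat.div t 16 : ℕ) - 8, (Nat.mod t 16 : ℕ) - 8) := by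
    intro a0 b0 a1 b1 a2 b2 a3 b3 a4 b4 a5 b5 c0 d0 c1 d1 c2 d2 c3 d3 c4 d4 c5 d5 s1 s2 t h
    rw [row, frc_eq, frc_eq, frc_eq, frc_eq] at h
    generalize Nat.div t 16 = t1 at h ⊢
    generalize Nat.mod t 16 = t2 at h ⊢
    have h3 : ∀ x y : Bool, (Bool.rec false x y : Bool) = true → x = true ∧ y = true := by decide
    have h1 := congrArg (Nat.cast (R := ℤ)) (Nat.eq_of_beq_eq_true (h3 _ _ h).1)
    have h2 := congrArg (Nat.cast (R := ℤ)) (Nat.eq_of_beq_eq_true (h3 _ _ h).2)
    simp only [Nat.add_eq, Nat.mul_eq, Nat.cast_add, Nat.cast_mul, Nat.cast_ofNat] at h1 h2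
    simp only [dot, eadd, emul, Prod.mk.injEq]
    exact ⟨by linear_combination h1, by linear_combination h2⟩
  simp only [dig, frc_eq] at h
  rw [e r, e v]
  exact key _ _ _ _ _ _ _ _ _ _ _ _ _ _ _ _ _ _ _ _ _ _ _ _ _ _ _ h

private abbrev RT := ℕ → ℕ → ℕ → ℕ → ℕ → ℕ → ℕ → ℕ → ℕ → ℕ → ℕ → ℕ → ℕ → ℕ → ℕ → ℕ → ℕ → Bool

private noncomputable def rw1 (r : ℕ) (k : RT → Bool) : Bool := dig r fun a0 b0 a1 b1 a2 b2 a3 b3 a4 b4 a5 b5 sa sb => k (row a0 b0 a1 b1 a2 b2 a3 b3 a4 b4 a5 b5 sa sb)

private def vP : ℕ := 0x99ab87998799878778785799ab99998787997878ab879999668a999999998a9987786699577899787899a8878a8778999699789978998a6699999999787887ab9999998a788766998989989877b98778a899a899788799a8a8997866a87887997798aa8989aa57878799879978577899789999969978789987a8878a7899875799878799987789aa89aa667878a887997786899877aa8677988977aaa8a899999999a8998778a89999a87887a8999898898977b989aa987789aa78a8667887999987875787999999668a999987788a996699ab8778789999aa89779889aa879957878799a87878668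7999889867777aa9999a8a899998998778677aa8a87a887789978999699789999785778789987ab787899997887998a669999998a669999997899967899878a87a878997899785778997878878757999987ab998799879999ab879989898989aaaa7899789996999978997896997789986898aa87999987ab996898897798aa788799668a99669987788a998a78788a87999868778998aa99878799ab998977689898aa9877987798b97798779898b97777777786aa8977778989b9878796789999789687879999996678878a99877866998a99788a8a7887997789897789b99678878799998787789699998766876678999898989868aa668766877899888988897899898889887899779977998888889989988899998889989988779988887799988999888899988988999988888899777799899888998899899899889988888877997799998898898899889998899988997788887799988888988799889898888799997777998888988788779988778878898899889878888999879877889988887789788899988888788999879888778899887778899988878889889899988777888899778889789988888788899899887798879988788977888899788888988999778887989988897888778899887898888999778898878899897877889988888988879899887787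988899788988779988898887889899888877779999777788889999777799998888987777777798898977777798779877777798897789777798778989777798989889777798777798777798988998777798899898777798897777897798778977897798989877897798777789897798988989897798899889897798987798897798898998897798779898897798777777987798988977987798899877987798987789987798898989987798779889987798897798987798778998987798989898987798897777778998778977778998989877778998777789778998988989778998899889778998987798778998898998778998779898778998777777898998988977898998899877898998987789898998898989898998779889898998897798898998778998898998989898898998987777988998898977988998779877988998897789988998778989988998989889988998777798988998988998988998899898988998777777779898988977779898899877779898987789779898898989779898779889779898897798779898778998779898989898779898987777899898898977899898779877899898897789899898778989899898989889899898777798899898988998899898899898899898897777989898778977989898989877989898777789989898988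989989898899889989898987798989898898998989898779898989898999888888888879888888888789888888888998898888888878898888888788898888888889998888888888798888888887898888888998888988888878888988888788888988888889988988888888788988888887888988888888899988888888887988888888878988888998888889888878888889888788888889888889988889888888788889888887888889888888899889888888887889888888878889888888888999888888888879888888888789888998888888898878888888898788888888898889988888898888788888898887888888898888899888898888887888898888878888898888888998898888888878898888888788898888888889998888888888798888888887898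

private noncomputable def fast (r0 r1 r2 r3 r4 r5 : ℕ) (tc : List ℕ) : Bool :=
  rw1 r0 fun f0 => rw1 r1 fun f1 => rw1 r2 fun f2 => rw1 r3 fun f3 => rw1 r4 fun f4 => rw1 r5 fun f5 =>
  Nat.beq tc.length 252 && (vsc.zip tc).all fun q => frc (Nat.div q.2 256) fun k => frc (Nat.mod q.2 256) fun s =>
    frc (Nat.div s 16) fun s1 => frc (Nat.mod s 16) fun s2 =>
    frc (Nat.mod (Nat.shiftRight vP (Nat.mul 48 k)) 281474976710656) fun t => dig q.1 fun c0 d0 c1 d1 c2 d2 c3 d3 c4 d4 c5 d5 sc sd =>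
    Nat.blt k 252 && Nat.beq (Nat.mod (Nat.shiftRight 0x4100000015100900174007805ef403c005d0012011510000010400000010 s) 2) 1 &&
    f0 c0 d0 c1 d1 c2 d2 c3 d3 c4 d4 c5 d5 sc sd s1 s2 (Nat.mod (Nat.div t 1) 256) &&
    f1 c0 d0 c1 d1 c2 d2 c3 d3 c4 d4 c5 d5 sc sd s1 s2 (Nat.mod (Nat.div t 256) 256) &&
    f2 c0 d0 c1 d1 c2 d2 c3 d3 c4 d4 c5 d5 sc sd s1 s2 (Nat.mod (Nat.div t 65536) 256) &&
    f3 c0 d0 c1 d1 c2 d2 c3 d3 c4 d4 c5 d5 sc sd s1 s2 (Nat.mod (Nat.div t 16777216) 256) &&
    f4 c0 d0 c1 d1 c2 d2 c3 d3 c4 d4 c5 d5 sc sd s1 s2 (Nat.mod (Nat.div t 4294967296) 256) &&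
    f5 c0 d0 c1 d1 c2 d2 c3 d3 c4 d4 c5 d5 sc sd s1 s2 (Nat.mod (Nat.div t 1099511627776) 256)

private theorem chk_of {r0 r1 r2 r3 r4 r5 : ℕ} {tc : List ℕ} (h : fast r0 r1 r2 r3 r4 r5 tc = true) :
    chk vs ([r0, r1, r2, r3, r4, r5].map deV) (tc.map deT) = true := by
  have h0 : vsc = (List.range 252).map fun k => Nat.mod (Nat.shiftRight vP (Nat.mul 48 k)) 281474976710656 := by
    decide +kernel
  have h1 : ∀ k < 252, vsc.getD k 0 = Nat.mod (Nat.shiftRight vP (Nat.mul 48 k)) 281474976710656 := fun k hk => by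
    rw [h0, List.getD_eq_getElem _ _ (by rwa [List.length_map, List.length_range]), List.getElem_map, List.getElem_range]
  have h2 : ∀ s < 256, Nat.mod (Nat.shiftRight 0x4100000015100900174007805ef403c005d0012011510000010400000010 s) 2 = 1 → enorm (deE s) ∣ 144 := by
    decide +kernel
  have h3 : vs.length = 252 := by decide +kernel
  have h4 : ∀ n, (deV n).length = 6 := fun _ => rfl
  simp only [fast, rw1, dig, frc_eq, Bool.and_eq_true, List.all_eq_true, Nat.beq_eq, Nat.blt_eq] at h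
  rw [chk, h3, List.length_map, h.1, vs, List.zip_map, List.all_map]
  refine Bool.and_eq_true_iff.2 ⟨Bool.and_eq_true_iff.2 ⟨rfl, decide_eq_true fun r hr => ?_⟩,
    List.all_eq_true.2 fun q hq => ?_⟩
  · obtain ⟨n, -, rfl⟩ := List.mem_map.1 hr
    exact (h4 n).le
  obtain ⟨⟨⟨⟨⟨⟨⟨h5, h6⟩, e0⟩, e1⟩, e2⟩, e3⟩, e4⟩, e5⟩ := h.2 q hq
  refine Bool.and_eq_true_iff.2 ⟨Bool.and_eq_true_iff.2 ⟨decide_eq_true h5,
    decide_eq_true (h2 _ (Nat.mod_lt _ (by decide)) h6)⟩, decide_eq_true ?_⟩
  have h7 : (vsc.map deV).getD (q.2 / 256) [] = deV (vsc.getD (q.2 / 256) 0) := by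
    have h8 : q.2 / 256 < vsc.length := h5.trans_eq ((List.length_map deV).symm.trans h3).symm
    rw [List.getD_eq_getElem _ _ (by rwa [List.length_map]), List.getElem_map, List.getD_eq_getElem _ _ h8]
  rw [← h1 _ h5] at e0 e1 e2 e3 e4 e5
  show mulV _ (deV q.1) = ((vsc.map deV).getD (q.2 / 256) []).map (emul (deE (q.2 % 256)))
  rw [h7]
  refine List.cons_eq_cons.2 ⟨row_spec ?_, List.cons_eq_cons.2 ⟨row_spec ?_, List.cons_eq_cons.2 ⟨row_spec ?_,
    List.cons_eq_cons.2 ⟨row_spec ?_, List.cons_eq_cons.2 ⟨row_spec ?_, List.cons_eq_cons.2 ⟨row_spec ?_, rfl⟩⟩⟩⟩⟩⟩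
  all_goals simp only [dig, frc_eq]
  exacts [e0, e1, e2, e3, e4, e5]

theorem chk_t1 : chk vs Mt1 Tt1 = true := chk_of (by decide +kernel)
theorem chk_t2 : chk vs Mt2 Tt2 = true := chk_of (by decide +kernel)
theorem chk_u : chk vs Mu Tu = true := chk_of (by decide +kernel)
theorem chk_r : chk vs Mr Tr = true := chk_of (by decide +kernel)
theorem chk_x : chk vs Mx Tx = true := chk_of (by decide +kernel)
theorem chk_h : chk vs Mh Th = true := chk_of (by decide +kernel)
theorem chk_y : chk vs My Ty = true := chk_of (by decide +kernel)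

/-- a scalar matrix -/
def sM (e : E) : List (List E) := (List.range 6).map fun i => (List.range 6).map fun j => if i = j then e else (0, 0)

theorem h_hs : mulM Mh Mhs = sM (6, 0) := by decide +kernel
theorem ys_y : mulM Mys My = sM (3, 0) := by decide +kernel
theorem y_ys : mulM My Mys = sM (3, 0) := by decide +kernel
theorem n_y : mulM Mn My = mulM (mulM My Mt1) (sM (3, 0)) := by decide +kernel

/-- difference -/
def esub (x y : E) : E := (x.1 - y.1, x.2 - y.2)

/-- entry -/
def ent (M : List (List E)) (i j : ℕ) : E := (M.getD i []).getD j (0, 0)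

/-- the first row of `N t2` is not proportional to a row of `N` -/
theorem n_t2 : ∀ i : Fin 6, ∃ j k : Fin 6, enorm (esub (emul (ent (mulM Mn Mt2) 0 j) (ent Mn i k))
    (emul (ent (mulM Mn Mt2) 0 k) (ent Mn i j))) ∣ 144 := by decide +kernel

/-- no line is spanned by `e₀ + e₁` -/
theorem vs_good : ∀ v ∈ vs, (∃ i : Fin 6, 1 < (i : ℕ) ∧ enorm (v.getD i (0, 0)) ∣ 144) ∨
    enorm (esub (v.getD 0 (0, 0)) (v.getD 1 (0, 0))) ∣ 144 := by decide +kernel

/-- `e₀ - e₁` is one of the lines -/
theorem vs_mem : [(1, 0), (-1, 0), (0, 0), (0, 0), (0, 0), (0, 0)] ∈ vs := by decide +kernel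

end Cfsg.Agent.H910.Six
end

private theorem dce_fe7fbe92d33c : _root_.True := by
  try have : _root_.True := by simp only [_root_.Cfsg.Agent.H910.Six.dot.eq_1]
  try have : _root_.True := by simp only [_root_.Cfsg.Agent.H910.Six.mat.eq_1]
  try have : _root_.True := by simp only [_root_.Cfsg.Agent.H910.Six.dot.eq_def]
  try have : _root_.True := by simp only [_root_.Cfsg.Agent.H910.Six.dot.eq_2]
  try have : _root_.True := by simp only [_root_.Cfsg.Agent.H910.Six.ev.eq_1]
  try have : _root_.True := by simp only [_root_.Cfsg.Agent.H910.Six.enorm.eq_1]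
  try have : _root_.True := by simp only [_root_.Cfsg.Agent.H910.Six.dot._sparseCasesOn_1.else_eq]
  try have : _root_.True := by simp only [_root_.Cfsg.Agent.H910.Six.vec.eq_1]
  try have : _root_.True := by simp only [_root_.Cfsg.Agent.H910.Six.emul.eq_1]
  try have : _root_.True := by simp only [_root_.Cfsg.Agent.H910.Six.eadd.eq_1]
  try have : _root_.True := by simp only [_root_.Cfsg.Agent.H910.Six.chk.eq_1]
  try have : _root_.True := by simp only [_root_.Cfsg.Agent.H910.Six.mulV.eq_1]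
  try have : _root_.True := by simp only [_root_.Cfsg.Agent.H910.Six.mulM.eq_1]
  exact _root_.True.intro
end

-- part: H830/A6/Normal
section
prune_inst 0x430407d447400020000008010a2001c40a00001020048880020a003020749204289428820aa30041290a01c142804000000100020422000000a000800011a01801000000400000300080088000000000000000000000000000000000000010000000000000
set_option linter.all false
open scoped Cfsg.Agent.FastGrp

-- part: H830/A6/Rel
section
/-!
# `6.A₆` in dimension six: relations and joint eigenvectors (helper830)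

`Rel w I J K B D X` : the relations of the lifts of `(01)(23)`, `(02)(13)`, `(03)(12)`, `(123)`, `(12)(45)`, `(045)`.
-/

set_option autoImplicit false
set_option linter.unusedSectionVars false

open Module

namespace Cfsg.Agent.H830.A6

variable {F : Type*} [Field F] {V : Type*} [AddCommGroup V] [Module F V]

/-- The relations. -/
structure Rel (w : F) (I J K B D X : End F V) : Prop where
  hw : w * w + w + 1 = 0
  II : I * I = -1
  JJ : J * J = -1
  IJ : I * J = K
  JI : J * I = -K
  BI : B * I = J * B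
  BJ : B * J = K * B
  BBB : B * B * B = 1
  XXX : X * X * X = 1
  BX : B * X = w • (X * B)
  DD : D * D = -1
  DI : D * I = -(J * D)
  DB : D * B = B * B * D
  DX : D * X = X * X * D
  XK : (X * K) * (X * K) * (X * K) * (X * K) = -1

namespace Rel

variable {w : F} {I J K B D X : End F V}

theorem KI (h : Rel w I J K B D X) : K * I = J := by
  rw [← h.IJ, mul_assoc, h.JI, ← h.IJ, mul_neg, ← mul_assoc, h.II, neg_mul, one_mul, neg_neg]

theorem IK (h : Rel w I J K B D X) : I * K = -J := by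
  rw [← h.IJ, ← mul_assoc, h.II, neg_mul, one_mul]

theorem KJ (h : Rel w I J K B D X) : K * J = -I := by
  rw [← h.IJ, mul_assoc, h.JJ, mul_neg, mul_one]

theorem JK (h : Rel w I J K B D X) : J * K = I := by
  rw [← h.IJ, ← mul_assoc, h.JI, neg_mul, h.KJ, neg_neg]

theorem KK (h : Rel w I J K B D X) : K * K = -1 := by
  nth_rewrite 1 [← h.IJ]
  rw [mul_assoc, h.JK, h.II]

theorem BK (h : Rel w I J K B D X) : B * K = I * B := by
  rw [← h.IJ, ← mul_assoc, h.BI, mul_assoc, h.BJ, ← mul_assoc, h.JK]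

theorem DJ (h : Rel w I J K B D X) : D * J = -(I * D) := by
  have h1 : D * (J * D) = I := by
    have h2 : D * (D * I) = -(D * (J * D)) := by rw [h.DI, mul_neg]
    rw [← mul_assoc, h.DD, neg_mul, one_mul, neg_inj] at h2
    exact h2.symm
  have h2 : D * (J * D) * D = -(D * J) := by
    rw [mul_assoc, mul_assoc, h.DD, mul_neg, mul_neg, mul_one]
  rw [h1] at h2
  rw [h2, neg_neg]

theorem DK (h : Rel w I J K B D X) : D * K = -(K * D) := by
  rw [← h.IJ, ← mul_assoc, h.DI, neg_mul, mul_assoc, h.DJ, mul_neg, neg_neg, ← mul_assoc, h.JI, h.IJ, neg_mul]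

/-- `N = I + J + K` -/
theorem NN (h : Rel w I J K B D X) : (I + J + K) * (I + J + K) = -3 := by
  have : (I + J + K) * (I + J + K) = I * I + J * J + K * K + (I * J + J * I) + (J * K + K * J) + (K * I + I * K) := by
    noncomm_ring
  rw [this, h.II, h.JJ, h.KK, h.IJ, h.JI, h.JK, h.KJ, h.KI, h.IK]
  norm_num

theorem BN (h : Rel w I J K B D X) : B * (I + J + K) = (I + J + K) * B := by
  rw [mul_add, mul_add, h.BI, h.BJ, h.BK]; noncomm_ring

theorem DN (h : Rel w I J K B D X) : D * (I + J + K) = -((I + J + K) * D) := by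
  rw [mul_add, mul_add, h.DI, h.DJ, h.DK]; noncomm_ring

theorem BBI (h : Rel w I J K B D X) : B * B * I = K * (B * B) := by
  rw [mul_assoc, h.BI, ← mul_assoc, h.BJ, mul_assoc]

theorem BBJ (h : Rel w I J K B D X) : B * B * J = I * (B * B) := by
  rw [mul_assoc, h.BJ, ← mul_assoc, h.BK, mul_assoc]

theorem BBK (h : Rel w I J K B D X) : B * B * K = J * (B * B) := by
  rw [mul_assoc, h.BK, ← mul_assoc, h.BI, mul_assoc]

theorem BBX (h : Rel w I J K B D X) : B * B * X = (w * w) • (X * (B * B)) := by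
  rw [mul_assoc, h.BX, mul_smul_comm, ← mul_assoc, h.BX, smul_mul_assoc, smul_smul, mul_assoc]

theorem w3 (h : Rel w I J K B D X) : w * w * w = 1 := by linear_combination (w - 1) * h.hw

theorem w_ne_one (h : Rel w I J K B D X) (h3 : (3 : F) ≠ 0) : w ≠ 1 := by
  intro h1
  apply h3
  have := h.hw
  rw [h1] at this
  linear_combination this

theorem th (h : Rel w I J K B D X) : (2 * w + 1) * (2 * w + 1) = -3 := by linear_combination 4 * h.hw

local notation "τ" => LinearMap.trace F V

theorem conj_zero {Y Z : End F V} (h2 : (2 : F) ≠ 0) (hY : Y * Y = -1) (hYZ : Y * Z * Y = Z) : τ Z = 0 := by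
  have h1 : τ Z = - τ Z := by
    conv_lhs => rw [← hYZ]
    rw [LinearMap.trace_mul_comm, ← mul_assoc, hY, neg_mul, one_mul, map_neg]
  have h3 : (2 : F) * τ Z = 0 := by linear_combination h1
  exact (mul_eq_zero.1 h3).resolve_left h2

theorem tI (h : Rel w I J K B D X) (h2 : (2 : F) ≠ 0) : τ I = 0 :=
  conj_zero h2 h.JJ (by rw [h.JI, neg_mul, h.KJ, neg_neg])

theorem tJ (h : Rel w I J K B D X) (h2 : (2 : F) ≠ 0) : τ J = 0 :=
  conj_zero h2 h.II (by rw [h.IJ, h.KI])

theorem tK (h : Rel w I J K B D X) (h2 : (2 : F) ≠ 0) : τ K = 0 :=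
  conj_zero h2 h.II (by rw [h.IK, neg_mul, h.JI, neg_neg])

theorem tB (h : Rel w I J K B D X) (h3 : (3 : F) ≠ 0) : τ B = 0 := by
  have h1 : τ B = w * τ B := by
    have e : B = B * X * (X * X) := by rw [mul_assoc, ← mul_assoc X X X, h.XXX, mul_one]
    conv_lhs => rw [e]
    rw [h.BX, smul_mul_assoc, map_smul, smul_eq_mul, mul_assoc, LinearMap.trace_mul_comm, mul_assoc, h.XXX, mul_one]
  have h2 : (1 - w) * τ B = 0 := by linear_combination h1
  rcases mul_eq_zero.1 h2 with h4 | h4
  · exact absurd (by linear_combination -h4) (h.w_ne_one h3)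
  · exact h4

theorem tBB (h : Rel w I J K B D X) (h3 : (3 : F) ≠ 0) : τ (B * B) = 0 := by
  have h1 : τ (B * B) = (w * w) * τ (B * B) := by
    have e : B * B = B * B * X * (X * X) := by rw [mul_assoc (B * B), ← mul_assoc X X X, h.XXX, mul_one]
    conv_lhs => rw [e]
    rw [h.BBX, smul_mul_assoc, map_smul, smul_eq_mul, mul_assoc X, LinearMap.trace_mul_comm, mul_assoc (B * B), h.XXX,
      mul_one]
  have h2 : (1 - w * w) * τ (B * B) = 0 := by linear_combination h1
  rcases mul_eq_zero.1 h2 with h4 | h4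
  · exfalso
    apply h.w_ne_one h3
    linear_combination w * h4 + h.w3
  · exact h4

theorem tIB (h : Rel w I J K B D X) (h3 : (3 : F) ≠ 0) : τ (I * B) = 0 := by
  have e : I * B = J * B * J := by rw [mul_assoc, h.BJ, ← mul_assoc, h.JK]
  rw [e, LinearMap.trace_mul_comm, ← mul_assoc, h.JJ, neg_mul, one_mul, map_neg, h.tB h3, neg_zero]

theorem tJB (h : Rel w I J K B D X) (h3 : (3 : F) ≠ 0) : τ (J * B) = 0 := by
  have e : J * B = K * B * K := by rw [mul_assoc, h.BK, ← mul_assoc, h.KI]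
  rw [e, LinearMap.trace_mul_comm, ← mul_assoc, h.KK, neg_mul, one_mul, map_neg, h.tB h3, neg_zero]

theorem tKB (h : Rel w I J K B D X) (h3 : (3 : F) ≠ 0) : τ (K * B) = 0 := by
  have e : K * B = I * B * I := by rw [mul_assoc, h.BI, ← mul_assoc, h.IJ]
  rw [e, LinearMap.trace_mul_comm, ← mul_assoc, h.II, neg_mul, one_mul, map_neg, h.tB h3, neg_zero]

theorem tIBB (h : Rel w I J K B D X) (h3 : (3 : F) ≠ 0) : τ (I * (B * B)) = 0 := by
  have e : I * (B * B) = -(K * (B * B) * K) := by rw [mul_assoc, h.BBK, ← mul_assoc K, h.KJ, neg_mul, neg_neg]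
  rw [e, map_neg, LinearMap.trace_mul_comm, ← mul_assoc, h.KK, neg_mul, one_mul, map_neg, h.tBB h3, neg_zero, neg_zero]

theorem tJBB (h : Rel w I J K B D X) (h3 : (3 : F) ≠ 0) : τ (J * (B * B)) = 0 := by
  have e : J * (B * B) = -(I * (B * B) * I) := by rw [mul_assoc, h.BBI, ← mul_assoc I, h.IK, neg_mul, neg_neg]
  rw [e, map_neg, LinearMap.trace_mul_comm, ← mul_assoc, h.II, neg_mul, one_mul, map_neg, h.tBB h3, neg_zero, neg_zero]

theorem tKBB (h : Rel w I J K B D X) (h3 : (3 : F) ≠ 0) : τ (K * (B * B)) = 0 := by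
  have e : K * (B * B) = -(J * (B * B) * J) := by rw [mul_assoc, h.BBJ, ← mul_assoc J, h.JI, neg_mul, neg_neg]
  rw [e, map_neg, LinearMap.trace_mul_comm, ← mul_assoc, h.JJ, neg_mul, one_mul, map_neg, h.tBB h3, neg_zero, neg_zero]

/-- joint eigenvectors exist -/
theorem exists_eigen (h : Rel w I J K B D X) (h2 : (2 : F) ≠ 0) (h3 : (3 : F) ≠ 0) (h6 : finrank F V = 6)
    {ν l l' : F} (hν : ν * ν = -3) (hl : l * l' = 1) (hl3 : l' * l' * l' = 1) :
    ∃ f : V, f ≠ 0 ∧ (I + J + K) f = ν • f ∧ B f = l • f := by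
  have : FiniteDimensional F V := FiniteDimensional.of_finrank_pos (by rw [h6]; norm_num)
  obtain ⟨N, hN⟩ : ∃ N : End F V, N = I + J + K := ⟨_, rfl⟩
  have hNN : N * N = -3 := by rw [hN, h.NN]
  have hBN' : B * N = N * B := by rw [hN, h.BN]
  rw [← hN]
  let Pr : End F V := (ν • (1 : End F V) + N) * (1 + l' • B + (l' * l') • (B * B))
  have hNp : N * (ν • (1 : End F V) + N) = ν • (ν • (1 : End F V) + N) := by
    rw [mul_add, mul_smul_comm, mul_one, hNN, smul_add, smul_smul, hν, add_comm]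
    congr 1
    rw [neg_smul, ← Algebra.algebraMap_eq_smul_one, map_ofNat]
  have hBp : B * (1 + l' • B + (l' * l') • (B * B)) = l • (1 + l' • B + (l' * l') • (B * B)) := by
    rw [mul_add, mul_add, mul_one, mul_smul_comm, mul_smul_comm, ← mul_assoc, h.BBB, smul_add, smul_add, smul_smul,
      smul_smul, hl, one_smul, show l * (l' * l') = l' by rw [← mul_assoc, hl, one_mul],
      show l = l' * l' by
        calc l = l * (l' * l' * l') := by rw [hl3, mul_one]
          _ = (l * l') * (l' * l') := by ring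
          _ = l' * l' := by rw [hl, one_mul]]
    abel
  have hBN : B * (ν • (1 : End F V) + N) = (ν • (1 : End F V) + N) * B := by
    rw [mul_add, add_mul, mul_smul_comm, smul_mul_assoc, mul_one, one_mul, hBN']
  have htr : τ Pr = 6 * ν := by
    have e : Pr = ν • (1 : End F V) + (ν * l') • B + (ν * (l' * l')) • (B * B) + I + J + K + l' • (I * B) + l' • (J * B)
        + l' • (K * B) + (l' * l') • (I * (B * B)) + (l' * l') • (J * (B * B)) + (l' * l') • (K * (B * B)) := by
      change (ν • (1 : End F V) + N) * (1 + l' • B + (l' * l') • (B * B)) = _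
      rw [hN]
      simp only [add_mul, mul_add, smul_mul_assoc, mul_smul_comm, mul_one, one_mul, smul_smul, smul_add]
      rw [mul_comm l' ν, mul_comm (l' * l') ν]
      abel
    rw [e]
    simp only [map_add, map_smul, h.tI h2, h.tJ h2, h.tK h2, h.tB h3, h.tBB h3, h.tIB h3, h.tJB h3, h.tKB h3, h.tIBB h3,
      h.tJBB h3, h.tKBB h3, smul_zero, add_zero, LinearMap.trace_one, h6]
    rw [smul_eq_mul]
    push_cast
    ring
  have hν0 : ν ≠ 0 := by
    rintro rfl
    apply h3
    linear_combination hν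
  have hne : Pr ≠ 0 := by
    intro h0
    rw [h0, map_zero] at htr
    have h6' : (6 : F) ≠ 0 := by
      have : (6 : F) = 2 * 3 := by norm_num
      rw [this]
      exact mul_ne_zero h2 h3
    exact mul_ne_zero h6' hν0 htr.symm
  obtain ⟨u, hu⟩ : ∃ u, Pr u ≠ 0 := by
    by_contra hcon
    push Not at hcon
    exact hne (LinearMap.ext hcon)
  refine ⟨Pr u, hu, ?_, ?_⟩
  · have : N * Pr = ν • Pr := by
      change N * ((ν • (1 : End F V) + N) * (1 + l' • B + (l' * l') • (B * B))) = _
      rw [← mul_assoc, hNp, smul_mul_assoc]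
    exact LinearMap.congr_fun this u
  · have : B * Pr = l • Pr := by
      change B * ((ν • (1 : End F V) + N) * (1 + l' • B + (l' * l') • (B * B))) = _
      rw [← mul_assoc, hBN, mul_assoc, hBp, mul_smul_comm]
    exact LinearMap.congr_fun this u

end Rel

end Cfsg.Agent.H830.A6
end

-- part: H830/A6/Vec
section
/-!
# `6.A₆` in dimension six: the frame (helper830)
-/

set_option autoImplicit false
set_option linter.unusedSectionVars false

open Module

namespace Cfsg.Agent.H830.A6

variable {F : Type*} [Field F] {V : Type*} [AddCommGroup V] [Module F V]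

namespace Rel

variable {w : F} {I J K B D X : End F V}

theorem ap {S T : End F V} (v : V) : (S * T) v = S (T v) := rfl

/-- `J` on an eigenvector of `N` with eigenvalue `2w+1` -/
theorem J_plus (h : Rel w I J K B D X) (h2 : (2 : F) ≠ 0) {f : V} (hf : (I + J + K) f = (2 * w + 1) • f) :
    J f = w • f + (w * w) • I f := by
  have h1 : I f + J f + K f = (2 * w + 1) • f := hf
  have h3 : -f + K f + -J f = (2 * w + 1) • I f := by
    have e := congrArg I h1
    rw [map_add, map_add, map_smul, ← ap, ← ap, ← ap, h.II, h.IJ, h.IK] at e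
    exact e
  have h4 : (2 : F) • (J f - (w • f + (w * w) • I f)) = 0 := by
    have e1 : (2 : F) • (J f - (w • f + (w * w) • I f)) = (I f + J f + K f - (2 * w + 1) • f) -
        (-f + K f + -J f - (2 * w + 1) • I f) + (-2 * (w * w + w + 1)) • I f := by module
    rw [e1, h1, h3, h.hw]
    simp
  rcases smul_eq_zero.1 h4 with h5 | h5
  · exact absurd h5 h2
  · exact sub_eq_zero.1 h5

theorem K_plus (h : Rel w I J K B D X) (h2 : (2 : F) ≠ 0) {f : V} (hf : (I + J + K) f = (2 * w + 1) • f) :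
    K f = -(w * w) • f + w • I f := by
  have h1 : I f + J f + K f = (2 * w + 1) • f := hf
  rw [h.J_plus h2 hf] at h1
  have : K f = (I f + (w • f + (w * w) • I f) + K f) - (w • f + (w * w) • I f) - I f := by abel
  rw [this, h1]
  have e : (2 * w + 1) • f - (w • f + (w * w) • I f) - I f = -(w * w) • f + w • I f + (w * w + w + 1) • f
      - (w * w + w + 1) • I f := by module
  rw [e, h.hw]
  simp

theorem J_minus (h : Rel w I J K B D X) (h2 : (2 : F) ≠ 0) {f : V} (hf : (I + J + K) f = -(2 * w + 1) • f) :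
    J f = (w * w) • f + w • I f := by
  have h1 : I f + J f + K f = -(2 * w + 1) • f := hf
  have h3 : -f + K f + -J f = -(2 * w + 1) • I f := by
    have e := congrArg I h1
    rw [map_add, map_add, map_smul, ← ap, ← ap, ← ap, h.II, h.IJ, h.IK] at e
    exact e
  have h4 : (2 : F) • (J f - ((w * w) • f + w • I f)) = 0 := by
    have e1 : (2 : F) • (J f - ((w * w) • f + w • I f)) = (I f + J f + K f - -(2 * w + 1) • f) -
        (-f + K f + -J f - -(2 * w + 1) • I f) - (2 * (w * w + w + 1)) • f := by module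
    rw [e1, h1, h3, h.hw]
    simp
  rcases smul_eq_zero.1 h4 with h5 | h5
  · exact absurd h5 h2
  · exact sub_eq_zero.1 h5

theorem K_minus (h : Rel w I J K B D X) (h2 : (2 : F) ≠ 0) {f : V} (hf : (I + J + K) f = -(2 * w + 1) • f) :
    K f = -w • f + (w * w) • I f := by
  have h1 : I f + J f + K f = -(2 * w + 1) • f := hf
  rw [h.J_minus h2 hf] at h1
  have : K f = (I f + ((w * w) • f + w • I f) + K f) - ((w * w) • f + w • I f) - I f := by abel
  rw [this, h1]
  have e : -(2 * w + 1) • f - ((w * w) • f + w • I f) - I f = -w • f + (w * w) • I f - (w * w + w + 1) • f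
      - (w * w + w + 1) • I f := by module
  rw [e, h.hw]
  simp

/-- the vector `f' = f + θ I f` -/
theorem N_prime (h : Rel w I J K B D X) (h2 : (2 : F) ≠ 0) {f : V} (hf : (I + J + K) f = (2 * w + 1) • f) :
    (I + J + K) (f + (2 * w + 1) • I f) = -(2 * w + 1) • (f + (2 * w + 1) • I f) := by
  have hJ := h.J_plus h2 hf
  have hK := h.K_plus h2 hf
  have e : (I + J + K) (I f) = -f - K f + J f := by
    have : (I + J + K) (I f) = (I * I) f + (J * I) f + (K * I) f := rfl
    rw [this, h.II, h.JI, h.KI, LinearMap.neg_apply, LinearMap.neg_apply, Module.End.one_apply]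
    abel
  rw [map_add, map_smul, hf, e, hK, hJ]
  have e2 : (2 * w + 1) • f + (2 * w + 1) • (-f - (-(w * w) • f + w • I f) + (w • f + (w * w) • I f)) =
      -(2 * w + 1) • (f + (2 * w + 1) • I f) + ((2 * w + 1) * (w * w + w + 1)) • f +
        ((2 * w + 1) * (w * w + w + 1)) • I f := by module
  rw [e2, h.hw]
  simp

theorem B_prime (h : Rel w I J K B D X) (h2 : (2 : F) ≠ 0) {f : V} (hf : (I + J + K) f = (2 * w + 1) • f) {l : F}
    (hB : B f = l • f) : B (f + (2 * w + 1) • I f) = (l * (w * w)) • (f + (2 * w + 1) • I f) := by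
  have hJ := h.J_plus h2 hf
  have e : B (I f) = l • J f := by
    have : B (I f) = (B * I) f := rfl
    rw [this, h.BI, ap, hB, map_smul]
  rw [map_add, map_smul, hB, e, hJ]
  have e2 : l • f + (2 * w + 1) • l • (w • f + (w * w) • I f) = (l * (w * w)) • (f + (2 * w + 1) • I f) +
      (l * (w * w + w + 1)) • f := by module
  rw [e2, h.hw]
  simp

/-- the vector `g⁺` with `(g⁺)' = 2 g` -/
theorem N_plus (h : Rel w I J K B D X) (h2 : (2 : F) ≠ 0) {g : V} (hg : (I + J + K) g = -(2 * w + 1) • g) :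
    (I + J + K) ((2 * w + 1) • I g - g) = (2 * w + 1) • ((2 * w + 1) • I g - g) := by
  have hJ := h.J_minus h2 hg
  have hK := h.K_minus h2 hg
  have e : (I + J + K) (I g) = -g - K g + J g := by
    have : (I + J + K) (I g) = (I * I) g + (J * I) g + (K * I) g := rfl
    rw [this, h.II, h.JI, h.KI, LinearMap.neg_apply, LinearMap.neg_apply, Module.End.one_apply]
    abel
  rw [map_sub, map_smul, hg, e, hK, hJ]
  have e2 : (2 * w + 1) • (-g - (-w • g + (w * w) • I g) + ((w * w) • g + w • I g)) - -(2 * w + 1) • g =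
      (2 * w + 1) • ((2 * w + 1) • I g - g) + ((2 * w + 1) * (w * w + w + 1)) • g -
        ((2 * w + 1) * (w * w + w + 1)) • I g := by module
  rw [e2, h.hw]
  simp

theorem B_plus (h : Rel w I J K B D X) (h2 : (2 : F) ≠ 0) {g : V} (hg : (I + J + K) g = -(2 * w + 1) • g) {l : F}
    (hB : B g = l • g) : B ((2 * w + 1) • I g - g) = (l * w) • ((2 * w + 1) • I g - g) := by
  have hJ := h.J_minus h2 hg
  have e : B (I g) = l • J g := by
    have : B (I g) = (B * I) g := rfl
    rw [this, h.BI, ap, hB, map_smul]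
  rw [map_sub, map_smul, hB, e, hJ]
  have e2 : (2 * w + 1) • l • ((w * w) • g + w • I g) - l • g = (l * w) • ((2 * w + 1) • I g - g) +
      (l * (2 * w - 1) * (w * w + w + 1)) • g := by module
  rw [e2, h.hw]
  simp

theorem prime_plus (h : Rel w I J K B D X) (g : V) :
    ((2 * w + 1) • I g - g) + (2 * w + 1) • I ((2 * w + 1) • I g - g) = (2 : F) • g := by
  have e : I (I g) = -g := by
    have : I (I g) = (I * I) g := rfl
    rw [this, h.II]; rfl
  rw [map_sub, map_smul, e]
  have e2 : (2 * w + 1) • I g - g + (2 * w + 1) • ((2 * w + 1) • -g - I g) = (2 : F) • g -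
      (4 * (w * w + w + 1)) • g := by module
  rw [e2, h.hw]
  simp

/-- `D` on joint eigenvectors -/
theorem D_N (h : Rel w I J K B D X) {f : V} {ν : F} (hf : (I + J + K) f = ν • f) : (I + J + K) (D f) = -ν • D f := by
  have e : (I + J + K) (D f) = -((D * (I + J + K)) f) := by rw [h.DN]; simp only [_root_.LinearMap.add_apply, _root_.LinearMap.neg_apply, _root_.Module.End.mul_apply, _root_.neg_add_rev, _root_.neg_neg]
  rw [e, ap, hf, map_smul, neg_smul]

theorem D_B (h : Rel w I J K B D X) {f : V} {l : F} (hf : B f = l • f) : B (D f) = (l * l) • D f := by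
  have e : B (D f) = (D * (B * B)) f := by
    have e1 : D * (B * B) = B * D := by
      rw [← mul_assoc, h.DB]
      calc B * B * D * B = B * B * (D * B) := by rw [mul_assoc]
        _ = B * B * (B * B * D) := by rw [h.DB]
        _ = (B * B * B) * B * D := by noncomm_ring
        _ = B * D := by rw [h.BBB, one_mul]
    rw [e1]; rfl
  rw [e, ap, ap, hf, map_smul, hf, smul_smul, map_smul]

end Rel

/-! ### joint eigenvectors are independent -/

/-- eigenvalues of `N` -/
def nuv (w : F) : Fin 6 → F := ![2 * w + 1, 2 * w + 1, 2 * w + 1, -(2 * w + 1), -(2 * w + 1), -(2 * w + 1)]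

/-- eigenvalues of `B` -/
def lav (w : F) : Fin 6 → F := ![w * w, 1, w, w, w * w, 1]

/-- six joint eigenvectors -/
structure Eig (w : F) (I J K B : End F V) (e : Fin 6 → V) : Prop where
  ne : ∀ i, e i ≠ 0
  N : ∀ i, (I + J + K) (e i) = nuv w i • e i
  B : ∀ i, B (e i) = lav w i • e i

theorem mu_inj {w : F} (hw : w * w + w + 1 = 0) (h2 : (2 : F) ≠ 0) (h3 : (3 : F) ≠ 0) :
    Function.Injective (fun i => lav w i * nuv w i) := by
  have hw0 : w ≠ 0 := by rintro rfl; norm_num at hw
  have ht : (2 * w + 1) ≠ 0 := by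
    intro h
    apply h3
    linear_combination 4 * hw - (2 * w + 1) * h
  have hw1 : w - 1 ≠ 0 := by
    intro h
    apply h3
    linear_combination hw - (w + 2) * h
  have a1 := mul_ne_zero ht hw1
  have a2 := mul_ne_zero a1 hw0
  have b1 := mul_ne_zero ht h2
  have b2 := mul_ne_zero b1 hw0
  have b3 := mul_ne_zero b2 hw0
  have c2 := mul_ne_zero ht hw0
  have c3 := mul_ne_zero c2 hw0
  have key : ∀ i j : Fin 6, i < j → lav w i * nuv w i ≠ lav w j * nuv w j := by
    intro i j hij h
    fin_cases i <;> fin_cases j <;> first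
      | exact absurd hij (by decide)
      | skip
    · have h' : w * w * (2 * w + 1) = 1 * (2 * w + 1) := h
      exact (mul_ne_zero a2 hw0) (by linear_combination -h' + (2 * w + 1) * (w - 1) * hw)
    · have h' : w * w * (2 * w + 1) = w * (2 * w + 1) := h
      exact a2 (by linear_combination h')
    · have h' : w * w * (2 * w + 1) = w * (-(2 * w + 1)) := h
      exact ht (by linear_combination -h' + (2 * w + 1) * hw)
    · have h' : w * w * (2 * w + 1) = w * w * (-(2 * w + 1)) := h
      exact b3 (by linear_combination h')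
    · have h' : w * w * (2 * w + 1) = 1 * (-(2 * w + 1)) := h
      exact c2 (by linear_combination -h' + (2 * w + 1) * hw)
    · have h' : 1 * (2 * w + 1) = w * (2 * w + 1) := h
      exact a1 (by linear_combination -h')
    · have h' : 1 * (2 * w + 1) = w * (-(2 * w + 1)) := h
      exact c3 (by linear_combination -h' + (2 * w + 1) * hw)
    · have h' : 1 * (2 * w + 1) = w * w * (-(2 * w + 1)) := h
      exact c2 (by linear_combination -h' + (2 * w + 1) * hw)
    · have h' : 1 * (2 * w + 1) = 1 * (-(2 * w + 1)) := h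
      exact b1 (by linear_combination h')
    · have h' : w * (2 * w + 1) = w * (-(2 * w + 1)) := h
      exact b2 (by linear_combination h')
    · have h' : w * (2 * w + 1) = w * w * (-(2 * w + 1)) := h
      exact ht (by linear_combination -h' + (2 * w + 1) * hw)
    · have h' : w * (2 * w + 1) = 1 * (-(2 * w + 1)) := h
      exact c3 (by linear_combination -h' + (2 * w + 1) * hw)
    · have h' : w * (-(2 * w + 1)) = w * w * (-(2 * w + 1)) := h
      exact a2 (by linear_combination h')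
    · have h' : w * (-(2 * w + 1)) = 1 * (-(2 * w + 1)) := h
      exact a1 (by linear_combination -h')
    · have h' : w * w * (-(2 * w + 1)) = 1 * (-(2 * w + 1)) := h
      exact (mul_ne_zero a2 hw0) (by linear_combination h' + (2 * w + 1) * (w - 1) * hw)
  intro i j hij
  rcases lt_trichotomy i j with h | h | h
  · exact absurd hij (key i j h)
  · exact h
  · exact absurd hij.symm (key j i h)

end Cfsg.Agent.H830.A6
end

-- part: H830/A6/Frame
section
/-!
# `6.A₆` in dimension six: existence of the frame (helper830)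
-/

set_option autoImplicit false
set_option linter.unusedSectionVars false

open Module

namespace Cfsg.Agent.H830.A6

variable {F : Type*} [Field F] {V : Type*} [AddCommGroup V] [Module F V]

theorem repr_diag {M : End F V} {μ : Fin 6 → F} (b : Basis (Fin 6) F V) (hb : ∀ i, M (b i) = μ i • b i) (v : V)
    (j : Fin 6) : b.repr (M v) j = μ j * b.repr v j := by
  have : M v = ∑ i, (μ i * b.repr v i) • b i := by
    conv_lhs => rw [← b.sum_repr v]
    rw [map_sum]
    refine Finset.sum_congr rfl fun i _ => ?_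
    rw [map_smul, hb, smul_smul, mul_comm]
  rw [this, Basis.repr_sum_self]

theorem repr_zero {M : End F V} {μ : Fin 6 → F} (b : Basis (Fin 6) F V) (hb : ∀ i, M (b i) = μ i • b i) {v : V}
    {l : F} (hv : M v = l • v) {j : Fin 6} (hj : μ j ≠ l) : b.repr v j = 0 := by
  have h1 := repr_diag b hb v j
  rw [hv, map_smul, Finsupp.smul_apply, smul_eq_mul] at h1
  have h2 : (μ j - l) * b.repr v j = 0 := by linear_combination -h1
  rcases mul_eq_zero.1 h2 with h3 | h3
  · exact absurd (sub_eq_zero.1 h3) hj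
  · exact h3

theorem eq_smul {M : End F V} {μ : Fin 6 → F} (b : Basis (Fin 6) F V) (hb : ∀ i, M (b i) = μ i • b i)
    (hμ : Function.Injective μ) {v : V} {i : Fin 6} (hv : M v = μ i • v) : v = b.repr v i • b i := by
  apply b.repr.injective
  ext j
  rw [map_smul, Basis.repr_self, Finsupp.smul_apply, Finsupp.single_apply, smul_eq_mul]
  by_cases hij : i = j
  · rw [if_pos hij, mul_one, hij]
  · rw [if_neg hij, mul_zero]
    exact repr_zero b hb hv fun h => hij (hμ h.symm)

section eig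

variable {w : F} {I J K B D X : End F V} {e : Fin 6 → V}

theorem Eig.M (he : Eig w I J K B e) (i : Fin 6) : (B * (I + J + K)) (e i) = (lav w i * nuv w i) • e i := by
  rw [Rel.ap, he.N, map_smul, he.B, smul_smul, mul_comm]

theorem Eig.exists_basis (he : Eig w I J K B e) (hw : w * w + w + 1 = 0) (h2 : (2 : F) ≠ 0) (h3 : (3 : F) ≠ 0)
    (h6 : finrank F V = 6) : ∃ b : Basis (Fin 6) F V, ⇑b = e := by
  have hli : LinearIndependent F e :=
    Module.End.eigenvectors_linearIndependent' (B * (I + J + K)) (fun i => lav w i * nuv w i) (mu_inj hw h2 h3) e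
      (fun i => ⟨Module.End.mem_eigenspace_iff.2 (he.M i), he.ne i⟩)
  exact ⟨basisOfLinearIndependentOfCardEqFinrank hli (by rw [h6, Fintype.card_fin]),
    coe_basisOfLinearIndependentOfCardEqFinrank hli _⟩

theorem Rel.I_I (h : Rel w I J K B D X) (v : V) : I (I v) = -v := by
  have : I (I v) = (I * I) v := rfl
  rw [this, h.II]; rfl

theorem Rel.D_D (h : Rel w I J K B D X) (v : V) : D (D v) = -v := by
  have : D (D v) = (D * D) v := rfl
  rw [this, h.DD]; rfl

theorem Rel.D_ne (h : Rel w I J K B D X) {v : V} (hv : v ≠ 0) : D v ≠ 0 := by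
  intro h0
  apply hv
  have := h.D_D v
  rw [h0, map_zero] at this
  exact neg_eq_zero.1 this.symm

theorem Rel.D_I (h : Rel w I J K B D X) (v : V) : D (I v) = -J (D v) := by
  have : D (I v) = (D * I) v := rfl
  rw [this, h.DI]; rfl

theorem Rel.prime_ne (h : Rel w I J K B D X) (h2 : (2 : F) ≠ 0) {v : V} (hv : v ≠ 0) : v + (2 * w + 1) • I v ≠ 0 := by
  intro h0
  have h1 : v + (2 * w + 1) • I v - (2 * w + 1) • I (v + (2 * w + 1) • I v) = (-2 : F) • v := by
    rw [map_add, map_smul, h.I_I]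
    have e2 : v + (2 * w + 1) • I v - (2 * w + 1) • (I v + (2 * w + 1) • -v) = (-2 : F) • v +
      (4 * (w * w + w + 1)) • v := by module
    rw [e2, h.hw]
    simp
  rw [h0, map_zero, smul_zero, sub_zero] at h1
  rcases smul_eq_zero.1 h1.symm with h3 | h3
  · exact h2 (neg_eq_zero.1 h3)
  · exact hv h3

/-- `D` on `f'` -/
theorem Rel.D_prime (h : Rel w I J K B D X) (h2 : (2 : F) ≠ 0) {f g : V} {δ : F} (hD : D f = δ • g)
    (hg : (I + J + K) g = -(2 * w + 1) • g) :
    D (f + (2 * w + 1) • I f) = (-(w * δ)) • ((2 * w + 1) • I g - g) := by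
  rw [map_add, map_smul, h.D_I, hD, map_smul, h.J_minus h2 hg]
  have e2 : δ • g + (2 * w + 1) • -(δ • ((w * w) • g + w • I g)) = (-(w * δ)) • ((2 * w + 1) • I g - g) -
      (δ * (2 * w - 1) * (w * w + w + 1)) • g := by module
  rw [e2, h.hw]
  simp

/-- the frame -/
structure Fr (w δ : F) (I J K B D : End F V) (e : Fin 6 → V) : Prop extends Eig w I J K B e where
  hδ : 2 * w * δ * δ = 1
  e3 : e 3 = e 0 + (2 * w + 1) • I (e 0)
  e4 : e 4 = e 1 + (2 * w + 1) • I (e 1)
  e5 : e 5 = e 2 + (2 * w + 1) • I (e 2)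
  D0 : D (e 0) = δ • e 3
  D1 : D (e 1) = δ • e 5

theorem exists_frame (h : Rel w I J K B D X) (h2 : (2 : F) ≠ 0) (h3 : (3 : F) ≠ 0) (h6 : finrank F V = 6) :
    ∃ (δ : F) (e : Fin 6 → V), Fr w δ I J K B D e := by
  have hθ : (2 * w + 1) * (2 * w + 1) = -3 := h.th
  obtain ⟨f0, hf0, N0, B0⟩ := h.exists_eigen h2 h3 h6 (ν := 2 * w + 1) (l := w * w) (l' := w) hθ h.w3 h.w3
  obtain ⟨f1, hf1, N1, B1⟩ := h.exists_eigen h2 h3 h6 (ν := 2 * w + 1) (l := 1) (l' := 1) hθ (one_mul 1) (by ring)
  have N3 := h.N_prime h2 N0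
  have N4 := h.N_prime h2 N1
  have B3 := h.B_prime h2 N0 B0
  have B4 := h.B_prime h2 N1 B1
  have N5 := h.D_N N1
  have B5 := h.D_B B1
  have N2 := h.N_plus h2 N5
  have B2 := h.B_plus h2 N5 B5
  have hw3 := h.w3
  have hw := h.hw
  have hf5 : D f1 ≠ 0 := h.D_ne hf1
  have hf2 : (2 * w + 1) • I (D f1) - D f1 ≠ 0 := by
    intro h0
    have h1 := h.prime_plus (D f1)
    rw [h0, map_zero, smul_zero, add_zero] at h1
    rcases smul_eq_zero.1 h1.symm with h4 | h4
    · exact h2 h4
    · exact hf5 h4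
  -- the first frame
  have hE : Eig w I J K B ![f0, f1, (2 * w + 1) • I (D f1) - D f1, f0 + (2 * w + 1) • I f0, f1 + (2 * w + 1) • I f1,
      D f1] := by
    refine ⟨?_, ?_, ?_⟩
    · intro i
      fin_cases i
      · exact hf0
      · exact hf1
      · exact hf2
      · exact h.prime_ne h2 hf0
      · exact h.prime_ne h2 hf1
      · exact hf5
    · intro i
      fin_cases i
      · exact N0
      · exact N1
      · exact N2
      · exact N3
      · exact N4
      · exact N5
    · intro i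
      fin_cases i
      · exact B0
      · exact B1
      · refine B2.trans ?_
        rw [one_mul, one_mul]; rfl
      · refine B3.trans ?_
        rw [show w * w * (w * w) = w by linear_combination w * hw3]; rfl
      · refine B4.trans ?_
        rw [one_mul]; rfl
      · refine B5.trans ?_
        rw [one_mul]; rfl
  obtain ⟨b, hb⟩ := hE.exists_basis hw h2 h3 h6
  have hbM : ∀ i, (B * (I + J + K)) (b i) = (lav w i * nuv w i) • b i := fun i => by rw [hb]; exact hE.M i
  have hD0 : D f0 = b.repr (D f0) 3 • b 3 := by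
    refine eq_smul b hbM (mu_inj hw h2 h3) ?_
    have e1 := h.D_N N0
    have e2 := h.D_B B0
    rw [Rel.ap, e1, map_smul, e2, smul_smul]
    congr 1
    change -(2 * w + 1) * (w * w * (w * w)) = w * -(2 * w + 1)
    linear_combination (-(2 * w + 1) * w) * hw3
  set δ := b.repr (D f0) 3 with hδ
  have hb3 : b 3 = f0 + (2 * w + 1) • I f0 := by rw [hb]; rfl
  rw [hb3] at hD0
  have hδ2 : 2 * w * δ * δ = 1 := by
    have e1 := h.D_D f0
    rw [hD0, map_smul, h.D_prime h2 hD0 N3, map_add, map_smul, h.I_I] at e1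
    have e2 : δ • (-(w * δ)) • ((2 * w + 1) • (I f0 + (2 * w + 1) • -f0) - (f0 + (2 * w + 1) • I f0)) =
        (-(2 * w * δ * δ)) • f0 + (4 * w * δ * δ * (w * w + w + 1)) • f0 := by module
    rw [e2, hw, mul_zero, zero_smul, add_zero, neg_smul, neg_inj] at e1
    have e3 : (2 * w * δ * δ - 1) • f0 = 0 := by rw [sub_smul, e1, one_smul, sub_self]
    rcases smul_eq_zero.1 e3 with h4 | h4
    · linear_combination h4
    · exact absurd h4 hf0
  have hδ0 : δ ≠ 0 := by
    intro h0
    rw [h0] at hδ2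
    norm_num at hδ2
  have i2 : (2 : F)⁻¹ * 2 = 1 := inv_mul_cancel₀ h2
  refine ⟨δ, ![f0, f1, ((2 : F)⁻¹ * δ⁻¹) • ((2 * w + 1) • I (D f1) - D f1), f0 + (2 * w + 1) • I f0,
    f1 + (2 * w + 1) • I f1, δ⁻¹ • D f1], ⟨⟨?_, ?_, ?_⟩, hδ2, rfl, rfl, ?_, hD0, ?_⟩⟩
  · intro i
    fin_cases i
    · exact hf0
    · exact hf1
    · exact smul_ne_zero (mul_ne_zero (inv_ne_zero h2) (inv_ne_zero hδ0)) hf2
    · exact h.prime_ne h2 hf0
    · exact h.prime_ne h2 hf1
    · exact smul_ne_zero (inv_ne_zero hδ0) hf5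
  · intro i
    fin_cases i
    · exact N0
    · exact N1
    · change (I + J + K) (_ • _) = (2 * w + 1) • (_ • _)
      rw [map_smul, N2, smul_comm]
    · exact N3
    · exact N4
    · change (I + J + K) (_ • _) = (-(2 * w + 1)) • (_ • _)
      rw [map_smul, N5, smul_comm]
  · intro i
    fin_cases i
    · exact B0
    · exact B1
    · change B (_ • _) = w • (_ • _)
      rw [map_smul, B2, one_mul, one_mul, smul_comm]
    · refine B3.trans ?_
      rw [show w * w * (w * w) = w by linear_combination w * hw3]; rfl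
    · refine B4.trans ?_
      rw [one_mul]; rfl
    · change B (_ • _) = (1 : F) • (_ • _)
      rw [map_smul, B5, one_mul, smul_comm]
  · change δ⁻¹ • D f1 = ((2 : F)⁻¹ * δ⁻¹) • ((2 * w + 1) • I (D f1) - D f1) + (2 * w + 1) •
      I (((2 : F)⁻¹ * δ⁻¹) • ((2 * w + 1) • I (D f1) - D f1))
    rw [map_smul, smul_comm (2 * w + 1), ← smul_add, h.prime_plus, smul_smul]
    congr 1
    linear_combination (-δ⁻¹) * i2
  · change D f1 = δ • δ⁻¹ • D f1
    rw [smul_smul, mul_inv_cancel₀ hδ0, one_smul]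

end eig

end Cfsg.Agent.H830.A6
end

-- part: H830/A6/Mat
section
/-!
# `6.A₆` in dimension six: matrices (helper830)
-/

set_option autoImplicit false
set_option linter.unusedSectionVars false

open Module

namespace Cfsg.Agent.H830.A6

variable {F : Type*} [Field F]

/-- the matrix of `(2w+1) I` -/
def MI : Matrix (Fin 6) (Fin 6) F :=
  !![-1, 0, 0, 2, 0, 0; 0, -1, 0, 0, 2, 0; 0, 0, -1, 0, 0, 2; 1, 0, 0, 1, 0, 0; 0, 1, 0, 0, 1, 0; 0, 0, 1, 0, 0, 1]

/-- the matrix of `(2w+1) J` -/
def MJ (w : F) : Matrix (Fin 6) (Fin 6) F :=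
  !![-1, 0, 0, 2 * w, 0, 0; 0, -1, 0, 0, 2 * w, 0; 0, 0, -1, 0, 0, 2 * w;
    w * w, 0, 0, 1, 0, 0; 0, w * w, 0, 0, 1, 0; 0, 0, w * w, 0, 0, 1]

/-- the matrix of `(2w+1) K` -/
def MK (w : F) : Matrix (Fin 6) (Fin 6) F :=
  !![-1, 0, 0, 2 * (w * w), 0, 0; 0, -1, 0, 0, 2 * (w * w), 0; 0, 0, -1, 0, 0, 2 * (w * w);
    w, 0, 0, 1, 0, 0; 0, w, 0, 0, 1, 0; 0, 0, w, 0, 0, 1]

/-- the matrix of `B` -/
def MB (w : F) : Matrix (Fin 6) (Fin 6) F := Matrix.diagonal (lav w)

/-- the matrix of `D` -/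
def MD (w δ : F) : Matrix (Fin 6) (Fin 6) F :=
  !![0, 0, 0, -(2 * w * δ), 0, 0; 0, 0, 0, 0, 0, -(2 * w * δ); 0, 0, 0, 0, -(2 * w * δ), 0;
    δ, 0, 0, 0, 0, 0; 0, 0, δ, 0, 0, 0; 0, δ, 0, 0, 0, 0]

/-- the matrix of `X`, general form -/
def MXg (p0 p1 p2 m0 m1 m2 c0 c1 c2 d0 d1 d2 : F) : Matrix (Fin 6) (Fin 6) F :=
  !![0, 0, p0, c0, 0, 0; p1, 0, 0, 0, c1, 0; 0, p2, 0, 0, 0, c2; 0, d0, 0, 0, 0, m0; 0, 0, d1, m1, 0, 0;
    d2, 0, 0, 0, m2, 0]

/-- the matrix of `X⁻¹`, general form (`2 w u = 1`) -/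
def MYg (w u p0 p1 p2 m0 m1 m2 c0 c1 c2 d0 d1 d2 : F) : Matrix (Fin 6) (Fin 6) F :=
  !![0, m0, 0, 0, 0, -(2 * w * d0); 0, 0, m2, -(2 * w * d2), 0, 0; m1, 0, 0, 0, -(2 * w * d1), 0;
    -(u * c0), 0, 0, 0, p0, 0; 0, -(u * c2), 0, 0, 0, p2; 0, 0, -(u * c1), p1, 0, 0]

theorem final {p m C E : F} (h2 : (2:F) ≠ 0) (h3 : (3:F) ≠ 0) 
  (hΔ : p * m + 2 * C * E = 1) (g35 : m * (2 * p + 2 * C + 1) = 0) (g53 : p * (2 * m + 2 * E + 1) = 0)
  (g11 : p * E + m * C + 2 * (C * C + E * E) = 0)
  (g33 : p * m * (C + E) - p * p * E - m * m * C + 2 * (p * E + m * C) = C + E)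
  (g44 : 3 * (p * m * (C + E) - p * p * E - m * m * C) = C + E) :
  6 * p * p = -1 ∧ m = -p ∧ 2 * C = -(1 + 2 * p) ∧ 2 * E = 2 * p - 1 := by
  have hQR : p * m * (C + E) - p * p * E - m * m * C = p * E + m * C := by
    have : (2 : F) * ((p * m * (C + E) - p * p * E - m * m * C) - (p * E + m * C)) = 0 := by
      linear_combination g44 - g33
    have := (mul_eq_zero.1 this).resolve_left h2
    linear_combination this
  have hR : C + E = 3 * (p * E + m * C) := by linear_combination 3 * hQR - g44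
  by_cases hm : m = 0
  · exfalso
    subst hm
    have hE : E ≠ 0 := by rintro rfl; norm_num at hΔ
    have hC : C ≠ 0 := by rintro rfl; norm_num at hΔ
    have h4 : p * (p + 1) = 0 := by
      have : (p * (p + 1)) * E = 0 := by linear_combination -hQR
      exact (mul_eq_zero.1 this).resolve_right hE
    rcases mul_eq_zero.1 h4 with h5 | h5
    · subst h5
      have h6 : E = -C := by linear_combination hR
      rw [h6] at g11
      have h7 : (2 * 2 * C) * C = 0 := by linear_combination g11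
      exact mul_ne_zero (mul_ne_zero (mul_ne_zero h2 h2) hC) hC h7
    · have h6 : p = -1 := by linear_combination h5
      subst h6
      have h7 : 2 * E = -1 := by linear_combination -g53
      have h8 : C = -1 := by linear_combination -hΔ + C * h7
      apply h3
      linear_combination -hR + h8 + 2 * h7
  · have hC2 : 2 * C = -(1 + 2 * p) := by
      have := (mul_eq_zero.1 g35).resolve_left hm
      linear_combination this
    by_cases hp : p = 0
    · exfalso
      subst hp
      have h8 : E = -1 := by linear_combination -hΔ + E * hC2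
      have hC : C ≠ 0 := by rintro rfl; norm_num at hΔ
      have h4 : m * (m + 1) = 0 := by
        have : (m * (m + 1)) * C = 0 := by linear_combination -hQR
        exact (mul_eq_zero.1 this).resolve_right hC
      have h5 := (mul_eq_zero.1 h4).resolve_left hm
      have h6 : m = -1 := by linear_combination h5
      subst h6
      apply h3
      linear_combination -hR + h8 + 2 * hC2
    · have hE2 : 2 * E = -(1 + 2 * m) := by
        have := (mul_eq_zero.1 g53).resolve_left hp
        linear_combination this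
      have k1 : 6 * p * m + 2 * p + 2 * m = 1 := by
        linear_combination 2 * hΔ - 2 * E * hC2 + (1 + 2 * p) * hE2
      have k2 : 12 * p * m + p + m = 2 := by
        linear_combination 2 * hR - (1 - 3 * m) * hC2 - (1 - 3 * p) * hE2
      have k3 : m = -p := by
        have : (3 : F) * (p + m) = 0 := by linear_combination 2 * k1 - k2
        have := (mul_eq_zero.1 this).resolve_left h3
        linear_combination this
      subst k3
      refine ⟨by linear_combination -k1, rfl, hC2, by linear_combination hE2⟩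

/-- the matrix of `X` (`2 z = 1`, `6 p² = -1`) -/
def MX (w p z : F) : Matrix (Fin 6) (Fin 6) F :=
  !![0, 0, -(2 * p), -(2 * (w * w) * p), 0, 0; p, 0, 0, 0, w * w * (1 - 2 * p), 0;
    0, p, 0, 0, 0, -(w * w * (1 + 2 * p)); 0, z * w * (1 - 2 * p), 0, 0, 0, -p; 0, 0, -(w * p), 2 * p, 0, 0;
    -(z * w * (1 + 2 * p)), 0, 0, 0, -p, 0]

theorem solve {w u z p0 p1 p2 m0 m1 m2 c0 c1 c2 d0 d1 d2 : F} (hw : w * w + w + 1 = 0) (hu : 2 * w * u = 1)
    (hz : 2 * z = 1)
    (h2 : (2 : F) ≠ 0) (h3 : (3 : F) ≠ 0) (hΔ : p2 * m0 - c2 * d0 = 1)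
    (hXX : MXg p0 p1 p2 m0 m1 m2 c0 c1 c2 d0 d1 d2 * MXg p0 p1 p2 m0 m1 m2 c0 c1 c2 d0 d1 d2 =
      MYg w u p0 p1 p2 m0 m1 m2 c0 c1 c2 d0 d1 d2)
    (hXY : MXg p0 p1 p2 m0 m1 m2 c0 c1 c2 d0 d1 d2 * MYg w u p0 p1 p2 m0 m1 m2 c0 c1 c2 d0 d1 d2 = 1)
    (hC : MXg p0 p1 p2 m0 m1 m2 c0 c1 c2 d0 d1 d2 * MK w * (MXg p0 p1 p2 m0 m1 m2 c0 c1 c2 d0 d1 d2 * MK w) =
      -(MK w * MYg w u p0 p1 p2 m0 m1 m2 c0 c1 c2 d0 d1 d2 * (MK w * MYg w u p0 p1 p2 m0 m1 m2 c0 c1 c2 d0 d1 d2))) :
    6 * p2 * p2 = -1 ∧ MXg p0 p1 p2 m0 m1 m2 c0 c1 c2 d0 d1 d2 = MX w p2 z := by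
  have e1 := congrFun (congrFun hXY 2) 2
  have e2 := congrFun (congrFun hXY 3) 2
  have e3 := congrFun (congrFun hXY 2) 3
  have e4 := congrFun (congrFun hXY 3) 3
  have e5 := congrFun (congrFun hXX 0) 1
  have e6 := congrFun (congrFun hXX 4) 1
  have e7 := congrFun (congrFun hXX 0) 5
  have e8 := congrFun (congrFun hXX 4) 5
  have f35 := congrFun (congrFun hC 3) 5
  have f53 := congrFun (congrFun hC 5) 3
  have f11 := congrFun (congrFun hC 1) 1
  have f33 := congrFun (congrFun hC 3) 3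
  have f44 := congrFun (congrFun hC 4) 4
  clear hXX hXY hC
  simp only [MXg, MYg, MK, Matrix.mul_apply, Fin.sum_univ_six, _root_.Cfsg.Agent.H830.A6.MXg, _root_.Cfsg.Agent.H830.A6.MYg, _root_.Fin.isValue, _root_.Matrix.mul_apply, _root_.Matrix.of_apply, _root_.Matrix.cons_val', _root_.Matrix.cons_val_fin_one, _root_.Matrix.cons_val, _root_.Matrix.cons_val_one, _root_.Matrix.cons_val_zero, _root_.Fin.sum_univ_six, _root_.MulZeroClass.mul_zero, _root_.zero_add, _root_.add_zero, _root_.mul_neg, _root_.Matrix.one_apply_eq, _root_.ne_eq, _root_.Fin.reduceEq, _root_.not_false_eq_true, _root_.Matrix.one_apply_ne, _root_.Cfsg.Agent.H830.A6.MK, _root_.Matrix.cons_mul, _root_.Nat.succ_eq_add_one, _root_.Nat.reduceAdd, _root_.Matrix.vecMul_cons, _root_.Matrix.head_cons, _root_.zero_smul, _root_.Matrix.tail_cons, _root_.Matrix.smul_cons, _root_.smul_eq_mul, _root_.mul_one, _root_.Matrix.smul_empty, _root_.Matrix.empty_vecMul, _root_.Matrix.add_cons, _root_.Matrix.empty_add_empty,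 _root_.Matrix.empty_mul, _root_.Equiv.symm_apply_apply, _root_.MulZeroClass.zero_mul, _root_.neg_smul, _root_.one_smul, _root_.Matrix.neg_cons, _root_.neg_zero, _root_.neg_neg, _root_.Matrix.neg_empty, _root_.Matrix.neg_apply, _root_.neg_add_rev, _root_.neg_mul] at e1 e2 e3 e4 e5 e6 e7 e8 f35 f53 f11 f33 f44
  have hw3 : w * w * w = 1 := by linear_combination (w - 1) * hw
  -- the variables `C`, `E`
  obtain ⟨C, hC⟩ : ∃ C, C = z * w * c2 := ⟨_, rfl⟩
  obtain ⟨E, hE⟩ : ∃ E, E = -(w * w * d0) := ⟨_, rfl⟩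
  have hc2 : c2 = 2 * (w * w) * C := by rw [hC]; linear_combination (-c2) * hw3 - (w * w * w * c2) * hz
  have hd0 : d0 = -(w * E) := by rw [hE]; linear_combination (-d0) * hw3
  have huc2 : u * c2 = w * C := by rw [hc2]; linear_combination (w * C) * hu
  have a1 : m2 = m0 := by linear_combination m0 * e1 - c2 * e2 - m2 * hΔ
  have a2 : u * c1 = d0 := by linear_combination d0 * e1 - p2 * e2 - (u * c1) * hΔ
  have a3 : c1 = 2 * w * d0 := by linear_combination (2 * w) * a2 - c1 * hu
  have a4 : p1 = p2 := by linear_combination p2 * e4 - d0 * e3 - p1 * hΔ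
  have a5 : 2 * w * d2 = c2 := by linear_combination c2 * e4 - m0 * e3 - (2 * w * d2) * hΔ
  have a6 : d2 = w * C := by rw [← huc2]; linear_combination u * a5 - d2 * hu
  have a7 : p0 = m0 * m0 + 2 * w * d0 * d0 := by linear_combination m0 * e5 - d0 * e7 - p0 * hΔ
  have a8 : c0 = -(2 * w * d0 * p2) - c2 * m0 := by linear_combination p2 * e7 - c2 * e5 - c0 * hΔ
  have a9 : d1 = -(m0 * (u * c2)) - d0 * p2 := by linear_combination m0 * e6 - d0 * e8 - d1 * hΔ
  have a10 : m1 = p2 * p2 + u * c2 * c2 := by linear_combination p2 * e8 - c2 * e6 - m1 * hΔ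
  clear hC hE e1 e2 e3 e4 e5 e6 e7 e8
  rw [huc2] at a9 a10 f11
  have a11 : u * c0 = w * E * p2 - w * C * m0 := by
    rw [a8, hd0, hc2]; linear_combination (w * (E * p2 - C * m0)) * hu
  rw [a11] at f35
  rw [a2] at f53
  have b1 := a1.symm
  have b4 := a4.symm
  clear a1 a4
  subst b1 a3 b4 a6 a7 a8 a9 a10 hc2 hd0
  have hΔ' : p2 * m0 + 2 * C * E = 1 := by linear_combination hΔ - (2 * C * E) * hw3
  have g35 : m0 * (2 * p2 + 2 * C + 1) = 0 := by
    linear_combination f35 - (-4 * w ^ 3 * p2 * E ^ 2 + 4 * w ^ 3 * m0 * C * E + 2 * p2 * m0 + 2 * m0 * C * E + 2 * m0 * C) * hw3 - m0 * hΔ'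
  have g53 : p2 * (2 * m0 + 2 * E + 1) = 0 := by
    linear_combination f53 - (4 * w ^ 3 * p2 * C * E - 4 * w ^ 3 * m0 * C ^ 2 + 2 * p2 * m0 + 2 * p2 * C * E + 2 * p2 * E) * hw3 - p2 * hΔ'
  have g11 : p2 * E + m0 * C + 2 * (C * C + E * E) = 0 := by
    linear_combination z * f11 - z * (4 * w ^ 3 * C ^ 2 + 4 * w ^ 3 * E ^ 2 + 2 * p2 * E + 2 * m0 * C + 4 * C ^ 2 + 4 * E ^ 2) * hw3 - (p2 * E + m0 * C + 2 * (C * C + E * E)) * hz
  have g33 : p2 * m0 * (C + E) - p2 * p2 * E - m0 * m0 * C + 2 * (p2 * E + m0 * C) = C + E := by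
    linear_combination z * f33 - z * (-4 * w ^ 3 * C ^ 2 * E - 4 * w ^ 3 * C * E ^ 2 - 2 * p2 ^ 2 * E + 4 * p2 * E - 2 * m0 ^ 2 * C + 4 * m0 * C - 4 * C ^ 2 * E - 4 * C * E ^ 2) * hw3 + (C + E) * hΔ' -
      (- p2 ^ 2 * E + 2 * p2 * E - m0 ^ 2 * C + 2 * m0 * C - 2 * C ^ 2 * E - 2 * C * E ^ 2) * hz
  have g44 : 3 * (p2 * m0 * (C + E) - p2 * p2 * E - m0 * m0 * C) = C + E := by
    linear_combination z * f44 - z * (-4 * w ^ 3 * C ^ 2 * E - 4 * w ^ 3 * C * E ^ 2 - 6 * p2 ^ 2 * E + 4 * p2 * m0 * C + 4 * p2 * m0 * E - 6 * m0 ^ 2 * C - 4 * C ^ 2 * E - 4 * C * E ^ 2) * hw3 + (C + E) * hΔ' -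
      (- 3 * p2 ^ 2 * E + 2 * p2 * m0 * C + 2 * p2 * m0 * E - 3 * m0 ^ 2 * C - 2 * C ^ 2 * E - 2 * C * E ^ 2) * hz
  obtain ⟨r1, r2, r3, r4⟩ := final h2 h3 hΔ' g35 g53 g11 g33 g44
  refine ⟨r1, ?_⟩
  have s3 : C = -(z * (1 + 2 * p2)) := by linear_combination z * r3 - C * hz
  have s4 : E = z * (2 * p2 - 1) := by linear_combination z * r4 - E * hz
  clear hΔ hΔ' g35 g53 g11 g33 g44 f35 f53 f11 f33 f44 a2 a5 a11 huc2
  subst r2 s3 s4
  have q1 : -p2 * -p2 + 2 * w * -(w * (z * (2 * p2 - 1))) * -(w * (z * (2 * p2 - 1))) = -(2 * p2) := by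
    linear_combination (2 * z ^ 2 * (2 * p2 - 1) ^ 2) * hw3 + (z * (2 * p2 - 1) ^ 2 + 2 * p2 ^ 2 - 2 * p2 - 3 * p2 ^ 2) * hz +
      z * r1
  have q2 : p2 * p2 + w * -(z * (1 + 2 * p2)) * (2 * (w * w) * -(z * (1 + 2 * p2))) = 2 * p2 := by
    linear_combination (2 * z ^ 2 * (2 * p2 + 1) ^ 2) * hw3 + (z * (2 * p2 + 1) ^ 2 + 2 * p2 ^ 2 + 2 * p2 - 3 * p2 ^ 2) * hz +
      z * r1
  have q3 : -(2 * w * -(w * (z * (2 * p2 - 1))) * p2) - 2 * (w * w) * -(z * (1 + 2 * p2)) * -p2 = -(2 * (w * w) * p2) := by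
    linear_combination (-2 * w ^ 2 * p2) * hz
  have q4 : -(-p2 * (w * -(z * (1 + 2 * p2)))) - -(w * (z * (2 * p2 - 1))) * p2 = -(w * p2) := by
    linear_combination (-w * p2) * hz
  have q5 : 2 * (w * w) * -(z * (1 + 2 * p2)) = -(w * w * (1 + 2 * p2)) := by
    linear_combination (-w ^ 2 * (1 + 2 * p2)) * hz
  have q6 : -(w * (z * (2 * p2 - 1))) = z * w * (1 - 2 * p2) := by ring
  have q7 : w * -(z * (1 + 2 * p2)) = -(z * w * (1 + 2 * p2)) := by ring
  have q8 : 2 * w * -(w * (z * (2 * p2 - 1))) = w * w * (1 - 2 * p2) := by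
    linear_combination (w ^ 2 * (1 - 2 * p2)) * hz
  unfold MXg MX
  rw [q1, q2, q3, q4, q8, q5, q6, q7]

end Cfsg.Agent.H830.A6
end

-- part: H830/A6/Normal
section
/-!
# `6.A₆` in dimension six: the normal form (helper830)
-/

set_option autoImplicit false
set_option linter.unusedSectionVars false

open Module

namespace Cfsg.Agent.H830.A6

variable {F : Type*} [Field F] {V : Type*} [AddCommGroup V] [Module F V] {w δ : F} {I J K B D X : End F V}
  {e : Fin 6 → V}

section pair

variable (h : Rel w I J K B D X) (h2 : (2 : F) ≠ 0) {f g : V} (hf : (I + J + K) f = (2 * w + 1) • f)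
  (hg : g = f + (2 * w + 1) • I f)
include h h2 hf hg

theorem pIf : (2 * w + 1) • I f = g - f := by rw [hg]; abel

theorem pIg : (2 * w + 1) • I g = (2 : F) • f + g := by
  rw [hg, map_add, map_smul, h.I_I]
  have e2 : (2 * w + 1) • (I f + (2 * w + 1) • -f) = (2 : F) • f + (f + (2 * w + 1) • I f) -
      (4 * (w * w + w + 1)) • f := by module
  rw [e2, h.hw]
  simp

theorem pJf : (2 * w + 1) • J f = (w * w) • g - f := by
  rw [h.J_plus h2 hf, hg]
  have e2 : (2 * w + 1) • (w • f + (w * w) • I f) = (w * w) • (f + (2 * w + 1) • I f) - f +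
      (w * w + w + 1) • f := by module
  rw [e2, h.hw]
  simp only [_root_.smul_add, _root_.zero_smul, _root_.add_zero]

theorem pJg : (2 * w + 1) • J g = (2 * w) • f + g := by
  rw [h.J_minus h2 (by rw [hg]; exact h.N_prime h2 hf), smul_add, smul_comm (2 * w + 1) w, pIg h h2 hf hg, hg]
  have e2 : (2 * w + 1) • (w * w) • (f + (2 * w + 1) • I f) + w • ((2 : F) • f + (f + (2 * w + 1) • I f)) =
      (2 * w) • f + (f + (2 * w + 1) • I f) + ((2 * w - 1) * (w * w + w + 1)) • (f + (2 * w + 1) • I f) := by module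
  rw [e2, h.hw]
  simp

theorem pKf : (2 * w + 1) • K f = w • g - f := by
  rw [h.K_plus h2 hf, hg]
  have e2 : (2 * w + 1) • (-(w * w) • f + w • I f) = w • (f + (2 * w + 1) • I f) - f -
      ((2 * w - 1) * (w * w + w + 1)) • f := by module
  rw [e2, h.hw]
  simp only [_root_.smul_add, _root_.MulZeroClass.mul_zero, _root_.zero_smul, _root_.sub_zero]

theorem pKg : (2 * w + 1) • K g = (2 * (w * w)) • f + g := by
  rw [h.K_minus h2 (by rw [hg]; exact h.N_prime h2 hf), smul_add, smul_comm (2 * w + 1) (w * w), pIg h h2 hf hg, hg]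
  have e2 : (2 * w + 1) • -w • (f + (2 * w + 1) • I f) + (w * w) • ((2 : F) • f + (f + (2 * w + 1) • I f)) =
      (2 * (w * w)) • f + (f + (2 * w + 1) • I f) - (w * w + w + 1) • (f + (2 * w + 1) • I f) := by module
  rw [e2, h.hw]
  simp

end pair

section frame

theorem Fr.n0 (he : Fr w δ I J K B D e) : (I + J + K) (e 0) = (2 * w + 1) • e 0 := he.N 0
theorem Fr.n1 (he : Fr w δ I J K B D e) : (I + J + K) (e 1) = (2 * w + 1) • e 1 := he.N 1
theorem Fr.n2 (he : Fr w δ I J K B D e) : (I + J + K) (e 2) = (2 * w + 1) • e 2 := he.N 2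

theorem Fr.D3 (he : Fr w δ I J K B D e) (h : Rel w I J K B D X) (h2 : (2 : F) ≠ 0) :
    D (e 3) = -(2 * w * δ) • e 0 := by
  have h1 := h.D_prime h2 he.D0 (he.N 3)
  rw [← he.e3, pIg h h2 he.n0 he.e3] at h1
  rw [h1]; module

theorem Fr.D5 (he : Fr w δ I J K B D e) (h : Rel w I J K B D X) :
    D (e 5) = -(2 * w * δ) • e 1 := by
  have h1 := congrArg (fun v => (2 * w * δ) • D v) he.D1
  simp only [h.D_D, map_smul] at h1
  rw [smul_smul, he.hδ, one_smul] at h1
  rw [← h1]; module

theorem Fr.D4 (he : Fr w δ I J K B D e) (h : Rel w I J K B D X) (h2 : (2 : F) ≠ 0) :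
    D (e 4) = -(2 * w * δ) • e 2 := by
  have h1 := h.D_prime h2 he.D1 (he.N 5)
  rw [← he.e4, pIg h h2 he.n2 he.e5] at h1
  rw [h1]; module

theorem Fr.D2 (he : Fr w δ I J K B D e) (h : Rel w I J K B D X) (h2 : (2 : F) ≠ 0) :
    D (e 2) = δ • e 4 := by
  have h1 := congrArg (fun v => δ • D v) (he.D4 h h2)
  simp only [h.D_D, map_smul] at h1
  rw [smul_smul, show δ * -(2 * w * δ) = -1 by linear_combination -he.hδ] at h1
  rw [neg_one_smul, smul_neg, neg_inj] at h1
  exact h1.symm

/-- rescaling the frame -/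
theorem Fr.scale (he : Fr w δ I J K B D e) {c : F} (hc : c ≠ 0) :
    Fr w δ I J K B D ![c • e 0, e 1, e 2, c • e 3, e 4, e 5] := by
  refine ⟨⟨?_, ?_, ?_⟩, he.hδ, ?_, he.e4, he.e5, ?_, he.D1⟩
  · intro i
    fin_cases i
    · exact smul_ne_zero hc (he.ne 0)
    · exact he.ne 1
    · exact he.ne 2
    · exact smul_ne_zero hc (he.ne 3)
    · exact he.ne 4
    · exact he.ne 5
  · intro i
    fin_cases i
    · change (I + J + K) (c • e 0) = (2 * w + 1) • (c • e 0)
      rw [map_smul, he.n0, smul_comm]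
    · exact he.N 1
    · exact he.N 2
    · change (I + J + K) (c • e 3) = (-(2 * w + 1)) • (c • e 3)
      rw [map_smul, he.N 3, smul_comm]; rfl
    · exact he.N 4
    · exact he.N 5
  · intro i
    fin_cases i
    · change B (c • e 0) = (w * w) • (c • e 0)
      rw [map_smul, he.B 0, smul_comm]; rfl
    · exact he.B 1
    · exact he.B 2
    · change B (c • e 3) = w • (c • e 3)
      rw [map_smul, he.B 3, smul_comm]; rfl
    · exact he.B 4
    · exact he.B 5
  · change c • e 3 = c • e 0 + (2 * w + 1) • I (c • e 0)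
    rw [he.e3, map_smul, smul_add, smul_comm c]
  · change D (c • e 0) = δ • (c • e 3)
    rw [map_smul, he.D0, smul_comm]

/-- `X` maps eigenspaces of `B` to eigenspaces -/
theorem Rel.B_X (h : Rel w I J K B D X) {v : V} {l : F} (hv : B v = l • v) : B (X v) = (w * l) • X v := by
  have e1 : B (X v) = (B * X) v := rfl
  rw [e1, h.BX, LinearMap.smul_apply, Rel.ap, hv, map_smul, smul_smul]

theorem span_one (hw : w * w + w + 1 = 0) (h3 : (3 : F) ≠ 0) (b : Basis (Fin 6) F V)
    (hb : ∀ i, B (b i) = lav w i • b i) {v : V} (hv : B v = v) : v = b.repr v 1 • b 1 + b.repr v 5 • b 5 := by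
  have hw1 : w ≠ 1 := by
    intro h; apply h3; rw [h] at hw; linear_combination hw
  have hww : w * w ≠ 1 := by
    intro h; apply hw1; linear_combination (w - 1) * hw - w * h
  have hv' : B v = (1 : F) • v := by rw [hv, one_smul]
  conv_lhs => rw [← b.sum_repr v]
  rw [Fin.sum_univ_six, repr_zero b hb hv' (j := 0) hww, repr_zero b hb hv' (j := 2) hw1,
    repr_zero b hb hv' (j := 3) hw1, repr_zero b hb hv' (j := 4) hww]
  simp only [_root_.Fin.isValue, _root_.zero_smul, _root_.zero_add, _root_.add_zero]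

theorem span_w (hw : w * w + w + 1 = 0) (h3 : (3 : F) ≠ 0) (b : Basis (Fin 6) F V)
    (hb : ∀ i, B (b i) = lav w i • b i) {v : V} (hv : B v = w • v) : v = b.repr v 2 • b 2 + b.repr v 3 • b 3 := by
  have hw1 : w ≠ 1 := by
    intro h; apply h3; rw [h] at hw; linear_combination hw
  have hww : w * w ≠ w := by
    intro h; apply hw1; linear_combination (w - 1) * hw - (w + 1) * h
  conv_lhs => rw [← b.sum_repr v]
  rw [Fin.sum_univ_six, repr_zero b hb hv (j := 0) hww, repr_zero b hb hv (j := 1) hw1.symm,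
    repr_zero b hb hv (j := 4) hww, repr_zero b hb hv (j := 5) hw1.symm]
  simp only [_root_.Fin.isValue, _root_.zero_smul, _root_.add_zero, _root_.zero_add]

theorem span_ww (hw : w * w + w + 1 = 0) (h3 : (3 : F) ≠ 0) (b : Basis (Fin 6) F V)
    (hb : ∀ i, B (b i) = lav w i • b i) {v : V} (hv : B v = (w * w) • v) : v = b.repr v 0 • b 0 + b.repr v 4 • b 4 := by
  have hw1 : w ≠ 1 := by
    intro h; apply h3; rw [h] at hw; linear_combination hw
  have hww : w * w ≠ w := by
    intro h; apply hw1; linear_combination (w - 1) * hw - (w + 1) * h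
  have hww1 : w * w ≠ 1 := by
    intro h; apply hw1; linear_combination (w - 1) * hw - w * h
  conv_lhs => rw [← b.sum_repr v]
  rw [Fin.sum_univ_six, repr_zero b hb hv (j := 1) hww1.symm, repr_zero b hb hv (j := 2) hww.symm,
    repr_zero b hb hv (j := 3) hww.symm, repr_zero b hb hv (j := 5) hww1.symm]
  simp only [_root_.Fin.isValue, _root_.zero_smul, _root_.add_zero]

/-- the form of `X` in a frame -/
structure XF (X : End F V) (e : Fin 6 → V) (p0 p1 p2 m0 m1 m2 c0 c1 c2 d0 d1 d2 : F) : Prop where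
  x0 : X (e 0) = p1 • e 1 + d2 • e 5
  x1 : X (e 1) = p2 • e 2 + d0 • e 3
  x2 : X (e 2) = p0 • e 0 + d1 • e 4
  x3 : X (e 3) = c0 • e 0 + m1 • e 4
  x4 : X (e 4) = c1 • e 1 + m2 • e 5
  x5 : X (e 5) = c2 • e 2 + m0 • e 3

theorem Fr.exists_XF (he : Fr w δ I J K B D e) (h : Rel w I J K B D X) (h2 : (2 : F) ≠ 0) (h3 : (3 : F) ≠ 0)
    (h6 : finrank F V = 6) : ∃ p0 p1 p2 m0 m1 m2 c0 c1 c2 d0 d1 d2 : F,
      XF X e p0 p1 p2 m0 m1 m2 c0 c1 c2 d0 d1 d2 := by
  obtain ⟨b, hb⟩ := he.exists_basis h.hw h2 h3 h6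
  have hbB : ∀ i, B (b i) = lav w i • b i := fun i => by rw [hb]; exact he.B i
  have hw3 := h.w3
  have s0 := span_one h.hw h3 b hbB (v := X (b 0)) (by
    rw [h.B_X (hbB 0)]
    change (w * (w * w)) • _ = _
    rw [← mul_assoc, hw3, one_smul])
  have s4 := span_one h.hw h3 b hbB (v := X (b 4)) (by
    rw [h.B_X (hbB 4)]
    change (w * (w * w)) • _ = _
    rw [← mul_assoc, hw3, one_smul])
  have s1 := span_w h.hw h3 b hbB (v := X (b 1)) (by
    rw [h.B_X (hbB 1)]
    change (w * 1) • _ = _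
    rw [mul_one])
  have s5 := span_w h.hw h3 b hbB (v := X (b 5)) (by
    rw [h.B_X (hbB 5)]
    change (w * 1) • _ = _
    rw [mul_one])
  have s2 := span_ww h.hw h3 b hbB (v := X (b 2)) (h.B_X (hbB 2))
  have s3 := span_ww h.hw h3 b hbB (v := X (b 3)) (h.B_X (hbB 3))
  rw [hb] at s0 s1 s2 s3 s4 s5
  exact ⟨_, _, _, _, _, _, _, _, _, _, _, _, ⟨s0, s1, s2, s3, s4, s5⟩⟩

theorem Rel.X_inj (h : Rel w I J K B D X) {v : V} (hv : X v = 0) : v = 0 := by
  have : (X * X * X) v = v := by rw [h.XXX]; rfl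
  rw [← this]
  change X (X (X v)) = 0
  rw [hv, map_zero, map_zero]

theorem XF.det_ne (h : Rel w I J K B D X) {p0 p1 p2 m0 m1 m2 c0 c1 c2 d0 d1 d2 : F}
    (hX : XF X e p0 p1 p2 m0 m1 m2 c0 c1 c2 d0 d1 d2) {b : Basis (Fin 6) F V} (hb : ⇑b = e) : p2 * m0 - c2 * d0 ≠ 0 := by
  intro h0
  have hli : ∀ x y : F, x • e 1 + y • e 5 = 0 → x = 0 ∧ y = 0 := by
    intro x y hxy
    rw [← hb] at hxy
    have e1 := congrArg (fun v => b.repr v 1) hxy
    have e5 := congrArg (fun v => b.repr v 5) hxy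
    simp only [_root_.Fin.isValue, _root_.map_add, _root_.map_smul, _root_.Module.Basis.repr_self, _root_.Finsupp.smul_single, _root_.smul_eq_mul, _root_.mul_one, _root_.Finsupp.coe_add, _root_.Pi.add_apply, _root_.Finsupp.single_eq_same, _root_.ne_eq, _root_.Fin.reduceEq, _root_.not_false_eq_true, _root_.Finsupp.single_eq_of_ne, _root_.add_zero, _root_.map_zero, _root_.Finsupp.coe_zero, _root_.Pi.zero_apply, _root_.zero_add] at e1 e5
    exact ⟨e1, e5⟩
  have k1 : X (m0 • e 1 + (-d0) • e 5) = (p2 * m0 - c2 * d0) • e 2 := by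
    rw [map_add, map_smul, map_smul, hX.x1, hX.x5]; module
  have k2 : X ((-c2) • e 1 + p2 • e 5) = (p2 * m0 - c2 * d0) • e 3 := by
    rw [map_add, map_smul, map_smul, hX.x1, hX.x5]; module
  rw [h0, zero_smul] at k1 k2
  obtain ⟨l1, l2⟩ := hli _ _ (h.X_inj k1)
  obtain ⟨l3, l4⟩ := hli _ _ (h.X_inj k2)
  have k3 := hX.x1
  rw [l4, neg_eq_zero.1 l2, zero_smul, zero_smul, add_zero] at k3
  have k4 := h.X_inj k3
  have := (hli 1 0 (by rw [k4, smul_zero, zero_smul, add_zero])).1
  exact one_ne_zero this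

/-- the normalised frame -/
theorem exists_normal (h : Rel w I J K B D X) (h2 : (2 : F) ≠ 0) (h3 : (3 : F) ≠ 0)
    (h6 : finrank F V = 6) : ∃ (δ : F) (e : Fin 6 → V), Fr w δ I J K B D e ∧
      ∃ p0 p1 p2 m0 m1 m2 c0 c1 c2 d0 d1 d2 : F, p2 * m0 - c2 * d0 = 1 ∧
        XF X e p0 p1 p2 m0 m1 m2 c0 c1 c2 d0 d1 d2 := by
  obtain ⟨δ, e, he⟩ := exists_frame h h2 h3 h6
  obtain ⟨p0, p1, p2, m0, m1, m2, c0, c1, c2, d0, d1, d2, hX⟩ := he.exists_XF h h2 h3 h6
  obtain ⟨b, hb⟩ := he.exists_basis h.hw h2 h3 h6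
  have hne := hX.det_ne h hb
  refine ⟨δ, _, he.scale hne, ?_⟩
  set c := p2 * m0 - c2 * d0 with hc
  refine ⟨c⁻¹ * p0, c * p1, p2, c⁻¹ * m0, c * m1, m2, c0, c1, c2, c⁻¹ * d0, d1, c * d2, ?_, ⟨?_, ?_, ?_, ?_, ?_, ?_⟩⟩
  · rw [show p2 * (c⁻¹ * m0) - c2 * (c⁻¹ * d0) = c⁻¹ * (p2 * m0 - c2 * d0) by ring, ← hc, inv_mul_cancel₀ hne]
  · change X (c • e 0) = (c * p1) • e 1 + (c * d2) • e 5
    rw [map_smul, hX.x0, smul_add, smul_smul, smul_smul]
  · change X (e 1) = p2 • e 2 + (c⁻¹ * d0) • (c • e 3)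
    rw [hX.x1, smul_smul, mul_right_comm, inv_mul_cancel₀ hne, one_mul]
  · change X (e 2) = (c⁻¹ * p0) • (c • e 0) + d1 • e 4
    rw [hX.x2, smul_smul, mul_right_comm, inv_mul_cancel₀ hne, one_mul]
  · change X (c • e 3) = c0 • (c • e 0) + (c * m1) • e 4
    rw [map_smul, hX.x3, smul_add, smul_smul, smul_smul, smul_smul, mul_comm c c0]
  · change X (e 4) = c1 • e 1 + m2 • e 5
    exact hX.x4
  · change X (e 5) = c2 • e 2 + (c⁻¹ * m0) • (c • e 3)
    rw [hX.x5, smul_smul, mul_right_comm, inv_mul_cancel₀ hne, one_mul]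

/-- matrices -/
theorem toMat {T : End F V} (b : Basis (Fin 6) F V) {M : Matrix (Fin 6) (Fin 6) F}
    (h : ∀ j, T (b j) = ∑ i, M i j • b i) : LinearMap.toMatrixAlgEquiv b T = M := by
  ext i j
  rw [LinearMap.toMatrixAlgEquiv_apply, h, Basis.repr_sum_self]

set_option maxHeartbeats 2000000 in
theorem DXD_eq {p0 p1 p2 m0 m1 m2 c0 c1 c2 d0 d1 d2 : F} (hδ : 2 * w * δ * δ = 1) :
    -(MD w δ * MXg p0 p1 p2 m0 m1 m2 c0 c1 c2 d0 d1 d2 * MD w δ) =
      MYg w (δ * δ) p0 p1 p2 m0 m1 m2 c0 c1 c2 d0 d1 d2 := by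
  ext i j
  (revert i j; simp only [MD, MXg, MYg, Matrix.mul_apply, Fin.sum_univ_six, _root_.Fin.forall_fin_succ, _root_.Matrix.cons_mul, _root_.Nat.succ_eq_add_one, Nat.reduceAdd, _root_.Matrix.vecMul_cons, _root_.Matrix.head_cons, _root_.zero_smul, _root_.Matrix.tail_cons, _root_.neg_smul, _root_.Matrix.smul_cons, _root_.smul_eq_mul, _root_.MulZeroClass.mul_zero, _root_.Matrix.smul_empty, _root_.Matrix.neg_cons, _root_.neg_zero, _root_.Matrix.neg_empty, _root_.Matrix.empty_vecMul, _root_.add_zero, _root_.zero_add, _root_.Matrix.empty_mul, _root_.Equiv.symm_apply_apply, _root_.mul_neg, _root_.neg_neg, _root_.Matrix.add_cons, _root_.Matrix.empty_add_empty, _root_.Matrix.neg_apply, _root_.Matrix.of_apply, _root_.Matrix.cons_val', _root_.Matrix.cons_val_fin_one, Fin.isValue, _root_.Matrix.cons_val_zero, _root_.Matrix.cons_val_succ, _root_.forall_const, _root_.neg_inj, _root_.true_and, _root_.and_self, _root_.and_true]) <;> (repeat' with_reducible apply And.intro) <;> [(linear_combination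 (m0) * hδ); (linear_combination (2 * w * d0) * hδ); (linear_combination (m2) * hδ); (linear_combination (2 * w * d2) * hδ);
                                                                                                                                                                                                                                                                                                                                                                                                                                                                                                                                                                                                                                                                                                                                                                                                                                                                                                                                                                                                           (linear_combination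 (m1) * hδ); (linear_combination (2 * w * d1) * hδ); (ring); (linear_combination (p0) * hδ); (ring); (linear_combination (p2) * hδ);
                                                                                                                                                                                                                                                                                                                                                                                                                                                                                                                                                                                                                                                                                                                                                                                                                                                                                                                                                                                                           (ring);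 (linear_combination (p1) * hδ)]

set_option maxHeartbeats 1000000 in
/-- **The normal form.** -/
theorem normal_form (h : Rel w I J K B D X) (h2 : (2 : F) ≠ 0) (h3 : (3 : F) ≠ 0)
    (h6 : finrank F V = 6) {z : F} (hz : 2 * z = 1) : ∃ (b : Basis (Fin 6) F V) (p δ : F), Eig w I J K B b ∧ 6 * p * p = -1 ∧
      2 * w * δ * δ = 1 ∧
      (2 * w + 1) • LinearMap.toMatrixAlgEquiv b I = MI ∧
      (2 * w + 1) • LinearMap.toMatrixAlgEquiv b J = MJ w ∧
      (2 * w + 1) • LinearMap.toMatrixAlgEquiv b K = MK w ∧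
      LinearMap.toMatrixAlgEquiv b B = MB w ∧
      LinearMap.toMatrixAlgEquiv b D = MD w δ ∧
      LinearMap.toMatrixAlgEquiv b X = MX w p z := by
  obtain ⟨δ, e, he, p0, p1, p2, m0, m1, m2, c0, c1, c2, d0, d1, d2, hΔ, hX⟩ := exists_normal h h2 h3 h6
  obtain ⟨b, hb⟩ := he.exists_basis h.hw h2 h3 h6
  have hδ := he.hδ
  have mI : LinearMap.toMatrixAlgEquiv b ((2 * w + 1) • I) = MI := by
    refine toMat b fun j => ?_
    rw [hb, LinearMap.smul_apply]
    fin_cases j
    · exact (pIf h h2 he.n0 he.e3).trans (by simp [MI, Fin.sum_univ_six]; abel)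
    · exact (pIf h h2 he.n1 he.e4).trans (by simp [MI, Fin.sum_univ_six]; abel)
    · exact (pIf h h2 he.n2 he.e5).trans (by simp only [MI, Fin.sum_univ_six, _root_.Fin.isValue, _root_.Cfsg.Agent.H830.A6.MI, _root_.Fin.reduceFinMk, _root_.Matrix.of_apply, _root_.Matrix.cons_val', _root_.Matrix.cons_val, _root_.Matrix.cons_val_fin_one, _root_.Fin.sum_univ_six, _root_.Matrix.cons_val_zero, _root_.zero_smul, _root_.Matrix.cons_val_one, _root_.add_zero, _root_.neg_smul, _root_.one_smul, _root_.zero_add]; abel)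
    · exact (pIg h h2 he.n0 he.e3).trans (by simp [MI, Fin.sum_univ_six])
    · exact (pIg h h2 he.n1 he.e4).trans (by simp only [MI, Fin.sum_univ_six, _root_.Fin.isValue, _root_.Cfsg.Agent.H830.A6.MI, _root_.Fin.reduceFinMk, _root_.Matrix.of_apply, _root_.Matrix.cons_val', _root_.Matrix.cons_val, _root_.Matrix.cons_val_fin_one, _root_.Fin.sum_univ_six, _root_.Matrix.cons_val_zero, _root_.zero_smul, _root_.Matrix.cons_val_one, _root_.zero_add, _root_.add_zero, _root_.one_smul])
    · exact (pIg h h2 he.n2 he.e5).trans (by simp [MI, Fin.sum_univ_six])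
  have mJ : LinearMap.toMatrixAlgEquiv b ((2 * w + 1) • J) = MJ w := by
    refine toMat b fun j => ?_
    rw [hb, LinearMap.smul_apply]
    fin_cases j
    · exact (pJf h h2 he.n0 he.e3).trans (by simp [MJ, Fin.sum_univ_six]; abel)
    · exact (pJf h h2 he.n1 he.e4).trans (by simp only [MJ, Fin.sum_univ_six, _root_.Fin.isValue, _root_.Cfsg.Agent.H830.A6.MJ, _root_.Fin.mk_one, _root_.Matrix.of_apply, _root_.Matrix.cons_val', _root_.Matrix.cons_val_one, _root_.Matrix.cons_val_zero, _root_.Matrix.cons_val_fin_one, _root_.Fin.sum_univ_six, _root_.zero_smul, _root_.neg_smul, _root_.one_smul, _root_.zero_add, _root_.Matrix.cons_val, _root_.add_zero]; abel)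
    · exact (pJf h h2 he.n2 he.e5).trans (by simp only [MJ, Fin.sum_univ_six, _root_.Fin.isValue, _root_.Cfsg.Agent.H830.A6.MJ, _root_.Fin.reduceFinMk, _root_.Matrix.of_apply, _root_.Matrix.cons_val', _root_.Matrix.cons_val, _root_.Matrix.cons_val_fin_one, _root_.Fin.sum_univ_six, _root_.Matrix.cons_val_zero, _root_.zero_smul, _root_.Matrix.cons_val_one, _root_.add_zero, _root_.neg_smul, _root_.one_smul, _root_.zero_add]; abel)
    · exact (pJg h h2 he.n0 he.e3).trans (by simp only [MJ, Fin.sum_univ_six, _root_.Fin.isValue, _root_.Cfsg.Agent.H830.A6.MJ, _root_.Fin.reduceFinMk, _root_.Matrix.of_apply, _root_.Matrix.cons_val', _root_.Matrix.cons_val, _root_.Matrix.cons_val_fin_one, _root_.Fin.sum_univ_six, _root_.Matrix.cons_val_zero, _root_.Matrix.cons_val_one, _root_.zero_smul, _root_.add_zero, _root_.one_smul])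
    · exact (pJg h h2 he.n1 he.e4).trans (by simp [MJ, Fin.sum_univ_six])
    · exact (pJg h h2 he.n2 he.e5).trans (by simp [MJ, Fin.sum_univ_six])
  have mK : LinearMap.toMatrixAlgEquiv b ((2 * w + 1) • K) = MK w := by
    refine toMat b fun j => ?_
    rw [hb, LinearMap.smul_apply]
    fin_cases j
    · exact (pKf h h2 he.n0 he.e3).trans (by simp [MK, Fin.sum_univ_six]; abel)
    · exact (pKf h h2 he.n1 he.e4).trans (by simp only [MK, Fin.sum_univ_six, _root_.Fin.isValue, _root_.Cfsg.Agent.H830.A6.MK, _root_.Fin.mk_one, _root_.Matrix.of_apply, _root_.Matrix.cons_val', _root_.Matrix.cons_val_one, _root_.Matrix.cons_val_zero, _root_.Matrix.cons_val_fin_one, _root_.Fin.sum_univ_six, _root_.zero_smul, _root_.neg_smul, _root_.one_smul, _root_.zero_add, _root_.Matrix.cons_val, _root_.add_zero]; abel)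
    · exact (pKf h h2 he.n2 he.e5).trans (by simp only [MK, Fin.sum_univ_six, _root_.Fin.isValue, _root_.Cfsg.Agent.H830.A6.MK, _root_.Fin.reduceFinMk, _root_.Matrix.of_apply, _root_.Matrix.cons_val', _root_.Matrix.cons_val, _root_.Matrix.cons_val_fin_one, _root_.Fin.sum_univ_six, _root_.Matrix.cons_val_zero, _root_.zero_smul, _root_.Matrix.cons_val_one, _root_.add_zero, _root_.neg_smul, _root_.one_smul, _root_.zero_add]; abel)
    · exact (pKg h h2 he.n0 he.e3).trans (by simp only [MK, Fin.sum_univ_six, _root_.Fin.isValue, _root_.Cfsg.Agent.H830.A6.MK, _root_.Fin.reduceFinMk, _root_.Matrix.of_apply, _root_.Matrix.cons_val', _root_.Matrix.cons_val, _root_.Matrix.cons_val_fin_one, _root_.Fin.sum_univ_six, _root_.Matrix.cons_val_zero, _root_.Matrix.cons_val_one, _root_.zero_smul, _root_.add_zero, _root_.one_smul])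
    · exact (pKg h h2 he.n1 he.e4).trans (by simp [MK, Fin.sum_univ_six])
    · exact (pKg h h2 he.n2 he.e5).trans (by simp [MK, Fin.sum_univ_six])
  have mB : LinearMap.toMatrixAlgEquiv b B = MB w := by
    refine toMat b fun j => ?_
    rw [hb, he.B j, MB, Finset.sum_eq_single j]
    · rw [Matrix.diagonal_apply_eq]
    · intro i _ hij
      rw [Matrix.diagonal_apply_ne _ hij, zero_smul]
    · intro hj; exact absurd (Finset.mem_univ _) hj
  have mD : LinearMap.toMatrixAlgEquiv b D = MD w δ := by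
    refine toMat b fun j => ?_
    rw [hb]
    fin_cases j
    · exact he.D0.trans (by simp [MD, Fin.sum_univ_six])
    · exact he.D1.trans (by simp [MD, Fin.sum_univ_six])
    · exact (he.D2 h h2).trans (by simp [MD, Fin.sum_univ_six])
    · exact (he.D3 h h2).trans (by simp [MD, Fin.sum_univ_six])
    · exact (he.D4 h h2).trans (by simp [MD, Fin.sum_univ_six])
    · exact (he.D5 h).trans (by simp [MD, Fin.sum_univ_six])
  have mX : LinearMap.toMatrixAlgEquiv b X = MXg p0 p1 p2 m0 m1 m2 c0 c1 c2 d0 d1 d2 := by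
    refine toMat b fun j => ?_
    rw [hb]
    fin_cases j
    · exact hX.x0.trans (by simp [MXg, Fin.sum_univ_six])
    · exact hX.x1.trans (by simp [MXg, Fin.sum_univ_six])
    · exact hX.x2.trans (by simp [MXg, Fin.sum_univ_six])
    · exact hX.x3.trans (by simp [MXg, Fin.sum_univ_six])
    · exact hX.x4.trans (by simp [MXg, Fin.sum_univ_six])
    · exact hX.x5.trans (by simp [MXg, Fin.sum_univ_six])
  -- the inverse of `X`
  have hY : -(D * X * D) = X * X := by rw [h.DX, mul_assoc, h.DD, mul_neg, mul_one, neg_neg]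
  have mY : LinearMap.toMatrixAlgEquiv b (X * X) = MYg w (δ * δ) p0 p1 p2 m0 m1 m2 c0 c1 c2 d0 d1 d2 := by
    rw [← hY, map_neg, map_mul, map_mul, mD, mX]
    exact DXD_eq hδ
  have hu : 2 * w * (δ * δ) = 1 := by linear_combination hδ
  have hXX : MXg p0 p1 p2 m0 m1 m2 c0 c1 c2 d0 d1 d2 * MXg p0 p1 p2 m0 m1 m2 c0 c1 c2 d0 d1 d2 =
      MYg w (δ * δ) p0 p1 p2 m0 m1 m2 c0 c1 c2 d0 d1 d2 := by
    rw [← mX, ← map_mul, mY]
  have hXY : MXg p0 p1 p2 m0 m1 m2 c0 c1 c2 d0 d1 d2 * MYg w (δ * δ) p0 p1 p2 m0 m1 m2 c0 c1 c2 d0 d1 d2 = 1 := by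
    rw [← mX, ← mY, ← map_mul, ← mul_assoc, h.XXX, map_one]
  have hCr : X * K * (X * K) = -(K * (X * X) * (K * (X * X))) := by
    have k1 : (X * K) * (X * K) * ((K * (X * X)) * (K * (X * X))) = 1 := by
      calc (X * K) * (X * K) * ((K * (X * X)) * (K * (X * X)))
          = X * K * X * (K * K) * X * X * K * (X * X) := by noncomm_ring
        _ = X * K * (-(X * X * X)) * K * (X * X) := by rw [h.KK]; noncomm_ring
        _ = X * (-(K * K)) * (X * X) := by rw [h.XXX]; noncomm_ring
        _ = X * X * X := by rw [h.KK, neg_neg]; noncomm_ring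
        _ = 1 := h.XXX
    calc X * K * (X * K) = X * K * (X * K) * ((X * K) * (X * K) * ((K * (X * X)) * (K * (X * X)))) := by
          rw [k1, mul_one]
      _ = (X * K) * (X * K) * (X * K) * (X * K) * ((K * (X * X)) * (K * (X * X))) := by noncomm_ring
      _ = -(K * (X * X) * (K * (X * X))) := by rw [h.XK, neg_one_mul]
  have hC : MXg p0 p1 p2 m0 m1 m2 c0 c1 c2 d0 d1 d2 * MK w * (MXg p0 p1 p2 m0 m1 m2 c0 c1 c2 d0 d1 d2 * MK w) =
      -(MK w * MYg w (δ * δ) p0 p1 p2 m0 m1 m2 c0 c1 c2 d0 d1 d2 *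
        (MK w * MYg w (δ * δ) p0 p1 p2 m0 m1 m2 c0 c1 c2 d0 d1 d2)) := by
    rw [← mX, ← mY, ← mK, map_smul]
    have := congrArg (LinearMap.toMatrixAlgEquiv b) hCr
    simp only [map_neg, map_mul] at this
    simp only [Matrix.mul_smul, Matrix.smul_mul, map_mul]
    rw [this, smul_neg, smul_neg]
  obtain ⟨r1, r2⟩ := solve h.hw hu hz h2 h3 hΔ hXX hXY hC
  refine ⟨b, p2, δ, by rw [hb]; exact he.toEig, r1, hδ, ?_, ?_, ?_, mB, mD, mX.trans r2⟩
  · rw [← map_smul, mI]
  · rw [← map_smul, mJ]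
  · rw [← map_smul, mK]

end frame

end Cfsg.Agent.H830.A6
end

private theorem dce_ed2f65b23439 : _root_.True := by
  try have : _root_.True := by simp only [_root_.Cfsg.Agent.H830.A6.MK.eq_1]
  try have : _root_.True := by simp only [_root_.Cfsg.Agent.H830.A6.MXg.eq_1]
  try have : _root_.True := by simp only [_root_.Cfsg.Agent.H830.A6.MB.eq_1]
  try have : _root_.True := by simp only [_root_.Cfsg.Agent.H830.A6.MJ.eq_1]
  try have : _root_.True := by simp only [_root_.Cfsg.Agent.H830.A6.MYg.eq_1]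
  try have : _root_.True := by simp only [_root_.Cfsg.Agent.H830.A6.MI.eq_1]
  try have : _root_.True := by simp only [_root_.Cfsg.Agent.H830.A6.MD.eq_1]
  exact _root_.True.intro
end

-- part: H830/A6/Core
section
set_option linter.all false
open scoped Cfsg.Agent.FastGrp

-- part: H830/A6/Lift
section
/-!
# `6.A₆`: lifting relations (helper830)

`Cov6 π m` : `π : Γ → A₆` surjective with central kernel of exponent `6`, `m` its unique involution, and the lifts of
the involutions have order divisible by `4`.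
-/

set_option autoImplicit false
set_option linter.unusedSectionVars false
set_option linter.dupNamespace false

open Equiv Equiv.Perm

namespace Cfsg.Agent.H830.A6

abbrev A6 := alternatingGroup (Fin 6)

def pi' : A6 := ⟨c[0, 1] * c[2, 3], mem_alternatingGroup.2 (by (set_option synthInstance.maxSize 9000 in open scoped Cfsg.Agent.Lib.FastPerm in decide +kernel))⟩
def pj : A6 := ⟨c[0, 2] * c[1, 3], mem_alternatingGroup.2 (by (set_option synthInstance.maxSize 9000 in open scoped Cfsg.Agent.Lib.FastPerm in decide +kernel))⟩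
def pk : A6 := ⟨c[0, 3] * c[1, 2], mem_alternatingGroup.2 (by (set_option synthInstance.maxSize 9000 in open scoped Cfsg.Agent.Lib.FastPerm in decide +kernel))⟩
def pb : A6 := ⟨c[1, 2, 3], mem_alternatingGroup.2 (by (set_option synthInstance.maxSize 9000 in open scoped Cfsg.Agent.Lib.FastPerm in decide +kernel))⟩
def px : A6 := ⟨c[0, 4, 5], mem_alternatingGroup.2 (by (set_option synthInstance.maxSize 9000 in open scoped Cfsg.Agent.Lib.FastPerm in decide +kernel))⟩
def pd : A6 := ⟨c[1, 2] * c[4, 5], mem_alternatingGroup.2 (by (set_option synthInstance.maxSize 9000 in open scoped Cfsg.Agent.Lib.FastPerm in decide +kernel))⟩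

variable {Γ : Type*} [Group Γ] {π : Γ →* A6} {m : Γ}

structure Cov6 (π : Γ →* A6) (m : Γ) : Prop where
  surj : Function.Surjective π
  cent : ∀ z, π z = 1 → ∀ g, z * g = g * z
  pow6 : ∀ z, π z = 1 → z ^ 6 = 1
  πm : π m = 1
  mm : m * m = 1
  m1 : m ≠ 1
  uniq : ∀ z, π z = 1 → z * z = 1 → z = 1 ∨ z = m
  sq : ∀ t, π t * π t = 1 → π t ≠ 1 → t ^ 6 = m
  nc : ∀ x b, π x = px → π b = pb → b * x ≠ x * b

namespace Cov6

variable (h : Cov6 π m)
include h

theorem mc (g : Γ) : m * g = g * m := h.cent m h.πm g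

theorem exists_z {g g' : Γ} (hg : π g = π g') : ∃ z, π z = 1 ∧ g = z * g' :=
  ⟨g * g'⁻¹, by rw [map_mul, map_inv, hg, mul_inv_cancel], by group⟩

/-- lift of an involution with square `m` -/
theorem exists_inv {τ : A6} (h1 : τ * τ = 1) (h2 : τ ≠ 1) : ∃ t, π t = τ ∧ t * t = m := by
  obtain ⟨t, ht⟩ := h.surj τ
  refine ⟨t ^ 3, ?_, ?_⟩
  · rw [map_pow, ht, pow_succ, pow_two, h1, one_mul]
  · rw [← pow_add]
    exact h.sq t (by rw [ht, h1]) (by rw [ht]; exact h2)

theorem eq_of_sq {s t : Γ} (hst : π s = π t) (hs : s * s = m) (ht : t * t = m) : s = t ∨ s = m * t := by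
  obtain ⟨z, hz, rfl⟩ := h.exists_z hst
  have hc := h.cent z hz
  have h1 : z * z = 1 := by
    have e : z * t * (z * t) = z * z * (t * t) := by
      calc z * t * (z * t) = z * (t * z) * t := by simp only [mul_assoc]
        _ = z * (z * t) * t := by rw [← hc t]
        _ = z * z * (t * t) := by simp only [mul_assoc]
    rw [hs, ht] at e
    have := congrArg (· * m) e
    simp only [mul_assoc, h.mm, mul_one] at this
    exact this.symm
  rcases h.uniq z hz h1 with rfl | rfl
  · left; rw [one_mul]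
  · right; rfl

/-- a lift of an element of order three inverted by an involution -/
theorem exists_three {τ : A6} {d : Γ} (h3 : τ ^ 3 = 1) (hinv : π d * τ * (π d)⁻¹ = τ⁻¹) :
    ∃ x, π x = τ ∧ x ^ 3 = 1 ∧ d * x = x⁻¹ * d := by
  obtain ⟨x, hx⟩ := h.surj τ
  have hc3 : π (x ^ 3) = 1 := by rw [map_pow, hx, h3]
  obtain ⟨z, hz, hzx⟩ := h.exists_z (g := d * x * d⁻¹) (g' := x⁻¹) (by
    rw [map_mul, map_mul, map_inv, map_inv, hx, hinv])
  have hcc := h.cent _ hc3
  have hzc : ∀ g : Γ, Commute z g := h.cent z hz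
  have h6 := h.pow6 z hz
  have h36 := h.pow6 _ hc3
  -- `x³` is an involution or trivial
  have e1 : x ^ 3 = z ^ 3 * (x ^ 3)⁻¹ := by
    have e2 : (d * x * d⁻¹) ^ 3 = x ^ 3 := by
      rw [conj_pow, ← hcc, mul_inv_cancel_right]
    rw [hzx, (hzc _).mul_pow, inv_pow] at e2
    exact e2.symm
  have e3 : x ^ 3 * x ^ 3 = z ^ 3 := by
    nth_rewrite 1 [e1]
    rw [inv_mul_cancel_right]
  have e4 : x ^ 12 = 1 := by
    rw [show x ^ 12 = (x ^ 3 * x ^ 3) * (x ^ 3 * x ^ 3) by simp only [← pow_add], e3, ← pow_add, h6]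
  have e36 : x ^ 18 = 1 := by rw [← h36, ← pow_mul]
  have e5 : x ^ 6 = 1 := by
    calc x ^ 6 = x ^ 18 * (x ^ 12)⁻¹ := by rw [eq_mul_inv_iff_mul_eq, ← pow_add]
      _ = 1 := by rw [e36, e4, inv_one, mul_one]
  -- replace `x` by `x ^ 4`
  have hy3 : (x ^ 4) ^ 3 = 1 := by rw [← pow_mul, e4]
  have hy : π (x ^ 4) = τ := by
    rw [show x ^ 4 = x ^ 3 * x by rw [← pow_succ], map_mul, hc3, one_mul, hx]
  obtain ⟨u, hu, hux⟩ := h.exists_z (g := d * x ^ 4 * d⁻¹) (g' := (x ^ 4)⁻¹) (by
    rw [map_mul, map_mul, map_inv, map_inv, hy, hinv])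
  have huc : ∀ g : Γ, Commute u g := h.cent u hu
  have hu3 : u ^ 3 = 1 := by
    have e6 : (d * x ^ 4 * d⁻¹) ^ 3 = 1 := by
      rw [conj_pow, hy3, mul_one, mul_inv_cancel]
    rw [hux, (huc _).mul_pow, inv_pow, hy3, inv_one, mul_one] at e6
    exact e6
  have huu : u * u = u⁻¹ := by
    rw [← mul_eq_one_iff_eq_inv, ← hu3, pow_succ, pow_two]
  refine ⟨u * x ^ 4, ?_, ?_, ?_⟩
  · rw [map_mul, hu, one_mul, hy]
  · rw [(huc (x ^ 4)).mul_pow, hu3, hy3, one_mul]
  · have hux' : d * x ^ 4 = u * (x ^ 4)⁻¹ * d := by rw [← hux]; group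
    calc d * (u * x ^ 4) = (d * u) * x ^ 4 := by rw [mul_assoc]
      _ = (u * d) * x ^ 4 := by rw [(huc d).eq]
      _ = u * (d * x ^ 4) := by rw [mul_assoc]
      _ = u * (u * (x ^ 4)⁻¹ * d) := by rw [hux']
      _ = (u * u) * (x ^ 4)⁻¹ * d := by simp only [mul_assoc]
      _ = u⁻¹ * (x ^ 4)⁻¹ * d := by rw [huu]
      _ = (u * x ^ 4)⁻¹ * d := by rw [mul_inv_rev, ((huc (x ^ 4)).inv_inv).eq]

/-- The relations in the group. -/
structure Lft (π : Γ →* A6) (m z i j k b d x : Γ) : Prop where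
  πz : π z = 1
  z1 : z ≠ 1
  z3 : z * z * z = 1
  πi : π i = pi'
  πj : π j = pj
  πk : π k = pk
  πb : π b = pb
  πd : π d = pd
  πx : π x = px
  ii : i * i = m
  jj : j * j = m
  ij : i * j = k
  ji : j * i = m * k
  bi : b * i = j * b
  bj : b * j = k * b
  bbb : b * b * b = 1
  xxx : x * x * x = 1
  bx : b * x = z * (x * b)
  dd : d * d = m
  di : d * i = m * (j * d)
  db : d * b = b * b * d
  dx : d * x = x * x * d
  xk : (x * k) * (x * k) * (x * k) * (x * k) = m

theorem exists_quat {b : Γ} (πb : π b = pb) (b3 : b ^ 3 = 1) : ∃ i j k, π i = pi' ∧ π j = pj ∧ π k = pk ∧ i * i = m ∧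
    j * j = m ∧ k * k = m ∧ i * j = k ∧ j * i = m * k ∧ b * i = j * b ∧ b * j = k * b ∧ b * k = i * b := by
  obtain ⟨i, πi, ii⟩ := h.exists_inv (τ := pi') (by (set_option synthInstance.maxSize 9000 in open scoped Cfsg.Agent.Lib.FastPerm in decide +kernel)) (by (set_option synthInstance.maxSize 9000 in open scoped Cfsg.Agent.Lib.FastPerm in decide +kernel))
  have mc := h.mc
  have mm := h.mm
  have bbb : b * b * b = 1 := by rw [← b3, pow_succ, pow_two]
  obtain ⟨j, hj⟩ : ∃ j, j = b * i * b⁻¹ := ⟨_, rfl⟩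
  obtain ⟨k, hk⟩ : ∃ k, k = b * j * b⁻¹ := ⟨_, rfl⟩
  have πj : π j = pj := by rw [hj, map_mul, map_mul, map_inv, πb, πi]; (set_option synthInstance.maxSize 9000 in open scoped Cfsg.Agent.Lib.FastPerm in decide +kernel)
  have πk : π k = pk := by rw [hk, map_mul, map_mul, map_inv, πb, πj]; (set_option synthInstance.maxSize 9000 in open scoped Cfsg.Agent.Lib.FastPerm in decide +kernel)
  have bi : b * i = j * b := by rw [hj, inv_mul_cancel_right]
  have bj : b * j = k * b := by rw [hk, inv_mul_cancel_right]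
  have bk : b * k = i * b := by
    have e1 : b * b * b * i = i * (b * b * b) := by rw [bbb, one_mul, mul_one]
    have e2 : b * b * b * i = b * k * (b * b) := by
      calc b * b * b * i = b * b * (b * i) := by simp only [mul_assoc]
        _ = b * (b * j) * b := by rw [bi]; simp only [mul_assoc]
        _ = b * k * (b * b) := by rw [bj]; simp only [mul_assoc]
    rw [e2] at e1
    have e3 : b * k * (b * b) = i * b * (b * b) := by rw [e1]; simp only [mul_assoc]
    exact mul_right_cancel e3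
  have jj : j * j = m := by
    rw [hj, show b * i * b⁻¹ * (b * i * b⁻¹) = b * (i * i) * b⁻¹ by group, ii, ← mc, mul_inv_cancel_right]
  have kk : k * k = m := by
    rw [hk, show b * j * b⁻¹ * (b * j * b⁻¹) = b * (j * j) * b⁻¹ by group, jj, ← mc, mul_inv_cancel_right]
  -- `i` and `j` anticommute
  have hij : i * j * i⁻¹ * (i * j * i⁻¹) = m := by
    rw [show i * j * i⁻¹ * (i * j * i⁻¹) = i * (j * j) * i⁻¹ by group, jj, ← mc, mul_inv_cancel_right]
  have πij : π (i * j * i⁻¹) = π j := by rw [map_mul, map_mul, map_inv, πi, πj]; (set_option synthInstance.maxSize 9000 in open scoped Cfsg.Agent.Lib.FastPerm in decide +kernel)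
  have ji : j * i = m * (i * j) := by
    rcases h.eq_of_sq πij hij jj with h1 | h1
    · exfalso
      have h2 : i * j = j * i := by
        rw [mul_inv_eq_iff_eq_mul] at h1; exact h1
      have h3 : (i * j) * (i * j) = 1 := by
        calc (i * j) * (i * j) = i * (j * i) * j := by simp only [mul_assoc]
          _ = i * (i * j) * j := by rw [h2]
          _ = (i * i) * (j * j) := by simp only [mul_assoc]
          _ = 1 := by rw [ii, jj, mm]
      have h4 := h.sq (i * j) (by rw [map_mul, πi, πj]; (set_option synthInstance.maxSize 9000 in open scoped Cfsg.Agent.Lib.FastPerm in decide +kernel)) (by rw [map_mul, πi, πj]; (set_option synthInstance.maxSize 9000 in open scoped Cfsg.Agent.Lib.FastPerm in decide +kernel))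
      apply h.m1
      rw [← h4, show (i * j) ^ 6 = ((i * j) ^ 2) ^ 3 by rw [← pow_mul], pow_two, h3, one_pow]
    · have h2 : i * j = m * j * i := by rw [mul_inv_eq_iff_eq_mul] at h1; exact h1
      rw [h2, ← mul_assoc, ← mul_assoc, mm, one_mul]
  have ijij : (i * j) * (i * j) = m := by
    calc (i * j) * (i * j) = i * (j * i) * j := by simp only [mul_assoc]
      _ = i * (m * (i * j)) * j := by rw [ji]
      _ = (i * m) * i * j * j := by simp only [mul_assoc]
      _ = (m * i) * i * j * j := by rw [← mc i]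
      _ = m * ((i * i) * (j * j)) := by simp only [mul_assoc]
      _ = m := by rw [ii, jj, mm, mul_one]
  rcases h.eq_of_sq (s := i * j) (t := k) (by rw [map_mul, πi, πj, πk]; (set_option synthInstance.maxSize 9000 in open scoped Cfsg.Agent.Lib.FastPerm in decide +kernel)) ijij kk with h1 | h1
  · exact ⟨i, j, k, πi, πj, πk, ii, jj, kk, h1, by rw [ji, h1], bi, bj, bk⟩
  · have sqm : ∀ a, a * a = m → m * a * (m * a) = m := by
      intro a ha
      calc m * a * (m * a) = m * (a * m) * a := by simp only [mul_assoc]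
        _ = m * (m * a) * a := by rw [← mc a]
        _ = (m * m) * (a * a) := by simp only [mul_assoc]
        _ = m := by rw [mm, ha, one_mul]
    have cm : ∀ a c, b * a = c * b → b * (m * a) = m * c * b := by
      intro a c hac
      rw [← mul_assoc, ← mc, mul_assoc, hac, mul_assoc]
    refine ⟨m * i, m * j, m * k, by rw [map_mul, h.πm, one_mul, πi], by rw [map_mul, h.πm, one_mul, πj],
      by rw [map_mul, h.πm, one_mul, πk], sqm i ii, sqm j jj, sqm k kk, ?_, ?_, cm _ _ bi, cm _ _ bj, cm _ _ bk⟩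
    · calc m * i * (m * j) = m * (i * m) * j := by simp only [mul_assoc]
        _ = m * (m * i) * j := by rw [← mc i]
        _ = (m * m) * (i * j) := by simp only [mul_assoc]
        _ = m * k := by rw [mm, one_mul, h1]
    · calc m * j * (m * i) = m * (j * m) * i := by simp only [mul_assoc]
        _ = m * (m * j) * i := by rw [← mc j]
        _ = (m * m) * (j * i) := by simp only [mul_assoc]
        _ = m * (m * k) := by rw [mm, one_mul, ji, h1]

theorem exists_lft : ∃ z i j k b d x, Lft π m z i j k b d x := by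
  obtain ⟨d, πd, dd⟩ := h.exists_inv (τ := pd) (by (set_option synthInstance.maxSize 9000 in open scoped Cfsg.Agent.Lib.FastPerm in decide +kernel)) (by (set_option synthInstance.maxSize 9000 in open scoped Cfsg.Agent.Lib.FastPerm in decide +kernel))
  obtain ⟨b, πb, b3, db⟩ := h.exists_three (τ := pb) (d := d) (by (set_option synthInstance.maxSize 9000 in open scoped Cfsg.Agent.Lib.FastPerm in decide +kernel)) (by rw [πd]; (set_option synthInstance.maxSize 9000 in open scoped Cfsg.Agent.Lib.FastPerm in decide +kernel))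
  obtain ⟨x, πx, x3, dx⟩ := h.exists_three (τ := px) (d := d) (by (set_option synthInstance.maxSize 9000 in open scoped Cfsg.Agent.Lib.FastPerm in decide +kernel)) (by rw [πd]; (set_option synthInstance.maxSize 9000 in open scoped Cfsg.Agent.Lib.FastPerm in decide +kernel))
  obtain ⟨i, j, k, πi, πj, πk, ii, jj, kk, ij, ji, bi, bj, bk⟩ := h.exists_quat πb b3
  have mc := h.mc
  have mm := h.mm
  have bbb : b * b * b = 1 := by rw [← b3, pow_succ, pow_two]
  have xxx : x * x * x = 1 := by rw [← x3, pow_succ, pow_two]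
  have binv : b⁻¹ = b * b := (mul_eq_one_iff_eq_inv.1 bbb).symm
  have xinv : x⁻¹ = x * x := (mul_eq_one_iff_eq_inv.1 xxx).symm
  -- conjugation by `b⁻¹`
  have bi' : b⁻¹ * j = i * b⁻¹ := by rw [inv_mul_eq_iff_eq_mul, ← mul_assoc, bi, mul_inv_cancel_right]
  have bj' : b⁻¹ * k = j * b⁻¹ := by rw [inv_mul_eq_iff_eq_mul, ← mul_assoc, bj, mul_inv_cancel_right]
  have bk' : b⁻¹ * i = k * b⁻¹ := by rw [inv_mul_eq_iff_eq_mul, ← mul_assoc, bk, mul_inv_cancel_right]
  have jb : j = b * i * b⁻¹ := by rw [bi, mul_inv_cancel_right]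
  have kb : k = b * j * b⁻¹ := by rw [bj, mul_inv_cancel_right]
  -- `d i = m j d`
  have conjd : ∀ a c, d * a = c * d → d * (b * a * b⁻¹) = b⁻¹ * c * b * d := by
    intro a c hac
    have e1 : d * b⁻¹ = b * d := by
      rw [mul_inv_eq_iff_eq_mul, mul_assoc, db, mul_inv_cancel_left]
    calc d * (b * a * b⁻¹) = (d * b) * a * b⁻¹ := by simp only [mul_assoc]
      _ = b⁻¹ * (d * a) * b⁻¹ := by rw [db]; simp only [mul_assoc]
      _ = b⁻¹ * c * (d * b⁻¹) := by rw [hac]; simp only [mul_assoc]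
      _ = b⁻¹ * c * b * d := by rw [e1]; simp only [mul_assoc]
  have di : d * i = m * (j * d) := by
    have hsq : d * i * d⁻¹ * (d * i * d⁻¹) = m := by
      rw [show d * i * d⁻¹ * (d * i * d⁻¹) = d * (i * i) * d⁻¹ by group, ii, ← mc, mul_inv_cancel_right]
    rcases h.eq_of_sq (s := d * i * d⁻¹) (t := j) (by
      rw [map_mul, map_mul, map_inv, πd, πi, πj]; (set_option synthInstance.maxSize 9000 in open scoped Cfsg.Agent.Lib.FastPerm in decide +kernel)) hsq jj with h1 | h1
    · exfalso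
      have h2 : d * i = j * d := by rw [← h1, inv_mul_cancel_right]
      have h3 : d * j = i * d := by
        have := conjd i j h2
        rw [← jb, bi', inv_mul_cancel_right] at this
        exact this
      have h4 : d * k = k * d := by
        have := conjd j i h3
        rw [← kb, bk', inv_mul_cancel_right] at this
        exact this
      have h5 : d * k = m * k * d := by
        rw [← ji, ← ij, ← mul_assoc, h2, mul_assoc, h3, mul_assoc]
      rw [h4] at h5
      have h6 := mul_right_cancel h5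
      exact h.m1 (right_eq_mul.1 h6)
    · rw [← mul_assoc, ← h1, inv_mul_cancel_right]
  have dj : d * j = m * (i * d) := by
    have := conjd i (m * j) (by rw [di, mul_assoc])
    rw [← jb] at this
    rw [this]
    calc b⁻¹ * (m * j) * b * d = (b⁻¹ * m) * j * b * d := by simp only [mul_assoc]
      _ = m * (b⁻¹ * j) * b * d := by rw [← mc]; simp only [mul_assoc]
      _ = m * (i * d) := by rw [bi']; simp only [mul_assoc, inv_mul_cancel_left]
  have dk : d * k = m * (k * d) := by
    rw [← ij]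
    calc d * (i * j) = (d * i) * j := by rw [mul_assoc]
      _ = m * (j * (d * j)) := by rw [di]; simp only [mul_assoc]
      _ = m * (j * (m * (i * d))) := by rw [dj]
      _ = m * ((j * m) * i * d) := by simp only [mul_assoc]
      _ = m * ((m * j) * i * d) := by rw [← mc j]
      _ = m * (m * (j * i) * d) := by simp only [mul_assoc]
      _ = m * (i * j * d) := by rw [ji, ij, ← mul_assoc m m, mm, one_mul]
  -- the scalar
  obtain ⟨z, πz, hz⟩ := h.exists_z (g := b * x) (g' := x * b) (by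
    rw [map_mul, map_mul, πb, πx]; (set_option synthInstance.maxSize 9000 in open scoped Cfsg.Agent.Lib.FastPerm in decide +kernel))
  have zc := h.cent z πz
  have z1 : z ≠ 1 := by
    rintro rfl
    exact h.nc x b πx πb (by rw [hz, one_mul])
  have z3 : z * z * z = 1 := by
    have e1 : b * x * b⁻¹ = z * x := by rw [hz, mul_assoc, mul_inv_cancel_right]
    have e2 : (b * x * b⁻¹) ^ 3 = 1 := by rw [conj_pow, x3, mul_one, mul_inv_cancel]
    rw [e1, (show Commute z x from zc x).mul_pow, x3, mul_one] at e2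
    rw [← e2, pow_succ, pow_two]
  have xk : (x * k) * (x * k) * (x * k) * (x * k) = m := by
    have e0 : (x * k) * (x * k) * (x * k) * (x * k) = (x * k) ^ 4 := by
      simp only [pow_succ, pow_zero, one_mul]
    rw [e0]
    have hker : π ((x * k) ^ 4) = 1 := by rw [map_pow, map_mul, πx, πk]; (set_option synthInstance.maxSize 9000 in open scoped Cfsg.Agent.Lib.FastPerm in decide +kernel)
    have cc := h.cent _ hker
    have h12 : (x * k) ^ 12 = m := by
      have := h.sq ((x * k) ^ 2) (by rw [map_pow, map_mul, πx, πk]; (set_option synthInstance.maxSize 9000 in open scoped Cfsg.Agent.Lib.FastPerm in decide +kernel))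
        (by rw [map_pow, map_mul, πx, πk]; (set_option synthInstance.maxSize 9000 in open scoped Cfsg.Agent.Lib.FastPerm in decide +kernel))
      rw [← pow_mul] at this
      exact this
    have kinv : k⁻¹ = m * k := by
      rw [inv_eq_iff_mul_eq_one, ← mul_assoc, ← mc, mul_assoc, kk, mm]
    have e1 : d * (x * k) * d⁻¹ = (k * x)⁻¹ := by
      rw [mul_inv_rev, kinv, mul_inv_eq_iff_eq_mul, ← mul_assoc, dx, mul_assoc, dk]
      simp only [mul_assoc]
    have e2 : (k * x) ^ 4 = (x * k) ^ 4 := by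
      have : k * x = x⁻¹ * (x * k) * x⁻¹⁻¹ := by group
      rw [this, conj_pow, ← cc, mul_inv_cancel_right] 
    have e3 : (x * k) ^ 4 = ((x * k) ^ 4)⁻¹ := by
      have : (d * (x * k) * d⁻¹) ^ 4 = (x * k) ^ 4 := by rw [conj_pow, ← cc, mul_inv_cancel_right]
      rw [e1, inv_pow, e2] at this
      exact this.symm
    have e4 : (x * k) ^ 8 = 1 := by
      have : (x * k) ^ 4 * (x * k) ^ 4 = 1 := by nth_rewrite 1 [e3]; rw [inv_mul_cancel]
      rw [← this, ← pow_add]
    calc (x * k) ^ 4 = (x * k) ^ 12 * ((x * k) ^ 8)⁻¹ := by rw [eq_mul_inv_iff_mul_eq, ← pow_add]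
      _ = m := by rw [h12, e4, inv_one, mul_one]
  exact ⟨z, i, j, k, b, d, x, πz, z1, z3, πi, πj, πk, πb, πd, πx, ii, jj, ij, ji, bi, bj, bbb, xxx, hz, dd, di,
    by rw [db, binv], by rw [dx, xinv], xk⟩

end Cov6

end Cfsg.Agent.H830.A6
end

-- part: H830/A6/Core
section
/-!
# `6.A₆` in dimension six: the core as a cover (helper830)

Transfer arguments: lifts of the involutions have order divisible by four, lifts of two disjoint three-cycles do not
commute.
-/

set_option autoImplicit false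
set_option linter.unusedSectionVars false
set_option linter.dupNamespace false

open Equiv Equiv.Perm

namespace Cfsg.Agent.H830.A6

section transfer

variable {Γ : Type*} [Group Γ] [Finite Γ]

/-- transfer of a character -/
theorem char_index {A : Type*} [CommGroup A] (hL : commutator Γ = ⊤) (S : Subgroup Γ) (χ : S →* A) {z : Γ}
    (hzS : z ∈ S) (hz : ∀ x, z * x = x * z) : χ ⟨z, hzS⟩ ^ S.index = 1 := by
  classical
  let f : Γ →* A := MonoidHom.transfer χ
  have h1 : ∀ g, f g = 1 := by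
    intro g
    have h2 : commutator Γ ≤ f.ker := Abelianization.commutator_subset_ker f
    rw [hL] at h2
    exact h2 (Subgroup.mem_top g)
  have h3 := MonoidHom.transfer_eq_pow χ z (by
    intro k g _
    rw [mul_assoc, (show Commute (z ^ k) g from (show Commute z g from hz g).pow_left k).eq, ← mul_assoc,
      inv_mul_cancel, one_mul])
  have h4 := h1 z
  change MonoidHom.transfer χ z = 1 at h4
  rw [h3] at h4
  rw [← map_pow]
  exact h4

end transfer

/-- the centraliser of a permutation -/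
def cen (t : Perm (Fin 6)) : Subgroup A6 where
  carrier := {σ | (σ : Perm (Fin 6)) * t = t * σ}
  one_mem' := by simp
  mul_mem' := by
    intro a b ha hb
    change ((a * b : A6) : Perm (Fin 6)) * t = t * (a * b : A6)
    rw [Subgroup.coe_mul, mul_assoc, hb, ← mul_assoc, ha, mul_assoc]
  inv_mem' := by
    intro a ha
    change ((a⁻¹ : A6) : Perm (Fin 6)) * t = t * (a⁻¹ : A6)
    rw [Subgroup.coe_inv, inv_mul_eq_iff_eq_mul, ← mul_assoc, eq_mul_inv_iff_mul_eq]
    exact (show (a : Perm (Fin 6)) * t = t * a from ha).symm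

instance (t : Perm (Fin 6)) : DecidablePred (· ∈ cen t) := fun σ =>
  inferInstanceAs (Decidable ((σ : Perm (Fin 6)) * t = t * σ))

theorem card_A6 : Nat.card A6 = 360 := by
  rw [Nat.card_eq_fintype_card]; (set_option synthInstance.maxSize 9000 in open scoped Cfsg.Agent.Lib.FastPerm in decide +kernel)

theorem card_cen : Nat.card (cen pi') = 8 := by
  rw [Nat.card_eq_fintype_card]; (set_option synthInstance.maxSize 9000 in open scoped Cfsg.Agent.Lib.FastPerm in decide +kernel)

instance : DecidablePred (· ∈ (cen pb ⊓ cen px : Subgroup A6)) := fun σ =>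
  inferInstanceAs (Decidable (σ ∈ cen pb ∧ σ ∈ cen px))

theorem card_cen2 : Nat.card (cen pb ⊓ cen px : Subgroup A6) = 9 := by
  rw [Nat.card_eq_fintype_card]; (set_option synthInstance.maxSize 9000 in open scoped Cfsg.Agent.Lib.FastPerm in decide +kernel)

end Cfsg.Agent.H830.A6
end
end

-- part: H830/A6/Core2
section
set_option linter.all false
open scoped Cfsg.Agent.FastGrp

/-!
# `6.A₆` in dimension six: the core is a cover in the sense of `Cov6` (helper830)
-/

set_option autoImplicit false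
set_option linter.unusedSectionVars false
set_option linter.dupNamespace false

open Equiv Equiv.Perm

namespace Cfsg.Agent.H830.A6

open Cfsg Cfsg.Geo Matrix Cfsg.Agent.H915.LD Cfsg.Agent.H913.N6

universe u

variable {F : Type u} [Field F] [Finite F] {P : Subgroup (GL (Fin 6) F)}

theorem exists_prime_scalar {n : ℕ} [hn : Fact n.Prime] (h : n ∣ Nat.card ((scalars (Fin 6) F).subgroupOf P)) :
    ∃ c : Fˣ, (sc c : GL (Fin 6) F) ∈ P ∧ c ≠ 1 ∧ c ^ n = 1 := by
  obtain ⟨z, hz⟩ := exists_prime_orderOf_dvd_card' (G := (scalars (Fin 6) F).subgroupOf P) n h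
  obtain ⟨c, hc⟩ := mem_scalars.1 (Subgroup.mem_subgroupOf.1 z.2)
  refine ⟨c, hc ▸ z.1.2, ?_, ?_⟩
  · rintro rfl
    have : z = 1 := Subtype.ext (Subtype.ext (by rw [hc, sc_one]; rfl))
    rw [this, orderOf_one] at hz
    exact hn.out.one_lt.ne hz
  · have h1 : z ^ n = 1 := by rw [← hz, pow_orderOf_eq_one]
    apply sc_inj (ι := Fin 6)
    rw [sc_pow, ← hc, sc_one]
    have := congrArg (fun y : (scalars (Fin 6) F).subgroupOf P => ((y : P) : GL (Fin 6) F)) h1
    simpa only [_root_.SubmonoidClass.coe_pow, _root_.OneMemClass.coe_one] using this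

theorem sc_neg_one : (sc (-1) : GL (Fin 6) F) = -1 := by
  apply Units.ext
  rw [coe_sc]
  simp only [_root_.Units.val_neg, _root_.Units.val_one, _root_.neg_smul, _root_.one_smul]

theorem neg_mem (h : 2 ∣ Nat.card ((scalars (Fin 6) F).subgroupOf P)) :
    (-1 : GL (Fin 6) F) ∈ P ∧ (2 : F) ≠ 0 := by
  have : Fact (Nat.Prime 2) := ⟨Nat.prime_two⟩
  obtain ⟨c, hc, h1, hcn⟩ := exists_prime_scalar h
  have h3 : c = -1 := by
    have h4 : (c - 1 : F) * (c + 1) = 0 := by
      have := congrArg (fun y : Fˣ => (y : F)) hcn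
      simp only [Units.val_pow_eq_pow_val, Units.val_one] at this
      linear_combination this
    rcases mul_eq_zero.1 h4 with h | h
    · exact absurd (Units.ext (by rw [Units.val_one]; linear_combination h)) h1
    · apply Units.ext
      rw [Units.val_neg, Units.val_one]
      linear_combination h
  refine ⟨by rw [← sc_neg_one, ← h3]; exact hc, fun h2 => h1 ?_⟩
  rw [h3]
  apply Units.ext
  rw [Units.val_neg, Units.val_one]
  linear_combination -h2

section lift

variable (C : Cov P A6)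

theorem exists_sc' {z : P} (hz : C.π z = 1) : ∃ c : Fˣ, (z : GL (Fin 6) F) = sc c := mem_scalars.1 ((C.ker z).1 hz)

theorem cent' {z : P} (hz : C.π z = 1) (g : P) : z * g = g * z := by
  obtain ⟨c, hc⟩ := exists_sc' C hz
  apply Subtype.ext
  rw [Subgroup.coe_mul, Subgroup.coe_mul, hc, sc_comm]

theorem pow6' (hC : Core P) {z : P} (hz : C.π z = 1) : z ^ 6 = 1 := by
  have h1 : z ∈ (scalars (Fin 6) F).subgroupOf P := Subgroup.mem_subgroupOf.2 ((C.ker z).1 hz)
  have h2 := hC.pow_card h1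
  rwa [Fintype.card_fin] at h2

/-- the action on vectors -/
def act (x : P) (v : Fin 6 → F) : Fin 6 → F := ((x : GL (Fin 6) F) : Matrix (Fin 6) (Fin 6) F) *ᵥ v

theorem act_mul (x y : P) (v : Fin 6 → F) : act (x * y) v = act x (act y v) := by
  unfold act
  rw [Subgroup.coe_mul, Units.val_mul, Matrix.mulVec_mulVec]

theorem act_one (v : Fin 6 → F) : act (1 : P) v = v := by
  unfold act
  rw [Subgroup.coe_one, Units.val_one, Matrix.one_mulVec]

theorem act_add (x : P) (v w : Fin 6 → F) : act x (v + w) = act x v + act x w := by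
  unfold act
  rw [Matrix.mulVec_add]

theorem act_smul (x : P) (c : F) (v : Fin 6 → F) : act x (c • v) = c • act x v := by
  unfold act
  rw [Matrix.mulVec_smul]

theorem act_sc {z : P} {c : Fˣ} (hz : (z : GL (Fin 6) F) = sc c) (v : Fin 6 → F) : act z v = (c : F) • v := by
  unfold act
  rw [hz, coe_sc, Matrix.smul_mulVec, Matrix.one_mulVec]

def pT : A6 := ⟨c[0, 1] * c[4, 5], mem_alternatingGroup.2 (by (open scoped Cfsg.Agent.Lib.PermDec in decide +kernel))⟩
def pW : A6 := ⟨c[0, 2, 1, 3] * c[4, 5], mem_alternatingGroup.2 (by (open scoped Cfsg.Agent.Lib.PermDec in decide +kernel))⟩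

theorem cen_form : ∀ σ : A6, σ ∈ cen pi' → ∃ i : Fin 4, ∃ j : Fin 2, σ = pW ^ (i : ℕ) * pT ^ (j : ℕ) := by
  (open scoped Cfsg.Agent.Lib.PermDec in decide +kernel)

theorem pT_facts : pT * pT = 1 ∧ pT ≠ 1 ∧ (pT * pW) * (pT * pW) = 1 ∧ pT * pW ≠ 1 ∧ pT * (pT * pW) = pW ∧
    pW * pW = pi' ∧ pi' ≠ 1 ∧ pi' * pi' = 1 := by (open scoped Cfsg.Agent.Lib.PermDec in decide +kernel)

theorem act_eigen {W : P} {v : Fin 6 → F} {ε : F} (h : act W v = ε • v) (n : ℕ) : act (W ^ n) v = ε ^ n • v := by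
  induction n with
  | zero => rw [pow_zero, pow_zero, act_one, one_smul]
  | succ n ih => rw [pow_succ, act_mul, h, act_smul, ih, smul_smul, pow_succ, mul_comm ε]

/-- The lifts of the involutions are not all of order two up to scalars. -/
theorem no_inv_lift (hC : Core P) (h2 : (2 : F) ≠ 0) (hm : (-1 : GL (Fin 6) F) ∈ P)
    (hinv : ∀ τ : A6, τ * τ = 1 → τ ≠ 1 → ∃ t : P, C.π t = τ ∧ t * t = 1) : False := by
  obtain ⟨hT1, hT2, hU1, hU2, hTU, hWW, hi1, hi2⟩ := pT_facts
  obtain ⟨T, πT, TT⟩ := hinv _ hT1 hT2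
  obtain ⟨U, πU, UU⟩ := hinv _ hU1 hU2
  obtain ⟨W, hW⟩ : ∃ W, W = T * U := ⟨_, rfl⟩
  have πW : C.π W = pW := by rw [hW, map_mul, πT, πU, hTU]
  have Winv : W * (U * T) = 1 := by
    rw [hW, mul_assoc, ← mul_assoc U, UU, one_mul, TT]
  have Winv' : (U * T) * W = 1 := by
    rw [hW, mul_assoc, ← mul_assoc T, TT, one_mul, UU]
  have TW : T * W = U * T * T := by rw [hW, ← mul_assoc, TT, one_mul, mul_assoc, TT, mul_one]
  -- `W⁴ = 1`
  have πW4 : C.π (W ^ 4) = 1 := by
    rw [map_pow, πW, show pW ^ 4 = (pW * pW) * (pW * pW) by simp only [pow_succ, pow_zero, one_mul, mul_assoc], hWW, hi2]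
  have c4 := cent' C πW4
  have hV : U * T = W⁻¹ := (eq_inv_of_mul_eq_one_left Winv' :)
  have e8 : W ^ 4 * W ^ 4 = 1 := by
    have h3 : T * W * T⁻¹ = W⁻¹ := by rw [TW, mul_inv_cancel_right, hV]
    have h4 : (T * W * T⁻¹) ^ 4 = W ^ 4 := by rw [conj_pow, ← c4, mul_inv_cancel_right]
    rw [h3, inv_pow] at h4
    nth_rewrite 1 [← h4]
    rw [inv_mul_cancel]
  have e12 : W ^ 12 = 1 := by
    obtain ⟨t, πt, tt⟩ := hinv _ hi2 hi1
    have h3 : C.π (W * W * t⁻¹) = 1 := by rw [map_mul, map_mul, map_inv, πW, πt, hWW, mul_inv_cancel]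
    obtain ⟨z, hz⟩ : ∃ z, z = W * W * t⁻¹ := ⟨_, rfl⟩
    rw [← hz] at h3
    have h4 : W * W = z * t := by rw [hz, inv_mul_cancel_right]
    have hc : Commute z t := cent' C h3 t
    have h5 : W ^ 4 = z ^ 2 := by
      rw [show W ^ 4 = (W * W) ^ 2 by simp only [pow_succ, pow_zero, one_mul, mul_assoc], h4, hc.mul_pow,
        pow_two t, tt, mul_one]
    rw [show W ^ 12 = (W ^ 4) ^ 3 by rw [← pow_mul], h5, ← pow_mul]
    exact pow6' C hC h3
  have e4 : W ^ 4 = 1 := by
    have h3 : W ^ 12 = W ^ 4 * W ^ 4 * W ^ 4 := by rw [← pow_add, ← pow_add]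
    rw [h3, e8, one_mul] at e12
    exact e12
  -- a vector fixed by `W²`
  obtain ⟨v0, hv0, hW0⟩ : ∃ v : Fin 6 → F, v ≠ 0 ∧ act W (act W v) = v := by
    by_contra hcon
    push Not at hcon
    have h3 : ∀ v, act W (act W v) = -v := by
      intro v
      have h4 : act W (act W (act W (act W v))) = v := by
        rw [← act_mul, ← act_mul, ← act_mul, show W * W * W * W = W ^ 4 by
          simp only [pow_succ, pow_zero, one_mul], e4, act_one]
      by_contra h5
      apply hcon (v + act W (act W v))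
      · intro h6
        exact h5 (by rw [← sub_eq_zero, sub_neg_eq_add, add_comm]; exact h6)
      · rw [act_add, act_add, h4, add_comm]
    have h4 : ((W * W : P) : GL (Fin 6) F) = -1 := by
      apply Units.ext
      apply Matrix.toLin'.injective
      apply LinearMap.ext
      intro v
      rw [Matrix.toLin'_apply, Matrix.toLin'_apply]
      have := h3 v
      rw [← act_mul] at this
      rw [Units.val_neg, Units.val_one, Matrix.neg_mulVec, Matrix.one_mulVec]
      exact this
    have h5 : C.π (W * W) = 1 := by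
      rw [C.ker, h4, ← sc_neg_one]
      exact sc_mem_scalars _
    rw [map_mul, πW, hWW] at h5
    exact hi1 h5
  -- an eigenvector of `W`
  obtain ⟨v1, ε, hv1, hε, hW1⟩ : ∃ (v : Fin 6 → F) (ε : F), v ≠ 0 ∧ ε * ε = 1 ∧ act W v = ε • v := by
    by_cases h : v0 + act W v0 = 0
    · exact ⟨v0, -1, hv0, by ring, by rw [neg_smul, one_smul, eq_neg_iff_add_eq_zero, add_comm]; exact h⟩
    · exact ⟨_, 1, h, by ring, by rw [act_add, hW0, one_smul, add_comm]⟩
  have hWi1 : act (U * T) v1 = ε • v1 := by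
    have h3 : act (U * T) (act W v1) = v1 := by rw [← act_mul, Winv', act_one]
    rw [hW1, act_smul] at h3
    calc act (U * T) v1 = (ε * ε) • act (U * T) v1 := by rw [hε, one_smul]
      _ = ε • v1 := by rw [← smul_smul, h3]
  have hTT : ∀ v : Fin 6 → F, act T (act T v) = v := fun v => by rw [← act_mul, TT, act_one]
  have hWT : act W (act T v1) = ε • act T v1 := by
    have h3 : W * T = T * (U * T) := by rw [hW, mul_assoc]
    rw [← act_mul, h3, act_mul, hWi1, act_smul]
  obtain ⟨v, δ, hv, hδ, hWv, hTv⟩ : ∃ (v : Fin 6 → F) (δ : F), v ≠ 0 ∧ δ * δ = 1 ∧ act W v = ε • v ∧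
      act T v = δ • v := by
    by_cases h : v1 + act T v1 = 0
    · exact ⟨v1, -1, hv1, by ring, hW1, by rw [neg_smul, one_smul, eq_neg_iff_add_eq_zero, add_comm]; exact h⟩
    · exact ⟨_, 1, h, by ring, by rw [act_add, hW1, hWT, smul_add], by rw [act_add, hTT, one_smul, add_comm]⟩
  -- the character
  have hch : ∀ s : ((cen pi').comap C.π : Subgroup P), ∃ c : Fˣ, act (s : P) v = (c : F) • v := by
    intro s
    obtain ⟨i, j, hij⟩ := cen_form _ (Subgroup.mem_comap.1 s.2)
    have h3 : C.π ((s : P) * (W ^ (i : ℕ) * T ^ (j : ℕ))⁻¹) = 1 := by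
      rw [map_mul, map_inv, map_mul, map_pow, map_pow, πW, πT, hij, mul_inv_cancel]
    obtain ⟨c, hc⟩ := exists_sc' C h3
    have h4 : (s : P) = (s : P) * (W ^ (i : ℕ) * T ^ (j : ℕ))⁻¹ * (W ^ (i : ℕ) * T ^ (j : ℕ)) := by
      rw [inv_mul_cancel_right]
    have hε0 : ε ≠ 0 := by rintro rfl; simp at hε
    have hδ0 : δ ≠ 0 := by rintro rfl; simp at hδ
    refine ⟨c * (Units.mk0 ε hε0 ^ (i : ℕ) * Units.mk0 δ hδ0 ^ (j : ℕ)), ?_⟩
    rw [h4, act_mul, act_sc hc, act_mul, act_eigen hTv, act_smul, act_eigen hWv]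
    simp only [smul_smul, Units.val_mul, Units.val_pow_eq_pow_val, Units.val_mk0]
    congr 1
    ring
  choose χ hχ using hch
  have hinj : ∀ c d : Fˣ, (c : F) • v = (d : F) • v → c = d := by
    intro c d hcd
    apply Units.ext
    rw [← sub_eq_zero, ← sub_smul] at hcd
    rcases smul_eq_zero.1 hcd with h | h
    · rwa [sub_eq_zero] at h
    · exact absurd h hv
  let f : ((cen pi').comap C.π : Subgroup P) →* Fˣ := MonoidHom.mk' χ (by
    intro a b
    apply hinj
    rw [← hχ, Subgroup.coe_mul, act_mul, hχ b, act_smul, hχ a, smul_smul, Units.val_mul, mul_comm])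
  have hmπ : C.π ⟨-1, hm⟩ = 1 := by
    rw [C.ker]
    change (-1 : GL (Fin 6) F) ∈ _
    rw [← sc_neg_one]
    exact sc_mem_scalars _
  have hmS : (⟨-1, hm⟩ : P) ∈ ((cen pi').comap C.π : Subgroup P) := by
    rw [Subgroup.mem_comap, hmπ]
    exact one_mem _
  have h3 := char_index hC.commutator_top _ f hmS (cent' C hmπ)
  have h4 : f ⟨_, hmS⟩ = -1 := by
    apply hinj
    change ((χ _ : Fˣ) : F) • v = _
    rw [← hχ]
    exact act_sc (by change (-1 : GL (Fin 6) F) = _; rw [sc_neg_one]) v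
  have h5 : ((cen pi').comap C.π : Subgroup P).index = 45 := by
    rw [Subgroup.index_comap_of_surjective _ C.surj]
    have h6 := Subgroup.card_mul_index (cen pi')
    rw [card_cen, card_A6] at h6
    omega
  rw [h4, h5] at h3
  have h6 := congrArg (fun y : Fˣ => (y : F)) h3
  simp only [Units.val_pow_eq_pow_val, Units.val_neg, Units.val_one] at h6
  apply h2
  have h7 : (-1 : F) ^ 45 = -1 := by norm_num
  rw [h7] at h6
  linear_combination -h6

theorem cen2_form : ∀ σ : A6, σ ∈ (cen pb ⊓ cen px : Subgroup A6) → ∃ i : Fin 3, ∃ j : Fin 3,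
    σ = pb ^ (i : ℕ) * px ^ (j : ℕ) := by
  (open scoped Cfsg.Agent.Lib.PermDec in decide +kernel)

/-- The lifts of `(1 2 3)` and `(0 4 5)` do not commute. -/
theorem no_comm_lift (hC : Core P) {w : Fˣ} (hw : (sc w : GL (Fin 6) F) ∈ P) (hw1 : w ≠ 1) (hw3 : w ^ 3 = 1) {b x : P}
    (πb : C.π b = pb) (πx : C.π x = px) (hc : b * x = x * b) : False := by
  have hzπ : C.π ⟨sc w, hw⟩ = 1 := by
    rw [C.ker]
    exact sc_mem_scalars _
  have hform : ∀ s ∈ ((cen pb ⊓ cen px).comap C.π : Subgroup P), ∃ (z : P) (i j : ℕ), C.π z = 1 ∧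
      s = z * (b ^ i * x ^ j) := by
    intro s hs
    obtain ⟨i, j, hij⟩ := cen2_form _ (Subgroup.mem_comap.1 hs)
    refine ⟨s * (b ^ (i : ℕ) * x ^ (j : ℕ))⁻¹, i, j, ?_, by rw [inv_mul_cancel_right]⟩
    rw [map_mul, map_inv, map_mul, map_pow, map_pow, πb, πx, hij, mul_inv_cancel]
  have hcomm : ∀ s ∈ ((cen pb ⊓ cen px).comap C.π : Subgroup P), ∀ t ∈ ((cen pb ⊓ cen px).comap C.π : Subgroup P),
      s * t = t * s := by
    intro s hs t ht
    obtain ⟨z, i, j, hz, rfl⟩ := hform s hs
    obtain ⟨z', i', j', hz', rfl⟩ := hform t ht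
    have hbx : Commute b x := hc
    have h1 : Commute (b ^ i * x ^ j) (b ^ i' * x ^ j') :=
      ((Commute.pow_pow_self b i i').mul_right (hbx.pow_pow i j')).mul_left
        ((hbx.symm.pow_pow j i').mul_right (Commute.pow_pow_self x j j'))
    have h2 : ∀ g : P, Commute z g := cent' C hz
    have h3 : ∀ g : P, Commute z' g := cent' C hz'
    exact ((h2 _).mul_left ((h3 _).symm.mul_right h1))
  have hmem : (⟨sc w, hw⟩ : P) ∈ ((cen pb ⊓ cen px).comap C.π : Subgroup P) := by
    rw [Subgroup.mem_comap, hzπ]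
    exact one_mem _
  have h3 := pow_index_mem hC.commutator_top _ hcomm hmem (cent' C hzπ)
  have h5 : ((cen pb ⊓ cen px).comap C.π : Subgroup P).index = 40 := by
    rw [Subgroup.index_comap_of_surjective _ C.surj]
    have h6 := Subgroup.card_mul_index (cen pb ⊓ cen px)
    rw [card_cen2, card_A6] at h6
    omega
  rw [h5] at h3
  have h6 : w ^ 40 = 1 := by
    apply sc_inj (ι := Fin 6)
    rw [sc_pow, sc_one]
    exact congrArg (fun y : P => (y : GL (Fin 6) F)) h3
  apply hw1
  have h7 : w ^ 40 = (w ^ 3) ^ 13 * w := by rw [← pow_mul, ← pow_succ]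
  rw [h7, hw3, one_pow, one_mul] at h6
  exact h6

theorem invol_conj : ∀ τ : A6, τ * τ = 1 → τ ≠ 1 → ∃ γ : A6, γ * pi' * γ⁻¹ = τ := by (open scoped Cfsg.Agent.Lib.PermDec in decide +kernel)

/-- the core is a cover -/
theorem cov6 (hC : Core P) (hn : Nat.card ((scalars (Fin 6) F).subgroupOf P) = 6) (hm : (-1 : GL (Fin 6) F) ∈ P) :
    Cov6 C.π (⟨-1, hm⟩ : P) := by
  have h2 : (2 : F) ≠ 0 := (neg_mem (P := P) (by rw [hn]; norm_num)).2
  have hmπ : C.π ⟨-1, hm⟩ = 1 := by
    rw [C.ker]
    change (-1 : GL (Fin 6) F) ∈ _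
    rw [← sc_neg_one]
    exact sc_mem_scalars _
  have huniq : ∀ z, C.π z = 1 → z * z = 1 → z = 1 ∨ z = (⟨-1, hm⟩ : P) := by
    intro z hz hzz
    obtain ⟨c, hc⟩ := exists_sc' C hz
    have h3 : c * c = 1 := by
      apply sc_inj (ι := Fin 6)
      rw [H913.N6.sc_mul, sc_one, ← hc]
      exact congrArg (fun y : P => (y : GL (Fin 6) F)) hzz
    have h4 : (c - 1 : F) * (c + 1) = 0 := by
      have := congrArg (fun y : Fˣ => (y : F)) h3
      simp only [Units.val_mul, Units.val_one] at this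
      linear_combination this
    rcases mul_eq_zero.1 h4 with h | h
    · left
      have h5 : c = 1 := Units.ext (by rw [Units.val_one]; linear_combination h)
      exact Subtype.ext (by rw [hc, h5, sc_one]; rfl)
    · right
      have h5 : c = -1 := Units.ext (by rw [Units.val_neg, Units.val_one]; linear_combination h)
      exact Subtype.ext (by rw [hc, h5, sc_neg_one])
  have hsq0 : ∀ t, C.π t = pi' → t ^ 6 = (⟨-1, hm⟩ : P) := by
    intro t ht
    have h3 : C.π (t * t) = 1 := by rw [map_mul, ht]; exact pT_facts.2.2.2.2.2.2.2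
    have h4 : (t ^ 6) * (t ^ 6) = 1 := by
      rw [← pow6' C hC h3]
      simp only [← pow_two, ← pow_mul]
    have h5 : C.π (t ^ 6) = 1 := by
      rw [show t ^ 6 = (t * t) ^ 3 by simp only [← pow_two, ← pow_mul], map_pow, h3, one_pow]
    rcases huniq _ h5 h4 with h6 | h6
    · exfalso
      refine no_inv_lift C hC h2 hm fun τ hτ hτ1 => ?_
      obtain ⟨γ, rfl⟩ := invol_conj τ hτ hτ1
      obtain ⟨g, rfl⟩ := C.surj γ
      have hsq : pi' * pi' = 1 := pT_facts.2.2.2.2.2.2.2
      refine ⟨g * t ^ 3 * g⁻¹, ?_, ?_⟩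
      · rw [map_mul, map_mul, map_inv, map_pow, ht, pow_succ, pow_two, hsq, one_mul]
      · rw [← pow_two, conj_pow, ← pow_mul, h6, mul_one, mul_inv_cancel]
    · exact h6
  have hc := fun z (hz : C.π z = 1) => cent' C hz
  refine ⟨C.surj, hc, fun z hz => pow6' C hC hz, hmπ, ?_, ?_, huniq, ?_, ?_⟩
  · apply Subtype.ext
    change (-1 : GL (Fin 6) F) * -1 = 1
    rw [neg_mul_neg, one_mul]
  · intro h
    have h3 := congrArg (fun y : P => (y : GL (Fin 6) F)) h
    change (-1 : GL (Fin 6) F) = 1 at h3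
    rw [← sc_neg_one, ← sc_one] at h3
    have h4 := congrArg (fun y : Fˣ => (y : F)) (sc_inj h3)
    simp only [Units.val_neg, Units.val_one] at h4
    apply h2
    linear_combination -h4
  · intro t ht ht1
    obtain ⟨γ, hγ⟩ := invol_conj _ ht ht1
    obtain ⟨g, rfl⟩ := C.surj γ
    have h3 : C.π (g⁻¹ * t * g) = pi' := by
      rw [map_mul, map_mul, map_inv, ← hγ]
      group
    have h4 := hsq0 _ h3
    rw [show g⁻¹ * t * g = g⁻¹ * t * g⁻¹⁻¹ by rw [inv_inv], conj_pow, inv_inv, mul_assoc, inv_mul_eq_iff_eq_mul,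
      ← hc _ hmπ] at h4
    exact mul_right_cancel h4
  · intro x b πx πb hbx
    have : Fact (Nat.Prime 3) := ⟨by norm_num⟩
    obtain ⟨w, hw, hw1, hw3⟩ := exists_prime_scalar (P := P) (n := 3) (by rw [hn]; norm_num)
    exact no_comm_lift C hC hw hw1 hw3 πb πx hbx

end lift

end Cfsg.Agent.H830.A6
end

-- part: H830/A6/Rep
section
prune_inst 0x431007d44740002000818809081001c40a00000020048c800a0e0020007092042a0478861b230001210a00844600c004000100020420000000a000c0001190180108040041240010404008e000080000000000000000000000000000000010000000000000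
set_option linter.all false
open scoped Cfsg.Agent.FastGrp

-- part: H830/A6/Unit
section
/-!
# `6.A₆` in dimension six: the new element `G` (helper830)

`G` permutes the three tensor coordinates. `(X G)² = -1`, `G` commutes with `I`, `J`, and it is an isometry of every
nondegenerate sesquilinear form fixed by the generators.
-/

set_option autoImplicit false
set_option linter.unusedSectionVars false

open Module

namespace Cfsg.Agent.H830.A6

section mat

variable {F : Type*} [Field F]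

/-- the matrix of `G` -/
def MG : Matrix (Fin 6) (Fin 6) F :=
  !![0, 1, 0, 0, 0, 0; 0, 0, 1, 0, 0, 0; 1, 0, 0, 0, 0, 0; 0, 0, 0, 0, 1, 0; 0, 0, 0, 0, 0, 1; 0, 0, 0, 1, 0, 0]

theorem MG3 : (MG * MG * MG : Matrix (Fin 6) (Fin 6) F) = 1 := by
  ext i j
  (revert i j; simp only [MG, Matrix.mul_apply, Fin.sum_univ_six, _root_.Fin.forall_fin_succ, _root_.Matrix.cons_mul, _root_.Nat.succ_eq_add_one, Nat.reduceAdd, _root_.Matrix.vecMul_cons, _root_.Matrix.head_cons, _root_.zero_smul, _root_.Matrix.tail_cons, _root_.one_smul, _root_.Matrix.empty_vecMul, _root_.add_zero, _root_.zero_add, _root_.Matrix.empty_mul, _root_.Equiv.symm_apply_apply, _root_.Matrix.of_apply, _root_.Matrix.cons_val', _root_.Matrix.cons_val_fin_one, Fin.isValue, _root_.Matrix.cons_val_zero, _root_.Matrix.cons_val_one, _root_.Matrix.cons_val, _root_.MulZeroClass.mul_zero, _root_.mul_one, _root_.Matrix.cons_val_succ, _root_.IsEmpty.forall_iff, _root_.and_true, _root_.Matrix.one_apply_eq, _root_.Fin.succ_zero_eq_one,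 _root_.ne_eq, _root_.zero_ne_one, _root_.not_false_eq_true, _root_.Matrix.one_apply_ne, _root_.Fin.succ_one_eq_two, Fin.reduceEq, Fin.reduceSucc, _root_.and_self, _root_.Fin.succ_ne_zero, _root_.true_and])

theorem MG_I : (MG * MI : Matrix (Fin 6) (Fin 6) F) = MI * MG := by
  ext i j
  (revert i j; simp only [MG, MI, Matrix.mul_apply, Fin.sum_univ_six, _root_.Fin.forall_fin_succ, _root_.Matrix.of_apply, _root_.Matrix.cons_val', _root_.Matrix.cons_val_fin_one, Fin.isValue, _root_.Matrix.cons_val_zero, _root_.Matrix.cons_val_one, _root_.Matrix.cons_val, _root_.mul_neg, _root_.mul_one, _root_.MulZeroClass.mul_zero, _root_.add_zero, _root_.zero_add, _root_.Matrix.cons_val_succ, _root_.forall_const, _root_.neg_zero, _root_.MulZeroClass.zero_mul, _root_.one_mul, _root_.and_self, _root_.add_eq_right, _root_.neg_eq_zero, _root_.mul_eq_zero, _root_.true_or, _root_.and_self_left, _root_.implies_true])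

theorem MG_J (w : F) : (MG * MJ w : Matrix (Fin 6) (Fin 6) F) = MJ w * MG := by
  ext i j
  (revert i j; simp only [MG, MJ, Matrix.mul_apply, Fin.sum_univ_six, _root_.Fin.forall_fin_succ, _root_.Matrix.of_apply, _root_.Matrix.cons_val', _root_.Matrix.cons_val_fin_one, Fin.isValue, _root_.Matrix.cons_val_zero, _root_.Matrix.cons_val_one, _root_.Matrix.cons_val, _root_.mul_neg, _root_.mul_one, _root_.MulZeroClass.mul_zero, _root_.add_zero, _root_.zero_add, _root_.Matrix.cons_val_succ, _root_.forall_const, _root_.neg_zero, _root_.MulZeroClass.zero_mul, _root_.one_mul, _root_.and_self, _root_.add_eq_right, _root_.mul_eq_zero, _root_.true_or, _root_.implies_true])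

theorem det_MG : (MG : Matrix (Fin 6) (Fin 6) F).det = 1 := by
  have h1 : (MG : Matrix (Fin 6) (Fin 6) F) = (Equiv.Perm.permMatrix F (c[0, 1, 2] * c[3, 4, 5] : Equiv.Perm (Fin 6))) := by
    ext i j
    (revert i j; simp only [MG, Equiv.Perm.permMatrix, PEquiv.toMatrix_apply, Equiv.toPEquiv_apply, _root_.Fin.forall_fin_succ, _root_.Matrix.of_apply, _root_.Matrix.cons_val', _root_.Matrix.cons_val_fin_one, Fin.isValue, _root_.Equiv.Perm.coe_mul, _root_.Function.comp_apply, _root_.Option.mem_def, _root_.Option.some.injEq, _root_.Matrix.cons_val_zero, _root_.Matrix.cons_val_succ, _root_.Fin.succ_zero_eq_one, _root_.Fin.succ_one_eq_two, Fin.reduceSucc, _root_.IsEmpty.forall_iff, _root_.and_true, _root_.right_eq_ite_iff, _root_.zero_ne_one, _root_.imp_false, _root_.left_eq_ite_iff, _root_.one_ne_zero, _root_.Decidable.not_not]) <;> (repeat' with_reducible apply And.intro) <;> decide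
  rw [h1, Matrix.det_permutation]
  have : Equiv.Perm.sign (c[0, 1, 2] * c[3, 4, 5] : Equiv.Perm (Fin 6)) = 1 := by decide
  rw [this]; simp

theorem XG {w p z : F} (hw : w * w + w + 1 = 0) (hp : 6 * p * p = -1) (hz : 2 * z = 1) :
    MX w p z * MG * (MX w p z * MG) = -1 := by
  have hw3 : w * w * w = 1 := by linear_combination (w - 1) * hw
  have e : MX w p z * MG = !![-(2 * p), 0, 0, 0, -(2 * (w * w) * p), 0; 0, p, 0, 0, 0, w * w * (1 - 2 * p);
      0, 0, p, -(w * w * (1 + 2 * p)), 0, 0; 0, 0, z * w * (1 - 2 * p), -p, 0, 0; -(w * p), 0, 0, 0, 2 * p, 0;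
      0, -(z * w * (1 + 2 * p)), 0, 0, 0, -p] := by
    ext i j
    (revert i j; simp only [MG, MX, Matrix.mul_apply, Fin.sum_univ_six, _root_.Fin.forall_fin_succ, _root_.Matrix.of_apply, _root_.Matrix.cons_val', _root_.Matrix.cons_val_fin_one, Fin.isValue, _root_.Matrix.cons_val_zero, _root_.Matrix.cons_val_one, _root_.Matrix.cons_val, _root_.MulZeroClass.mul_zero, _root_.add_zero, _root_.mul_one, _root_.zero_add, _root_.Matrix.cons_val_succ, _root_.implies_true, _root_.and_self])
  rw [e]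
  have q1 : 2 * p * (2 * p) + 2 * (w * w) * p * (w * p) = -1 := by
    linear_combination hp + (2 * p ^ 2) * hw3
  have q2 : p * p + -(w * w * (1 - 2 * p) * (z * w * (1 + 2 * p))) = -1 := by
    linear_combination (-z * (1 - 4 * p ^ 2)) * hw3 + (-p ^ 2 - 1) * hz + z * hp
  ext i j
  (revert i j; simp only [Matrix.mul_apply, Fin.sum_univ_six, _root_.Fin.forall_fin_succ, _root_.Matrix.of_apply, _root_.Matrix.cons_val', _root_.Matrix.cons_val_fin_one, Fin.isValue, _root_.Matrix.cons_val_zero, _root_.Matrix.cons_val_one, _root_.Matrix.cons_val, _root_.Matrix.neg_apply, _root_.mul_neg, _root_.MulZeroClass.mul_zero, _root_.add_zero, _root_.Matrix.cons_val_succ, _root_.zero_add, _root_.IsEmpty.forall_iff, _root_.and_true, _root_.neg_mul, _root_.neg_neg, _root_.Matrix.one_apply_eq, _root_.MulZeroClass.zero_mul, _root_.neg_zero, Nat.reduceAdd, _root_.Fin.succ_zero_eq_one, _root_.ne_eq, _root_.zero_ne_one, _root_.not_false_eq_true, _root_.Matrix.one_apply_ne, _root_.Fin.succ_one_eq_two,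 Fin.reduceEq, Fin.reduceSucc, _root_.true_and, _root_.Fin.succ_ne_zero, _root_.and_self, _root_.zero_eq_neg]) <;> (repeat' with_reducible apply And.intro) <;> first
    | linear_combination q1
    | linear_combination q2
    | ring

end mat

section form

variable {F : Type*} [Field F] {V : Type*} [AddCommGroup V] [Module F V] {w : F} {I J K B D X : End F V}

/-- a nondegenerate sesquilinear form -/
structure Ses (σ : F →+* F) (f : V → V → F) : Prop where
  al : ∀ u u' v, f (u + u') v = f u v + f u' v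
  sl : ∀ (c : F) u v, f (c • u) v = c * f u v
  ar : ∀ u v v', f u (v + v') = f u v + f u v'
  sr : ∀ (c : F) u v, f u (c • v) = σ c * f u v
  nd : ∀ u, (∀ v, f u v = 0) → u = 0

variable {σ : F →+* F} {f : V → V → F}

theorem Ses.zl (h : Ses σ f) (v : V) : f 0 v = 0 := by
  have := h.sl 0 0 v
  rwa [zero_smul, zero_mul] at this

theorem Ses.zr (h : Ses σ f) (u : V) : f u 0 = 0 := by
  have := h.sr 0 u 0
  rwa [zero_smul, map_zero, zero_mul] at this

theorem Ses.nl (h : Ses σ f) (u v : V) : f (-u) v = -f u v := by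
  have := h.sl (-1) u v
  rwa [neg_one_smul, neg_one_mul] at this

theorem Ses.nr (h : Ses σ f) (u v : V) : f u (-v) = -f u v := by
  have := h.sr (-1) u v
  rwa [neg_one_smul, map_neg, map_one, neg_one_mul] at this

theorem Ses.suml (h : Ses σ f) {κ : Type*} (s : Finset κ) (g : κ → V) (v : V) : f (∑ i ∈ s, g i) v = ∑ i ∈ s, f (g i) v := by
  classical
  induction s using Finset.induction_on with
  | empty => rw [Finset.sum_empty, Finset.sum_empty, h.zl]
  | insert a s ha ih => rw [Finset.sum_insert ha, Finset.sum_insert ha, h.al, ih]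

theorem Ses.sumr (h : Ses σ f) {κ : Type*} (s : Finset κ) (g : κ → V) (u : V) : f u (∑ i ∈ s, g i) = ∑ i ∈ s, f u (g i) := by
  classical
  induction s using Finset.induction_on with
  | empty => rw [Finset.sum_empty, Finset.sum_empty, h.zr]
  | insert a s ha ih => rw [Finset.sum_insert ha, Finset.sum_insert ha, h.ar, ih]

/-- an isometry -/
def Iso (f : V → V → F) (T : End F V) : Prop := ∀ u v, f (T u) (T v) = f u v

theorem Ses.iso_of_basis (h : Ses σ f) (b : Basis (Fin 6) F V) {T : End F V}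
    (hT : ∀ i j, f (T (b i)) (T (b j)) = f (b i) (b j)) : Iso f T := by
  intro u v
  rw [← b.sum_repr u, ← b.sum_repr v, map_sum, map_sum, h.suml, h.suml]
  refine Finset.sum_congr rfl fun i _ => ?_
  rw [h.sumr, h.sumr]
  refine Finset.sum_congr rfl fun j _ => ?_
  rw [map_smul, map_smul, h.sl, h.sl, h.sr, h.sr, hT]

/-- skew-adjointness of `N` -/
theorem Ses.skew (h : Ses σ f) (hI : Iso f I) (hII : I * I = -1) (u v : V) : f (I u) v = -f u (I v) := by
  have h1 := hI (I u) v
  have h2 : I (I u) = -u := by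
    have : I (I u) = (I * I) u := rfl
    rw [this, hII]; rfl
  rw [h2, h.nl] at h1
  exact h1.symm

theorem mat_vec {T : End F V} (b : Basis (Fin 6) F V) {M : Matrix (Fin 6) (Fin 6) F}
    (h : LinearMap.toMatrixAlgEquiv b T = M) (j : Fin 6) : T (b j) = ∑ i, M i j • b i := by
  rw [← h]
  conv_lhs => rw [← b.sum_repr (T (b j))]
  refine Finset.sum_congr rfl fun i _ => ?_
  rw [LinearMap.toMatrixAlgEquiv_apply]

/-- **The key computation.** -/
theorem norms (h2 : (2 : F) ≠ 0) (h3 : (3 : F) ≠ 0) {p z ρ n0 n : F} (hn0 : n0 ≠ 0)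
    (hp : 6 * p * p = -1) (hz : 2 * z = 1) (hρ : ρ = p ∨ ρ = -p)
    (e1 : p * ρ * n + z * z * (1 - 2 * p) * (1 - 2 * ρ) * (2 * n0) = n)
    (e5 : (1 + 2 * p) * (1 + 2 * ρ) * n + p * ρ * (2 * n0) = 2 * n) : n0 = n := by
  rcases hρ with rfl | rfl
  · exfalso
    -- `n0 = (12 p - 5) n` and `7 n = (1 - 12 p) n0`
    have k1 : n0 = (12 * ρ - 5) * n := by linear_combination -3 * e5 + (2 * n + n0) * hp
    have k2 : 7 * n = (1 - 12 * ρ) * n0 := by
      linear_combination (-6) * e1 + (n + 2 * n0) * hp + 3 * (2 * z + 1) * (1 - 2 * ρ) * (1 - 2 * ρ) * n0 * hz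
    have hn : n ≠ 0 := by
      rintro rfl
      apply hn0
      rw [k1, mul_zero]
    have k3 : (6 * ρ + 1) * n = 0 := by
      have : (2 * 2 * 3 : F) * ((6 * ρ + 1) * n) = 0 := by
        rw [k1] at k2
        linear_combination -k2 + 24 * n * hp
      rcases mul_eq_zero.1 this with h | h
      · exact absurd h (mul_ne_zero (mul_ne_zero h2 h2) h3)
      · exact h
    have k4 : 6 * ρ = -1 := by
      rcases mul_eq_zero.1 k3 with h | h
      · linear_combination h
      · exact absurd h hn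
    have k5 : (7 : F) = 0 := by linear_combination 6 * hp - (6 * ρ - 1) * k4
    apply hn0
    rw [k1]
    linear_combination (2 * n) * k4 - n * k5
  · linear_combination 3 * e5 + (2 * n + n0) * hp

/-- **`G` is an isometry.** -/
theorem iso_G (hf : Ses σ f) (h : Rel w I J K B D X) (h2 : (2 : F) ≠ 0) (h3 : (3 : F) ≠ 0) {z p δ : F}
    (hz : 2 * z = 1) (hp : 6 * p * p = -1) {b : Basis (Fin 6) F V} (he : Eig w I J K B b)
    (mI : (2 * w + 1) • LinearMap.toMatrixAlgEquiv b I = MI)
    (mD : LinearMap.toMatrixAlgEquiv b D = MD w δ)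
    (mX : LinearMap.toMatrixAlgEquiv b X = MX w p z)
    (hσw : σ w = w * w) (hI : Iso f I) (hJ : Iso f J) (hK : Iso f K) (hB : Iso f B) (hD : Iso f D) (hX : Iso f X)
    {G : End F V} (mG : LinearMap.toMatrixAlgEquiv b G = MG) : Iso f G := by
  have hw := h.hw
  have hw3 := h.w3
  have hθ := h.th
  -- vectors
  have vI := mat_vec b ((map_smul (LinearMap.toMatrixAlgEquiv b) (2 * w + 1) I).trans mI)
  have vD := mat_vec b mD
  have vX := mat_vec b mX
  have vG := mat_vec b mG
  simp only [LinearMap.smul_apply, Fin.sum_univ_six] at vI vD vX vG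
  have I0 := vI 0
  have I1 := vI 1
  have I2 := vI 2
  have D0 := vD 0
  have D1 := vD 1
  have X1 := vX 1
  have X5 := vX 5
  have G0 := vG 0
  have G1 := vG 1
  have G2 := vG 2
  have G3 := vG 3
  have G4 := vG 4
  have G5 := vG 5
  simp only [MI, _root_.Fin.isValue, _root_.Cfsg.Agent.H830.A6.MI, _root_.Matrix.of_apply, _root_.Matrix.cons_val', _root_.Matrix.cons_val_zero, _root_.Matrix.cons_val_fin_one, _root_.neg_smul, _root_.one_smul, _root_.Matrix.cons_val_one, _root_.zero_smul, _root_.add_zero, _root_.Matrix.cons_val, _root_.zero_add] at I0 I1 I2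
  simp only [MD, _root_.Fin.isValue, _root_.Cfsg.Agent.H830.A6.MD, _root_.Matrix.of_apply, _root_.Matrix.cons_val', _root_.Matrix.cons_val_zero, _root_.Matrix.cons_val_fin_one, _root_.zero_smul, _root_.Matrix.cons_val_one, _root_.add_zero, _root_.Matrix.cons_val, _root_.zero_add] at D0 D1
  simp only [MX, _root_.Fin.isValue, _root_.Cfsg.Agent.H830.A6.MX, _root_.Matrix.of_apply, _root_.Matrix.cons_val', _root_.Matrix.cons_val_one, _root_.Matrix.cons_val_zero, _root_.Matrix.cons_val_fin_one, _root_.zero_smul, _root_.add_zero, _root_.Matrix.cons_val, _root_.zero_add, _root_.neg_smul] at X1 X5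
  simp only [MG, _root_.Fin.isValue, _root_.Cfsg.Agent.H830.A6.MG, _root_.Matrix.of_apply, _root_.Matrix.cons_val', _root_.Matrix.cons_val_zero, _root_.Matrix.cons_val_fin_one, _root_.zero_smul, _root_.Matrix.cons_val_one, _root_.add_zero, _root_.Matrix.cons_val, _root_.one_smul, _root_.zero_add] at G0 G1 G2 G3 G4 G5
  clear vI vD vX vG
  -- orthogonality
  have hN : ∀ u v, f ((I + J + K) u) v = -f u ((I + J + K) v) := by
    intro u v
    have e1 : (I + J + K) u = I u + J u + K u := rfl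
    have e2 : (I + J + K) v = I v + J v + K v := rfl
    rw [e1, e2, hf.al, hf.al, hf.ar, hf.ar, hf.skew hI h.II, hf.skew hJ h.JJ, hf.skew hK h.KK]
    ring
  have hσν : ∀ j, σ (nuv w j) = -nuv w j := by
    have hσθ : σ (2 * w + 1) = -(2 * w + 1) := by
      rw [map_add, map_mul, map_one, hσw, map_ofNat]
      linear_combination 2 * hw
    intro j
    fin_cases j
    · exact hσθ
    · exact hσθ
    · exact hσθ
    · change σ (-(2 * w + 1)) = -(-(2 * w + 1)); rw [map_neg, hσθ]
    · change σ (-(2 * w + 1)) = -(-(2 * w + 1)); rw [map_neg, hσθ]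
    · change σ (-(2 * w + 1)) = -(-(2 * w + 1)); rw [map_neg, hσθ]
  have hσl : ∀ j, σ (lav w j) * lav w j = 1 := by
    intro j
    fin_cases j
    · change σ (w * w) * (w * w) = 1
      rw [map_mul, hσw]
      linear_combination (w * w * w + 1) * hw3
    · change σ 1 * 1 = 1
      rw [map_one, mul_one]
    · change σ w * w = 1
      rw [hσw, hw3]
    · change σ w * w = 1
      rw [hσw, hw3]
    · change σ (w * w) * (w * w) = 1
      rw [map_mul, hσw]
      linear_combination (w * w * w + 1) * hw3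
    · change σ 1 * 1 = 1
      rw [map_one, mul_one]
  have horth : ∀ i j, i ≠ j → f (b i) (b j) = 0 := by
    intro i j hij
    have e1 := hN (b i) (b j)
    rw [he.N, he.N, hf.sl, hf.sr, hσν] at e1
    have e2 := hB (b i) (b j)
    rw [he.B, he.B, hf.sl, hf.sr] at e2
    have e3 : lav w i * f (b i) (b j) = lav w j * f (b i) (b j) := by
      linear_combination (lav w j) * e2 - (lav w i * f (b i) (b j)) * hσl j
    have e4 : (lav w i * nuv w i - lav w j * nuv w j) * f (b i) (b j) = 0 := by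
      linear_combination (lav w i) * e1 + (nuv w j) * e3
    rcases mul_eq_zero.1 e4 with h4 | h4
    · exact absurd (mu_inj hw h2 h3 (sub_eq_zero.1 h4)) hij
    · exact h4
  -- norms
  have half : ∀ u u' : V, (2 * w + 1) • I u = -u + u' → f u u' = 0 → f u' u = 0 → f u' u' = 2 * f u u := by
    intro u u' hu h0 h0'
    have e1 : f ((2 * w + 1) • I u) ((2 * w + 1) • I u) = 3 * f u u := by
      rw [hf.sl, hf.sr, hI]
      have : σ (2 * w + 1) = -(2 * w + 1) := hσν 0
      rw [this]
      linear_combination (-f u u) * hθ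
    rw [hu, hf.al, hf.ar, hf.ar, hf.nl, hf.nl, hf.nr, hf.nr, h0, h0'] at e1
    linear_combination e1
  have n3 : f (b 3) (b 3) = 2 * f (b 0) (b 0) :=
    half _ _ I0 (horth 0 3 (by decide)) (horth 3 0 (by decide))
  have n4 : f (b 4) (b 4) = 2 * f (b 1) (b 1) :=
    half _ _ I1 (horth 1 4 (by decide)) (horth 4 1 (by decide))
  have n5 : f (b 5) (b 5) = 2 * f (b 2) (b 2) :=
    half _ _ I2 (horth 2 5 (by decide)) (horth 5 2 (by decide))
  have hn0 : f (b 0) (b 0) ≠ 0 := by
    intro h0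
    refine he.ne 0 (hf.nd _ fun v => ?_)
    rw [← b.sum_repr v, hf.sumr]
    refine Finset.sum_eq_zero fun j _ => ?_
    rw [hf.sr]
    by_cases hj : j = 0
    · rw [hj, h0, mul_zero]
    · rw [horth 0 j (Ne.symm hj), mul_zero]
  have hδδ : 2 * δ * σ δ = 1 := by
    have e1 := hD (b 0) (b 0)
    rw [D0, hf.sl, hf.sr, n3] at e1
    have e2 : (2 * δ * σ δ - 1) * f (b 0) (b 0) = 0 := by linear_combination e1
    rcases mul_eq_zero.1 e2 with h4 | h4
    · linear_combination h4
    · exact absurd h4 hn0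
  have n1 : f (b 1) (b 1) = f (b 2) (b 2) := by
    have e1 := hD (b 1) (b 1)
    rw [D1, hf.sl, hf.sr, n5] at e1
    linear_combination -e1 + f (b 2) (b 2) * hδδ
  have hσz : σ z = z := by
    have e1 : (2 : F) * (σ z - z) = 0 := by
      have := congrArg σ hz
      rw [map_mul, map_ofNat, map_one] at this
      linear_combination this - hz
    rcases mul_eq_zero.1 e1 with h4 | h4
    · exact absurd h4 h2
    · linear_combination h4
  have hσp : σ p = p ∨ σ p = -p := by
    have e1 := congrArg σ hp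
    rw [map_mul, map_mul, map_ofNat, map_neg, map_one] at e1
    have e2 : (2 * 3 : F) * ((σ p - p) * (σ p + p)) = 0 := by linear_combination e1 - hp
    rcases mul_eq_zero.1 e2 with h4 | h4
    · exact absurd h4 (mul_ne_zero h2 h3)
    · rcases mul_eq_zero.1 h4 with h5 | h5
      · left; linear_combination h5
      · right; linear_combination h5
  have k1 : p * σ p * f (b 2) (b 2) + z * z * (1 - 2 * p) * (1 - 2 * σ p) * (2 * f (b 0) (b 0)) = f (b 2) (b 2) := by
    have e1 := hX (b 1) (b 1)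
    rw [X1, hf.al, hf.ar, hf.ar, hf.sl, hf.sl, hf.sl, hf.sl, hf.sr, hf.sr, hf.sr, hf.sr, horth 2 3 (by decide),
      horth 3 2 (by decide), n3, n1] at e1
    simp only [map_mul, map_sub, map_one, map_ofNat, hσz, hσw, mul_zero, add_zero, zero_add] at e1
    linear_combination e1 - (z * z * (1 - 2 * p) * (1 - 2 * σ p) * (2 * f (b 0) (b 0))) * hw3
  have k5 : (1 + 2 * p) * (1 + 2 * σ p) * f (b 2) (b 2) + p * σ p * (2 * f (b 0) (b 0)) = 2 * f (b 2) (b 2) := by
    have e1 := hX (b 5) (b 5)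
    rw [X5, hf.al, hf.ar, hf.ar, hf.nl, hf.nl, hf.nl, hf.nl, hf.nr, hf.nr, hf.nr, hf.nr, hf.sl, hf.sl, hf.sl, hf.sl,
      hf.sr, hf.sr, hf.sr, hf.sr, horth 2 3 (by decide),
      horth 3 2 (by decide), n3, n5] at e1
    simp only [map_mul, map_add, map_one, map_ofNat, hσw, mul_zero, add_zero, zero_add, neg_neg, neg_zero] at e1
    linear_combination e1 - ((1 + 2 * p) * (1 + 2 * σ p) * f (b 2) (b 2) * (w * w * w + 1)) * hw3
  have n0 := norms h2 h3 hn0 hp hz hσp k1 k5
  -- the conclusion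
  have hG : ∀ i, G (b i) = b ((![2, 0, 1, 5, 3, 4] : Fin 6 → Fin 6) i) := by
    intro i
    fin_cases i
    · exact G0
    · exact G1
    · exact G2
    · exact G3
    · exact G4
    · exact G5
  have hinj : Function.Injective (![2, 0, 1, 5, 3, 4] : Fin 6 → Fin 6) := by decide
  have hnorm : ∀ i, f (b ((![2, 0, 1, 5, 3, 4] : Fin 6 → Fin 6) i)) (b ((![2, 0, 1, 5, 3, 4] : Fin 6 → Fin 6) i)) =
      f (b i) (b i) := by
    intro i
    fin_cases i
    · exact n0.symm
    · exact n0.trans n1.symm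
    · exact n1
    · exact (n5.trans (by rw [n0])).trans n3.symm
    · exact (n3.trans (by rw [n0, n1])).trans n4.symm
    · exact (n4.trans (by rw [n1])).trans n5.symm
  refine hf.iso_of_basis b fun i j => ?_
  rw [hG, hG]
  by_cases hij : i = j
  · rw [hij]; exact hnorm j
  · rw [horth i j hij, horth _ _ fun h => hij (hinj h)]

end form

end Cfsg.Agent.H830.A6
end

-- part: H830/A6/Rep
section
/-!
# `6.A₆` in dimension six: the new element as a matrix (helper830)
-/

set_option autoImplicit false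
set_option linter.unusedSectionVars false
set_option linter.dupNamespace false

open Equiv Equiv.Perm Module

namespace Cfsg.Agent.H830.A6

open Cfsg Cfsg.Geo Matrix Cfsg.Agent.H915.LD Cfsg.Agent.H913.N6

universe u

variable {F : Type u} [Field F] {P : Subgroup (GL (Fin 6) F)}

/-- the action as an endomorphism -/
noncomputable def rho (x : GL (Fin 6) F) : End F (Fin 6 → F) :=
  Matrix.toLinAlgEquiv' (x : Matrix (Fin 6) (Fin 6) F)

theorem rho_mul (x y : GL (Fin 6) F) : rho (x * y) = rho x * rho y := by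
  unfold rho
  rw [Units.val_mul, map_mul]

theorem rho_one : rho (1 : GL (Fin 6) F) = 1 := by
  unfold rho
  rw [Units.val_one, map_one]

theorem rho_neg (x : GL (Fin 6) F) : rho (-x) = -rho x := by
  unfold rho
  rw [Units.val_neg, map_neg]

theorem rho_sc (c : Fˣ) : rho (sc c : GL (Fin 6) F) = (c : F) • 1 := by
  unfold rho
  rw [coe_sc, map_smul, map_one]

theorem rho_inj {x y : GL (Fin 6) F} (h : rho x = rho y) : x = y :=
  Units.ext (Matrix.toLinAlgEquiv'.injective h)

theorem rho_apply (x : GL (Fin 6) F) (v : Fin 6 → F) : rho x v = (x : Matrix (Fin 6) (Fin 6) F) *ᵥ v := by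
  unfold rho
  rw [Matrix.toLinAlgEquiv'_apply]

theorem rel_of_lft {π : P →* A6} {m z i j k b d x : P} (h : Cov6.Lft π m z i j k b d x) (hm : (m : GL (Fin 6) F) = -1)
    {w : Fˣ} (hz : (z : GL (Fin 6) F) = sc w) :
    Rel (w : F) (rho (i : GL (Fin 6) F)) (rho (j : GL (Fin 6) F)) (rho (k : GL (Fin 6) F)) (rho (b : GL (Fin 6) F))
      (rho (d : GL (Fin 6) F)) (rho (x : GL (Fin 6) F)) := by
  have rm : ∀ {s t : P}, s = t → rho (s : GL (Fin 6) F) = rho (t : GL (Fin 6) F) := fun hst => by rw [hst]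
  have r1 : rho ((1 : P) : GL (Fin 6) F) = 1 := rho_one
  have rmm : rho (m : GL (Fin 6) F) = -1 := by rw [hm, rho_neg, rho_one]
  have hw1 : w ≠ 1 := by
    rintro rfl
    apply h.z1
    apply Subtype.ext
    rw [hz, sc_one, Subgroup.coe_one]
  have hw3 : w * w * w = 1 := by
    apply sc_inj (ι := Fin 6)
    rw [H913.N6.sc_mul, H913.N6.sc_mul, ← hz, sc_one]
    exact congrArg (fun y : P => (y : GL (Fin 6) F)) h.z3
  refine ⟨?_, ?_, ?_, ?_, ?_, ?_, ?_, ?_, ?_, ?_, ?_, ?_, ?_, ?_, ?_⟩
  · have h3 : ((w : F) - 1) * ((w : F) * w + w + 1) = 0 := by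
      have := congrArg (fun y : Fˣ => (y : F)) hw3
      simp only [Units.val_mul, Units.val_one] at this
      linear_combination this
    rcases mul_eq_zero.1 h3 with h4 | h4
    · exact absurd (Units.ext (by rw [Units.val_one]; linear_combination h4)) hw1
    · exact h4
  · rw [← rmm, ← rho_mul]; exact (rm h.ii :)
  · rw [← rmm, ← rho_mul]; exact (rm h.jj :)
  · rw [← rho_mul]; exact (rm h.ij :)
  · rw [← neg_one_mul (rho (k : GL (Fin 6) F)), ← rmm, ← rho_mul, ← rho_mul]; exact (rm h.ji :)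
  · rw [← rho_mul, ← rho_mul]; exact (rm h.bi :)
  · rw [← rho_mul, ← rho_mul]; exact (rm h.bj :)
  · rw [← r1, ← rho_mul, ← rho_mul]; exact (rm h.bbb :)
  · rw [← r1, ← rho_mul, ← rho_mul]; exact (rm h.xxx :)
  · rw [← rho_mul, ← rho_mul, ← one_mul (rho ((x : GL (Fin 6) F) * (b : GL (Fin 6) F))), ← smul_mul_assoc, ← rho_sc,
      ← hz, ← rho_mul]
    exact (rm h.bx :)
  · rw [← rmm, ← rho_mul]; exact (rm h.dd :)
  · rw [← rho_mul, ← neg_one_mul (rho (j : GL (Fin 6) F) * _), ← rmm, ← rho_mul, ← rho_mul]; exact (rm h.di :)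
  · simp only [← rho_mul]; exact (rm h.db :)
  · simp only [← rho_mul]; exact (rm h.dx :)
  · rw [← rmm]; simp only [← rho_mul]; exact (rm h.xk :)

theorem three_ne {w : F} (hw : w * w + w + 1 = 0) (hw1 : w ≠ 1) : (3 : F) ≠ 0 := by
  intro h3
  have h : (w - 1) * (w - 1) = 0 := by linear_combination hw - w * h3
  rcases mul_self_eq_zero.1 h with h4
  exact hw1 (by linear_combination h4)

/-- the Hermitian form is sesquilinear -/
theorem ses_herm {q : ℕ} {σ : F →+* F} (hσ : ∀ x, σ x = x ^ q) : Ses σ (hermForm 6 F q) := by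
  unfold hermForm
  refine ⟨?_, ?_, ?_, ?_, ?_⟩
  · intro u u' v
    rw [← Finset.sum_add_distrib]
    exact Finset.sum_congr rfl fun i _ => by rw [Pi.add_apply, add_mul]
  · intro c u v
    rw [Finset.mul_sum]
    exact Finset.sum_congr rfl fun i _ => by rw [Pi.smul_apply, smul_eq_mul, mul_assoc]
  · intro u v v'
    rw [← Finset.sum_add_distrib]
    exact Finset.sum_congr rfl fun i _ => by rw [Pi.add_apply, ← hσ, map_add, hσ, hσ, mul_add]
  · intro c u v
    rw [Finset.mul_sum]
    exact Finset.sum_congr rfl fun i _ => by rw [Pi.smul_apply, smul_eq_mul, hσ c, mul_pow]; ring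
  · intro u hu
    funext i
    have := hu (Pi.single i 1)
    rw [Finset.sum_eq_single i] at this
    · rw [Pi.single_eq_same, one_pow, mul_one] at this
      exact this
    · intro k _ hk
      rw [Pi.single_eq_of_ne hk, ← hσ, map_zero, mul_zero]
    · intro h; exact absurd (Finset.mem_univ i) h

theorem exists_sigma [Fintype F] {q : ℕ} (hF : Fintype.card F = q ^ 2) : ∃ σ : F →+* F, ∀ x, σ x = x ^ q := by
  obtain ⟨p, hp⟩ := CharP.exists F
  obtain ⟨n, hpp, hn⟩ := FiniteField.card F p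
  have : Fact p.Prime := ⟨hpp⟩
  have h1 : q ∣ p ^ (n : ℕ) := by
    rw [← hn, hF, pow_two]
    exact dvd_mul_right q q
  obtain ⟨k, _, rfl⟩ := (Nat.dvd_prime_pow hpp).1 h1
  exact ⟨iterateFrobenius F p k, fun x => iterateFrobenius_def p k x⟩

theorem iso_iff {q : ℕ} {x : GL (Fin 6) F} : Iso (hermForm 6 F q) (rho x) ↔ x ∈ GU 6 F q := by
  constructor
  · intro h u v
    have := h u v
    rw [rho_apply, rho_apply] at this
    exact this
  · intro h u v
    rw [rho_apply, rho_apply]
    exact h u v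

/-- **The new element.** -/
theorem exists_g [Finite F] (hC : Core P) (hn : Nat.card ((scalars (Fin 6) F).subgroupOf P) = 6) (C : Cov P A6) :
    ∃ (m z i j k b d x : P) (w : Fˣ) (g : GL (Fin 6) F), Cov6 C.π m ∧ Cov6.Lft C.π m z i j k b d x ∧
      (m : GL (Fin 6) F) = -1 ∧ (z : GL (Fin 6) F) = sc w ∧ ((w : F) * w + w + 1 = 0) ∧
      (2 : F) ≠ 0 ∧ (3 : F) ≠ 0 ∧
      g * g * g = 1 ∧ g * i = i * g ∧ g * j = j * g ∧ (x * g) * (x * g) = -1 ∧
      Matrix.GeneralLinearGroup.det g = 1 ∧ g ∉ scalars (Fin 6) F ∧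
      (∀ q : ℕ, Nat.card F = q ^ 2 → P ≤ GU 6 F q → g ∈ GU 6 F q) := by
  obtain ⟨hm, h2⟩ := neg_mem (P := P) (by rw [hn]; norm_num)
  have h6 := cov6 C hC hn hm
  obtain ⟨z, i, j, k, b, d, x, hL⟩ := h6.exists_lft
  obtain ⟨w, hz⟩ := exists_sc' C hL.πz
  have hR := rel_of_lft hL rfl hz
  have hw1 : (w : F) ≠ 1 := by
    intro h
    have hw1 : w = 1 := Units.ext h
    apply hL.z1
    apply Subtype.ext
    rw [hz, hw1, sc_one, Subgroup.coe_one]
  have h3 := three_ne hR.hw hw1
  have hhalf : 2 * (2⁻¹ : F) = 1 := mul_inv_cancel₀ h2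
  obtain ⟨bs, p, δ, he, hp, hδ, mI, mJ, mK, mB, mD, mX⟩ := normal_form hR h2 h3 (by simp) hhalf
  -- the matrix
  obtain ⟨G, hG⟩ : ∃ G : End F (Fin 6 → F), LinearMap.toMatrixAlgEquiv bs G = MG :=
    ⟨(LinearMap.toMatrixAlgEquiv bs).symm MG, (LinearMap.toMatrixAlgEquiv bs).apply_symm_apply MG⟩
  have hinj : Function.Injective (LinearMap.toMatrixAlgEquiv bs) := (LinearMap.toMatrixAlgEquiv bs).injective
  have G3 : G * G * G = 1 := by
    apply hinj
    rw [map_mul, map_mul, hG, MG3, map_one]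
  obtain ⟨M, hM⟩ : ∃ M : Matrix (Fin 6) (Fin 6) F, Matrix.toLinAlgEquiv' M = G :=
    ⟨_, Matrix.toLinAlgEquiv'.apply_symm_apply G⟩
  have M3 : M * M * M = 1 := by
    apply Matrix.toLinAlgEquiv'.injective
    rw [map_mul, map_mul, hM, G3, map_one]
  let g : GL (Fin 6) F := ⟨M, M * M, by rw [← mul_assoc, M3], M3⟩
  have hg : rho g = G := hM
  have hth : (2 * (w : F) + 1) ≠ 0 := by
    intro h
    apply h3
    have := hR.th
    rw [h] at this
    linear_combination this
  have comm : ∀ (T : End F (Fin 6 → F)) (N : Matrix (Fin 6) (Fin 6) F),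
      (2 * (w : F) + 1) • LinearMap.toMatrixAlgEquiv bs T = N → MG * N = N * MG → G * T = T * G := by
    intro T N hT hN
    apply hinj
    rw [map_mul, map_mul, hG]
    have h4 : (2 * (w : F) + 1) • (MG * LinearMap.toMatrixAlgEquiv bs T) =
        (2 * (w : F) + 1) • (LinearMap.toMatrixAlgEquiv bs T * MG) := by
      rw [← Matrix.mul_smul, ← Matrix.smul_mul, hT, hN]
    exact smul_right_injective _ hth h4
  refine ⟨⟨-1, hm⟩, z, i, j, k, b, d, x, w, g, h6, hL, rfl, hz, hR.hw, h2, h3, ?_, ?_, ?_, ?_, ?_, ?_, ?_⟩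
  · apply rho_inj
    rw [rho_mul, rho_mul, hg, G3, rho_one]
  · apply rho_inj
    rw [rho_mul, rho_mul, hg]
    exact comm _ _ mI MG_I
  · apply rho_inj
    rw [rho_mul, rho_mul, hg]
    exact comm _ _ mJ (MG_J _)
  · apply rho_inj
    rw [rho_mul, rho_mul, hg, rho_neg, rho_one]
    apply hinj
    rw [map_mul, map_mul, mX, hG, XG hR.hw hp hhalf, map_neg, map_one]
  · apply Units.ext
    rw [Units.val_one, Matrix.GeneralLinearGroup.val_det_apply, show (g : Matrix (Fin 6) (Fin 6) F) = M from rfl]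
    have h4 : LinearMap.toMatrixAlgEquiv' G = M := by
      rw [← hM]; exact Matrix.toLinAlgEquiv'.symm_apply_apply M
    rw [← h4, show LinearMap.toMatrixAlgEquiv' G = LinearMap.toMatrix' G from rfl, LinearMap.det_toMatrix',
      ← LinearMap.det_toMatrix bs]
    exact (congrArg Matrix.det hG).trans det_MG
  · intro hs
    obtain ⟨c, hc⟩ := mem_scalars.1 hs
    have h4 : G = (c : F) • 1 := by rw [← hg, hc, rho_sc]
    rw [h4, map_smul, map_one] at hG
    have h5 := congrFun (congrFun hG 0) 1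
    simp [MG] at h5
  · intro q hq hU
    have : Fintype F := Fintype.ofFinite F
    rw [Nat.card_eq_fintype_card] at hq
    obtain ⟨σ, hσ⟩ := exists_sigma hq
    rw [← iso_iff, hg]
    have hf := ses_herm hσ
    have hI : ∀ y : P, Iso (hermForm 6 F q) (rho (y : GL (Fin 6) F)) := fun y => iso_iff.2 (hU y.2)
    refine iso_G hf hR h2 h3 hhalf hp he mI mD mX ?_ (hI i) (hI j) (hI k) (hI b) (hI d) (hI x) hG
    -- `σ w = w²`
    have h4 := hI z
    rw [hz, rho_sc] at h4
    have h5 := h4 (Pi.single 0 1) (Pi.single 0 1)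
    have h6 : hermForm 6 F q (Pi.single 0 1) (Pi.single 0 1) = 1 := by
      unfold hermForm
      rw [Finset.sum_eq_single 0]
      · simp
      · intro k _ hk
        rw [Pi.single_eq_of_ne hk, zero_mul]
      · intro h; exact absurd (Finset.mem_univ _) h
    rw [LinearMap.smul_apply, Module.End.one_apply, hf.sl, hf.sr, h6, mul_one] at h5
    have h7 : (w : F) * w * w = 1 := hR.w3
    linear_combination ((w : F) * w) * h5 - σ w * h7
end Cfsg.Agent.H830.A6
end

private theorem dce_805993472b96 : _root_.True := by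
  try have : _root_.True := by simp only [_root_.Cfsg.Agent.H830.A6.MX.eq_1]
  try have : _root_.True := by simp only [_root_.Cfsg.Agent.H830.A6.MG.eq_1]
  exact _root_.True.intro
end

-- part: H918/Six/Asm_mg
section
prune_inst 0x5403444004002000000858011203c00cc0001b000288801c0400a400600210209800960b48010060228a2052005004000000060400000000000040001190080808a02061040a000040009000080000000000000000000000000000000010004000000000
set_option linter.all false
open scoped Cfsg.Agent.FastGrp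

-- part: H918/Six/Asm
section
/-!
# Dimension six: assembly of the rows S5800 (`SL_6`) and S5803 (`SU_6`) (helper918)

`Out6 p P` : the list of the cores of degree six with the stage-1 facts; `Kills H P` : the non-maximality statements;
`sl6_concl`, `su6_concl` : the conclusions of the two rows.
-/

set_option autoImplicit false

namespace Cfsg.Agent.H918.Six

open Cfsg Cfsg.Geo Matrix Cfsg.Agent.H915.LD

universe u

variable {F : Type u} [Field F] [Fintype F]

/-- `PSL_3(4)` -/
def IsL34 (T : Type u) [Group T] : Prop :=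
  ∃ (K : Type) (_ : Field K) (_ : Fintype K), Fintype.card K = 4 ∧
    Nonempty (T ≃* Matrix.ProjectiveSpecialLinearGroup (Fin 3) K)

/-- `PSU_4(3)` -/
def IsU43 (T : Type u) [Group T] : Prop :=
  ∃ (K : Type) (_ : Field K) (_ : Fintype K), Fintype.card K = 9 ∧ Nonempty (T ≃* Cfsg.PSU 4 K 3)

/-- number of scalars in `P` -/
noncomputable abbrev nsc (P : Subgroup (GL (Fin 6) F)) : ℕ := Nat.card ((scalars (Fin 6) F).subgroupOf P)

/-- The cores of degree six. -/
def Out6 (p : ℕ) (P : Subgroup (GL (Fin 6) F)) : Prop :=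
  SD P ∨
  (Nonempty (Soc P ≃* ProjectiveSpecialLinearGroup (Fin 2) (ZMod 11)) ∧ p ≠ 2 ∧ p ≠ 11 ∧
    (IsSquare (p : ZMod 11) → Fr P p) ∧ (¬ IsSquare (p : ZMod 11) → Cj P p)) ∨
  (Nonempty (Soc P ≃* alternatingGroup (Fin 6)) ∧ 3 ∣ nsc P) ∨
  (Nonempty (Soc P ≃* alternatingGroup (Fin 7)) ∧ nsc P = 3) ∨
  (Nonempty (Soc P ≃* alternatingGroup (Fin 7)) ∧ nsc P = 6 ∧ p ≠ 2 ∧ p ≠ 3 ∧ Fr P (p ^ 2) ∧
    (p % 24 = 1 ∨ p % 24 = 7 → Fr P p) ∧ (p % 24 = 17 ∨ p % 24 = 23 → Cj P p) ∧
    ∃ g ∈ P, tr g ^ 2 = 2 ∧ tr g⁻¹ = tr g) ∨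
  (IsL34 (Soc P) ∧ nsc P = 6 ∧ p ≠ 2 ∧ p ≠ 3 ∧ (p % 3 = 1 → Fr P p) ∧ (p % 3 = 2 → Cj P p)) ∨
  (Cfsg.Spor.IsoM12 (Soc P) ∧ p = 3 ∧ Fr P 3) ∨
  (Cfsg.Spor.IsoM22 (Soc P) ∧ p = 2 ∧ Cj P 2) ∨
  (IsU43 (Soc P) ∧ p ≠ 3 ∧ (p % 3 = 1 → Fr P p) ∧ (p % 3 = 2 → Cj P p)) ∨
  (p ≠ 2 ∧ (∀ k, ¬ Cj P (p ^ k)) ∧ ∃ (K : Type) (_ : Field K) (_ : Fintype K), Fintype.card K = Fintype.card F ∧
    Nonempty (Soc P ≃* ProjectiveSpecialLinearGroup (Fin 3) K)) ∨
  (p ≠ 2 ∧ ∃ (K : Type) (_ : Field K) (_ : Fintype K) (k : ℕ), Fintype.card K = (p ^ k) ^ 2 ∧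
    Fintype.card F = (p ^ k) ^ 2 ∧ Cj P (p ^ k) ∧ Nonempty (Soc P ≃* PSU 3 K (p ^ k))) ∨
  P = specialLinear (Fin 6) F ∨
  (∃ (K : Type) (_ : Field K) (_ : Fintype K) (k : ℕ), Fintype.card K = (p ^ k) ^ 2 ∧ Cj P (p ^ k) ∧
    Nonempty (Soc P ≃* PSU 6 K (p ^ k)))

/-- a cube root of unity from three scalars -/
theorem exists_omega {P : Subgroup (GL (Fin 6) F)} (h : 3 ∣ nsc P) : ∃ w : F, w ^ 3 = 1 ∧ w ≠ 1 := by
  have : Fact (Nat.Prime 3) := ⟨by norm_num⟩
  obtain ⟨z, hz⟩ := exists_prime_orderOf_dvd_card' (G := (scalars (Fin 6) F).subgroupOf P) 3 h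
  have h1 := z.2
  rw [Subgroup.mem_subgroupOf, mem_scalars_iff] at h1
  obtain ⟨c, hc⟩ := h1
  refine ⟨(c : F), ?_, ?_⟩
  · have h2 : z ^ 3 = 1 := by rw [← hz, pow_orderOf_eq_one]
    have h3 : ((((z ^ 3 : (scalars (Fin 6) F).subgroupOf P) : P) : GL (Fin 6) F) : Matrix (Fin 6) (Fin 6) F) = 1 := by
      rw [h2]; rfl
    have h4 : ((c : F) ^ 3) • (1 : Matrix (Fin 6) (Fin 6) F) = 1 := by
      rw [Subgroup.coe_pow, Subgroup.coe_pow, Units.val_pow_eq_pow_val, hc, smul_pow, one_pow] at h3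
      exact h3
    have h5 := congrFun (congrFun h4 0) 0
    rwa [Matrix.smul_apply, Matrix.one_apply_eq, smul_eq_mul, mul_one] at h5
  · intro h2
    have h3 : z = 1 := by
      apply Subtype.ext
      apply Subtype.ext
      apply Units.ext
      rw [hc]
      change (c : F) • (1 : Matrix (Fin 6) (Fin 6) F) = 1
      rw [h2, one_smul]
    rw [h3, orderOf_one] at hz
    omega

/-- a cube root of unity in the prime field -/
theorem mod_three_of_omega {p : ℕ} [hp : Fact p.Prime] (hF : Fintype.card F = p) {w : F} (h3 : w ^ 3 = 1)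
    (h1 : w ≠ 1) : p % 3 = 1 := by
  have hw0 : w ≠ 0 := by rintro rfl; simp at h3
  have h4 : w ^ (Fintype.card F - 1) = 1 := FiniteField.pow_card_sub_one_eq_one w hw0
  rw [hF] at h4
  have hord : orderOf w = 3 := by
    have h5 : orderOf w ∣ 3 := orderOf_dvd_of_pow_eq_one h3
    rcases (Nat.dvd_prime Nat.prime_three).1 h5 with h | h
    · exact absurd (orderOf_eq_one_iff.1 h) h1
    · exact h
  have h5 : 3 ∣ p - 1 := by rw [← hord]; exact orderOf_dvd_of_pow_eq_one h4
  have := hp.out.two_le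
  omega

omit [Fintype F] in
theorem mod_eight_of_sqrt_two {p : ℕ} [hp : Fact p.Prime] [CharP F p] (hp2 : p ≠ 2) {s : F} (hs : s ^ 2 = 2)
    (hsp : s ^ p = s) : p % 8 = 1 ∨ p % 8 = 7 := by
  -- `s` lies in the prime field
  have h2 : (2 : F) ≠ 0 := by
    intro h
    have h1 : ((2 : ℕ) : F) = 0 := by exact_mod_cast h
    rw [CharP.cast_eq_zero_iff F p] at h1
    exact hp2 ((Nat.prime_dvd_prime_iff_eq hp.out Nat.prime_two).1 h1)
  have h3 : s ≠ 0 := by
    rintro rfl
    apply h2
    rw [← hs]; simp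
  have hodd : p % 2 = 1 := by
    rcases hp.out.eq_two_or_odd with h | h
    · exact absurd h hp2
    · exact h
  have h4 : (2 : F) ^ (p / 2) = 1 := by
    rw [← hs, ← pow_mul]
    have h5 : s ^ p = s ^ (2 * (p / 2)) * s := by
      rw [← pow_succ]
      congr 1
      omega
    rw [h5] at hsp
    have h6 : s ^ (2 * (p / 2)) * s = 1 * s := by rw [hsp, one_mul]
    exact mul_right_cancel₀ h3 h6
  have h5 : (2 : ZMod p) ^ (p / 2) = 1 := by
    have hinj : Function.Injective (ZMod.castHom (dvd_refl p) F) := RingHom.injective _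
    apply hinj
    rw [map_pow, map_one, map_ofNat, h4]
  have h20 : (2 : ZMod p) ≠ 0 := by
    intro h
    have h1 : ((2 : ℕ) : ZMod p) = 0 := by exact_mod_cast h
    rw [ZMod.natCast_eq_zero_iff] at h1
    exact hp2 ((Nat.prime_dvd_prime_iff_eq hp.out Nat.prime_two).1 h1)
  have h6 : IsSquare (2 : ZMod p) := (ZMod.euler_criterion p h20).2 h5
  exact (ZMod.exists_sq_eq_two_iff hp2).1 h6

theorem square_eleven {p : ℕ} (h : IsSquare (p : ZMod 11)) (h11 : p % 11 ≠ 0) :
    p % 11 = 1 ∨ p % 11 = 3 ∨ p % 11 = 4 ∨ p % 11 = 5 ∨ p % 11 = 9 := by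
  have key : ∀ a : ZMod 11, IsSquare a → a = 0 ∨ a = 1 ∨ a = 3 ∨ a = 4 ∨ a = 5 ∨ a = 9 := by
    rintro _ ⟨b, rfl⟩
    revert b
    decide
  have h1 := key _ h
  have h2 : ∀ m : ℕ, (p : ZMod 11) = ((m : ℕ) : ZMod 11) → p % 11 = m % 11 := fun m hm =>
    (ZMod.natCast_eq_natCast_iff' p m 11).1 hm
  rcases h1 with h | h | h | h | h | h
  · exact absurd (h2 0 (by rw [h]; rfl)) h11
  · left; exact h2 1 (by rw [h]; rfl)
  · right; left; exact h2 3 (by rw [h]; rfl)
  · right; right; left; exact h2 4 (by rw [h]; rfl)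
  · right; right; right; left; exact h2 5 (by rw [h]; rfl)
  · right; right; right; right; exact h2 9 (by rw [h]; rfl)

theorem nonsquare_eleven {p : ℕ} (h : ¬ IsSquare (p : ZMod 11)) :
    p % 11 = 2 ∨ p % 11 = 6 ∨ p % 11 = 7 ∨ p % 11 = 8 ∨ p % 11 = 10 := by
  have key : ∀ a : ZMod 11, ¬ IsSquare a → a = 2 ∨ a = 6 ∨ a = 7 ∨ a = 8 ∨ a = 10 := by
    intro a ha
    by_contra hcon
    apply ha
    revert a
    decide +kernel
  have h1 := key _ h
  have h2 : ∀ m : ℕ, (p : ZMod 11) = ((m : ℕ) : ZMod 11) → p % 11 = m % 11 := fun m hm =>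
    (ZMod.natCast_eq_natCast_iff' p m 11).1 hm
  rcases h1 with h | h | h | h | h
  · left; exact h2 2 (by rw [h]; rfl)
  · right; left; exact h2 6 (by rw [h]; rfl)
  · right; right; left; exact h2 7 (by rw [h]; rfl)
  · right; right; right; left; exact h2 8 (by rw [h]; rfl)
  · right; right; right; right; exact h2 10 (by rw [h]; rfl)

/-- **The linear row.** -/
theorem sl6_concl {p : ℕ} [hp : Fact p.Prime] [CharP F p] {H P : Subgroup (GL (Fin 6) F)}
    (hmax : IsMaximalIn (specialLinear (Fin 6) F) H) (hPH : P ≤ H) (hC : Core P) (hsd : ¬ SD P)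
    (hcj : ∀ k, ¬ Cj P (p ^ k)) (hout : Out6 p P)
    (k11 : p = 3 → Fintype.card F = 3 → Nonempty (Soc P ≃* ProjectiveSpecialLinearGroup (Fin 2) (ZMod 11)) → False)
    (k6 : Nonempty (Soc P ≃* alternatingGroup (Fin 6)) → 3 ∣ nsc P → False)
    (k7 : Nonempty (Soc P ≃* alternatingGroup (Fin 7)) → nsc P = 3 → False)
    (k34 : IsL34 (Soc P) → nsc P = 6 → Fintype.card F = p → p % 3 = 1 → p % 8 = 1 ∨ p % 8 = 3) :
    ((Nonempty (Soc P ≃* ProjectiveSpecialLinearGroup (Fin 2) (ZMod 11)) ∧ Fintype.card F = p ∧ p ≠ 3 ∧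
        (p % 11 = 1 ∨ p % 11 = 3 ∨ p % 11 = 4 ∨ p % 11 = 5 ∨ p % 11 = 9)) ∨
     (Nonempty (Soc P ≃* alternatingGroup (Fin 7)) ∧ ((Fintype.card F = p ∧ (p % 24 = 1 ∨ p % 24 = 7)) ∨
        (Fintype.card F = p ^ 2 ∧ (p % 24 = 5 ∨ p % 24 = 11 ∨ p % 24 = 13 ∨ p % 24 = 19)))) ∨
     (IsL34 (Soc P) ∧ Fintype.card F = p ∧ (p % 24 = 1 ∨ p % 24 = 19)) ∨
     (Cfsg.Spor.IsoM12 (Soc P) ∧ Fintype.card F = 3) ∨
     (IsU43 (Soc P) ∧ Fintype.card F = p ∧ (p % 12 = 1 ∨ p % 12 = 7)) ∨
     (Nonempty (Soc P ≃* Matrix.ProjectiveSpecialLinearGroup (Fin 3) F) ∧ Odd (Fintype.card F))) := by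
  have hp2 := hp.out.two_le
  have hcj1 : ¬ Cj P p := by
    have := hcj 1
    rwa [pow_one] at this
  have hpm : ∀ r : ℕ, r.Prime → p ≠ r → p % r ≠ 0 := by
    intro r hr hne h
    exact hne ((Nat.prime_dvd_prime_iff_eq hr hp.out).1 (Nat.dvd_of_mod_eq_zero h)).symm
  rcases hout with h | ⟨he, h2, h11, h3, h4⟩ | ⟨he, h3⟩ | ⟨he, h3⟩ | ⟨he, h6, h2, h3, hfr2, hfr, hcj', g, hg, hg2, hgi⟩ |
    ⟨he, h6, h2, h3, hfr, hcj'⟩ | ⟨he, h3, hfr⟩ | ⟨he, h2, hcj'⟩ | ⟨he, h3, hfr, hcj'⟩ | ⟨h2, -, K, i1, i2, hK, ⟨e⟩⟩ |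
    ⟨h2, K, i1, i2, k, hK, hF, hcj', he⟩ | h | ⟨K, i1, i2, k, hK, hcj', he⟩
  · exact absurd h hsd
  · left
    by_cases hs : IsSquare (p : ZMod 11)
    · have hcard := hC.card_eq p (h3 hs)
      refine ⟨he, hcard, ?_, square_eleven hs (hpm 11 (by norm_num) h11)⟩
      intro h
      exact k11 h (by rw [hcard, h]) he
    · exact absurd (h4 hs) hcj1
  · exact absurd (k6 he h3) not_false
  · exact absurd (k7 he h3) not_false
  · right; left
    refine ⟨he, ?_⟩
    obtain ⟨w, hw3, hw1⟩ := exists_omega (P := P) (by rw [h6]; norm_num)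
    have h8 : p % 2 ≠ 0 := hpm 2 (by norm_num) h2
    have h9 : p % 3 ≠ 0 := hpm 3 (by norm_num) h3
    by_cases h1 : p % 24 = 1 ∨ p % 24 = 7
    · exact Or.inl ⟨hC.card_eq p (hfr h1), h1⟩
    · right
      have h17 : ¬ (p % 24 = 17 ∨ p % 24 = 23) := fun h => hcj1 (hcj' h)
      have hne : Fintype.card F ≠ p := by
        intro hcard
        have h10 := mod_three_of_omega hcard hw3 hw1
        have h11 := mod_eight_of_sqrt_two h2 hg2 (by
          have := FiniteField.pow_card (tr g)
          rwa [hcard] at this)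
        (clear * - h1 h10 h11; omega)
      refine ⟨?_, by (clear * - h8 h9 h1 h17; omega)⟩
      have hle := hC.card_le p two_ne_zero hfr2
      obtain ⟨m, hm, hcard⟩ := FiniteField.card F p
      rw [hcard] at hle hne ⊢
      have h10 : (m : ℕ) ≤ 2 := (Nat.pow_le_pow_iff_right (by omega)).1 hle
      have h11 : (m : ℕ) ≠ 1 := by
        intro h
        rw [h, pow_one] at hne
        exact hne rfl
      have h12 := m.pos
      rw [show (m : ℕ) = 2 by omega]
  · right; right; left
    have h10 : p % 3 = 1 ∨ p % 3 = 2 := by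
      have := hpm 3 (by norm_num) h3
      omega
    rcases h10 with h10 | h10
    · have hcard := hC.card_eq p (hfr h10)
      have h8 := k34 he h6 hcard h10
      exact ⟨he, hcard, by omega⟩
    · exact absurd (hcj' h10) hcj1
  · right; right; right; left
    subst h3
    exact ⟨he, hC.card_eq 3 hfr⟩
  · subst h2
    exact absurd hcj' hcj1
  · right; right; right; right; left
    have h10 : p % 3 = 1 ∨ p % 3 = 2 := by
      have := hpm 3 (by norm_num) h3
      omega
    rcases h10 with h10 | h10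
    · have hcard := hC.card_eq p (hfr h10)
      refine ⟨he, hcard, ?_⟩
      have h11 : p ≠ 2 := by rintro rfl; omega
      have h12 : p % 2 ≠ 0 := hpm 2 (by norm_num) h11
      omega
    · exact absurd (hcj' h10) hcj1
  · right; right; right; right; right
    have hKF : Nonempty (K ≃+* F) := ⟨FiniteField.ringEquivOfCardEq hK⟩
    obtain ⟨f⟩ := hKF
    refine ⟨⟨e.trans (LieClassical.SmallIso.pslCongr (Fin 3) f)⟩, ?_⟩
    obtain ⟨m, hm, hcard⟩ := FiniteField.card F p
    rw [hcard]
    exact (hp.out.odd_of_ne_two h2).pow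
  · exact absurd hcj' (hcj k)
  · exfalso
    subst h
    exact absurd (lt_of_le_of_lt hPH hmax.1) (lt_irrefl _)
  · exact absurd hcj' (hcj k)

/-- **The unitary row.** -/
theorem su6_concl {q : ℕ} (hF : Fintype.card F = q ^ 2) {p : ℕ} [hp : Fact p.Prime] [CharP F p]
    {H P : Subgroup (GL (Fin 6) F)}
    (hmax : IsMaximalIn (GU 6 F q ⊓ specialLinear (Fin 6) F) H) (hPH : P ≤ H) (hC : Core P) (hsd : ¬ SD P)
    (hcjq : Cj P q) (hout : Out6 p P)
    (hnat : ∀ (K : Type) (_ : Field K) (_ : Fintype K) (k : ℕ), Fintype.card K = (p ^ k) ^ 2 →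
      Nonempty (Soc P ≃* PSU 6 K (p ^ k)) → P = GU 6 F q ⊓ specialLinear (Fin 6) F)
    (k6 : Nonempty (Soc P ≃* alternatingGroup (Fin 6)) → 3 ∣ nsc P → False)
    (k7 : Nonempty (Soc P ≃* alternatingGroup (Fin 7)) → nsc P = 3 → False)
    (k34 : IsL34 (Soc P) → nsc P = 6 → q = p → p % 3 = 2 → p % 8 = 5 ∨ p % 8 = 7) :
    ((Nonempty (Soc P ≃* ProjectiveSpecialLinearGroup (Fin 2) (ZMod 11)) ∧ q.Prime ∧ q ≠ 2 ∧
        (q % 11 = 2 ∨ q % 11 = 6 ∨ q % 11 = 7 ∨ q % 11 = 8 ∨ q % 11 = 10)) ∨
     (Nonempty (Soc P ≃* alternatingGroup (Fin 7)) ∧ q.Prime ∧ (q % 24 = 17 ∨ q % 24 = 23)) ∨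
     (IsL34 (Soc P) ∧ q.Prime ∧ (q % 24 = 5 ∨ q % 24 = 23)) ∨
     (Cfsg.Spor.IsoM22 (Soc P) ∧ q = 2) ∨
     (IsU43 (Soc P) ∧ (q = 2 ∨ (q.Prime ∧ (q % 12 = 5 ∨ q % 12 = 11)))) ∨
     (Nonempty (Soc P ≃* Cfsg.PSU 3 F q) ∧ Odd q)) := by
  have hp2 := hp.out.two_le
  have hpm : ∀ r : ℕ, r.Prime → p ≠ r → p % r ≠ 0 := by
    intro r hr hne h
    exact hne ((Nat.prime_dvd_prime_iff_eq hr hp.out).1 (Nat.dvd_of_mod_eq_zero h)).symm
  have hfrp : ¬ Fr P p := not_fr_of_card hC p hF
  rcases hout with h | ⟨he, h2, h11, h3, h4⟩ | ⟨he, h3⟩ | ⟨he, h3⟩ | ⟨he, h6, h2, h3, hfr2, hfr, hcj', g, hg, hg2, hgi⟩ |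
    ⟨he, h6, h2, h3, hfr, hcj'⟩ | ⟨he, h3, hfr⟩ | ⟨he, h2, hcj'⟩ | ⟨he, h3, hfr, hcj'⟩ |
    ⟨h2, hnc, K, i1, i2, hK, ⟨e⟩⟩ | ⟨h2, K, i1, i2, k, hK, hF', hcj', ⟨e⟩⟩ | h | ⟨K, i1, i2, k, hK, hcj', he⟩
  · exact absurd h hsd
  · left
    by_cases hs : IsSquare (p : ZMod 11)
    · exact absurd (h3 hs) hfrp
    · have hq := q_eq_of_cj hC p hF (h4 hs)
      rw [hq]
      exact ⟨he, hp.out, h2, nonsquare_eleven hs⟩
  · exact absurd (k6 he h3) not_false
  · exact absurd (k7 he h3) not_false
  · right; left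
    have hq := q_eq_of_fr hC p hF hfr2
    subst hq
    obtain ⟨w, hw3, hw1⟩ := exists_omega (P := P) (by rw [h6]; norm_num)
    have h8 : q % 2 ≠ 0 := hpm 2 (by norm_num) h2
    have h9 : q % 3 ≠ 0 := hpm 3 (by norm_num) h3
    have h10 : q % 8 = 1 ∨ q % 8 = 7 := mod_eight_of_sqrt_two h2 hg2 (by rw [hcjq g hg, hgi])
    have h11 : ¬ (q % 24 = 1 ∨ q % 24 = 7) := fun h => hfrp (hfr h)
    exact ⟨he, hp.out, by omega⟩
  · right; right; left
    have h10 : p % 3 = 1 ∨ p % 3 = 2 := by
      have := hpm 3 (by norm_num) h3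
      omega
    rcases h10 with h10 | h10
    · exact absurd (hfr h10) hfrp
    · have hq := q_eq_of_cj hC p hF (hcj' h10)
      have h8 := k34 he h6 hq h10
      rw [hq]
      exact ⟨he, hp.out, by omega⟩
  · subst h3
    exact absurd hfr hfrp
  · right; right; right; left
    subst h2
    exact ⟨he, q_eq_of_cj hC 2 hF hcj'⟩
  · right; right; right; right; left
    have h10 : p % 3 = 1 ∨ p % 3 = 2 := by
      have := hpm 3 (by norm_num) h3
      omega
    rcases h10 with h10 | h10
    · exact absurd (hfr h10) hfrp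
    · have hq := q_eq_of_cj hC p hF (hcj' h10)
      rw [hq]
      refine ⟨he, ?_⟩
      by_cases h2 : p = 2
      · exact Or.inl h2
      · right
        have h12 : p % 2 ≠ 0 := hpm 2 (by norm_num) h2
        exact ⟨hp.out, by omega⟩
  · exfalso
    obtain ⟨m, hm, hcard⟩ := FiniteField.card F p
    rw [hF] at hcard
    have h1 : ∃ k, q = p ^ k := by
      have : q ∣ p ^ (m : ℕ) := ⟨q, by rw [← hcard, pow_two]⟩
      obtain ⟨k, -, hk⟩ := (Nat.dvd_prime_pow hp.out).1 this
      exact ⟨k, hk⟩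
    obtain ⟨k, hk⟩ := h1
    rw [hk] at hcjq
    exact hnc k hcjq
  · right; right; right; right; right
    have hq : p ^ k = q := by
      have h1 : q ^ 2 = (p ^ k) ^ 2 := by rw [← hF, hF']
      exact (Nat.pow_left_injective (n := 2) (by norm_num) h1).symm
    have hKF : Nonempty (K ≃+* F) := ⟨FiniteField.ringEquivOfCardEq (by rw [hK, hF'])⟩
    obtain ⟨f⟩ := hKF
    subst hq
    exact ⟨⟨e.trans (LieClassical.FieldTransfer.psuCongr 3 (p ^ k) f)⟩, (hp.out.odd_of_ne_two h2).pow⟩
  · exfalso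
    have h1 : P < specialLinear (Fin 6) F := lt_of_lt_of_le (lt_of_le_of_lt hPH hmax.1) inf_le_right
    rw [h] at h1
    exact lt_irrefl _ h1
  · exfalso
    have h1 := hnat K i1 i2 k hK he
    have h2 := lt_of_le_of_lt hPH hmax.1
    rw [h1] at h2
    exact lt_irrefl _ h2

end Cfsg.Agent.H918.Six
end

-- part: H830/A6/Over
section
/-!
# `6.A₆` in dimension six: the overgroup `6.A₇` (helper830)
-/

set_option autoImplicit false
set_option linter.unusedSectionVars false
set_option linter.dupNamespace false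

open Equiv Equiv.Perm Module

namespace Cfsg.Agent.H830.A6

open Cfsg Cfsg.Geo Matrix Cfsg.Agent.H915.LD Cfsg.Agent.H913.N6 Cfsg.Agent.Lib

universe u

variable {F : Type u} [Field F] {P : Subgroup (GL (Fin 6) F)}

/-! ### The diagonal matrices with entries `±1` -/

/-- the sign as a field element -/
def sg (F : Type u) [Field F] : ℤˣ →* Fˣ := Units.map (Int.castRingHom F).toMonoidHom

theorem sg_sq (s : ℤˣ) : (sg F s : F) * (sg F s : F) = 1 := by
  rcases Int.units_eq_one_or s with rfl | rfl <;> simp only [sg, _root_.Cfsg.Agent.H830.A6.sg, _root_.RingHom.toMonoidHom_eq_coe, _root_.map_one, _root_.Units.val_one, _root_.mul_one, _root_.Units.map_neg, _root_.Units.val_neg, _root_.mul_neg, _root_.neg_neg]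

/-- the diagonal entries -/
def dvec (s : Fin 4 → ℤˣ) : Fin 6 → ℤˣ := ![s 0, s 1, s 2, s 3, s 0 * s 1 * s 2 * s 3, 1]

theorem dvec_mul (s t : Fin 4 → ℤˣ) (i : Fin 6) : dvec (s * t) i = dvec s i * dvec t i := by
  (revert i; simp only [dvec, _root_.Fin.forall_fin_succ, Fin.isValue, _root_.Pi.mul_apply, _root_.Matrix.cons_val_zero, _root_.Matrix.cons_val_succ, _root_.Matrix.cons_val_fin_one, _root_.mul_one, _root_.implies_true, _root_.and_true, _root_.true_and]) <;> (repeat' with_reducible apply And.intro)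
  ac_rfl

/-- the diagonal matrix -/
def dg (F : Type u) [Field F] : (Fin 4 → ℤˣ) →* GL (Fin 6) F :=
  MonoidHom.mk' (fun s => ⟨Matrix.diagonal fun i => (sg F (dvec s i) : F), Matrix.diagonal fun i => (sg F (dvec s i) : F),
    by rw [Matrix.diagonal_mul_diagonal]; simp only [sg_sq]; exact Matrix.diagonal_one,
    by rw [Matrix.diagonal_mul_diagonal]; simp only [sg_sq]; exact Matrix.diagonal_one⟩) (by
    intro s t
    apply Units.ext
    rw [Units.val_mul]
    change Matrix.diagonal _ = Matrix.diagonal _ * Matrix.diagonal _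
    rw [Matrix.diagonal_mul_diagonal]
    congr 1
    funext i
    rw [dvec_mul, map_mul, Units.val_mul])

theorem coe_dg (s : Fin 4 → ℤˣ) : (dg F s : Matrix (Fin 6) (Fin 6) F) = Matrix.diagonal fun i => (sg F (dvec s i) : F) := rfl

theorem det_dg (s : Fin 4 → ℤˣ) : Matrix.GeneralLinearGroup.det (dg F s) = 1 := by
  apply Units.ext
  rw [Units.val_one, Matrix.GeneralLinearGroup.val_det_apply, coe_dg, Matrix.det_diagonal, Fin.prod_univ_six]
  simp only [← Units.val_mul, ← map_mul]
  have : dvec s 0 * dvec s 1 * dvec s 2 * dvec s 3 * dvec s 4 * dvec s 5 = 1 := by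
    simp [dvec, Int.units_mul_self]
  rw [this, map_one, Units.val_one]

theorem dg_mem_GU {q : ℕ} (hq : Odd q) (s : Fin 4 → ℤˣ) : dg F s ∈ GU 6 F q := by
  intro u v
  change hermForm 6 F q ((dg F s : Matrix (Fin 6) (Fin 6) F) *ᵥ u) ((dg F s : Matrix (Fin 6) (Fin 6) F) *ᵥ v) = _
  rw [coe_dg]
  unfold hermForm
  refine Finset.sum_congr rfl fun i _ => ?_
  rw [Matrix.mulVec_diagonal, Matrix.mulVec_diagonal, mul_pow]
  have h1 : (sg F (dvec s i) : F) ^ q = (sg F (dvec s i) : F) := by
    obtain ⟨k, rfl⟩ := hq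
    rw [pow_succ, pow_mul, pow_two, sg_sq, one_pow, one_mul]
  rw [h1]
  linear_combination (u i * v i ^ q) * sg_sq (F := F) (dvec s i)

theorem dg_scalar (h2 : (2 : F) ≠ 0) {s : Fin 4 → ℤˣ} (hs : dg F s ∈ scalars (Fin 6) F) : s = 1 := by
  obtain ⟨c, hc⟩ := mem_scalars.1 hs
  have h1 : ∀ i, (sg F (dvec s i) : F) = c := by
    intro i
    have h3 := congrArg (fun g : GL (Fin 6) F => (g : Matrix (Fin 6) (Fin 6) F) i i) hc
    simp only [coe_dg, coe_sc, Matrix.diagonal_apply_eq, Matrix.smul_apply, Matrix.one_apply_eq, smul_eq_mul,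
      mul_one] at h3
    exact h3
  have hinj : Function.Injective (sg F) := by
    rw [injective_iff_map_eq_one]
    intro t ht
    rcases Int.units_eq_one_or t with rfl | rfl
    · rfl
    · exfalso
      have h4 := congrArg (fun y : Fˣ => (y : F)) ht
      simp only [sg, _root_.Cfsg.Agent.H830.A6.sg, _root_.RingHom.toMonoidHom_eq_coe, _root_.Units.map_neg, _root_.map_one, _root_.Units.val_neg, _root_.Units.val_one] at h4
      apply h2
      linear_combination -h4
  have h3 : ∀ i, dvec s i = 1 := by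
    intro i
    apply hinj
    apply Units.ext
    rw [h1 i, ← h1 5]
    rfl
  funext i
  fin_cases i
  · exact h3 0
  · exact h3 1
  · exact h3 2
  · exact h3 3

/-! ### The overgroup -/

theorem card_A7 : Nat.card (alternatingGroup (Fin 7)) = 2520 := by
  have h3 := nat_card_alternatingGroup (α := Fin 7)
  rw [Nat.card_eq_fintype_card (α := Fin 7), Fintype.card_fin] at h3
  rw [h3]
  rfl

/-- projective space of the group -/
abbrev PG (F : Type u) [Field F] := GL (Fin 6) F ⧸ scalars (Fin 6) F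

/-- the quotient map -/
abbrev mk (F : Type u) [Field F] : GL (Fin 6) F →* PG F := QuotientGroup.mk' (scalars (Fin 6) F)

theorem mk_one {x : GL (Fin 6) F} : mk F x = 1 ↔ x ∈ scalars (Fin 6) F := by
  rw [← MonoidHom.mem_ker, QuotientGroup.ker_mk']

theorem cyc_eq : px = ⟨AltCarmichael.cyc 4 0, AltCarmichael.cyc_mem 4 0 (by norm_num)⟩ ∧
    pi' * px * pi'⁻¹ = ⟨AltCarmichael.cyc 4 1, AltCarmichael.cyc_mem 4 1 (by norm_num)⟩ ∧
    pj * px * pj⁻¹ = ⟨AltCarmichael.cyc 4 2, AltCarmichael.cyc_mem 4 2 (by norm_num)⟩ ∧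
    pk * px * pk⁻¹ = ⟨AltCarmichael.cyc 4 3, AltCarmichael.cyc_mem 4 3 (by norm_num)⟩ := by
  decide +kernel

/-- the generators in the projective group -/
def gens (F : Type u) [Field F] (i j k x g : GL (Fin 6) F) : ℕ → PG F := fun n =>
  if n = 0 then mk F x else if n = 1 then mk F (i * x * i⁻¹) else if n = 2 then mk F (j * x * j⁻¹) else
    if n = 3 then mk F (k * x * k⁻¹) else mk F g

theorem sq_swap {G : Type*} [Group G] {a b : G} (h : (a * b) ^ 2 = 1) : (b * a) ^ 2 = 1 := AltCarmichael.swap_rel h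

theorem exists_over [Finite F] (C : Cov P A6) {m z i j k b d x : P} {g : GL (Fin 6) F} (hL : Cov6.Lft C.π m z i j k b d x)
    (h2 : (2 : F) ≠ 0) (g3 : g * g * g = 1) (gi : g * i = i * g) (gj : g * j = j * g)
    (xg : (x * g) * (x * g) = -1) :
    ∃ W : Subgroup (GL (Fin 6) F), scalars (Fin 6) F ≤ W ∧ P ≤ W ∧ g ∈ W ∧ ¬ ∀ s, dg F s ∈ W := by
  classical
  -- relations
  have hP : ∀ s : P, C.π s = 1 → mk F (s : GL (Fin 6) F) = 1 := fun s hs => mk_one.2 ((C.ker s).1 hs)
  have gk : g * k = k * g := by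
    have h := congrArg (fun y : P => (y : GL (Fin 6) F)) hL.ij
    simp only [Subgroup.coe_mul] at h
    rw [← h, ← mul_assoc, gi, mul_assoc, gj, mul_assoc]
  have hneg : mk F (-1 : GL (Fin 6) F) = 1 := by
    rw [mk_one, ← sc_neg_one]
    exact sc_mem_scalars _
  have hg3 : mk F g ^ 3 = 1 := by
    rw [← map_pow, pow_succ, pow_two, g3, map_one]
  have hgx : ∀ t : P, g * t = t * g → (mk F (t * x * (t : GL (Fin 6) F)⁻¹) * mk F g) ^ 2 = 1 := by
    intro t ht
    have h1 : (t : GL (Fin 6) F)⁻¹ * g = g * (t : GL (Fin 6) F)⁻¹ := by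
      rw [inv_mul_eq_iff_eq_mul, ← mul_assoc, ← ht, mul_inv_cancel_right]
    have h3 : (t * x * (t : GL (Fin 6) F)⁻¹) * g = t * (x * g) * (t : GL (Fin 6) F)⁻¹ := by
      rw [mul_assoc _ _ g, h1]
      simp only [mul_assoc]
    rw [← map_mul, ← map_pow, h3, conj_pow, pow_two, xg, map_mul, map_mul, hneg, mul_one, ← map_mul,
      mul_inv_cancel, map_one]
  have hrel : AltCarmichael.Rel 5 (gens F i j k x g) := by
    have c3 : ∀ t : P, mk F (t * x * (t : GL (Fin 6) F)⁻¹) ^ 3 = 1 := by
      intro t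
      rw [← map_pow, conj_pow]
      have : ((x : GL (Fin 6) F)) ^ 3 = 1 := by
        have h := congrArg (fun y : P => (y : GL (Fin 6) F)) hL.xxx
        simp only [Subgroup.coe_mul, Subgroup.coe_one] at h
        rw [pow_succ, pow_two, h]
      rw [this, mul_one, mul_inv_cancel, map_one]
    have hx1 : mk F ((x : GL (Fin 6) F)) = mk F ((1 : P) * x * ((1 : P) : GL (Fin 6) F)⁻¹) := by
      rw [Subgroup.coe_one, inv_one, one_mul, mul_one]
    have h22 : ∀ s t : P, C.π ((s * x * s⁻¹) * (t * x * t⁻¹)) ^ 2 = 1 →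
        (mk F (s * x * (s : GL (Fin 6) F)⁻¹) * mk F (t * x * (t : GL (Fin 6) F)⁻¹)) ^ 2 = 1 := by
      intro s t hst
      rw [← map_pow] at hst
      have := hP _ hst
      rw [← map_mul, ← map_pow]
      exact this
    have π0 : C.π ((1 : P) * x * (1 : P)⁻¹) = px := by rw [inv_one, one_mul, mul_one, hL.πx]
    have πi : C.π (i * x * i⁻¹) = pi' * px * pi'⁻¹ := by rw [map_mul, map_mul, map_inv, hL.πi, hL.πx]
    have πj : C.π (j * x * j⁻¹) = pj * px * pj⁻¹ := by rw [map_mul, map_mul, map_inv, hL.πj, hL.πx]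
    have πk : C.π (k * x * k⁻¹) = pk * px * pk⁻¹ := by rw [map_mul, map_mul, map_inv, hL.πk, hL.πx]
    have hg1 : g * ((1 : P) : GL (Fin 6) F) = ((1 : P) : GL (Fin 6) F) * g := by
      rw [Subgroup.coe_one, one_mul, mul_one]
    constructor
    · intro n hn
      interval_cases n
      · change mk F _ ^ 3 = 1
        rw [hx1]; exact c3 1
      · exact c3 i
      · exact c3 j
      · exact c3 k
      · exact hg3
    · intro a ha c hc hac
      wlog hlt : a < c generalizing a c with H
      · exact sq_swap (H c hc a ha (Ne.symm hac) (by omega))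
      interval_cases c
      · omega
      · obtain rfl : a = 0 := by omega
        change (mk F _ * mk F _) ^ 2 = 1
        rw [hx1]
        exact h22 1 i (by rw [map_mul, π0, πi]; decide +kernel)
      · interval_cases a
        · change (mk F _ * mk F _) ^ 2 = 1
          rw [hx1]
          exact h22 1 j (by rw [map_mul, π0, πj]; decide +kernel)
        · exact h22 i j (by rw [map_mul, πi, πj]; decide +kernel)
      · interval_cases a
        · change (mk F _ * mk F _) ^ 2 = 1
          rw [hx1]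
          exact h22 1 k (by rw [map_mul, π0, πk]; decide +kernel)
        · exact h22 i k (by rw [map_mul, πi, πk]; decide +kernel)
        · exact h22 j k (by rw [map_mul, πj, πk]; decide +kernel)
      · interval_cases a
        · change (mk F _ * mk F _) ^ 2 = 1
          rw [hx1]
          exact hgx 1 hg1
        · exact hgx i gi
        · exact hgx j gj
        · exact hgx k gk
  refine ⟨(AltCarmichael.gen 5 (gens F i j k x g)).comap (mk F), ?_, ?_, ?_, ?_⟩
  · intro y hy
    rw [Subgroup.mem_comap, mk_one.2 hy]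
    exact one_mem _
  · -- `P ≤ W`
    obtain ⟨c0, c1, c2, c3⟩ := cyc_eq
    let S : Subgroup P := ((AltCarmichael.gen 5 (gens F i j k x g)).comap (mk F)).subgroupOf P
    have h3 : AltCarmichael.gen 4 (AltCarmichael.cyc 4) ≤ (S.map C.π).map (alternatingGroup (Fin 6)).subtype := by
      rw [AltCarmichael.gen_def, Subgroup.closure_le]
      rintro _ ⟨n, hn, rfl⟩
      interval_cases n
      · refine ⟨_, ⟨x, ?_, hL.πx⟩, by rw [c0]; rfl⟩
        exact AltCarmichael.mem_gen (x := gens F i j k x g) (i := 0) (by norm_num)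
      · refine ⟨_, ⟨i * x * i⁻¹, ?_, by rw [map_mul, map_mul, map_inv, hL.πi, hL.πx, c1]⟩, rfl⟩
        exact AltCarmichael.mem_gen (x := gens F i j k x g) (i := 1) (by norm_num)
      · refine ⟨_, ⟨j * x * j⁻¹, ?_, by rw [map_mul, map_mul, map_inv, hL.πj, hL.πx, c2]⟩, rfl⟩
        exact AltCarmichael.mem_gen (x := gens F i j k x g) (i := 2) (by norm_num)
      · refine ⟨_, ⟨k * x * k⁻¹, ?_, by rw [map_mul, map_mul, map_inv, hL.πk, hL.πx, c3]⟩, rfl⟩
        exact AltCarmichael.mem_gen (x := gens F i j k x g) (i := 3) (by norm_num)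
    intro s hs
    have h0 : ((C.π ⟨s, hs⟩ : A6) : Perm (Fin 6)) ∈ AltCarmichael.gen 4 (AltCarmichael.cyc 4) := by
      rw [AltCarmichael.gen_cyc 4 (by norm_num)]
      exact (C.π ⟨s, hs⟩).2
    obtain ⟨_, ⟨t, ht, rfl⟩, htt⟩ := h3 h0
    have h4 : C.π t = C.π ⟨s, hs⟩ := Subtype.ext htt
    have h5 : C.π (⟨s, hs⟩ * t⁻¹) = 1 := by rw [map_mul, map_inv, h4, mul_inv_cancel]
    have h6 := hP _ h5
    have h7 : mk F s = mk F (t : GL (Fin 6) F) := by
      rw [Subgroup.coe_mul, map_mul, Subgroup.coe_inv, map_inv, mul_inv_eq_one] at h6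
      exact h6
    rw [Subgroup.mem_comap, h7]
    exact ht
  · exact AltCarmichael.mem_gen (x := gens F i j k x g) (i := 4) (by norm_num)
  · intro hall
    obtain ⟨φ, hφ⟩ := AltCarmichael.exists_hom (by norm_num) hrel
    have h3 : AltCarmichael.gen 5 (gens F i j k x g) ≤ φ.range := by
      rw [AltCarmichael.gen_def, Subgroup.closure_le]
      rintro _ ⟨n, hn, rfl⟩
      exact ⟨_, hφ n hn⟩
    let f : (Fin 4 → ℤˣ) →* φ.range :=
      ((mk F).comp (dg F)).codRestrict φ.range fun s => h3 (hall s)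
    have hf : Function.Injective f := by
      rw [injective_iff_map_eq_one]
      intro s hs
      apply dg_scalar h2
      rw [← mk_one]
      exact congrArg Subtype.val hs
    have h4 : Nat.card (Fin 4 → ℤˣ) ∣ Nat.card φ.range := Subgroup.card_dvd_of_injective f hf
    have h5 : Nat.card φ.range ∣ Nat.card (alternatingGroup (Fin (5 + 2))) := Subgroup.card_range_dvd φ
    have h6 : Nat.card (Fin 4 → ℤˣ) = 16 := by
      rw [Nat.card_eq_fintype_card]; rfl
    have h7 := h4.trans h5
    rw [h6, show (5 + 2 : ℕ) = 7 from rfl, card_A7] at h7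
    revert h7
    decide

end Cfsg.Agent.H830.A6
end

-- part: H830/A6/AutA
section
/-!
# `6.A₆` in dimension six: no outer automorphism is induced (helper830)
-/

set_option autoImplicit false
set_option linter.unusedSectionVars false
set_option linter.dupNamespace false

open Equiv Equiv.Perm

namespace Cfsg.Agent.H830.A6

open Cfsg Cfsg.Geo Matrix Cfsg.Agent.H915.LD Cfsg.Agent.H913.N6
open Cfsg.Agent.StdAlt.Six (NS ns_of_three three_iff cube_cases mv_conj t0)
open Cfsg.Agent.OddHalf.D5.SixAut (θ θ_θ sign_θ)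

def e6 : A6 := ⟨c[(0 : Fin 6), 1, 2], mem_alternatingGroup.2 (by decide)⟩

/-- `θ` on `A₆`. -/
def thA : MulAut A6 where
  toFun x := ⟨θ x, mem_alternatingGroup.2 (by rw [sign_θ]; exact x.2)⟩
  invFun x := ⟨θ x, mem_alternatingGroup.2 (by rw [sign_θ]; exact x.2)⟩
  left_inv x := Subtype.ext (θ_θ _)
  right_inv x := Subtype.ext (θ_θ _)
  map_mul' x y := Subtype.ext (map_mul θ _ _)

theorem thA_coe (x : A6) : (thA x : Perm (Fin 6)) = θ x := rfl

/-- Automorphisms of `A₆` not induced by permutations. -/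
theorem eq_theta {α : MulAut A6} (h : ¬ NS α) :
    ∃ τ : Perm (Fin 6), ∀ x : A6, (α x : Perm (Fin 6)) = τ * θ x * τ⁻¹ := by
  have h3 : (e6 : Perm (Fin 6)).IsThreeCycle := by
    rw [← three_iff]; decide +kernel
  have hne : α e6 ≠ 1 := fun h1 => by
    have h2 := α.injective (h1.trans (map_one α).symm)
    exact absurd h2 (by decide +kernel)
  have hcube : (α e6 : Perm (Fin 6)) * (α e6) * (α e6) = 1 := by
    have h1 : α e6 * α e6 * α e6 = 1 := by
      rw [← map_mul, ← map_mul]
      have : e6 * e6 * e6 = 1 := by decide +kernel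
      rw [this, map_one]
    exact congrArg Subtype.val h1
  rcases cube_cases _ hcube (fun h1 => hne (Subtype.ext h1)) with h1 | ⟨-, w, hw, hw'⟩
  · exact absurd (ns_of_three h3 ((three_iff _).1 h1)) h
  · have hα : (α e6 : Perm (Fin 6)) = w * t0 * w⁻¹ := by rw [hw']; group
    have h4 : ((thA * α) e6 : Perm (Fin 6)).IsThreeCycle := by
      rw [MulAut.mul_apply, thA_coe, hα, map_mul, map_mul, map_inv, ← three_iff, mv_conj]
      decide +kernel
    obtain ⟨σ, hσ⟩ := ns_of_three h3 h4
    refine ⟨θ σ, fun x => ?_⟩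
    have h5 := congrArg θ (hσ x)
    rw [MulAut.mul_apply, thA_coe, θ_θ, map_mul, map_mul, map_inv] at h5
    exact h5

def k1 : Perm (Fin 6) := c[(1 : Fin 6), 2] * c[(3 : Fin 6), 4]
def k2 : Perm (Fin 6) := c[(1 : Fin 6), 4, 3, 5]

theorem k1_facts : Perm.sign k1 = 1 ∧ k1 * θ px * k1⁻¹ = px * pb ∧ k1 * θ pb * k1⁻¹ = px * px * pb := by
  decide +kernel

theorem k2_facts : Perm.sign k2 = -1 ∧ k2 * θ (px * pk : A6) * k2⁻¹ = ((px * pk : A6) : Perm (Fin 6))⁻¹ ∧
    k2 * θ k2 = ((px * pk : A6) : Perm (Fin 6)) * (px * pk : A6) := by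
  decide +kernel

theorem s45_facts : Perm.sign (swap (4 : Fin 6) 5 : Perm (Fin 6)) = -1 ∧
    (swap (4 : Fin 6) 5 : Perm (Fin 6)) * px * (swap (4 : Fin 6) 5 : Perm (Fin 6))⁻¹ = (px : Perm (Fin 6))⁻¹ ∧
    (swap (4 : Fin 6) 5 : Perm (Fin 6)) * pb * (swap (4 : Fin 6) 5 : Perm (Fin 6))⁻¹ = pb := by
  decide +kernel

universe u

variable {F : Type u} [Field F] {P : Subgroup (GL (Fin 6) F)} {C : Cov P A6}

/-- `h` induces `α` -/
def Ind (C : Cov P A6) (h : GL (Fin 6) F) (α : MulAut A6) : Prop := ∀ x σ, C.L x σ → C.L (h * x * h⁻¹) (α σ)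

theorem Ind.mul {g h : GL (Fin 6) F} {α β : MulAut A6} (hg : Ind C g α) (hh : Ind C h β) : Ind C (g * h) (α * β) := by
  intro x σ hx
  have h1 := hg _ _ (hh _ _ hx)
  rw [show g * h * x * (g * h)⁻¹ = g * (h * x * h⁻¹) * g⁻¹ by group]
  exact h1

theorem Ind.of_lift {g : GL (Fin 6) F} {γ : A6} (hg : C.L g γ) : Ind C g (MulAut.conj γ) := fun _ _ hx => hx.conj hg

/-- moving by an element of `P` -/
theorem Ind.move {h : GL (Fin 6) F} {α : MulAut A6} (hh : Ind C h α) (κ : Perm (Fin 6)) {τ : Perm (Fin 6)}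
    {f : Perm (Fin 6) → Perm (Fin 6)}
    (hα : ∀ y : A6, (α y : Perm (Fin 6)) = τ * f y * τ⁻¹) (hs : Perm.sign κ = Perm.sign τ) :
    ∃ (k : GL (Fin 6) F) (β : MulAut A6), k ∈ P ∧ Ind C (k * h) β ∧
      ∀ y : A6, (β y : Perm (Fin 6)) = κ * f y * κ⁻¹ := by
  have hmem : κ * τ⁻¹ ∈ alternatingGroup (Fin 6) := by
    rw [mem_alternatingGroup, map_mul, map_inv, hs, mul_inv_cancel]
  obtain ⟨k, hk⟩ := C.exists_lift ⟨κ * τ⁻¹, hmem⟩
  refine ⟨k, _, hk.mem, (Ind.of_lift hk).mul hh, fun y => ?_⟩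
  rw [MulAut.mul_apply, MulAut.conj_apply]
  change κ * τ⁻¹ * (α y : Perm (Fin 6)) * (κ * τ⁻¹)⁻¹ = _
  rw [hα]
  group

/-- commutator scalars of lifts -/
theorem comm_eq {B X B' X' : GL (Fin 6) F} {β ξ : A6} {c : Fˣ} (hB : C.L B β) (hX : C.L X ξ) (hB' : C.L B' β) (hX' : C.L X' ξ)
    (h : B * X = sc c * (X * B)) : B' * X' = sc c * (X' * B') := by
  obtain ⟨s, -, rfl⟩ := hB'.exists_sc hB
  obtain ⟨t, -, rfl⟩ := hX'.exists_sc hX
  have e1 : ∀ (a : Fˣ) (y : GL (Fin 6) F), sc a * y = y * sc a := sc_comm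
  calc sc s * B * (sc t * X) = sc s * (B * sc t) * X := by simp only [mul_assoc]
    _ = sc s * sc t * (B * X) := by rw [← e1 t B]; simp only [mul_assoc]
    _ = sc s * sc t * sc c * (X * B) := by rw [h]; simp only [mul_assoc]
    _ = sc c * (sc t * (sc s * X) * B) := by
      rw [← e1 c (sc s * sc t), e1 s (sc t)]
      simp only [mul_assoc]
    _ = sc c * (sc t * X * (sc s * B)) := by rw [e1 s X]; simp only [mul_assoc]

theorem conj_comm {B X : GL (Fin 6) F} {w : Fˣ} (h : B * X = sc w * (X * B)) (g : GL (Fin 6) F) :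
    (g * B * g⁻¹) * (g * X * g⁻¹) = sc w * ((g * X * g⁻¹) * (g * B * g⁻¹)) := by
  calc (g * B * g⁻¹) * (g * X * g⁻¹) = g * (B * X) * g⁻¹ := by group
    _ = (g * sc w) * (X * B) * g⁻¹ := by rw [h]; simp only [mul_assoc]
    _ = (sc w * g) * (X * B) * g⁻¹ := by rw [sc_comm]
    _ = sc w * (g * (X * B) * g⁻¹) := by simp only [mul_assoc]
    _ = sc w * ((g * X * g⁻¹) * (g * B * g⁻¹)) := by congr 1; group

/-- the sign case -/
theorem no_odd {B X : GL (Fin 6) F} (LB : C.L B pb) (LX : C.L X px) {w : Fˣ} (hBX : B * X = sc w * (X * B))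
    (hw : w * w ≠ 1) {h : GL (Fin 6) F}
    {α : MulAut A6} (hI : Ind C h α) {σ : Perm (Fin 6)} (hσ : ∀ y : A6, (α y : Perm (Fin 6)) = σ * y * σ⁻¹)
    (hs : Perm.sign σ = -1) : False := by
  obtain ⟨hs1, e1, e2⟩ := s45_facts
  obtain ⟨t, β, ht, hβ, hβe⟩ := hI.move (swap (4 : Fin 6) 5 : Perm (Fin 6)) (f := fun y => y) hσ (by rw [hs1, hs])
  have LX' := hβ _ _ LX
  have LB' := hβ _ _ LB
  have f1 : β px = px⁻¹ := Subtype.ext ((hβe px).trans e1)
  have f2 : β pb = pb := Subtype.ext ((hβe pb).trans e2)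
  rw [f1] at LX'
  rw [f2] at LB'
  have h2 := comm_eq LB' LX' LB LX.inv (conj_comm hBX (t * h))
  have h3 : X⁻¹ * B = sc w * (B * X⁻¹) := by
    rw [inv_mul_eq_iff_eq_mul]
    calc B = (B * X) * X⁻¹ := by rw [mul_inv_cancel_right]
      _ = sc w * (X * B) * X⁻¹ := by rw [hBX]
      _ = (sc w * X) * (B * X⁻¹) := by simp only [mul_assoc]
      _ = (X * sc w) * (B * X⁻¹) := by rw [sc_comm]
      _ = X * (sc w * (B * X⁻¹)) := mul_assoc _ _ _
  rw [h3, ← mul_assoc, ← H913.N6.sc_mul] at h2
  apply hw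
  apply sc_inj (ι := Fin 6)
  rw [sc_one]
  exact mul_right_cancel (h2.symm.trans (one_mul _).symm)

/-- the first exotic case -/
theorem no_theta1 {B X : GL (Fin 6) F} (LB : C.L B pb) (LX : C.L X px) {w : Fˣ} (hBX : B * X = sc w * (X * B))
    (hw : w * w ≠ 1) {h : GL (Fin 6) F}
    {α : MulAut A6} (hI : Ind C h α) {σ : Perm (Fin 6)} (hσ : ∀ y : A6, (α y : Perm (Fin 6)) = σ * θ y * σ⁻¹)
    (hs : Perm.sign σ = 1) : False := by
  obtain ⟨hs1, e1, e2⟩ := k1_facts
  obtain ⟨t, β, ht, hβ, hβe⟩ := hI.move k1 (f := fun y => θ y) hσ (by rw [hs1, hs])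
  have LX' := hβ _ _ LX
  have LB' := hβ _ _ LB
  have f1 : β px = px * pb := Subtype.ext ((hβe px).trans e1)
  have f2 : β pb = px * px * pb := Subtype.ext ((hβe pb).trans e2)
  rw [f1] at LX'
  rw [f2] at LB'
  have h2 := comm_eq LB' LX' ((LX.mul LX).mul LB) (LX.mul LB) (conj_comm hBX (t * h))
  have h3 : X * X * B * (X * B) = sc w * (X * X * X * (B * B)) := by
    calc X * X * B * (X * B) = X * X * (B * X) * B := by simp only [mul_assoc]
      _ = (X * X * sc w) * (X * B) * B := by rw [hBX]; simp only [mul_assoc]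
      _ = (sc w * (X * X)) * (X * B) * B := by rw [sc_comm w (X * X)]
      _ = sc w * (X * X * X * (B * B)) := by simp only [mul_assoc]
  have h4 : X * B * (X * X * B) = sc (w * w) * (X * X * X * (B * B)) := by
    have h5 : B * (X * X) = sc (w * w) * (X * X * B) := by
      calc B * (X * X) = (B * X) * X := by rw [mul_assoc]
        _ = sc w * (X * B) * X := by rw [hBX]
        _ = sc w * X * (B * X) := by simp only [mul_assoc]
        _ = sc w * (X * sc w) * (X * B) := by rw [hBX]; simp only [mul_assoc]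
        _ = sc w * (sc w * X) * (X * B) := by rw [sc_comm w X]
        _ = sc (w * w) * (X * X * B) := by rw [H913.N6.sc_mul]; simp only [mul_assoc]
    calc X * B * (X * X * B) = X * (B * (X * X)) * B := by simp only [mul_assoc]
      _ = (X * sc (w * w)) * (X * X * B) * B := by rw [h5]; simp only [mul_assoc]
      _ = (sc (w * w) * X) * (X * X * B) * B := by rw [sc_comm]
      _ = sc (w * w) * (X * X * X * (B * B)) := by simp only [mul_assoc]
  rw [h3, h4] at h2
  have h6 := mul_left_cancel h2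
  apply hw
  apply sc_inj (ι := Fin 6)
  rw [sc_one]
  exact mul_right_cancel (h6.symm.trans (one_mul _).symm)

/-- the second exotic case -/
theorem no_theta2 {H : Subgroup (GL (Fin 6) F)} (hres : IsResidualCore H P) (h2 : (2 : F) ≠ 0)
    {K X : GL (Fin 6) F} (LK : C.L K pk) (LX : C.L X px)
    (hXK : (X * K) * (X * K) * (X * K) * (X * K) = sc (-1)) {h : GL (Fin 6) F} (hh : h ∈ H)
    {α : MulAut A6} (hI : Ind C h α) {σ : Perm (Fin 6)} (hσ : ∀ y : A6, (α y : Perm (Fin 6)) = σ * θ y * σ⁻¹)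
    (hs : Perm.sign σ = -1) : False := by
  have hC := core_of_residual hres
  obtain ⟨hs1, e1, e2⟩ := k2_facts
  obtain ⟨t, β, ht, hβ, hβe⟩ := hI.move k2 (f := fun y => θ y) hσ (by rw [hs1, hs])
  obtain ⟨D, hD⟩ : ∃ D, D = t * h := ⟨_, rfl⟩
  rw [← hD] at hβ
  have hDH : D ∈ H := by rw [hD]; exact H.mul_mem (hres.le ht) hh
  have LW := LX.mul LK
  have f1 : β (px * pk) = (px * pk)⁻¹ := Subtype.ext ((hβe _).trans e1)
  obtain ⟨W, hW⟩ : ∃ W, W = X * K := ⟨_, rfl⟩
  rw [← hW] at LW hXK
  have LW' := hβ _ _ LW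
  rw [f1] at LW'
  obtain ⟨ζ, hζP, hζ⟩ := LW'.exists_sc LW.inv
  -- `D²`
  have hDD := hβ.mul hβ
  have hββ : ∀ y : A6, (β * β) y = ((px * pk) * (px * pk)) * y * ((px * pk) * (px * pk))⁻¹ := by
    intro y
    apply Subtype.ext
    have h3 : (((β * β) y : A6) : Perm (Fin 6)) = k2 * θ (k2 * θ y * k2⁻¹) * k2⁻¹ := by
      rw [MulAut.mul_apply, hβe, hβe]
    rw [h3, map_mul, map_mul, map_inv, θ_θ, show k2 * (θ k2 * (y : Perm (Fin 6)) * (θ k2)⁻¹) * k2⁻¹ =
      (k2 * θ k2) * y * (k2 * θ k2)⁻¹ by group, e2]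
    simp only [Subgroup.coe_mul, Subgroup.coe_inv]
  obtain ⟨g, c, hg, hgc⟩ := Cov.mem_of_inner (C := C) (h := D * D) (fun g hg hx =>
    hres.centralizer_scalar _ (H.mul_mem (H.inv_mem (hres.le hg)) (H.mul_mem hDH hDH)) hx) hDD hββ
  obtain ⟨c', -, hc'⟩ := hg.exists_sc (LW.mul LW)
  obtain ⟨μ, hμ⟩ : ∃ μ : Fˣ, D * D = sc μ * (W * W) :=
    ⟨c' * c, by rw [hgc, hc', mul_assoc, ← sc_comm c, ← mul_assoc, ← H913.N6.sc_mul]⟩
  have h3 : D * (D * D) * D⁻¹ = D * D := by group
  have h4 : D * (sc μ * (W * W)) * D⁻¹ = sc μ * ((D * W * D⁻¹) * (D * W * D⁻¹)) := by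
    rw [← mul_assoc D, ← sc_comm μ D]; group
  rw [hμ, h4, hζ] at h3
  have h5 : sc ζ * W⁻¹ * (sc ζ * W⁻¹) = W * W := by
    exact mul_left_cancel h3
  have h6 : sc ζ * W⁻¹ * (sc ζ * W⁻¹) = sc (ζ * ζ) * (W * W)⁻¹ := by
    calc sc ζ * W⁻¹ * (sc ζ * W⁻¹) = sc ζ * (W⁻¹ * sc ζ) * W⁻¹ := by simp only [mul_assoc]
      _ = sc ζ * (sc ζ * W⁻¹) * W⁻¹ := by rw [sc_comm ζ W⁻¹]
      _ = sc (ζ * ζ) * (W * W)⁻¹ := by rw [H913.N6.sc_mul, _root_.mul_inv_rev]; simp only [mul_assoc]
  rw [h6, mul_inv_eq_iff_eq_mul, ← mul_assoc, hXK] at h5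
  have h7 := sc_inj h5
  have h8 : ζ ^ 6 = 1 := by
    have hmem : (⟨sc ζ, hζP⟩ : P) ∈ (scalars (Fin 6) F).subgroupOf P :=
      Subgroup.mem_subgroupOf.2 (sc_mem_scalars ζ)
    have h9 := hC.pow_card hmem
    rw [Fintype.card_fin] at h9
    apply sc_inj (ι := Fin 6)
    rw [sc_pow, sc_one]
    exact congrArg (fun y : P => (y : GL (Fin 6) F)) h9
  have h9 : ζ ^ 6 = (ζ * ζ) ^ 3 := by rw [← pow_two, ← pow_mul]
  rw [h9, h7] at h8
  have h10 := congrArg (fun y : Fˣ => (y : F)) h8
  simp only [Units.val_pow_eq_pow_val, Units.val_neg, Units.val_one] at h10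
  apply h2
  linear_combination -h10

/-- **Every element of `H` is a scalar times an element of `P`.** -/
theorem le_scalars [Finite F] {H : Subgroup (GL (Fin 6) F)} (hres : IsResidualCore H P) (h2 : (2 : F) ≠ 0) {m z i j k b d x : P}
    (hL : Cov6.Lft C.π m z i j k b d x) (hm : (m : GL (Fin 6) F) = -1) {w : Fˣ} (hz : (z : GL (Fin 6) F) = sc w)
    {h : GL (Fin 6) F} (hh : h ∈ H) : ∃ g ∈ P, ∃ c : Fˣ, h = g * sc c := by
  obtain ⟨α, hα⟩ := C.exists_aut (h := h) (hres.normal h hh) (fun x hx => by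
    have := hres.normal h⁻¹ (H.inv_mem hh) x hx
    rwa [inv_inv] at this)
  have LB : C.L b pb := ⟨b.2, hL.πb⟩
  have LX : C.L x px := ⟨x.2, hL.πx⟩
  have LK : C.L k pk := ⟨k.2, hL.πk⟩
  have hBX : (b : GL (Fin 6) F) * (x : GL (Fin 6) F) = sc w * ((x : GL (Fin 6) F) * (b : GL (Fin 6) F)) := by
    have := congrArg (fun y : P => (y : GL (Fin 6) F)) hL.bx
    simp only [Subgroup.coe_mul] at this
    rw [this, hz]
  have hw : w * w ≠ 1 := by
    intro h1
    apply hL.z1
    have h3 : z * z = 1 := by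
      apply Subtype.ext
      rw [Subgroup.coe_mul, hz, ← H913.N6.sc_mul, h1, sc_one, Subgroup.coe_one]
    have h4 := hL.z3
    rwa [h3, one_mul] at h4
  have hXK : ((x : GL (Fin 6) F) * (k : GL (Fin 6) F)) * ((x : GL (Fin 6) F) * (k : GL (Fin 6) F)) *
      ((x : GL (Fin 6) F) * (k : GL (Fin 6) F)) * ((x : GL (Fin 6) F) * (k : GL (Fin 6) F)) = sc (-1) := by
    have := congrArg (fun y : P => (y : GL (Fin 6) F)) hL.xk
    simp only [Subgroup.coe_mul] at this
    rw [this, hm, sc_neg_one]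
  by_cases hNS : NS α
  · obtain ⟨σ, hσ⟩ := hNS
    rcases Int.units_eq_one_or (sign σ) with hs | hs
    · obtain ⟨g, c, hg, hgc⟩ := Cov.mem_of_inner (C := C) (h := h) (γ := ⟨σ, mem_alternatingGroup.2 hs⟩)
        (fun g hg hx => hres.centralizer_scalar _ (H.mul_mem (H.inv_mem (hres.le hg)) hh) hx) hα
        (fun y => Subtype.ext (hσ y))
      exact ⟨g, hg.mem, c, hgc⟩
    · exact (no_odd LB LX hBX hw hα hσ hs).elim
  · obtain ⟨τ, hτ⟩ := eq_theta hNS
    rcases Int.units_eq_one_or (sign τ) with hs | hs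
    · exact (no_theta1 LB LX hBX hw hα hτ hs).elim
    · exact (no_theta2 hres h2 LK LX hXK hh hα hτ hs).elim

end Cfsg.Agent.H830.A6
end

-- part: H830/A6/Main
section
/-!
# `6.A₆` is not maximal in `SL_6`, `SU_6` (helper830)

* `not_maximal_sl6` : no maximal subgroup of `SL_6(F)` has a core `6.A₆`;
* `not_maximal_su6` : the unitary case.
-/

set_option autoImplicit false
set_option linter.unusedSectionVars false
set_option linter.dupNamespace false

open Equiv Equiv.Perm

namespace Cfsg.Agent.H830.A6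

open Cfsg Cfsg.Geo Matrix Cfsg.Agent.H915.LD Cfsg.Agent.H913.N6

universe u

variable {F : Type u} [Field F] {P : Subgroup (GL (Fin 6) F)}

theorem cent_ij : ∀ σ : A6, σ * pi' = pi' * σ → σ * pj = pj * σ → σ = 1 ∨ σ = pi' ∨ σ = pj ∨ σ = pk := by
  (set_option synthInstance.maxSize 9000 in open scoped Cfsg.Agent.Lib.FastPerm in decide +kernel)

/-- an element of `P` commuting with `i` and `j` is a scalar -/
theorem scalar_of_comm {C : Cov P A6} {m z i j k b d x : P} (hc : Cov6 C.π m) (hL : Cov6.Lft C.π m z i j k b d x)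
    {s : P} (hi : s * i = i * s) (hj : s * j = j * s) : C.π s = 1 := by
  have ji : j * i = m * (i * j) := by rw [hL.ji, hL.ij]
  -- an element differing from `t` by a central element
  have key : ∀ t : P, C.π s = C.π t → t * i = i * t ∧ t * j = j * t := by
    intro t ht
    obtain ⟨y, hy, rfl⟩ := hc.exists_z ht
    have hyc := hc.cent y hy
    constructor
    · have h1 : y * (t * i) = y * (i * t) := by
        rw [← mul_assoc, hi, ← mul_assoc, ← mul_assoc, hyc i]
      exact mul_left_cancel h1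
    · have h1 : y * (t * j) = y * (j * t) := by
        rw [← mul_assoc, hj, ← mul_assoc, ← mul_assoc, hyc j]
      exact mul_left_cancel h1
  have hne : i * j ≠ j * i := by
    intro h1
    rw [ji] at h1
    exact hc.m1 (right_eq_mul.1 h1)
  rcases cent_ij (C.π s) (by rw [← hL.πi, ← map_mul, ← map_mul, hi]) (by rw [← hL.πj, ← map_mul, ← map_mul, hj]) with
    h1 | h1 | h1 | h1
  · exact h1
  · exact absurd (key i (by rw [h1, hL.πi])).2 hne
  · exact absurd (key j (by rw [h1, hL.πj])).1.symm hne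
  · exfalso
    have h2 := (key k (by rw [h1, hL.πk])).1
    rw [← hL.ij] at h2
    apply hne
    have h3 : i * (j * i) = i * (i * j) := by rw [← mul_assoc, h2]
    exact (mul_left_cancel h3).symm

theorem comm_of_sc {s t : GL (Fin 6) F} {c : Fˣ} (h : s * sc c * t = t * (s * sc c)) : s * t = t * s := by
  have h4 : s * t * sc c = t * s * sc c := by
    calc s * t * sc c = s * (t * sc c) := mul_assoc _ _ _
      _ = s * (sc c * t) := by rw [sc_comm]
      _ = s * sc c * t := (mul_assoc _ _ _).symm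
      _ = t * (s * sc c) := h
      _ = t * s * sc c := (mul_assoc _ _ _).symm
  exact mul_right_cancel h4

/-- the common part -/
theorem not_maximal [Finite F] {K H : Subgroup (GL (Fin 6) F)} (hmax : IsMaximalIn K H) (hres : IsResidualCore H P)
    (e : Soc P ≃* alternatingGroup (Fin 6)) (hn : Nat.card ((scalars (Fin 6) F).subgroupOf P) = 6)
    (hK : ∀ g : GL (Fin 6) F, Matrix.GeneralLinearGroup.det g = 1 →
      (∀ q : ℕ, Nat.card F = q ^ 2 → P ≤ GU 6 F q → g ∈ GU 6 F q) → g ∈ K)
    (hK' : (2 : F) ≠ 0 → ∀ s, dg F s ∈ K) : False := by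
  have hC := core_of_residual hres
  obtain ⟨m, z, i, j, k, b, d, x, w, g, hc, hL, hm, hz, hw, h2, h3, g3, gi, gj, xg, hdet, hsc, hU⟩ :=
    exists_g hC hn (Cov.of e)
  obtain ⟨W, hsW, hPW, hgW, hnW⟩ := exists_over (Cov.of e) hL h2 g3 gi gj xg
  have hgK : g ∈ K := hK g hdet hU
  -- `g ∉ H`
  have hgH : g ∉ H := by
    intro hg
    obtain ⟨s, hs, c, rfl⟩ := le_scalars hres h2 hL hm hz hg
    have hci : (⟨s, hs⟩ : P) * i = i * ⟨s, hs⟩ := by
      apply Subtype.ext
      rw [Subgroup.coe_mul, Subgroup.coe_mul]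
      exact comm_of_sc gi
    have hcj : (⟨s, hs⟩ : P) * j = j * ⟨s, hs⟩ := by
      apply Subtype.ext
      rw [Subgroup.coe_mul, Subgroup.coe_mul]
      exact comm_of_sc gj
    have h4 := scalar_of_comm hc hL hci hcj
    have h5 : s ∈ scalars (Fin 6) F := ((Cov.of e).ker ⟨s, hs⟩).1 h4
    exact hsc (mul_mem h5 (sc_mem_scalars c))
  -- `H ≤ W`
  have hHW : H ≤ W := by
    intro y hy
    obtain ⟨s, hs, c, rfl⟩ := le_scalars hres h2 hL hm hz hy
    exact mul_mem (hPW hs) (hsW (sc_mem_scalars c))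
  rcases hmax.2 (W ⊓ K) (le_inf hHW hmax.1.le) inf_le_right with h4 | h4
  · apply hgH
    rw [← h4]
    exact ⟨hgW, hgK⟩
  · apply hnW
    intro s
    have h5 : dg F s ∈ W ⊓ K := by rw [h4]; exact hK' h2 s
    exact h5.1

/-- **`6.A₆` in `SL_6`.** -/
theorem not_maximal_sl6 [Finite F] {H : Subgroup (GL (Fin 6) F)} (hmax : IsMaximalIn (specialLinear (Fin 6) F) H)
    (hres : IsResidualCore H P) (e : Soc P ≃* alternatingGroup (Fin 6))
    (hn : Nat.card ((scalars (Fin 6) F).subgroupOf P) = 6) : False :=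
  not_maximal hmax hres e hn (fun _ hg _ => hg) (fun _ s => det_dg s)

/-- **`6.A₆` in `SU_6`.** -/
theorem not_maximal_su6 [Fintype F] {q : ℕ} (hF : Fintype.card F = q ^ 2) {H : Subgroup (GL (Fin 6) F)}
    (hmax : IsMaximalIn (GU 6 F q ⊓ specialLinear (Fin 6) F) H)
    (hres : IsResidualCore H P) (e : Soc P ≃* alternatingGroup (Fin 6))
    (hn : Nat.card ((scalars (Fin 6) F).subgroupOf P) = 6) : False := by
  have hPU : P ≤ GU 6 F q := (hres.le.trans hmax.1.le).trans inf_le_left
  refine not_maximal hmax hres e hn (fun g hg hU => ⟨hU q (by rw [Nat.card_eq_fintype_card, hF]) hPU, hg⟩)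
    (fun h2 s => ⟨dg_mem_GU ?_ s, det_dg s⟩)
  -- `q` is odd
  rw [← Nat.not_even_iff_odd]
  intro hq
  apply h2
  have h3 : Even (Fintype.card F) := by rw [hF]; exact hq.pow_of_ne_zero (by norm_num)
  have h4 : ringChar F = 2 := FiniteField.even_card_iff_char_two.2 (Nat.even_iff.1 h3)
  have : CharP F 2 := by rw [← h4]; exact ringChar.charP F
  exact CharP.cast_eq_zero F 2

end Cfsg.Agent.H830.A6
end

private theorem dce_d50dd44c9776 : _root_.True := by
  try have : _root_.True := by simp only [_root_.Cfsg.Agent.H830.A6.dvec.eq_1]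
  try have : _root_.True := by simp only [_root_.Cfsg.Agent.H830.A6.sg.eq_1]
  exact _root_.True.intro
end

-- part: H910/Six/Trace
section
prune_inst 0x4210078044040000000000590a1201c40840000b00008800080800040050860600982a860a80004161228040508040000001000000220000000000000011901801000000001000000200080000000000000000000000000000000000000000004000000000
set_option linter.all false
open scoped Cfsg.Agent.FastGrp

-- part: H910/Six/Frame
section
/-!
# The six lines permuted by `3.A₆` in dimension six (helper910)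
-/

set_option autoImplicit false
set_option linter.unusedSectionVars false

open Matrix Equiv

namespace Cfsg.Agent.H910.Six

variable {F : Type*} [Field F] {G : Type*} [Group G] {m : G →* M6 F} {φ : G →* Perm (Fin 6)}
  {t1 t2 u r x a b : G}

/-- all the lifts of `(0 1 2)` and `(3 4 5)` fail to commute -/
theorem Hex.nc' (h : Hex m φ) {x y : G} (hx : φ x = c[(0 : Fin 6), 1, 2]) (hy : φ y = c[(3 : Fin 6), 4, 5]) : x * y ≠ y * x := by
  obtain ⟨x', y', h1, h2, h3⟩ := h.nc
  intro h4
  apply h3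
  have hk : φ (x⁻¹ * x') = 1 := by rw [map_mul, map_inv, h1, hx, inv_mul_cancel]
  have hl : φ (y⁻¹ * y') = 1 := by rw [map_mul, map_inv, h2, hy, inv_mul_cancel]
  have hc := h.central hk
  have hd := h.central hl
  have e : x' = x * (x⁻¹ * x') := by group
  have f : y' = y * (y⁻¹ * y') := by group
  generalize x⁻¹ * x' = k at *
  generalize y⁻¹ * y' = l at *
  rw [e, f]
  calc x * k * (y * l) = x * (k * y) * l := by group
    _ = x * y * (k * l) := by rw [hc]; group
    _ = y * x * (l * k) := by rw [h4, hc l]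
    _ = y * (x * l) * k := by group
    _ = y * (l * x) * k := by rw [hd]
    _ = y * l * (x * k) := by group

/-- an involution over an element fixing the vector `v` fixes `v` -/
theorem Hex.fix (h : Hex m φ) {g k : G} {v : Fin 6 → F} (hv : v ≠ 0) (hgk : φ g = φ k) (hg : g * g = 1)
    (hk : m k *ᵥ v = v) : m g *ᵥ v = v := by
  have hz : φ (k⁻¹ * g) = 1 := by rw [map_mul, map_inv, hgk, inv_mul_cancel]
  obtain ⟨c, hc, hm⟩ := h.ker _ hz
  have e : m g = m k * m (k⁻¹ * g) := by rw [← map_mul]; congr 1; group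
  have h1 : m g *ᵥ v = c • v := by
    rw [e, ← Matrix.mulVec_mulVec, hm, Matrix.smul_mulVec, Matrix.one_mulVec, Matrix.mulVec_smul, hk]
  have h2 : (c * c) • v = v := by
    have h3 : m g *ᵥ (m g *ᵥ v) = v := by rw [Matrix.mulVec_mulVec, ← map_mul, hg, map_one, Matrix.one_mulVec]
    rw [h1, Matrix.mulVec_smul, h1, smul_smul] at h3
    exact h3
  have h3 : c * c = 1 := by
    have h4 : (c * c - 1) • v = 0 := by rw [sub_smul, h2, one_smul, sub_self]
    rcases smul_eq_zero.1 h4 with h5 | h5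
    · linear_combination h5
    · exact absurd h5 hv
  have h4 : c = 1 := by linear_combination hc - c * h3
  rw [h1, h4, one_smul]

/-- a lift acts on a vector fixed by another lift as a cube root of unity -/
theorem Hex.scal (h : Hex m φ) {g k : G} {v : Fin 6 → F} (hgk : φ g = φ k)
    (hk : m k *ᵥ v = v) : ∃ c : F, c ^ 3 = 1 ∧ m g *ᵥ v = c • v := by
  have hz : φ (k⁻¹ * g) = 1 := by rw [map_mul, map_inv, hgk, inv_mul_cancel]
  obtain ⟨c, hc, hm⟩ := h.ker _ hz
  have e : m g = m k * m (k⁻¹ * g) := by rw [← map_mul]; congr 1; group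
  refine ⟨c, hc, ?_⟩
  rw [e, ← Matrix.mulVec_mulVec, hm, Matrix.smul_mulVec, Matrix.one_mulVec, Matrix.mulVec_smul, hk]

/-- the action on the six vectors -/
structure Frame (m : G →* M6 F) (φ : G →* Perm (Fin 6)) (t1 t2 u r x : G) (v : Fin 6 → (Fin 6 → F)) (c : F) : Prop where
  ne : ∀ i, v i ≠ 0
  a1 : ∀ i, m t1 *ᵥ v i = v (φ t1 i)
  a2 : ∀ i, m t2 *ᵥ v i = v (φ t2 i)
  au : ∀ i, m u *ᵥ v i = v (φ u i)
  ar : ∀ i, m r *ᵥ v i = v (φ r i)
  ax : ∀ i, m x *ᵥ v i = (![1, 1, 1, 1, c * c, c] : Fin 6 → F) i • v (φ x i)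
  hc : c ^ 3 = 1

theorem Data.exists_frame (h : Hex m φ) (d : Data m φ t1 t2 u r x a b) {w : Fin 6 → F} (hw : w ≠ 0)
    (xw : m x *ᵥ w = w) (aw : m a *ᵥ w = w) (bw : m b *ᵥ w = w) (uw : m u *ᵥ w = w) :
    ∃ (v : Fin 6 → (Fin 6 → F)) (c : F), Frame m φ t1 t2 u r x v c := by
  -- more involutions fixing `w`
  have mm : ∀ (g g' : G) (z : Fin 6 → F), m g *ᵥ (m g' *ᵥ z) = m (g * g') *ᵥ z := fun g g' z => by
    rw [Matrix.mulVec_mulVec, map_mul]
  have invo : ∀ (g : G), g * g = 1 → ∀ z : Fin 6 → F, m g *ᵥ (m g *ᵥ z) = z := fun g hg z => by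
    rw [mm, hg, map_one, Matrix.one_mulVec]
  have cj : ∀ (g k l : G), l * k * l⁻¹ = g → ∀ z : Fin 6 → F, m g *ᵥ (m l *ᵥ z) = m l *ᵥ (m k *ᵥ z) := fun g k l hg z => by
    rw [mm, mm, ← hg]; congr 2; group
  obtain ⟨a', ha', qa'⟩ := h.exists_inv (c[(0 : Fin 6), 4] * c[(1 : Fin 6), 5]) (by decide) (by decide)
  obtain ⟨b', hb', qb'⟩ := h.exists_inv (c[(0 : Fin 6), 5] * c[(1 : Fin 6), 4]) (by decide) (by decide)
  obtain ⟨t3, ht3, qt3⟩ := h.exists_inv (c[(0 : Fin 6), 3] * c[(1 : Fin 6), 2]) (by decide) (by decide)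
  have a'w : m a' *ᵥ w = w := h.fix (k := b * u * a * x) hw (by
    simp only [map_mul, ha', d.hb, d.hu, d.ha, d.hx]; decide) qa' (by
    simp only [← mm, xw, aw, bw, uw])
  have b'w : m b' *ᵥ w = w := h.fix (k := b * u * a * x * u) hw (by
    simp only [map_mul, hb', d.hb, d.hu, d.ha, d.hx]; decide) qb' (by
    simp only [← mm, xw, aw, bw, uw])
  -- relations
  have t12 : t1 * t2 = t3 := h.mul_inv (by rw [d.ht1, d.ht2]; decide) d.qt1 d.qt2 qt3 (by rw [d.ht1, d.ht2, ht3]; decide)
  have t21 : t2 * t1 = t3 := h.mul_inv (by rw [d.ht1, d.ht2]; decide) d.qt2 d.qt1 qt3 (by rw [d.ht1, d.ht2, ht3]; decide)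
  have t13 : t1 * t3 = t2 := by rw [← t12, ← mul_assoc, d.qt1, one_mul]
  have t23 : t2 * t3 = t1 := by rw [← t21, ← mul_assoc, d.qt2, one_mul]
  have r1 : t1 * r = r * u := by
    rw [← h.conj (a := u) (b := t1) (k := r) (by rw [d.hr, d.hu, d.ht1]; decide) d.qu d.qt1]; group
  have r2 : t2 * r = r * a' := by
    rw [← h.conj (a := a') (b := t2) (k := r) (by rw [d.hr, ha', d.ht2]; decide) qa' d.qt2]; group
  have u1 : u * t1 = t1 * u := h.comm (by rw [d.hu, d.ht1]; decide) d.qt1
  have u2 : t2 * u = u * t3 := by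
    rw [← h.conj (a := t3) (b := t2) (k := u) (by rw [d.hu, ht3, d.ht2]; decide) qt3 d.qt2]; group
  have u3 : u * t2 = t3 * u := by
    calc u * t2 = u * (t2 * u) * u⁻¹ := by group
      _ = (u * u) * t3 * u⁻¹ := by rw [u2]; group
      _ = t3 * u := by rw [d.qu, one_mul, inv_eq_of_mul_eq_one_left d.qu]
  have r3 : r * t3 = t3 * b' := by
    have := h.conj (a := b') (b := r) (k := t3) (by rw [d.hr, hb', ht3]; decide) qb' d.qr
    rw [← this]
    calc t3 * b' * t3⁻¹ * t3 = t3 * b' := by group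
      _ = t3 * b' := rfl
  have r4 : r * t2 = t2 * a' := by
    rw [← h.conj (a := a') (b := r) (k := t2) (by rw [d.hr, ha', d.ht2]; decide) qa' d.qr]; group
  have r5 : r * t1 = u * r := by
    calc r * t1 = r * (t1 * r) * r⁻¹ := by group
      _ = (r * r) * u * r⁻¹ := by rw [r1]; group
      _ = u * r := by rw [d.qr, one_mul, inv_eq_of_mul_eq_one_left d.qr]
  have x1 : x * t3 = t2 * x := by
    rw [← h.conj (a := t3) (b := t2) (k := x) (by rw [d.hx, ht3, d.ht2]; decide) qt3 d.qt2]; group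
  have x2 : x * t2 = t1 * x := by
    rw [← h.conj (a := t2) (b := t1) (k := x) (by rw [d.hx, d.ht1, d.ht2]; decide) d.qt2 d.qt1]; group
  have x3 : x * t1 = t3 * x := by
    rw [← h.conj (a := t1) (b := t3) (k := x) (by rw [d.hx, d.ht1, ht3]; decide) d.qt1 qt3]; group
  have x4 : x * u = u * (x * x) := by
    rw [← d.inv_x, ← d.ux]
    calc x * u = (u * u) * x * u := by rw [d.qu, one_mul]
      _ = u * (u * x * u) := by group
  -- the vectors
  have red : ∀ k s : G, m s *ᵥ w = w → m (k * s) *ᵥ w = m k *ᵥ w := fun k s hs => by rw [← mm, hs]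
  obtain ⟨c, hc, hxc⟩ := h.scal (g := x) (k := r * (x * a * x) * r) (v := m r *ᵥ w) (by
    simp only [map_mul, d.hx, d.ha, d.hr]; decide) (by
    simp only [← mm, invo r d.qr, xw, aw])
  have hxr : m (x * r) *ᵥ w = c • (m r *ᵥ w) := by rw [← mm, hxc]
  have hxur : m (x * (u * r)) *ᵥ w = (c * c) • (m (u * r) *ᵥ w) := by
    rw [← mul_assoc, x4, mul_assoc, ← mm, ← mm, ← mm x x, hxc, Matrix.mulVec_smul, hxc, smul_smul,
      Matrix.mulVec_smul, mm]
  have hvne : ∀ g : G, m g *ᵥ w ≠ 0 := fun g hg => by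
    apply hw
    have : m g⁻¹ *ᵥ (m g *ᵥ w) = w := by rw [mm, inv_mul_cancel, map_one, Matrix.one_mulVec]
    rw [← this, hg, Matrix.mulVec_zero]
  refine ⟨![m t3 *ᵥ w, m t2 *ᵥ w, m t1 *ᵥ w, w, m (u * r) *ᵥ w, m r *ᵥ w], c, ?_, ?_, ?_, ?_, ?_, ?_, hc⟩
  · intro i
    fin_cases i
    exacts [hvne _, hvne _, hvne _, hw, hvne _, hvne _]
  · rw [d.ht1]
    intro i
    fin_cases i
    · show m t1 *ᵥ (m t3 *ᵥ w) = m t2 *ᵥ w
      rw [mm, t13]
    · show m t1 *ᵥ (m t2 *ᵥ w) = m t3 *ᵥ w
      rw [mm, t12]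
    · show m t1 *ᵥ (m t1 *ᵥ w) = w
      rw [invo _ d.qt1]
    · rfl
    · show m t1 *ᵥ (m (u * r) *ᵥ w) = m (u * r) *ᵥ w
      rw [mm, ← mul_assoc, ← u1, mul_assoc, r1, ← mul_assoc, red _ _ uw]
    · show m t1 *ᵥ (m r *ᵥ w) = m r *ᵥ w
      rw [mm, r1, red _ _ uw]
  · rw [d.ht2]
    intro i
    fin_cases i
    · show m t2 *ᵥ (m t3 *ᵥ w) = m t1 *ᵥ w
      rw [mm, t23]
    · show m t2 *ᵥ (m t2 *ᵥ w) = w
      rw [invo _ d.qt2]
    · show m t2 *ᵥ (m t1 *ᵥ w) = m t3 *ᵥ w
      rw [mm, t21]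
    · rfl
    · show m t2 *ᵥ (m (u * r) *ᵥ w) = m (u * r) *ᵥ w
      have e : t2 * (u * r) = (u * r) * (u * a') := by
        rw [← mul_assoc, u2, mul_assoc, ← t12, mul_assoc t1, r2, ← mul_assoc t1, r1]; group
      rw [mm, e, red _ _ (by rw [← mm, a'w, uw])]
    · show m t2 *ᵥ (m r *ᵥ w) = m r *ᵥ w
      rw [mm, r2, red _ _ a'w]
  · rw [d.hu]
    intro i
    fin_cases i
    · show m u *ᵥ (m t3 *ᵥ w) = m t2 *ᵥ w
      rw [mm, ← u2, red _ _ uw]
    · show m u *ᵥ (m t2 *ᵥ w) = m t3 *ᵥ w
      rw [mm, u3, red _ _ uw]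
    · show m u *ᵥ (m t1 *ᵥ w) = m t1 *ᵥ w
      rw [mm, u1, red _ _ uw]
    · exact uw
    · show m u *ᵥ (m (u * r) *ᵥ w) = m r *ᵥ w
      rw [← mm, invo _ d.qu]
    · show m u *ᵥ (m r *ᵥ w) = m (u * r) *ᵥ w
      rw [mm]
  · rw [d.hr]
    intro i
    fin_cases i
    · show m r *ᵥ (m t3 *ᵥ w) = m t3 *ᵥ w
      rw [mm, r3, red _ _ b'w]
    · show m r *ᵥ (m t2 *ᵥ w) = m t2 *ᵥ w
      rw [mm, r4, red _ _ a'w]
    · show m r *ᵥ (m t1 *ᵥ w) = m (u * r) *ᵥ w
      rw [mm, r5]
    · rfl
    · show m r *ᵥ (m (u * r) *ᵥ w) = m t1 *ᵥ w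
      rw [← r5, ← mm, invo _ d.qr]
    · show m r *ᵥ (m r *ᵥ w) = w
      rw [invo _ d.qr]
  · rw [d.hx]
    intro i
    fin_cases i
    · show m x *ᵥ (m t3 *ᵥ w) = (1 : F) • (m t2 *ᵥ w)
      rw [mm, x1, red _ _ xw, one_smul]
    · show m x *ᵥ (m t2 *ᵥ w) = (1 : F) • (m t1 *ᵥ w)
      rw [mm, x2, red _ _ xw, one_smul]
    · show m x *ᵥ (m t1 *ᵥ w) = (1 : F) • (m t3 *ᵥ w)
      rw [mm, x3, red _ _ xw, one_smul]
    · show m x *ᵥ w = (1 : F) • w
      rw [xw, one_smul]
    · show m x *ᵥ (m (u * r) *ᵥ w) = (c * c) • (m (u * r) *ᵥ w)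
      rw [mm, hxur]
    · show m x *ᵥ (m r *ᵥ w) = c • (m r *ᵥ w)
      rw [hxc]

end Cfsg.Agent.H910.Six
end

-- part: H910/Six/Gen
section
/-!
# Generation of `3.A₆`, linear independence of the frame (helper910)
-/

set_option autoImplicit false
set_option linter.unusedSectionVars false

open Matrix Equiv

namespace Cfsg.Agent.H910.Six

variable {F : Type*} [Field F] {G : Type*} [Group G] {m : G →* M6 F} {φ : G →* Perm (Fin 6)}
  {t1 t2 u r x a b : G}

open Cfsg.Agent.Lib.AltCarmichael in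
theorem closure_perms : alternatingGroup (Fin 6) ≤
    Subgroup.closure ({c[(0 : Fin 6), 1] * c[(2 : Fin 6), 3], c[(0 : Fin 6), 2] * c[(1 : Fin 6), 3], c[(0 : Fin 6), 1] * c[(4 : Fin 6), 5], c[(2 : Fin 6), 4] * c[(3 : Fin 6), 5], c[(0 : Fin 6), 1, 2]} :
      Set (Perm (Fin 6))) := by
  set H := Subgroup.closure ({c[(0 : Fin 6), 1] * c[(2 : Fin 6), 3], c[(0 : Fin 6), 2] * c[(1 : Fin 6), 3], c[(0 : Fin 6), 1] * c[(4 : Fin 6), 5], c[(2 : Fin 6), 4] * c[(3 : Fin 6), 5], c[(0 : Fin 6), 1, 2]} :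
      Set (Perm (Fin 6))) with hH
  have h1 : c[(0 : Fin 6), 1] * c[(2 : Fin 6), 3] ∈ H := Subgroup.subset_closure (by simp only [_root_.Fin.isValue, _root_.Set.mem_insert_iff, _root_.mul_right_inj, _root_.Set.mem_singleton_iff, _root_.true_or])
  have h2 : c[(0 : Fin 6), 2] * c[(1 : Fin 6), 3] ∈ H := Subgroup.subset_closure (by simp only [_root_.Fin.isValue, _root_.Set.mem_insert_iff, _root_.Set.mem_singleton_iff, _root_.true_or, _root_.or_true])
  have hu : c[(0 : Fin 6), 1] * c[(4 : Fin 6), 5] ∈ H := Subgroup.subset_closure (by simp only [_root_.Fin.isValue, _root_.Set.mem_insert_iff, _root_.mul_right_inj, _root_.Set.mem_singleton_iff, _root_.true_or, _root_.or_true])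
  have hr : c[(2 : Fin 6), 4] * c[(3 : Fin 6), 5] ∈ H := Subgroup.subset_closure (by simp only [_root_.Fin.isValue, _root_.Set.mem_insert_iff, _root_.Set.mem_singleton_iff, _root_.true_or, _root_.or_true])
  have hx : c[(0 : Fin 6), 1, 2] ∈ H := Subgroup.subset_closure (by simp only [_root_.Fin.isValue, _root_.Set.mem_insert_iff, _root_.Set.mem_singleton_iff, _root_.or_true])
  rw [← gen_cyc 4 (by norm_num), gen_def, Subgroup.closure_le]
  rintro _ ⟨i, hi, rfl⟩
  have e0 : cyc 4 0 = (c[(2 : Fin 6), 4] * c[(3 : Fin 6), 5]) * c[(0 : Fin 6), 1, 2] * (c[(0 : Fin 6), 1] * c[(2 : Fin 6), 3]) * (c[(2 : Fin 6), 4] * c[(3 : Fin 6), 5]) := by decide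
  have e1 : cyc 4 1 = (c[(2 : Fin 6), 4] * c[(3 : Fin 6), 5]) * (c[(0 : Fin 6), 2] * c[(1 : Fin 6), 3]) * c[(0 : Fin 6), 1, 2] * c[(0 : Fin 6), 1, 2] * (c[(2 : Fin 6), 4] * c[(3 : Fin 6), 5]) := by decide
  have e2 : cyc 4 2 = (c[(0 : Fin 6), 2] * c[(1 : Fin 6), 3]) * (c[(2 : Fin 6), 4] * c[(3 : Fin 6), 5]) * c[(0 : Fin 6), 1, 2] * (c[(0 : Fin 6), 1] * c[(2 : Fin 6), 3]) * (c[(2 : Fin 6), 4] * c[(3 : Fin 6), 5]) *
    (c[(0 : Fin 6), 2] * c[(1 : Fin 6), 3]) := by decide
  have e3 : cyc 4 3 = (c[(0 : Fin 6), 1] * c[(2 : Fin 6), 3]) * (c[(0 : Fin 6), 2] * c[(1 : Fin 6), 3]) * (c[(2 : Fin 6), 4] * c[(3 : Fin 6), 5]) * c[(0 : Fin 6), 1, 2] * (c[(2 : Fin 6), 4] * c[(3 : Fin 6), 5]) *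
    (c[(0 : Fin 6), 2] * c[(1 : Fin 6), 3]) * (c[(0 : Fin 6), 1] * c[(4 : Fin 6), 5]) := by decide
  rw [SetLike.mem_coe]
  have : i = 0 ∨ i = 1 ∨ i = 2 ∨ i = 3 := by omega
  rcases this with rfl | rfl | rfl | rfl
  · rw [e0]; exact mul_mem (mul_mem (mul_mem hr hx) h1) hr
  · rw [e1]; exact mul_mem (mul_mem (mul_mem (mul_mem hr h2) hx) hx) hr
  · rw [e2]; exact mul_mem (mul_mem (mul_mem (mul_mem (mul_mem h2 hr) hx) h1) hr) h2
  · rw [e3]; exact mul_mem (mul_mem (mul_mem (mul_mem (mul_mem (mul_mem h1 h2) hr) hx) hr) h2) hu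

/-- induction on `G` -/
theorem Data.induct (h : Hex m φ) (d : Data m φ t1 t2 u r x a b) {Q : G → Prop} (hk : ∀ k, φ k = 1 → Q k)
    (hm : ∀ g g', Q g → Q g' → Q (g * g')) (q1 : Q t1) (q2 : Q t2) (qu : Q u) (qr : Q r) (qx : Q x) : ∀ g, Q g := by
  intro g
  have h1 : φ g ∈ (Subgroup.closure ({t1, t2, u, r, x} : Set G)).map φ := by
    rw [MonoidHom.map_closure]
    have e : φ '' ({t1, t2, u, r, x} : Set G) = ({c[(0 : Fin 6), 1] * c[(2 : Fin 6), 3], c[(0 : Fin 6), 2] * c[(1 : Fin 6), 3], c[(0 : Fin 6), 1] * c[(4 : Fin 6), 5],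
        c[(2 : Fin 6), 4] * c[(3 : Fin 6), 5], c[(0 : Fin 6), 1, 2]} : Set (Perm (Fin 6))) := by
      simp only [Set.image_insert_eq, Set.image_singleton, d.ht1, d.ht2, d.hu, d.hr, d.hx]
    rw [e]
    exact closure_perms (Perm.mem_alternatingGroup.2 (h.even g))
  obtain ⟨s, hs, hsg⟩ := h1
  have h2 : Q s := by
    have hinv : ∀ y ∈ ({t1, t2, u, r, x} : Set G), Q y ∧ Q y⁻¹ := by
      rintro y (rfl | rfl | rfl | rfl | rfl)
      · exact ⟨q1, by rw [inv_eq_of_mul_eq_one_left d.qt1]; exact q1⟩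
      · exact ⟨q2, by rw [inv_eq_of_mul_eq_one_left d.qt2]; exact q2⟩
      · exact ⟨qu, by rw [inv_eq_of_mul_eq_one_left d.qu]; exact qu⟩
      · exact ⟨qr, by rw [inv_eq_of_mul_eq_one_left d.qr]; exact qr⟩
      · exact ⟨qx, by rw [d.inv_x]; exact hm _ _ qx qx⟩
    refine Subgroup.closure_induction_left (p := fun y _ => Q y) (hk 1 (map_one φ)) (fun y hy z _ hz => hm _ _ (hinv y hy).1 hz)
      (fun y hy z _ hz => hm _ _ (hinv y hy).2 hz) hs
  have e : g = s * (s⁻¹ * g) := by group
  rw [e]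
  exact hm _ _ h2 (hk _ (by rw [map_mul, map_inv, hsg, inv_mul_cancel]))

/-- lifts of `(0 1 2)` and `(3 4 5)` do not commute on any vector -/
theorem Hex.nc_vec (h : Hex m φ) {x y : G} (hx : φ x = c[(0 : Fin 6), 1, 2]) (hy : φ y = c[(3 : Fin 6), 4, 5]) {v : Fin 6 → F} (hv : v ≠ 0) :
    m (x * y) *ᵥ v ≠ m (y * x) *ᵥ v := by
  intro he
  have hk : φ (x * y * (y * x)⁻¹) = 1 := by
    rw [map_mul, map_inv, map_mul, map_mul, hx, hy]; decide
  obtain ⟨c, hc, hc0, hm, h1⟩ := h.smul_of_ker hk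
  have hne : c ≠ 1 := by
    intro hc1
    apply h.nc' hx hy
    have := h1 hc1
    rwa [mul_inv_eq_one] at this
  have e : x * y = x * y * (y * x)⁻¹ * (y * x) := by group
  rw [e, hm, Matrix.smul_mulVec] at he
  have h2 : (c - 1) • (m (y * x) *ᵥ v) = 0 := by rw [sub_smul, he, one_smul, sub_self]
  rcases smul_eq_zero.1 h2 with h3 | h3
  · exact hne (by linear_combination h3)
  · apply hv
    have : m (y * x)⁻¹ *ᵥ (m (y * x) *ᵥ v) = v := by
      rw [Matrix.mulVec_mulVec, ← map_mul, inv_mul_cancel, map_one, Matrix.one_mulVec]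
    rw [← this, h3, Matrix.mulVec_zero]

variable {v : Fin 6 → (Fin 6 → F)} {c : F}

/-- if `x` permutes the vectors without scalars we have a contradiction -/
theorem Frame.ne_one (h : Hex m φ) (d : Data m φ t1 t2 u r x a b) (f : Frame m φ t1 t2 u r x v c) : c ≠ 1 := by
  intro hc1
  have key : ∀ g : G, ∃ e : F, ∀ i, m g *ᵥ v i = e • v (φ g i) := by
    refine d.induct h (fun k hk => ?_) (fun g g' => ?_) ⟨1, fun i => by rw [one_smul, f.a1]⟩ ⟨1, fun i => by rw [one_smul, f.a2]⟩
      ⟨1, fun i => by rw [one_smul, f.au]⟩ ⟨1, fun i => by rw [one_smul, f.ar]⟩ ⟨1, fun i => ?_⟩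
    · obtain ⟨e, -, he⟩ := h.ker k hk
      refine ⟨e, fun i => ?_⟩
      rw [he, hk, Matrix.smul_mulVec, Matrix.one_mulVec, Perm.one_apply]
    · rintro ⟨e, he⟩ ⟨e', he'⟩
      refine ⟨e' * e, fun i => ?_⟩
      rw [map_mul, ← Matrix.mulVec_mulVec, he', Matrix.mulVec_smul, he, smul_smul, map_mul, Perm.mul_apply]
    · rw [f.ax, hc1]
      congr 1
      (revert i; simp only [_root_.Fin.forall_fin_succ, _root_.mul_one, Fin.isValue, _root_.Matrix.cons_val_zero, _root_.Matrix.cons_val_succ, _root_.Matrix.cons_val_fin_one, _root_.implies_true, _root_.and_self])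
  obtain ⟨y, hy⟩ := h.onto c[(3 : Fin 6), 4, 5] (by decide)
  refine h.nc_vec d.hx hy (f.ne 3) ?_
  obtain ⟨e, he⟩ := key x
  obtain ⟨e', he'⟩ := key y
  have hc : φ (x * y) = φ (y * x) := by rw [map_mul, map_mul, d.hx, hy]; decide
  rw [map_mul, map_mul, ← Matrix.mulVec_mulVec, ← Matrix.mulVec_mulVec, he', Matrix.mulVec_smul, he, he, Matrix.mulVec_smul, he',
    smul_smul, smul_smul, ← Perm.mul_apply, ← Perm.mul_apply, ← map_mul, ← map_mul, hc, mul_comm]

theorem Frame.v01 (h : Hex m φ) (d : Data m φ t1 t2 u r x a b) (f : Frame m φ t1 t2 u r x v c) : v 0 ≠ v 1 := by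
  intro h01
  have x0 := f.ax 0
  have x1 := f.ax 1
  have x5 := f.ax 5
  rw [d.hx] at x0 x1 x5
  have e12 : v 1 = v 2 := by
    rw [show (c[(0 : Fin 6), 1, 2] : Perm (Fin 6)) 0 = 1 by decide] at x0
    rw [show (c[(0 : Fin 6), 1, 2] : Perm (Fin 6)) 1 = 2 by decide] at x1
    simp only [Matrix.cons_val_zero, Matrix.cons_val_one, one_smul] at x0 x1
    rw [← x0, ← x1, h01]
  have e03 : v 0 = v 3 := by
    have y1 := f.a1 1
    have y2 := f.a1 2
    rw [d.ht1] at y1 y2
    rw [show (c[(0 : Fin 6), 1] * c[(2 : Fin 6), 3] : Perm (Fin 6)) 1 = 0 by decide] at y1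
    rw [show (c[(0 : Fin 6), 1] * c[(2 : Fin 6), 3] : Perm (Fin 6)) 2 = 3 by decide] at y2
    rw [← y1, ← y2, e12]
  have e05 : v 0 = v 5 := by
    have y1 := f.ar 0
    have y2 := f.ar 3
    rw [d.hr] at y1 y2
    rw [show (c[(2 : Fin 6), 4] * c[(3 : Fin 6), 5] : Perm (Fin 6)) 0 = 0 by decide] at y1
    rw [show (c[(2 : Fin 6), 4] * c[(3 : Fin 6), 5] : Perm (Fin 6)) 3 = 5 by decide] at y2
    rw [← y1, ← y2, e03]
  have x3 := f.ax 3
  rw [d.hx] at x3
  rw [show (c[(0 : Fin 6), 1, 2] : Perm (Fin 6)) 3 = 3 by decide] at x3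
  rw [show (c[(0 : Fin 6), 1, 2] : Perm (Fin 6)) 5 = 5 by decide, ← e05] at x5
  rw [← e03] at x3
  have h3 : (![1, 1, 1, 1, c * c, c] : Fin 6 → F) 3 = 1 := rfl
  have h5 : (![1, 1, 1, 1, c * c, c] : Fin 6 → F) 5 = c := rfl
  rw [h3, one_smul] at x3
  rw [h5, x3] at x5
  apply f.ne_one h d
  have h6 : (c - 1) • v 0 = 0 := by rw [sub_smul, ← x5, one_smul, sub_self]
  rcases smul_eq_zero.1 h6 with h7 | h7
  · linear_combination h7
  · exact absurd h7 (f.ne 0)

theorem Frame.rel_apply {g : G} {e : Fin 6 → F} (hg : ∀ i, m g *ᵥ v i = e i • v (φ g i)) {k : Fin 6 → F}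
    (hk : ∑ i, k i • v i = 0) : ∑ i, (k i * e i) • v (φ g i) = 0 := by
  have h1 : m g *ᵥ (∑ i, k i • v i) = 0 := by rw [hk, Matrix.mulVec_zero]
  rw [Matrix.mulVec_sum] at h1
  rw [← h1]
  refine Finset.sum_congr rfl fun i _ => ?_
  rw [Matrix.mulVec_smul, hg, smul_smul]

theorem Frame.rel01 (h : Hex m φ) (d : Data m φ t1 t2 u r x a b) (f : Frame m φ t1 t2 u r x v c) (h2 : (2 : F) ≠ 0)
    {k : Fin 6 → F} (hk : ∑ i, k i • v i = 0) : k 0 = k 1 := by
  have r1 := Frame.rel_apply (g := t1) (e := fun _ => 1) (fun i => by rw [one_smul, f.a1]) hk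
  have r2 := Frame.rel_apply (g := u) (e := fun _ => 1) (fun i => by rw [one_smul, f.au]) hk
  have r3 := Frame.rel_apply (g := t1 * u) (e := fun _ => 1) (fun i => by
    rw [one_smul, map_mul, ← Matrix.mulVec_mulVec, f.au, f.a1, map_mul, Perm.mul_apply]) hk
  rw [map_mul] at r3
  rw [d.ht1] at r1 r3
  rw [d.hu] at r2 r3
  simp only [mul_one] at r1 r2 r3
  rw [Fin.sum_univ_six] at r1 r2 r3 hk
  rw [show (c[(0 : Fin 6), 1] * c[(2 : Fin 6), 3] : Perm (Fin 6)) 0 = 1 by decide, show (c[(0 : Fin 6), 1] * c[(2 : Fin 6), 3] : Perm (Fin 6)) 1 = 0 by decide,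
    show (c[(0 : Fin 6), 1] * c[(2 : Fin 6), 3] : Perm (Fin 6)) 2 = 3 by decide, show (c[(0 : Fin 6), 1] * c[(2 : Fin 6), 3] : Perm (Fin 6)) 3 = 2 by decide,
    show (c[(0 : Fin 6), 1] * c[(2 : Fin 6), 3] : Perm (Fin 6)) 4 = 4 by decide, show (c[(0 : Fin 6), 1] * c[(2 : Fin 6), 3] : Perm (Fin 6)) 5 = 5 by decide] at r1
  rw [show (c[(0 : Fin 6), 1] * c[(4 : Fin 6), 5] : Perm (Fin 6)) 0 = 1 by decide, show (c[(0 : Fin 6), 1] * c[(4 : Fin 6), 5] : Perm (Fin 6)) 1 = 0 by decide,
    show (c[(0 : Fin 6), 1] * c[(4 : Fin 6), 5] : Perm (Fin 6)) 2 = 2 by decide, show (c[(0 : Fin 6), 1] * c[(4 : Fin 6), 5] : Perm (Fin 6)) 3 = 3 by decide,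
    show (c[(0 : Fin 6), 1] * c[(4 : Fin 6), 5] : Perm (Fin 6)) 4 = 5 by decide, show (c[(0 : Fin 6), 1] * c[(4 : Fin 6), 5] : Perm (Fin 6)) 5 = 4 by decide] at r2
  rw [show (c[(0 : Fin 6), 1] * c[(2 : Fin 6), 3] * (c[(0 : Fin 6), 1] * c[(4 : Fin 6), 5]) : Perm (Fin 6)) 0 = 0 by decide,
    show (c[(0 : Fin 6), 1] * c[(2 : Fin 6), 3] * (c[(0 : Fin 6), 1] * c[(4 : Fin 6), 5]) : Perm (Fin 6)) 1 = 1 by decide,
    show (c[(0 : Fin 6), 1] * c[(2 : Fin 6), 3] * (c[(0 : Fin 6), 1] * c[(4 : Fin 6), 5]) : Perm (Fin 6)) 2 = 3 by decide,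
    show (c[(0 : Fin 6), 1] * c[(2 : Fin 6), 3] * (c[(0 : Fin 6), 1] * c[(4 : Fin 6), 5]) : Perm (Fin 6)) 3 = 2 by decide,
    show (c[(0 : Fin 6), 1] * c[(2 : Fin 6), 3] * (c[(0 : Fin 6), 1] * c[(4 : Fin 6), 5]) : Perm (Fin 6)) 4 = 5 by decide,
    show (c[(0 : Fin 6), 1] * c[(2 : Fin 6), 3] * (c[(0 : Fin 6), 1] * c[(4 : Fin 6), 5]) : Perm (Fin 6)) 5 = 4 by decide] at r3
  have e : ((2 : F) * (k 0 - k 1)) • (v 0 - v 1) = 0 := by
    have : ((2 : F) * (k 0 - k 1)) • (v 0 - v 1) =
        (k 0 • v 0 + k 1 • v 1 + k 2 • v 2 + k 3 • v 3 + k 4 • v 4 + k 5 • v 5) +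
        (k 0 • v 0 + k 1 • v 1 + k 2 • v 3 + k 3 • v 2 + k 4 • v 5 + k 5 • v 4) -
        (k 0 • v 1 + k 1 • v 0 + k 2 • v 3 + k 3 • v 2 + k 4 • v 4 + k 5 • v 5) -
        (k 0 • v 1 + k 1 • v 0 + k 2 • v 2 + k 3 • v 3 + k 4 • v 5 + k 5 • v 4) := by module
    rw [this, hk, r1, r2, r3]; simp
  rcases smul_eq_zero.1 e with h3 | h3
  · rcases mul_eq_zero.1 h3 with h4 | h4
    · exact absurd h4 h2
    · exact sub_eq_zero.1 h4
  · exact absurd (sub_eq_zero.1 h3) (f.v01 h d)

theorem Frame.rel_all (h : Hex m φ) (d : Data m φ t1 t2 u r x a b) (f : Frame m φ t1 t2 u r x v c) (h2 : (2 : F) ≠ 0)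
    {k : Fin 6 → F} (hk : ∑ i, k i • v i = 0) :
    k 0 = k 1 ∧ k 1 = k 2 ∧ k 2 = k 3 ∧ k 4 = k 5 ∧ k 3 = k 4 := by
  -- relations with permuted coefficients
  have perm : ∀ (σ : Perm (Fin 6)) (k' : Fin 6 → F), (∑ i, k' i • v (σ i)) = ∑ i, k' (σ.symm i) • v i := by
    intro σ k'
    rw [← Equiv.sum_comp σ.symm]
    simp
  have a1 := Frame.rel_apply (g := x) f.ax hk
  have a2 := Frame.rel_apply (g := t2) (e := fun _ => 1) (fun i => by rw [one_smul, f.a2]) hk
  have a3 := Frame.rel_apply (g := r) (e := fun _ => 1) (fun i => by rw [one_smul, f.ar]) hk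
  have b1 := f.rel01 h d h2 hk
  rw [perm, d.hx] at a1
  rw [perm, d.ht2] at a2
  rw [perm, d.hr] at a3
  have c1 := f.rel01 h d h2 a1
  have c2 := f.rel01 h d h2 a2
  -- `r` then `t2`
  have a4 := Frame.rel_apply (g := t2) (e := fun _ => 1) (fun i => by rw [one_smul, f.a2]) a3
  rw [perm, d.ht2] at a4
  have c4 := f.rel01 h d h2 a4
  rw [show (c[(0 : Fin 6), 1, 2] : Perm (Fin 6)).symm 0 = 2 by decide, show (c[(0 : Fin 6), 1, 2] : Perm (Fin 6)).symm 1 = 0 by decide] at c1
  rw [show (c[(0 : Fin 6), 2] * c[(1 : Fin 6), 3] : Perm (Fin 6)).symm 0 = 2 by decide,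
    show (c[(0 : Fin 6), 2] * c[(1 : Fin 6), 3] : Perm (Fin 6)).symm 1 = 3 by decide] at c2 c4
  rw [show (c[(2 : Fin 6), 4] * c[(3 : Fin 6), 5] : Perm (Fin 6)).symm 2 = 4 by decide,
    show (c[(2 : Fin 6), 4] * c[(3 : Fin 6), 5] : Perm (Fin 6)).symm 3 = 5 by decide] at c4
  have m2 : (![1, 1, 1, 1, c * c, c] : Fin 6 → F) 2 = 1 := rfl
  have m0 : (![1, 1, 1, 1, c * c, c] : Fin 6 → F) 0 = 1 := rfl
  simp only [m2, m0, mul_one] at c1 c2 c4
  -- `x` after `r`: `k 3 = k 4` needs one more
  have a5 := Frame.rel_apply (g := x) f.ax a3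
  rw [perm, d.hx] at a5
  have c5 := f.rel01 h d h2 a5
  rw [show (c[(0 : Fin 6), 1, 2] : Perm (Fin 6)).symm 0 = 2 by decide, show (c[(0 : Fin 6), 1, 2] : Perm (Fin 6)).symm 1 = 0 by decide,
    show (c[(2 : Fin 6), 4] * c[(3 : Fin 6), 5] : Perm (Fin 6)).symm 2 = 4 by decide,
    show (c[(2 : Fin 6), 4] * c[(3 : Fin 6), 5] : Perm (Fin 6)).symm 0 = 0 by decide] at c5
  simp only [m2, m0, mul_one] at c5
  refine ⟨b1, ?_, c2, c4, ?_⟩
  · rw [← b1, c1]
  · rw [← c2, c1, c5]

theorem Frame.indep (h : Hex m φ) (d : Data m φ t1 t2 u r x a b) (f : Frame m φ t1 t2 u r x v c) (h2 : (2 : F) ≠ 0)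
    {k : Fin 6 → F} (hk : ∑ i, k i • v i = 0) : ∀ i, k i = 0 := by
  obtain ⟨k0, k1, k2, k3, k4⟩ := f.rel_all h d h2 hk
  have a1 := Frame.rel_apply (g := x) f.ax hk
  have perm : ∀ (σ : Perm (Fin 6)) (k' : Fin 6 → F), (∑ i, k' i • v (σ i)) = ∑ i, k' (σ.symm i) • v i := by
    intro σ k'
    rw [← Equiv.sum_comp σ.symm]
    simp
  rw [perm, d.hx] at a1
  obtain ⟨l0, l1, l2, l3, l4⟩ := f.rel_all h d h2 a1
  rw [show (c[(0 : Fin 6), 1, 2] : Perm (Fin 6)).symm 4 = 4 by decide, show (c[(0 : Fin 6), 1, 2] : Perm (Fin 6)).symm 5 = 5 by decide] at l3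
  rw [show (c[(0 : Fin 6), 1, 2] : Perm (Fin 6)).symm 3 = 3 by decide, show (c[(0 : Fin 6), 1, 2] : Perm (Fin 6)).symm 4 = 4 by decide] at l4
  have m3 : (![1, 1, 1, 1, c * c, c] : Fin 6 → F) 3 = 1 := rfl
  have m4 : (![1, 1, 1, 1, c * c, c] : Fin 6 → F) 4 = c * c := rfl
  have m5 : (![1, 1, 1, 1, c * c, c] : Fin 6 → F) 5 = c := rfl
  rw [m3, m4, mul_one] at l4
  rw [m4, m5] at l3
  have hc1 := f.ne_one h d
  have h5 : k 5 = 0 := by
    have e1 : k 5 * (c - 1) = 0 := by linear_combination l3 * (-1) + l4 * (-1) + k4 + (c * c) * k3 - (c * c) * k3 + k3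
    rcases mul_eq_zero.1 e1 with h6 | h6
    · exact h6
    · exact absurd (by linear_combination h6) hc1
  intro i
  fin_cases i
  · show k 0 = 0; rw [k0, k1, k2, k4, k3, h5]
  · show k 1 = 0; rw [k1, k2, k4, k3, h5]
  · show k 2 = 0; rw [k2, k4, k3, h5]
  · show k 3 = 0; rw [k4, k3, h5]
  · show k 4 = 0; rw [k3, h5]
  · exact h5

end Cfsg.Agent.H910.Six
end

-- part: H910/Six/Normal
section
/-!
# The normal form of `3.A₆` in dimension six (helper910)

`normal_form`: in a suitable basis `G` consists of monomial matrices with cube roots of unity, and the generators are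
explicit.
-/

set_option autoImplicit false
set_option linter.unusedSectionVars false

open Matrix Equiv

namespace Cfsg.Agent.H910.Six

variable {F : Type*} [Field F] {G : Type*} [Group G] {m : G →* M6 F} {φ : G →* Perm (Fin 6)}
  {t1 t2 u r x a b : G} {v : Fin 6 → (Fin 6 → F)} {c : F}

/-- the monomial matrix `e_j ↦ d_j e_(σ j)` -/
def mono (σ : Perm (Fin 6)) (d : Fin 6 → F) : M6 F := Matrix.of fun i j => if i = σ j then d j else 0

theorem mono_apply (σ : Perm (Fin 6)) (d : Fin 6 → F) (i j : Fin 6) : mono σ d i j = if i = σ j then d j else 0 := rfl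

theorem mono_mul (σ τ : Perm (Fin 6)) (d e : Fin 6 → F) : mono σ d * mono τ e = mono (σ * τ) (fun j => d (τ j) * e j) := by
  ext i j
  rw [Matrix.mul_apply, Finset.sum_eq_single (τ j)]
  · rw [mono_apply, mono_apply, mono_apply, if_pos rfl, Perm.mul_apply]
    split_ifs <;> simp
  · intro k _ hk
    rw [mono_apply τ, if_neg hk, mul_zero]
  · intro h; exact absurd (Finset.mem_univ _) h

theorem mono_one : mono (1 : Perm (Fin 6)) (fun _ => (1 : F)) = 1 := by
  ext i j
  rw [mono_apply, Matrix.one_apply, Perm.one_apply]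

/-- the matrix with the given columns -/
def colMat (v : Fin 6 → (Fin 6 → F)) : M6 F := Matrix.of fun i j => v j i

theorem mul_colMat {M : M6 F} {σ : Perm (Fin 6)} {d : Fin 6 → F} (h : ∀ i, M *ᵥ v i = d i • v (σ i)) :
    M * colMat v = colMat v * mono σ d := by
  ext i j
  have e : (colMat v * mono σ d) i j = v (σ j) i * d j := by
    rw [Matrix.mul_apply, Finset.sum_eq_single (σ j)]
    · rw [mono_apply, if_pos rfl]; rfl
    · intro k _ hk
      rw [mono_apply, if_neg hk, mul_zero]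
    · intro h; exact absurd (Finset.mem_univ _) h
  have := congrFun (h j) i
  rw [Matrix.mulVec, dotProduct, Pi.smul_apply, smul_eq_mul] at this
  rw [e, Matrix.mul_apply, mul_comm, ← this]
  rfl

theorem Frame.isUnit (h : Hex m φ) (d : Data m φ t1 t2 u r x a b) (f : Frame m φ t1 t2 u r x v c) (h2 : (2 : F) ≠ 0) :
    IsUnit (colMat v) := by
  rw [← Matrix.linearIndependent_cols_iff_isUnit]
  have e : (colMat v).col = v := by
    ext j i
    rfl
  rw [e, Fintype.linearIndependent_iff]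
  intro k hk
  exact f.indep h d h2 hk

/-- the explicit form of the five generators -/
structure Explicit (B : GL (Fin 6) F) (w : F) (m : G →* M6 F) (t1 t2 u r x : G) : Prop where
  hw : w * w + w + 1 = 0
  e1 : m t1 * (B : M6 F) = (B : M6 F) * mono (c[(0 : Fin 6), 1] * c[(2 : Fin 6), 3]) (fun _ => (1 : F))
  e2 : m t2 * (B : M6 F) = (B : M6 F) * mono (c[(0 : Fin 6), 2] * c[(1 : Fin 6), 3]) (fun _ => (1 : F))
  eu : m u * (B : M6 F) = (B : M6 F) * mono (c[(0 : Fin 6), 1] * c[(4 : Fin 6), 5]) (fun _ => (1 : F))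
  er : m r * (B : M6 F) = (B : M6 F) * mono (c[(2 : Fin 6), 4] * c[(3 : Fin 6), 5]) (fun _ => (1 : F))
  ex : m x * (B : M6 F) = (B : M6 F) * mono c[(0 : Fin 6), 1, 2] (![1, 1, 1, 1, w * w, w] : Fin 6 → F)

theorem Frame.explicit (h : Hex m φ) (d : Data m φ t1 t2 u r x a b) (f : Frame m φ t1 t2 u r x v c) (h2 : (2 : F) ≠ 0) :
    ∃ B : GL (Fin 6) F, Explicit B c m t1 t2 u r x := by
  obtain ⟨B, hB⟩ := f.isUnit h d h2
  have e1 := mul_colMat (M := m t1) (v := v) (σ := φ t1) (d := fun _ => 1) (fun i => by rw [one_smul, f.a1])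
  have e2 := mul_colMat (M := m t2) (v := v) (σ := φ t2) (d := fun _ => 1) (fun i => by rw [one_smul, f.a2])
  have eu := mul_colMat (M := m u) (v := v) (σ := φ u) (d := fun _ => 1) (fun i => by rw [one_smul, f.au])
  have er := mul_colMat (M := m r) (v := v) (σ := φ r) (d := fun _ => 1) (fun i => by rw [one_smul, f.ar])
  have ex := mul_colMat (M := m x) (v := v) (σ := φ x) f.ax
  rw [← hB] at e1 e2 eu er ex
  rw [d.ht1] at e1
  rw [d.ht2] at e2
  rw [d.hu] at eu
  rw [d.hr] at er
  rw [d.hx] at ex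
  refine ⟨B, ?_, e1, e2, eu, er, ex⟩
  have hz := h.trace_zero d.hx
  have e : m x = (B : M6 F) * mono c[(0 : Fin 6), 1, 2] ![1, 1, 1, 1, c * c, c] * ((B⁻¹ : GL (Fin 6) F) : M6 F) := by
    rw [← ex, mul_assoc, Units.mul_inv, mul_one]
  rw [e, Matrix.trace_mul_comm, ← mul_assoc, Units.inv_mul, one_mul] at hz
  have e3 : (mono c[(0 : Fin 6), 1, 2] (![1, 1, 1, 1, c * c, c] : Fin 6 → F)).trace = 1 + c * c + c := by
    rw [Matrix.trace, Fin.sum_univ_six]
    simp only [Matrix.diag_apply, mono_apply]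
    rw [if_neg (by decide), if_neg (by decide), if_neg (by decide), if_pos (by decide), if_pos (by decide), if_pos (by decide)]
    simp
  rw [e3] at hz
  linear_combination hz

/-- **The normal form.** -/
theorem normal_form {p : ℕ} [CharP F p] (hp : 5 ≤ p) (h : Hex m φ) (d : Data m φ t1 t2 u r x a b)
    (htr : ∀ g : G, g * g = 1 → φ g ≠ 1 → (m g).trace = 2) :
    ∃ (B : GL (Fin 6) F) (w : F), Explicit B w m t1 t2 u r x := by
  have n2 : (2 : F) ≠ 0 := by
    intro h0
    have := (CharP.cast_eq_zero_iff F p 2).1 (by exact_mod_cast h0)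
    have := Nat.le_of_dvd (by norm_num) this
    omega
  obtain ⟨z, hz, xz, az, bz, uz⟩ := d.exists_fixed hp h htr
  obtain ⟨v, c, f⟩ := d.exists_frame h hz xz az bz uz
  obtain ⟨B, hB⟩ := f.explicit h d n2
  exact ⟨B, c, hB⟩

end Cfsg.Agent.H910.Six
end

-- part: H910/Six/Trace
section
/-!
# Traces of the involutions of `3.A₆` (helper910)

`Hex.trace_two`: if `G` is absolutely irreducible and `p ≥ 5`, then the involutions have trace `2`.
-/

set_option autoImplicit false
set_option linter.unusedSectionVars false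

open Matrix Equiv

namespace Cfsg.Agent.H910.Six

variable {F : Type*} [Field F]

/-- ranks of orthogonal idempotents add up -/
theorem rank_add_idem {n : Type*} [Fintype n] [DecidableEq n] {A B : Matrix n n F} (hA : A * A = A) (hB : B * B = B)
    (hAB : A * B = 0) (hBA : B * A = 0) : (A + B).rank = A.rank + B.rank := by
  have h1 : LinearMap.range (A + B).mulVecLin = LinearMap.range A.mulVecLin ⊔ LinearMap.range B.mulVecLin := by
    apply le_antisymm
    · rintro _ ⟨y, rfl⟩
      rw [Matrix.mulVecLin_apply, Matrix.add_mulVec]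
      exact Submodule.add_mem_sup ⟨y, rfl⟩ ⟨y, rfl⟩
    · apply sup_le
      · rintro _ ⟨y, rfl⟩
        refine ⟨A *ᵥ y, ?_⟩
        rw [Matrix.mulVecLin_apply, Matrix.mulVecLin_apply, Matrix.mulVec_mulVec, add_mul, hA, hBA, add_zero]
      · rintro _ ⟨y, rfl⟩
        refine ⟨B *ᵥ y, ?_⟩
        rw [Matrix.mulVecLin_apply, Matrix.mulVecLin_apply, Matrix.mulVec_mulVec, add_mul, hB, hAB, zero_add]
  have h2 : LinearMap.range A.mulVecLin ⊓ LinearMap.range B.mulVecLin = ⊥ := by
    rw [eq_bot_iff]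
    rintro z ⟨⟨y, hy⟩, ⟨y', hy'⟩⟩
    rw [Submodule.mem_bot]
    rw [Matrix.mulVecLin_apply] at hy hy'
    have e1 : A *ᵥ z = z := by rw [← hy, Matrix.mulVec_mulVec, hA]
    rw [← e1, ← hy', Matrix.mulVec_mulVec, hAB, Matrix.zero_mulVec]
  have h3 := Submodule.finrank_sup_add_finrank_inf_eq (LinearMap.range A.mulVecLin) (LinearMap.range B.mulVecLin)
  rw [h2, finrank_bot, add_zero] at h3
  rw [Matrix.rank, Matrix.rank, Matrix.rank, ← h3, h1]

theorem rank_conj {n : Type*} [Fintype n] [DecidableEq n] {A B K K' : Matrix n n F} (h : B = K * A * K') (h' : A = K' * B * K) :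
    A.rank = B.rank := by
  apply le_antisymm
  · rw [h']
    exact (Matrix.rank_mul_le_left _ _).trans (Matrix.rank_mul_le_right _ _)
  · rw [h]
    exact (Matrix.rank_mul_le_left _ _).trans (Matrix.rank_mul_le_right _ _)

theorem invol_conj : ∀ σ : Perm (Fin 6), σ * σ = 1 → Perm.sign σ = 1 → σ ≠ 1 →
    ∃ τ : Perm (Fin 6), Perm.sign τ = 1 ∧ σ = τ * (c[(0 : Fin 6), 1] * c[(2 : Fin 6), 3]) * τ⁻¹ := by
  simp only [↓Cfsg.Agent.PermCode.M, Cfsg.Agent.PermCode.P6.R, Cfsg.Agent.PermCode.B]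
  decide +kernel

variable {G : Type*} [Group G] {m : G →* M6 F} {φ : G →* Perm (Fin 6)} {t1 t2 u r x a b : G}

/-- all involutions are conjugate -/
theorem Hex.trace_invol (h : Hex m φ) (d : Data m φ t1 t2 u r x a b) {g : G} (hg : g * g = 1) (hφ : φ g ≠ 1) :
    (m g).trace = (m t1).trace := by
  obtain ⟨τ, hτ, e⟩ := invol_conj (φ g) (by rw [← map_mul, hg, map_one]) (h.even g) hφ
  obtain ⟨k, hk⟩ := h.onto τ hτ
  have : k * t1 * k⁻¹ = g := h.conj (by rw [hk, d.ht1, e]) d.qt1 hg
  rw [← this, tr_conj']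

/-- the relations between the generators -/
theorem Data.rels (h : Hex m φ) (d : Data m φ t1 t2 u r x a b) :
    t1 * t2 = t2 * t1 ∧ t1 * u = u * t1 ∧ x * t2 = t1 * x ∧ x * t1 = t1 * t2 * x ∧ x * (t1 * t2) = t2 * x ∧
    u * t2 = t1 * t2 * u ∧ r * t1 = u * r ∧ r * u = t1 * r ∧ r * t2 * (r * t2) * (r * t2) = 1 := by
  have h1 : t1 * t2 = t2 * t1 := h.comm (by rw [d.ht1, d.ht2]; decide) d.qt2
  have q : t1 * t2 * (t1 * t2) = 1 := by
    calc t1 * t2 * (t1 * t2) = t1 * (t2 * t1) * t2 := by group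
      _ = (t1 * t1) * (t2 * t2) := by rw [← h1]; group
      _ = 1 := by rw [d.qt1, d.qt2, mul_one]
  have g : ∀ {k a b : G}, k * a * k⁻¹ = b → k * a = b * k := fun h => by rw [← h]; group
  refine ⟨h1, h.comm (by rw [d.ht1, d.hu]; decide) d.qu,
    g (h.conj (by rw [d.hx, d.ht1, d.ht2]; decide) d.qt2 d.qt1),
    g (h.conj (by rw [map_mul, d.hx, d.ht1, d.ht2]; decide) d.qt1 q),
    g (h.conj (by rw [map_mul, d.hx, d.ht1, d.ht2]; decide) q d.qt2),
    g (h.conj (by rw [map_mul, d.hu, d.ht1, d.ht2]; decide) d.qt2 q),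
    g (h.conj (by rw [d.hr, d.ht1, d.hu]; decide) d.qt1 d.qu),
    g (h.conj (by rw [d.hr, d.ht1, d.hu]; decide) d.qu d.qt1), ?_⟩
  refine h.cube_three (x := r * t2) (u := t2) (by rw [map_mul, d.hr, d.ht2]; decide) d.qt2 ?_
  rw [_root_.mul_inv_rev, inv_eq_of_mul_eq_one_left d.qr, inv_eq_of_mul_eq_one_left d.qt2]
  calc t2 * (r * t2) * t2 = t2 * r * (t2 * t2) := by group
    _ = t2 * r := by rw [d.qt2, mul_one]

section gamma

variable {R : Type*} [Ring R]

/-- the relations used to build the operator `Γ`; `A = x⁻¹`, `B = x`, `C = r t2`, `D = t2 r` -/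
structure GRel (e T S U A B C D : R) : Prop where
  two : ∀ z : R, z + z = 0 → z = 0
  he : e + e = 1 + T
  TT : T * T = 1
  SS : S * S = 1
  UU : U * U = 1
  TS : T * S = S * T
  TU : T * U = U * T
  AA : A * A = B
  BB : B * B = A
  AB : A * B = 1
  BA : B * A = 1
  CC : C * C = D
  DD : D * D = C
  CD : C * D = 1
  DC : D * C = 1
  AT : A * T = S * A
  AS : A * S = T * S * A
  BT : B * T = T * S * B
  BS : B * S = T * B
  UA : U * A = B * U
  UB : U * B = A * U
  CT : C * T = U * C
  CU : C * U = T * U * C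
  DT : D * T = T * U * D
  DU : D * U = T * D
  SC : S * C = D * S
  SD : S * D = C * S
  eS : (1 + T) * (1 + S) = 0
  eU : (1 + T) * (1 + U) = 0

variable {e T S U A B C D : R}

theorem GRel.base (g : GRel e T S U A B C D) : T * e = e ∧ e * T = e ∧ e * e = e ∧ e * S = -e ∧ S * e = -e ∧
    e * U = -e ∧ U * e = -e := by
  have c2 : ∀ {y z : R}, y + y = z + z → y = z := fun {y z} h => by
    have := g.two (y - z) (by
      calc y - z + (y - z) = (y + y) - (z + z) := by abel
        _ = 0 := by rw [h, sub_self])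
    exact sub_eq_zero.1 this
  have h1 : T * e = e := c2 (by
    rw [← mul_add, g.he, mul_add, mul_one, g.TT, add_comm T 1])
  have h2 : e * T = e := c2 (by
    rw [← add_mul, g.he, add_mul, one_mul, g.TT, add_comm T 1])
  have h3 : e * S = -e := c2 (by
    rw [← add_mul, g.he]
    calc (1 + T) * S = (1 + T) * (1 + S) - (1 + T) := by noncomm_ring
      _ = -(1 + T) := by rw [g.eS, zero_sub]
      _ = -e + -e := by rw [← g.he]; abel)
  have h4 : e * U = -e := c2 (by
    rw [← add_mul, g.he]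
    calc (1 + T) * U = (1 + T) * (1 + U) - (1 + T) := by noncomm_ring
      _ = -(1 + T) := by rw [g.eU, zero_sub]
      _ = -e + -e := by rw [← g.he]; abel)
  have cS : S * e = e * S := c2 (by
    rw [← mul_add, ← add_mul, g.he, mul_add, add_mul, g.TS, one_mul, mul_one])
  have cU : U * e = e * U := c2 (by
    rw [← mul_add, ← add_mul, g.he, mul_add, add_mul, g.TU, one_mul, mul_one])
  refine ⟨h1, h2, c2 ?_, h3, by rw [cS, h3], h4, by rw [cU, h4]⟩
  rw [← mul_add, g.he, mul_add, mul_one, h2]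
  exact g.he

theorem GRel.zero (g : GRel e T S U A B C D) : e * A * e = 0 ∧ e * B * e = 0 ∧ e * C * e = 0 ∧ e * D * e = 0 := by
  obtain ⟨h1, h2, h3, h4, h5, h6, h7⟩ := g.base
  have key : ∀ {Y Z : R}, Y * T = Z * Y → e * Z = -e → e * Y * e = 0 := by
    intro Y Z hYZ hZ
    apply g.two
    have : e * Y * e = -(e * Y * e) := by
      calc e * Y * e = e * Y * (T * e) := by rw [h1]
        _ = e * (Y * T) * e := by simp only [mul_assoc]
        _ = e * Z * Y * e := by rw [hYZ]; simp only [mul_assoc]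
        _ = -(e * Y * e) := by rw [hZ]; simp only [neg_mul, mul_assoc]
    nth_rewrite 2 [this]
    exact add_neg_cancel _
  refine ⟨key g.AT h4, key g.BT ?_, key g.CT h6, key g.DT ?_⟩
  · rw [← mul_assoc, h2, h4]
  · rw [← mul_assoc, h2, h6]

theorem GRel.one (g : GRel e T S U A B C D) : e + A * e * B + B * e * A = 1 ∧ e + C * e * D + D * e * C = 1 := by
  obtain ⟨h1, h2, h3, h4, h5, h6, h7⟩ := g.base
  have c2 : ∀ {y z : R}, y + y = z + z → y = z := fun {y z} h => by
    have := g.two (y - z) (by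
      calc y - z + (y - z) = (y + y) - (z + z) := by abel
        _ = 0 := by rw [h, sub_self])
    exact sub_eq_zero.1 this
  have dbl : ∀ Y Z : R, Y * e * Z + Y * e * Z = Y * Z + Y * T * Z := by
    intro Y Z
    calc Y * e * Z + Y * e * Z = Y * (e + e) * Z := by noncomm_ring
      _ = Y * (1 + T) * Z := by rw [g.he]
      _ = Y * Z + Y * T * Z := by noncomm_ring
  constructor
  · apply c2
    calc e + A * e * B + B * e * A + (e + A * e * B + B * e * A)
        = (e + e) + (A * e * B + A * e * B) + (B * e * A + B * e * A) := by abel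
      _ = (1 + T) + (1 + S) + (1 + T * S) := by
        rw [g.he, dbl, dbl, g.AB, g.BA, g.AT, g.BT, mul_assoc S, mul_assoc (T * S), g.AB, g.BA, mul_one, mul_one]
      _ = (1 + T) * (1 + S) + (1 + 1) := by noncomm_ring
      _ = 1 + 1 := by rw [g.eS, zero_add]
  · apply c2
    calc e + C * e * D + D * e * C + (e + C * e * D + D * e * C)
        = (e + e) + (C * e * D + C * e * D) + (D * e * C + D * e * C) := by abel
      _ = (1 + T) + (1 + U) + (1 + T * U) := by
        rw [g.he, dbl, dbl, g.CD, g.DC, g.CT, g.DT, mul_assoc U, mul_assoc (T * U), g.CD, g.DC, mul_one, mul_one]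
      _ = (1 + T) * (1 + U) + (1 + 1) := by noncomm_ring
      _ = 1 + 1 := by rw [g.eU, zero_add]

/-- `γ = e ρ⁻¹ ρ' e` -/
theorem GRel.gam (g : GRel e T S U A B C D) : C * e = (A - B) * (e * B * C * e) ∧ D * e = -((A + B) * (e * B * C * e)) := by
  obtain ⟨h1, h2, h3, h4, h5, h6, h7⟩ := g.base
  obtain ⟨z1, z2, z3, z4⟩ := g.zero
  obtain ⟨o1, o2⟩ := g.one
  have f1 : e * A * C * e = -(e * B * C * e) := by
    have hA : A = U * B * U := by rw [g.UB, mul_assoc, g.UU, mul_one]
    calc e * A * C * e = e * (U * B * U) * C * e := by rw [← hA]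
      _ = (e * U) * B * (U * C) * e := by simp only [mul_assoc]
      _ = -(e * B * (C * T) * e) := by rw [h6, g.CT]; simp only [neg_mul, mul_assoc]
      _ = -(e * B * C * (T * e)) := by simp only [mul_assoc]
      _ = -(e * B * C * e) := by rw [h1]
  have f2 : C * e = (A - B) * (e * B * C * e) := by
    calc C * e = (e + A * e * B + B * e * A) * (C * e) := by rw [o1, one_mul]
      _ = e * C * e + A * (e * B * C * e) + B * (e * A * C * e) := by simp only [add_mul, mul_assoc]
      _ = (A - B) * (e * B * C * e) := by rw [z3, f1, zero_add, mul_neg, sub_mul, sub_eq_add_neg]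
  refine ⟨f2, ?_⟩
  have t1 : T * (e * B * C * e) = e * B * C * e := by simp only [← mul_assoc, h1]
  have s1 : S * (e * B * C * e) = -(e * B * C * e) := by simp only [← mul_assoc, h5, neg_mul]
  have e1 : S * (C * e) = -(D * e) := by
    calc S * (C * e) = D * (S * e) := by rw [← mul_assoc, g.SC, mul_assoc]
      _ = -(D * e) := by rw [h5, mul_neg]
  have e2 : S * A = A * T := g.AT.symm
  have e3 : S * B = B * (T * S) := by
    have : B * T = T * (S * B) := by rw [g.BT, mul_assoc]
    calc S * B = T * (T * (S * B)) := by rw [← mul_assoc, g.TT, one_mul]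
      _ = (T * B) * T := by rw [← this, mul_assoc]
      _ = B * (T * S) := by rw [← g.BS, mul_assoc, g.TS]
  have e4 : S * (C * e) = (A + B) * (e * B * C * e) := by
    rw [f2, ← mul_assoc, mul_sub, e2, e3, sub_mul, mul_assoc A, mul_assoc B, mul_assoc T, s1, t1, mul_neg, t1, mul_neg,
      sub_neg_eq_add, add_mul]
  rw [← neg_eq_iff_eq_neg, ← e1, e4]

theorem GRel.Gam (g : GRel e T S U A B C D) : ∃ Γ : R, Γ * e = e * B * C * e ∧ Γ * B = B * Γ ∧ Γ * T = T * Γ ∧
    Γ * S = S * Γ ∧ Γ * U = U * Γ ∧ Γ * C = C * Γ := by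
  obtain ⟨h1, h2, h3, h4, h5, h6, h7⟩ := g.base
  obtain ⟨z1, z2, z3, z4⟩ := g.zero
  obtain ⟨o1, o2⟩ := g.one
  obtain ⟨g1, g2⟩ := g.gam
  have l1 : T * (e * B * C * e) = e * B * C * e := by simp only [← mul_assoc, h1]
  have l2 : S * (e * B * C * e) = -(e * B * C * e) := by simp only [← mul_assoc, h5, neg_mul]
  have l3 : U * (e * B * C * e) = -(e * B * C * e) := by simp only [← mul_assoc, h7, neg_mul]
  have r0 : (e * B * C * e) * e = e * B * C * e := by rw [mul_assoc _ e e, h3]
  have r1 : (e * B * C * e) * T = e * B * C * e := by rw [mul_assoc _ e T, h2]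
  have r2 : (e * B * C * e) * S = -(e * B * C * e) := by rw [mul_assoc _ e S, h4, mul_neg]
  have r3 : (e * B * C * e) * U = -(e * B * C * e) := by rw [mul_assoc _ e U, h6, mul_neg]
  have r4 : (e * B * C * e) * (B * e) = 0 := by
    rw [← mul_assoc, mul_assoc _ e B, mul_assoc _ (e * B) e, z2, mul_zero]
  have r5 : (e * B * C * e) * (A * e) = 0 := by
    rw [← mul_assoc, mul_assoc _ e A, mul_assoc _ (e * A) e, z1, mul_zero]
  generalize hγ : e * B * C * e = γ at *
  have e2 : S * A = A * T := g.AT.symm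
  have TSA : T * (S * A) = A * S := by rw [← mul_assoc, g.AS]
  have TSB : T * (S * B) = B * T := by rw [← mul_assoc, g.BT]
  have TA : T * A = A * (T * S) := by
    rw [← mul_assoc, g.AT, mul_assoc S, g.AS, mul_assoc T, ← mul_assoc, ← g.TS, mul_assoc T, ← mul_assoc S, g.SS, one_mul]
  have TB : T * B = B * S := g.BS.symm
  have SB : S * B = B * (T * S) := by
    calc S * B = T * (T * (S * B)) := by rw [← mul_assoc, g.TT, one_mul]
      _ = (T * B) * T := by rw [TSB, mul_assoc]
      _ = B * (T * S) := by rw [← g.BS, mul_assoc, g.TS]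
  set Γ := γ + A * γ * B + B * γ * A with hΓ
  have c0 : Γ * e = γ := by
    rw [hΓ, add_mul, add_mul, mul_assoc (A * γ), mul_assoc A, r4, mul_assoc (B * γ), mul_assoc B, r5, mul_zero, mul_zero,
      add_zero, add_zero, r0]
  have cB : Γ * B = B * Γ := by
    rw [hΓ]
    calc (γ + A * γ * B + B * γ * A) * B = γ * B + A * γ * (B * B) + B * γ * (A * B) := by noncomm_ring
      _ = B * γ + (B * A) * γ * B + (B * B) * γ * A := by rw [g.BB, g.AB, g.BA, mul_one, one_mul]; abel
      _ = B * (γ + A * γ * B + B * γ * A) := by noncomm_ring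
  have cA : Γ * A = A * Γ := by
    rw [hΓ]
    calc (γ + A * γ * B + B * γ * A) * A = γ * A + A * γ * (B * A) + B * γ * (A * A) := by noncomm_ring
      _ = A * γ + (A * A) * γ * B + (A * B) * γ * A := by rw [g.AA, g.AB, g.BA, mul_one, one_mul]; abel
      _ = A * (γ + A * γ * B + B * γ * A) := by noncomm_ring
  have cT : Γ * T = T * Γ := by
    rw [hΓ]
    calc (γ + A * γ * B + B * γ * A) * T = γ * T + A * γ * (B * T) + B * γ * (A * T) := by noncomm_ring
      _ = γ * T + A * ((γ * T) * S) * B + B * (γ * S) * A := by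
        rw [g.BT, g.AT]; noncomm_ring
      _ = T * γ + A * (T * (S * γ)) * B + B * (S * γ) * A := by rw [r1, r2, l2, mul_neg T, l1]
      _ = T * γ + (A * (T * S)) * γ * B + (B * S) * γ * A := by noncomm_ring
      _ = T * (γ + A * γ * B + B * γ * A) := by rw [← TA, ← TB]; noncomm_ring
  have cS : Γ * S = S * Γ := by
    rw [hΓ]
    calc (γ + A * γ * B + B * γ * A) * S = γ * S + A * γ * (B * S) + B * γ * (A * S) := by noncomm_ring
      _ = γ * S + A * (γ * T) * B + B * ((γ * T) * S) * A := by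
        rw [g.BS, g.AS]; noncomm_ring
      _ = S * γ + A * (T * γ) * B + B * (T * (S * γ)) * A := by rw [r1, r2, l2, mul_neg T, l1]
      _ = S * γ + (A * T) * γ * B + (B * (T * S)) * γ * A := by noncomm_ring
      _ = S * (γ + A * γ * B + B * γ * A) := by rw [← e2, ← SB]; noncomm_ring
  have cU : Γ * U = U * Γ := by
    rw [hΓ]
    have BU : B * U = U * A := g.UA.symm
    have AU : A * U = U * B := g.UB.symm
    calc (γ + A * γ * B + B * γ * A) * U = γ * U + A * γ * (B * U) + B * γ * (A * U) := by noncomm_ring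
      _ = γ * U + A * (γ * U) * A + B * (γ * U) * B := by rw [BU, AU]; noncomm_ring
      _ = U * γ + (A * U) * γ * A + (B * U) * γ * B := by rw [r3, l3.symm]; noncomm_ring
      _ = U * γ + (U * B) * γ * A + (U * A) * γ * B := by rw [BU, AU]
      _ = U * (γ + A * γ * B + B * γ * A) := by noncomm_ring
  refine ⟨Γ, c0, cB, cT, cS, cU, ?_⟩
  have cγ : Γ * γ = γ * γ := by
    have e5 : γ = e * γ := by rw [← hγ, ← mul_assoc, ← mul_assoc, ← mul_assoc, h3]
    nth_rewrite 1 [e5]
    rw [← mul_assoc, c0]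
  have k1 : Γ * C * e = C * Γ * e := by
    rw [mul_assoc Γ, g1, ← mul_assoc, mul_sub, cA, cB, ← sub_mul, mul_assoc (A - B), cγ, mul_assoc C, c0, ← mul_assoc, ← g1,
      mul_assoc C]
    rw [← hγ]
    simp only [← mul_assoc]
    rw [mul_assoc C e e, h3]
  have k2 : Γ * C * (C * e) = C * Γ * (C * e) := by
    have e6 : C * Γ * (C * e) = C * ((A - B) * (γ * γ)) := by
      rw [mul_assoc C, g1, ← mul_assoc Γ, mul_sub, cA, cB, ← sub_mul, mul_assoc (A - B), cγ]
    have e7 : Γ * C * (C * e) = -((A + B) * (γ * γ)) := by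
      rw [← mul_assoc, mul_assoc Γ, g.CC, mul_assoc, g2, mul_neg, ← mul_assoc, mul_add, cA, cB, ← add_mul, mul_assoc (A + B), cγ]
    have e8 : C * ((A - B) * (γ * γ)) = D * e * γ := by
      rw [← mul_assoc (A - B), ← g1, ← g.CC]; noncomm_ring
    rw [e6, e7, e8, g2, neg_mul, mul_assoc]
  have k3 : Γ * C * (D * e) = C * Γ * (D * e) := by
    have e6 : Γ * C * (D * e) = γ := by
      rw [← mul_assoc, mul_assoc Γ, g.CD, mul_one, c0]
    have e7 : C * Γ * (D * e) = C * (-((A + B) * (γ * γ))) := by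
      rw [mul_assoc, g2, mul_neg Γ, ← mul_assoc Γ, mul_add, cA, cB, ← add_mul, mul_assoc (A + B), cγ]
    rw [e6, e7, ← mul_assoc (A + B), ← neg_mul, ← g2, ← mul_assoc, ← mul_assoc, g.CD, one_mul]
    rw [← hγ]
    simp only [← mul_assoc, h3]
  have hone : Γ * C * (e + C * e * D + D * e * C) = C * Γ * (e + C * e * D + D * e * C) := by
    rw [mul_add, mul_add, mul_add, mul_add, ← mul_assoc _ (C * e) D, ← mul_assoc _ (D * e) C, ← mul_assoc _ (C * e) D,
      ← mul_assoc _ (D * e) C, k1, k2, k3]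
  rw [o2, mul_one, mul_one] at hone
  exact hone

end gamma

section main

variable {G : Type*} [Group G] {m : G →* M6 F} {φ : G →* Perm (Fin 6)} {t1 t2 u r x a b : G}

/-- an idempotent-like rank computation -/
theorem rank_two {p : ℕ} [CharP F p] (hp : 5 ≤ p) {E : M6 F} (hE : E * E = E) (ht : E.trace = 2) : E.rank < p := by
  have e1 := trace_idem hE
  have e2 : ((E.rank : ℕ) : F) = ((2 : ℕ) : F) := by rw [← e1, ht]; norm_num
  have e3 : E.rank ≤ 6 := by
    have := Matrix.rank_le_card_width E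
    simpa using this
  rw [CharP.cast_eq_iff_mod_eq F p] at e2
  rw [Nat.mod_eq_of_lt (show 2 < p by omega)] at e2
  by_contra hlt
  push Not at hlt
  have e4 : E.rank % p = E.rank - p := by
    rw [Nat.mod_eq_sub_mod hlt, Nat.mod_eq_of_lt (by omega)]
  omega

theorem idem4 {A B : M6 F} (h4 : (4 : F) ≠ 0) (hA : A * A = A + A) (hB : B * B = B + B) (hAB : A * B = B * A) :
    ((4 : F)⁻¹ • (A * B)) * ((4 : F)⁻¹ • (A * B)) = (4 : F)⁻¹ • (A * B) := by
  have e1 : A * B * (A * B) = (4 : F) • (A * B) := by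
    calc A * B * (A * B) = A * (B * A) * B := by simp only [mul_assoc]
      _ = (A * A) * (B * B) := by rw [← hAB]; simp only [mul_assoc]
      _ = (4 : F) • (A * B) := by
        rw [hA, hB, show (4 : F) = 1 + 1 + 1 + 1 by norm_num]
        simp only [add_smul, one_smul]
        noncomm_ring
  rw [smul_mul_smul_comm, e1, smul_smul]
  congr 1
  field_simp

theorem orth4 {A B C D : M6 F} (hBC : B * C = C * B)
    (h : A * C = 0 ∨ B * D = 0) :
    ((4 : F)⁻¹ • (A * B)) * ((4 : F)⁻¹ • (C * D)) = 0 := by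
  rw [smul_mul_smul_comm]
  have e1 : A * B * (C * D) = (A * C) * (B * D) := by
    calc A * B * (C * D) = A * (B * C) * D := by simp only [mul_assoc]
      _ = (A * C) * (B * D) := by rw [hBC]; simp only [mul_assoc]
  rw [e1]
  rcases h with h | h
  · rw [h, zero_mul, smul_zero]
  · rw [h, mul_zero, smul_zero]

theorem conj_mul' {A B K K' : M6 F} (h : K' * K = 1) : K * (A * B) * K' = (K * A * K') * (K * B * K') := by
  calc K * (A * B) * K' = K * A * 1 * B * K' := by simp only [mul_assoc, one_mul]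
    _ = (K * A * K') * (K * B * K') := by rw [← h]; simp only [mul_assoc]

seal _root_.Finset.sum _root_.dotProduct in
theorem Data.trace_or {p : ℕ} [CharP F p] (hp : 5 ≤ p) (h : Hex m φ) (d : Data m φ t1 t2 u r x a b) :
    (m t1).trace = 2 ∨ (m t1).trace = -2 := by
  have n2 : (2 : F) ≠ 0 := by
    intro h0
    have := (CharP.cast_eq_zero_iff F p 2).1 (by exact_mod_cast h0)
    have := Nat.le_of_dvd (by norm_num) this
    omega
  have n4 : (4 : F) ≠ 0 := by rw [show (4 : F) = 2 * 2 by norm_num]; exact mul_ne_zero n2 n2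
  obtain ⟨r1, r2, r3, r4, r5, r6, r7, r8, r9⟩ := d.rels h
  have mT : m t1 * m t1 = 1 := by rw [← map_mul, d.qt1, map_one]
  have mS : m t2 * m t2 = 1 := by rw [← map_mul, d.qt2, map_one]
  have mTS : m t1 * m t2 = m t2 * m t1 := by rw [← map_mul, r1, map_mul]
  have hUT : m t1 * m u = m u * m t1 := by rw [← map_mul, r2, map_mul]
  have hUS : m u * m t2 = m t1 * m t2 * m u := by rw [← map_mul, r6, map_mul, map_mul]
  have hXT : m x * m t1 = m t1 * m t2 * m x := by rw [← map_mul, r4, map_mul, map_mul]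
  have hXS : m x * m t2 = m t1 * m x := by rw [← map_mul, r3, map_mul]
  have hU' : m u * m u = 1 := by rw [← map_mul, d.qu, map_one]
  have hX' : m x * m x⁻¹ = 1 := by rw [← map_mul, mul_inv_cancel, map_one]
  have hX'' : m x⁻¹ * m x = 1 := by rw [← map_mul, inv_mul_cancel, map_one]
  have hT1 : m t1 ≠ 1 := by
    intro h1
    have : t1 = 1 := h.inj (by rw [h1, map_one])
    have h2 := d.ht1
    rw [this, map_one] at h2
    exact absurd h2 (by decide)
  generalize m t1 = T at *
  generalize m t2 = S at *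
  generalize m u = U at *
  generalize m x = X at *
  generalize m x⁻¹ = X' at *
  have pp : (1 + T) * (1 + T) = (1 + T) + (1 + T) := by
    calc (1 + T) * (1 + T) = 1 + T + T + T * T := by noncomm_ring
      _ = _ := by rw [mT]; abel
  have mm : (1 - T) * (1 - T) = (1 - T) + (1 - T) := by
    calc (1 - T) * (1 - T) = 1 - T - T + T * T := by noncomm_ring
      _ = _ := by rw [mT]; abel
  have pp' : (1 + S) * (1 + S) = (1 + S) + (1 + S) := by
    calc (1 + S) * (1 + S) = 1 + S + S + S * S := by noncomm_ring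
      _ = _ := by rw [mS]; abel
  have mm' : (1 - S) * (1 - S) = (1 - S) + (1 - S) := by
    calc (1 - S) * (1 - S) = 1 - S - S + S * S := by noncomm_ring
      _ = _ := by rw [mS]; abel
  have pm : (1 + T) * (1 - T) = 0 := by
    calc (1 + T) * (1 - T) = 1 - T * T := by noncomm_ring
      _ = 0 := by rw [mT, sub_self]
  have mp : (1 - T) * (1 + T) = 0 := by
    calc (1 - T) * (1 + T) = 1 - T * T := by noncomm_ring
      _ = 0 := by rw [mT, sub_self]
  have pm' : (1 + S) * (1 - S) = 0 := by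
    calc (1 + S) * (1 - S) = 1 - S * S := by noncomm_ring
      _ = 0 := by rw [mS, sub_self]
  have mp' : (1 - S) * (1 + S) = 0 := by
    calc (1 - S) * (1 + S) = 1 - S * S := by noncomm_ring
      _ = 0 := by rw [mS, sub_self]
  have c1 : (1 + T) * (1 + S) = (1 + S) * (1 + T) := by
    calc (1 + T) * (1 + S) = 1 + T + S + T * S := by noncomm_ring
      _ = _ := by rw [mTS]; noncomm_ring
  have c2 : (1 + T) * (1 - S) = (1 - S) * (1 + T) := by
    calc (1 + T) * (1 - S) = 1 + T - S - T * S := by noncomm_ring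
      _ = _ := by rw [mTS]; noncomm_ring
  have c3 : (1 - T) * (1 + S) = (1 + S) * (1 - T) := by
    calc (1 - T) * (1 + S) = 1 - T + S - T * S := by noncomm_ring
      _ = _ := by rw [mTS]; noncomm_ring
  have c4 : (1 - T) * (1 - S) = (1 - S) * (1 - T) := by
    calc (1 - T) * (1 - S) = 1 - T - S + T * S := by noncomm_ring
      _ = _ := by rw [mTS]; noncomm_ring
  have i1 := idem4 n4 mm pp' c3
  have i2 := idem4 n4 mm mm' c4
  have i3 := idem4 n4 pp mm' c2
  have o12 := orth4 (F := F) (A := 1 - T) (D := 1 - S) c3.symm (Or.inr pm')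
  have o21 := orth4 (F := F) (A := 1 - T) (D := 1 + S) c4.symm (Or.inr mp')
  have o13 := orth4 (F := F) (A := 1 - T) (D := 1 - S) c1.symm (Or.inl mp)
  have o31 := orth4 (F := F) (A := 1 + T) (D := 1 + S) c4.symm (Or.inl pm)
  have o23 := orth4 (F := F) (A := 1 - T) (D := 1 - S) c2.symm (Or.inl mp)
  have o32 := orth4 (F := F) (A := 1 + T) (D := 1 - S) c4.symm (Or.inl pm)
  have k12 : (4 : F)⁻¹ • ((1 - T) * (1 - S)) = U * ((4 : F)⁻¹ • ((1 - T) * (1 + S))) * U := by
    rw [mul_smul_comm, smul_mul_assoc]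
    congr 1
    symm
    have a1 : U * T * U = T := by rw [← hUT, mul_assoc, hU', mul_one]
    have a2 : U * S * U = T * S := by rw [hUS, mul_assoc, hU', mul_one]
    calc U * ((1 - T) * (1 + S)) * U = (U * U - U * T * U) * (U * U + U * S * U) := by
          rw [conj_mul' hU', mul_sub, sub_mul, mul_add U, add_mul, mul_one]
      _ = (1 - T) * (1 + T * S) := by rw [hU', a1, a2]
      _ = 1 - T + T * S - (T * T) * S := by noncomm_ring
      _ = (1 - T) * (1 - S) := by rw [mT]; noncomm_ring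
  have k21 : (4 : F)⁻¹ • ((1 - T) * (1 + S)) = U * ((4 : F)⁻¹ • ((1 - T) * (1 - S))) * U := by
    rw [k12, ← mul_assoc, ← mul_assoc, hU', one_mul, mul_assoc, hU', mul_one]
  have k13 : (4 : F)⁻¹ • ((1 + T) * (1 - S)) = X * ((4 : F)⁻¹ • ((1 - T) * (1 + S))) * X' := by
    rw [mul_smul_comm, smul_mul_assoc]
    congr 1
    symm
    have a1 : X * T * X' = T * S := by rw [hXT, mul_assoc, hX', mul_one]
    have a2 : X * S * X' = T := by rw [hXS, mul_assoc, hX', mul_one]
    calc X * ((1 - T) * (1 + S)) * X' = (X * X' - X * T * X') * (X * X' + X * S * X') := by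
          rw [conj_mul' hX'', mul_sub, sub_mul, mul_add X, add_mul, mul_one]
      _ = (1 - T * S) * (1 + T) := by rw [hX', a1, a2]
      _ = 1 - T * S + T - T * (S * T) := by noncomm_ring
      _ = 1 - T * S + T - (T * T) * S := by rw [← mTS, mul_assoc]
      _ = (1 + T) * (1 - S) := by rw [mT]; noncomm_ring
  have k31 : (4 : F)⁻¹ • ((1 - T) * (1 + S)) = X' * ((4 : F)⁻¹ • ((1 + T) * (1 - S))) * X := by
    rw [k13, ← mul_assoc, ← mul_assoc, hX'', one_mul, mul_assoc, hX'', mul_one]
  have q12 := rank_conj k12 k21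
  have q13 := rank_conj k13 k31
  have s12 : (4 : F)⁻¹ • ((1 - T) * (1 + S)) + (4 : F)⁻¹ • ((1 - T) * (1 - S)) = (2 : F)⁻¹ • (1 - T) := by
    rw [← smul_add]
    have : (1 - T) * (1 + S) + (1 - T) * (1 - S) = (2 : F) • (1 - T) := by
      rw [show (2 : F) = 1 + 1 by norm_num, add_smul, one_smul]; noncomm_ring
    rw [this, smul_smul]
    congr 1
    field_simp; norm_num
  generalize (4 : F)⁻¹ • ((1 - T) * (1 + S)) = f1 at *
  generalize (4 : F)⁻¹ • ((1 - T) * (1 - S)) = f2 at *
  generalize (4 : F)⁻¹ • ((1 + T) * (1 - S)) = f3 at *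
  have w1 := rank_add_idem i1 i2 o12 o21
  have w2 : (f1 + f2 + f3).rank = (f1 + f2).rank + f3.rank := by
    apply rank_add_idem
    · rw [add_mul, mul_add, mul_add, i1, i2, o12, o21, add_zero, zero_add]
    · exact i3
    · rw [add_mul, o13, o23, add_zero]
    · rw [mul_add, o31, o32, add_zero]
  have w3 : (f1 + f2 + f3).rank ≤ 6 := by
    have := Matrix.rank_le_card_width (f1 + f2 + f3)
    simpa using this
  have w4 : (1 - T).trace = (2 : F) * (2 * (f1.rank : F)) := by
    have e1 := congrArg Matrix.trace s12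
    rw [Matrix.trace_add, trace_idem i1, trace_idem i2, ← q12, Matrix.trace_smul, smul_eq_mul] at e1
    field_simp at e1
    linear_combination -e1
  rw [Matrix.trace_sub, Matrix.trace_one, Fintype.card_fin] at w4
  have w5 : f1.rank = 0 ∨ f1.rank = 1 ∨ f1.rank = 2 := by omega
  rcases w5 with w5 | w5 | w5
  · exfalso
    have z1 := eq_zero_of_rank w5
    have z2 := eq_zero_of_rank (q12.symm.trans w5)
    rw [z1, z2, add_zero] at s12
    rcases smul_eq_zero.1 s12.symm with h0 | h0
    · exact inv_ne_zero n2 h0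
    · exact hT1 (sub_eq_zero.1 h0).symm
  · left
    rw [w5] at w4
    push_cast at w4
    linear_combination -w4
  · right
    rw [w5] at w4
    push_cast at w4
    linear_combination -w4

/-- the sum over a four-group is zero if all involutions have trace `-2` -/
theorem four_zero {p : ℕ} [CharP F p] (hp : 5 ≤ p) (n2 : (2 : F) ≠ 0) {T S : M6 F} (mT : T * T = 1) (mS : S * S = 1)
    (mTS : T * S = S * T) (hT : T.trace = -2) (hS : S.trace = -2) (hTS : (T * S).trace = -2) : (1 + T) * (1 + S) = 0 := by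
  have n4 : (4 : F) ≠ 0 := by rw [show (4 : F) = 2 * 2 by norm_num]; exact mul_ne_zero n2 n2
  have pp : (1 + T) * (1 + T) = (1 + T) + (1 + T) := by
    calc (1 + T) * (1 + T) = 1 + T + T + T * T := by noncomm_ring
      _ = _ := by rw [mT]; abel
  have pp' : (1 + S) * (1 + S) = (1 + S) + (1 + S) := by
    calc (1 + S) * (1 + S) = 1 + S + S + S * S := by noncomm_ring
      _ = _ := by rw [mS]; abel
  have c1 : (1 + T) * (1 + S) = (1 + S) * (1 + T) := by
    calc (1 + T) * (1 + S) = 1 + T + S + T * S := by noncomm_ring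
      _ = _ := by rw [mTS]; noncomm_ring
  have hh : ∀ z : M6 F, z + z = (2 : F) • z := fun z => by
    rw [show (2 : F) = 1 + 1 by norm_num, add_smul, one_smul]
  have iD : ((2 : F)⁻¹ • (1 + T)) * ((2 : F)⁻¹ • (1 + T)) = (2 : F)⁻¹ • (1 + T) := by
    rw [smul_mul_smul_comm, pp, hh, smul_smul]
    congr 1
    field_simp
  have tD : ((2 : F)⁻¹ • (1 + T)).trace = 2 := by
    rw [Matrix.trace_smul, Matrix.trace_add, hT, Matrix.trace_one, Fintype.card_fin, smul_eq_mul]
    push_cast
    field_simp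
    norm_num
  have i1 := idem4 n4 pp pp' c1
  have z := idem_eq_zero (p := p) i1 (by
      rw [Matrix.trace_smul, show (1 + T) * (1 + S) = 1 + T + S + T * S by noncomm_ring, Matrix.trace_add, Matrix.trace_add,
        Matrix.trace_add, hT, hS, hTS, Matrix.trace_one, Fintype.card_fin, smul_eq_mul]
      push_cast
      ring_nf) (D := (2 : F)⁻¹ • (1 + T)) (by
      rw [smul_mul_smul_comm, c1, mul_assoc, pp, hh, mul_smul_comm, smul_smul]
      congr 1
      field_simp) (rank_two hp iD tD)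
  rcases smul_eq_zero.1 z with h0 | h0
  · exact absurd h0 (inv_ne_zero n4)
  · exact h0

/-- **The involutions have trace two.** -/
theorem Hex.trace_two {p : ℕ} [CharP F p] (hp : 5 ≤ p) (h : Hex m φ)
    (hirr : ∀ W : Submodule F (Fin 6 → F), (∀ g, ∀ v ∈ W, m g *ᵥ v ∈ W) → W = ⊥ ∨ W = ⊤)
    (hcen : ∀ X : M6 F, (∀ g, m g * X = X * m g) → ∃ c : F, X = c • (1 : M6 F)) :
    ∀ g : G, g * g = 1 → φ g ≠ 1 → (m g).trace = 2 := by
  obtain ⟨t1, t2, u, r, x, a, b, d⟩ := h.exists_data
  have n2 : (2 : F) ≠ 0 := by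
    intro h0
    have := (CharP.cast_eq_zero_iff F p 2).1 (by exact_mod_cast h0)
    have := Nat.le_of_dvd (by norm_num) this
    omega
  intro g hg hφ
  rw [h.trace_invol d hg hφ]
  rcases d.trace_or hp h with ht | ht
  · exact ht
  exfalso
  obtain ⟨r1, r2, r3, r4, r5, r6, r7, r8, r9⟩ := d.rels h
  have q12 : t1 * t2 * (t1 * t2) = 1 := by
    calc t1 * t2 * (t1 * t2) = t1 * (t2 * t1) * t2 := by group
      _ = (t1 * t1) * (t2 * t2) := by rw [← r1]; group
      _ = 1 := by rw [d.qt1, d.qt2, mul_one]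
  have q1u : t1 * u * (t1 * u) = 1 := by
    calc t1 * u * (t1 * u) = t1 * (u * t1) * u := by group
      _ = (t1 * t1) * (u * u) := by rw [← r2]; group
      _ = 1 := by rw [d.qt1, d.qu, mul_one]
  have tS : (m t2).trace = -2 := by rw [h.trace_invol d d.qt2 (by rw [d.ht2]; decide), ht]
  have tU : (m u).trace = -2 := by rw [h.trace_invol d d.qu (by rw [d.hu]; decide), ht]
  have tTS : (m t1 * m t2).trace = -2 := by
    rw [← map_mul, h.trace_invol d q12 (by rw [map_mul, d.ht1, d.ht2]; decide), ht]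
  have tTU : (m t1 * m u).trace = -2 := by
    rw [← map_mul, h.trace_invol d q1u (by rw [map_mul, d.ht1, d.hu]; decide), ht]
  have mT : m t1 * m t1 = 1 := by rw [← map_mul, d.qt1, map_one]
  have mS : m t2 * m t2 = 1 := by rw [← map_mul, d.qt2, map_one]
  have mU : m u * m u = 1 := by rw [← map_mul, d.qu, map_one]
  have mTS : m t1 * m t2 = m t2 * m t1 := by rw [← map_mul, r1, map_mul]
  have mTU : m t1 * m u = m u * m t1 := by rw [← map_mul, r2, map_mul]
  have eS := four_zero hp n2 mT mS mTS ht tS tTS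
  have eU := four_zero hp n2 mT mU mTU ht tU tTU
  have hh : ∀ z : M6 F, z + z = (2 : F) • z := fun z => by
    rw [show (2 : F) = 1 + 1 by norm_num, add_smul, one_smul]
  have xx : x⁻¹ * x⁻¹ = x := by
    rw [d.inv_x]
    calc x * x * (x * x) = x * (x * x * x) := by group
      _ = x := by rw [d.qx, mul_one]
  have r9' : r * t2 * (r * t2) = t2 * r := by
    calc r * t2 * (r * t2) = r * t2 * (r * t2) * (r * t2) * (r * t2)⁻¹ := by group
      _ = t2 * r := by
        rw [r9, one_mul, _root_.mul_inv_rev, inv_eq_of_mul_eq_one_left d.qr, inv_eq_of_mul_eq_one_left d.qt2]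
  have cd : r * t2 * (t2 * r) = 1 := by
    calc r * t2 * (t2 * r) = r * (t2 * t2) * r := by group
      _ = 1 := by rw [d.qt2, mul_one, d.qr]
  have dc : t2 * r * (r * t2) = 1 := by
    calc t2 * r * (r * t2) = t2 * (r * r) * t2 := by group
      _ = 1 := by rw [d.qr, mul_one, d.qt2]
  have u2 : u * t1 * t2 = t2 * u := by
    rw [← r2, mul_assoc, r6]
    calc t1 * (t1 * t2 * u) = (t1 * t1) * t2 * u := by group
      _ = t2 * u := by rw [d.qt1, one_mul]
  have R : GRel ((2 : F)⁻¹ • (1 + m t1)) (m t1) (m t2) (m u) (m x⁻¹) (m x) (m (r * t2)) (m (t2 * r)) := by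
    have two : ∀ z : M6 F, z + z = 0 → z = 0 := fun z hz => by
      rw [hh] at hz
      rcases smul_eq_zero.1 hz with h0 | h0
      · exact absurd h0 n2
      · exact h0
    have cj : ∀ {k a b : G}, φ k * φ a * (φ k)⁻¹ = φ b → a * a = 1 → b * b = 1 → m k * m a = m b * m k := by
      intro k a b hk ha hb
      rw [← h.conj hk ha hb, ← map_mul, ← map_mul]
      congr 1
      group
    have ir := inv_eq_of_mul_eq_one_left d.qr
    have it := inv_eq_of_mul_eq_one_left d.qt2
    refine ⟨two, ?_, mT, mS, mU, mTS, mTU, ?_, ?_, ?_, ?_, ?_, ?_, ?_, ?_, ?_, ?_, ?_, ?_, ?_, ?_, ?_, ?_, ?_, ?_, ?_, ?_,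
      eS, eU⟩
    · rw [hh, smul_smul, mul_inv_cancel₀ n2, one_smul]
    · rw [← map_mul, xx]
    · rw [← map_mul, d.inv_x]
    · rw [← map_mul, inv_mul_cancel, map_one]
    · rw [← map_mul, mul_inv_cancel, map_one]
    · rw [← map_mul, r9']
    · rw [← map_mul]
      congr 1
      have := congrArg (fun z => z⁻¹) r9'
      simp only [_root_.mul_inv_rev, ir, it] at this
      exact this
    · rw [← map_mul, cd, map_one]
    · rw [← map_mul, dc, map_one]
    · exact cj (by rw [map_inv, d.hx, d.ht1, d.ht2]; decide) d.qt1 d.qt2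
    · rw [← map_mul m t1]
      exact cj (by rw [map_inv, map_mul, d.hx, d.ht1, d.ht2]; decide) d.qt2 q12
    · rw [← map_mul m t1]
      exact cj (by rw [map_mul, d.hx, d.ht1, d.ht2]; decide) d.qt1 q12
    · exact cj (by rw [d.hx, d.ht1, d.ht2]; decide) d.qt2 d.qt1
    · rw [← map_mul, ← map_mul, ← d.ux]
      congr 1
      calc u * (u * x * u) = (u * u) * x * u := by group
        _ = x * u := by rw [d.qu, one_mul]
    · rw [← map_mul, ← map_mul, ← d.ux]
      congr 1
      calc u * x = u * x * (u * u) := by rw [d.qu, mul_one]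
        _ = u * x * u * u := by group
    · exact cj (by rw [map_mul, d.hr, d.hu, d.ht1, d.ht2]; decide) d.qt1 d.qu
    · rw [← map_mul m t1]
      exact cj (by rw [map_mul, map_mul, d.hr, d.hu, d.ht1, d.ht2]; decide) d.qu q1u
    · rw [← map_mul m t1]
      exact cj (by rw [map_mul, map_mul, d.hr, d.hu, d.ht1, d.ht2]; decide) d.qt1 q1u
    · exact cj (by rw [map_mul, d.hr, d.hu, d.ht1, d.ht2]; decide) d.qu d.qt1
    · rw [← map_mul, ← map_mul, mul_assoc]
    · rw [← map_mul, ← map_mul]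
      congr 1
      calc t2 * (t2 * r) = (t2 * t2) * r := by group
        _ = r * (t2 * t2) := by rw [d.qt2, one_mul, mul_one]
        _ = r * t2 * t2 := by group
  generalize he : (2 : F)⁻¹ • (1 + m t1) = e at *
  obtain ⟨Γ, k0, kB, kT, kS, kU, kC⟩ := R.Gam
  obtain ⟨g1, g2⟩ := R.gam
  obtain ⟨h1, h2, h3, h4, h5, h6, h7⟩ := R.base
  have kR : Γ * m r = m r * Γ := by
    have e : m r = m (r * t2) * m t2 := by
      rw [← map_mul]; congr 1
      calc r = r * (t2 * t2) := by rw [d.qt2, mul_one]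
        _ = r * t2 * t2 := by group
    rw [e, ← mul_assoc, kC, mul_assoc, kS, mul_assoc]
  obtain ⟨c, hc⟩ := hcen Γ (d.induct h (Q := fun g => m g * Γ = Γ * m g) (fun k hk => by
      obtain ⟨z, -, hz⟩ := h.ker k hk
      rw [hz, smul_mul_assoc, mul_smul_comm, one_mul, mul_one]) (fun g g' hg hg' => by
      rw [map_mul, mul_assoc, hg', ← mul_assoc, hg, mul_assoc]) kT.symm kS.symm kU.symm kR.symm kB.symm)
  rw [← k0, hc, smul_mul_assoc, one_mul, mul_smul_comm] at g1 g2
  -- a vector fixed by `t1`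
  have e0 : e ≠ 0 := by
    intro h0
    rw [h0] at he
    have := congrArg Matrix.trace he
    rw [Matrix.trace_smul, Matrix.trace_add, ht, Matrix.trace_one, Fintype.card_fin, smul_eq_mul, Matrix.trace_zero] at this
    push_cast at this
    rcases mul_eq_zero.1 this with h0 | h0
    · exact inv_ne_zero n2 h0
    · have h4 : (2 : F) * 2 = 0 := by linear_combination h0
      exact mul_ne_zero n2 n2 h4
  obtain ⟨j, hj⟩ : ∃ j, e *ᵥ (Pi.single j 1) ≠ 0 := by
    by_contra hcon
    push Not at hcon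
    apply e0
    ext i k
    have := congrFun (hcon k) i
    rwa [Matrix.mulVec_single_one] at this
  set y : Fin 6 → F := Pi.single j 1 with hy
  have app : ∀ {M N : M6 F} (v : Fin 6 → F), M = N → M *ᵥ v = N *ᵥ v := fun v h => by rw [h]
  have T0 : m t1 *ᵥ (e *ᵥ y) = e *ᵥ y := by rw [Matrix.mulVec_mulVec, h1]
  have S0 : m t2 *ᵥ (e *ᵥ y) = -(e *ᵥ y) := by rw [Matrix.mulVec_mulVec, h5, Matrix.neg_mulVec]
  have U0 : m u *ᵥ (e *ᵥ y) = -(e *ᵥ y) := by rw [Matrix.mulVec_mulVec, h7, Matrix.neg_mulVec]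
  have C0 : m (r * t2) *ᵥ (e *ᵥ y) = c • (m x⁻¹ *ᵥ (e *ᵥ y) - m x *ᵥ (e *ᵥ y)) := by
    rw [Matrix.mulVec_mulVec, g1, Matrix.smul_mulVec, ← Matrix.mulVec_mulVec, Matrix.sub_mulVec]
  have D0 : m (t2 * r) *ᵥ (e *ᵥ y) = -(c • (m x⁻¹ *ᵥ (e *ᵥ y) + m x *ᵥ (e *ᵥ y))) := by
    rw [Matrix.mulVec_mulVec, g2, Matrix.neg_mulVec, Matrix.smul_mulVec, ← Matrix.mulVec_mulVec, Matrix.add_mulVec]
  generalize e *ᵥ y = v at *
  have SA : m t2 *ᵥ (m x⁻¹ *ᵥ v) = m x⁻¹ *ᵥ v := by
    rw [Matrix.mulVec_mulVec, ← R.AT, ← Matrix.mulVec_mulVec, T0]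
  have TA : m t1 *ᵥ (m x⁻¹ *ᵥ v) = -(m x⁻¹ *ᵥ v) := by
    nth_rewrite 1 [← SA]
    rw [Matrix.mulVec_mulVec, Matrix.mulVec_mulVec, ← R.AS, ← Matrix.mulVec_mulVec, S0, Matrix.mulVec_neg]
  have TB : m t1 *ᵥ (m x *ᵥ v) = -(m x *ᵥ v) := by
    rw [Matrix.mulVec_mulVec, ← R.BS, ← Matrix.mulVec_mulVec, S0, Matrix.mulVec_neg]
  have SB : m t2 *ᵥ (m x *ᵥ v) = -(m x *ᵥ v) := by
    have e1 : m t1 *ᵥ (m t1 *ᵥ (m t2 *ᵥ (m x *ᵥ v))) = m t2 *ᵥ (m x *ᵥ v) := by
      rw [Matrix.mulVec_mulVec, mT, Matrix.one_mulVec]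
    have e2 : m t1 *ᵥ (m t2 *ᵥ (m x *ᵥ v)) = m x *ᵥ v := by
      rw [Matrix.mulVec_mulVec, Matrix.mulVec_mulVec, ← R.BT, ← Matrix.mulVec_mulVec, T0]
    rw [← e1, e2, TB]
  have UA : m u *ᵥ (m x⁻¹ *ᵥ v) = -(m x *ᵥ v) := by
    rw [Matrix.mulVec_mulVec, R.UA, ← Matrix.mulVec_mulVec, U0, Matrix.mulVec_neg]
  have UB : m u *ᵥ (m x *ᵥ v) = -(m x⁻¹ *ᵥ v) := by
    rw [Matrix.mulVec_mulVec, R.UB, ← Matrix.mulVec_mulVec, U0, Matrix.mulVec_neg]
  have BA : m x *ᵥ (m x⁻¹ *ᵥ v) = v := by rw [Matrix.mulVec_mulVec, R.BA, Matrix.one_mulVec]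
  have BB : m x *ᵥ (m x *ᵥ v) = m x⁻¹ *ᵥ v := by rw [Matrix.mulVec_mulVec, R.BB]
  have CC : m (r * t2) *ᵥ (m (r * t2) *ᵥ v) = m (t2 * r) *ᵥ v := by rw [Matrix.mulVec_mulVec, R.CC]
  have CD : m (r * t2) *ᵥ (m (t2 * r) *ᵥ v) = v := by rw [Matrix.mulVec_mulVec, R.CD, Matrix.one_mulVec]
  have c0 : c ≠ 0 := by
    rintro rfl
    rw [D0, zero_smul, neg_zero, Matrix.mulVec_zero] at CD
    exact hj CD.symm
  rw [C0, D0, Matrix.mulVec_smul, Matrix.mulVec_sub, ← smul_neg] at CC
  have CC' := smul_right_injective _ c0 CC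
  rw [D0, Matrix.mulVec_neg, Matrix.mulVec_smul, Matrix.mulVec_add] at CD
  have CD' : m (r * t2) *ᵥ (m x⁻¹ *ᵥ v) + m (r * t2) *ᵥ (m x *ᵥ v) = -(c⁻¹ • v) := by
    have := congrArg (c⁻¹ • ·) CD
    rw [smul_neg, smul_smul, inv_mul_cancel₀ c0, one_smul] at this
    rw [← this, neg_neg]
  have CA0 : m (r * t2) *ᵥ (m x⁻¹ *ᵥ v) = (2 : F)⁻¹ • (-(m x⁻¹ *ᵥ v + m x *ᵥ v) + -(c⁻¹ • v)) := by
    have CC'' : m (r * t2) *ᵥ (m x⁻¹ *ᵥ v) - m (r * t2) *ᵥ (m x *ᵥ v) = -(m x⁻¹ *ᵥ v + m x *ᵥ v) := CC'
    rw [← CC'', ← CD', sub_add_add_cancel, ← two_smul F, smul_smul, inv_mul_cancel₀ n2, one_smul]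
  have CB0 : m (r * t2) *ᵥ (m x *ᵥ v) = (2 : F)⁻¹ • (-(c⁻¹ • v) - -(m x⁻¹ *ᵥ v + m x *ᵥ v)) := by
    have CC'' : m (r * t2) *ᵥ (m x⁻¹ *ᵥ v) - m (r * t2) *ᵥ (m x *ᵥ v) = -(m x⁻¹ *ᵥ v + m x *ᵥ v) := CC'
    rw [← CC'', ← CD', add_sub_sub_cancel, ← two_smul F, smul_smul, inv_mul_cancel₀ n2, one_smul]
  set W : Submodule F (Fin 6 → F) := Submodule.span F (Set.range ![v, m x⁻¹ *ᵥ v, m x *ᵥ v]) with hW
  have w0 : v ∈ W := Submodule.subset_span ⟨0, rfl⟩
  have w1 : m x⁻¹ *ᵥ v ∈ W := Submodule.subset_span ⟨1, rfl⟩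
  have w2 : m x *ᵥ v ∈ W := Submodule.subset_span ⟨2, rfl⟩
  have pres : ∀ M : M6 F, M *ᵥ v ∈ W → M *ᵥ (m x⁻¹ *ᵥ v) ∈ W → M *ᵥ (m x *ᵥ v) ∈ W → ∀ z ∈ W, M *ᵥ z ∈ W := by
    intro M m0 m1 m2 z hz
    rw [hW] at hz
    induction hz using Submodule.span_induction with
    | mem z hz =>
      obtain ⟨i, rfl⟩ := hz
      fin_cases i
      · exact m0
      · exact m1
      · exact m2
    | zero => rw [Matrix.mulVec_zero]; exact W.zero_mem
    | add a b _ _ ha hb => rw [Matrix.mulVec_add]; exact W.add_mem ha hb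
    | smul k a _ ha => rw [Matrix.mulVec_smul]; exact W.smul_mem k ha
  have pT := pres (m t1) (by rw [T0]; exact w0) (by rw [TA]; exact W.neg_mem w1) (by rw [TB]; exact W.neg_mem w2)
  have pS := pres (m t2) (by rw [S0]; exact W.neg_mem w0) (by rw [SA]; exact w1) (by rw [SB]; exact W.neg_mem w2)
  have pU := pres (m u) (by rw [U0]; exact W.neg_mem w0) (by rw [UA]; exact W.neg_mem w2)
    (by rw [UB]; exact W.neg_mem w1)
  have pX := pres (m x) w2 (by rw [BA]; exact w0) (by rw [BB]; exact w1)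
  have pC := pres (m (r * t2)) (by rw [C0]; exact W.smul_mem _ (W.sub_mem w1 w2))
    (by rw [CA0]; exact W.smul_mem _ (W.add_mem (W.neg_mem (W.add_mem w1 w2)) (W.neg_mem (W.smul_mem _ w0))))
    (by rw [CB0]; exact W.smul_mem _ (W.sub_mem (W.neg_mem (W.smul_mem _ w0)) (W.neg_mem (W.add_mem w1 w2))))
  have pR : ∀ z ∈ W, m r *ᵥ z ∈ W := by
    intro z hz
    have e : m r = m (r * t2) * m t2 := by
      rw [← map_mul]; congr 1
      calc r = r * (t2 * t2) := by rw [d.qt2, mul_one]
        _ = r * t2 * t2 := by group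
    rw [e, ← Matrix.mulVec_mulVec]
    exact pC _ (pS _ hz)
  have key := d.induct h (Q := fun g => ∀ z ∈ W, m g *ᵥ z ∈ W) (fun k hk z hz => by
    obtain ⟨c', -, hc'⟩ := h.ker k hk
    rw [hc', Matrix.smul_mulVec, Matrix.one_mulVec]
    exact W.smul_mem _ hz) (fun g g' hg hg' z hz => by
    rw [map_mul, ← Matrix.mulVec_mulVec]; exact hg _ (hg' _ hz)) pT pS pU pR pX
  rcases hirr W key with h0 | h0
  · rw [h0, Submodule.mem_bot] at w0
    exact hj w0
  · have e1 : Module.finrank F W ≤ 3 := by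
      rw [hW]
      have := finrank_range_le_card (R := F) ![v, m x⁻¹ *ᵥ v, m x *ᵥ v]
      rw [Fintype.card_fin] at this
      exact this
    rw [h0, finrank_top, Module.finrank_fintype_fun_eq_card, Fintype.card_fin] at e1
    omega

end main

end Cfsg.Agent.H910.Six
end

private theorem dce_d5d5d4f85448 : _root_.True := by
  try have : _root_.True := by simp only [_root_.Cfsg.Agent.H910.Six.Data.induct]
  exact _root_.True.intro
end
end
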