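import Cfsg.Agent.H910.Six.OmegaChk_m3
import Cfsg.Agent.H906.Cover_m3
import Cfsg.Agent.LFourA.AltPsiAut
import Cfsg.Agent.Lib.FastPerm
import Cfsg.Agent.Lib.FinFast
import Cfsg.Agent.H890.K6Lines_m3
import Cfsg.Agent.H100.Diag
import Cfsg.Agent.H906.E9C
import Mathlib
import Cfsg.Agent.Lib.DetFast
import Cfsg.Agent.FastGrp
import Cfsg.Agent.Prune
set_option linter.all false

section
prune_inst 0x7fbea8faabf8a9dfdfff7e7fa6d6cffd9fb93fffe6dff9437fe061ff0f9f0b0889c5fb850de210fe1ff7e01490b87b13ffffdeffe86bdc7ffffd5ff41ffbee0ff5f73508519c8cb40fbc0ff703f0778a7f3fffffffffffffffffffffffffffbeffbfffffffff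

-- part: H910/Six/Two
section
prune_inst 0x410105500756202000018009283000600040000920048880040a00004054964622043a8219a200400802004442804000002100120422000000a000400011d0080088000002100010002008e000000400000000000000000000000000000000000000000000
set_option linter.all false
open scoped Cfsg.Agent.FastGrp

/-!
# `3.A₆` has no six-dimensional irreducible representation in characteristic two (helper910)
-/

set_option autoImplicit false
set_option linter.unusedSectionVars false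

open Matrix Equiv

namespace Cfsg.Agent.H910.Six

variable {F : Type*} [Field F]

section small

theorem add_self' (h2 : (2 : F) = 0) {m n : Type*} (Z : Matrix m n F) : Z + Z = 0 := by
  rw [← two_smul F, h2, zero_smul]

theorem eq_of_add (h2 : (2 : F) = 0) {m n : Type*} {Z W : Matrix m n F} (h : Z + W = 0) : Z = W := by
  rw [← add_zero Z, ← add_self' h2 W, ← add_assoc, h, zero_add]

/-- the kernel of a nilpotent two by two matrix -/
theorem ker_nil {N : Matrix (Fin 2) (Fin 2) F} (hN : N ≠ 0) {m w : Fin 2 → F} (hm : m ≠ 0) (hNm : N *ᵥ m = 0)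
    (hw : N *ᵥ w = 0) : ∃ c : F, w = c • m := by
  by_contra hcon
  push Not at hcon
  have hli : LinearIndependent F ![m, w] := by
    rw [LinearIndependent.pair_iff]
    intro s t hst
    by_cases ht : t = 0
    · subst ht
      rw [zero_smul, add_zero] at hst
      exact ⟨(smul_eq_zero.1 hst).resolve_right hm, rfl⟩
    · exfalso
      apply hcon (-(t⁻¹ * s))
      have : t • w = -(s • m) := by rw [eq_neg_iff_add_eq_zero, add_comm]; exact hst
      rw [neg_smul, mul_smul, ← smul_neg, ← this, smul_smul, inv_mul_cancel₀ ht, one_smul]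
  have hsp := hli.span_eq_top_of_card_eq_finrank (by simp)
  apply hN
  have key : ∀ z : Fin 2 → F, N *ᵥ z = 0 := by
    intro z
    have hz : z ∈ Submodule.span F (Set.range ![m, w]) := by rw [hsp]; trivial
    induction hz using Submodule.span_induction with
    | mem z hz =>
      obtain ⟨i, rfl⟩ := hz
      fin_cases i
      · exact hNm
      · exact hw
    | zero => exact Matrix.mulVec_zero _
    | add a b _ _ ha hb => rw [Matrix.mulVec_add, ha, hb, add_zero]
    | smul k a _ ha => rw [Matrix.mulVec_smul, ha, smul_zero]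
  ext i j
  have := congrFun (key (Pi.single j 1)) i
  rwa [Matrix.mulVec_single_one] at this

theorem exists_vec {N : Matrix (Fin 2) (Fin 2) F} (hN : N ≠ 0) : ∃ v : Fin 2 → F, N *ᵥ v ≠ 0 := by
  by_contra hcon
  push Not at hcon
  apply hN
  ext i j
  have := congrFun (hcon (Pi.single j 1)) i
  rwa [Matrix.mulVec_single_one] at this

/-- the common eigenvector -/
theorem two_by_two (h2 : (2 : F) = 0) {C P Q R S : Matrix (Fin 2) (Fin 2) F} (hC : C * C = 1) (hPC : P * C = C * P)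
    (hSC : S * C = C * S) (hQC : Q * C + C * Q = C * (1 + S + P)) (hRC : R * C + C * R = C * (1 + S + P))
    (hRCQ : R * C + C * Q = C + C * S) (hPP : P * P = 1) (hPQ : P * Q = Q) (hRP : R * P = R) (hRQ : R * Q = 0)
    (hSS : S * S = 0) (hQS : Q * S = 0) :
    ∃ m : Fin 2 → F, m ≠ 0 ∧ (∃ p : F, P *ᵥ m = p • m) ∧ (∃ p : F, Q *ᵥ m = p • m) ∧ (∃ p : F, R *ᵥ m = p • m) ∧
      (∃ p : F, S *ᵥ m = p • m) := by
  have as := fun Z : Matrix (Fin 2) (Fin 2) F => add_self' h2 Z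
  by_cases hN : C + 1 = 0
  · have hC1 : C = 1 := eq_of_add h2 hN
    subst hC1
    rw [mul_one, one_mul, as, one_mul] at hQC
    rw [mul_one, one_mul, one_mul] at hRCQ
    have hS : 1 + S = P := eq_of_add h2 hQC.symm
    rw [hS] at hRCQ
    have hR : R = P + Q := by
      rw [← hRCQ, add_assoc, as, add_zero]
    have hQP : Q * P = Q := by
      have : Q * (1 + S) = Q := by rw [mul_add, mul_one, hQS, add_zero]
      rwa [hS] at this
    have hP1 : P = 1 := by
      rw [hR, add_mul, hPP, hQP] at hRP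
      exact (add_right_cancel hRP).symm
    subst hP1
    have hS0 : S = 0 := by
      have := hS
      rwa [add_eq_left] at this
    have hQQ : Q * Q = Q := by
      rw [hR, add_mul, one_mul] at hRQ
      exact (eq_of_add h2 hRQ).symm
    by_cases hQ : Q = 0
    · refine ⟨Pi.single 0 1, by simp, ⟨1, by rw [Matrix.one_mulVec, one_smul]⟩, ⟨0, by rw [hQ, Matrix.zero_mulVec, zero_smul]⟩,
        ⟨1, by rw [hR, hQ, add_zero, Matrix.one_mulVec, one_smul]⟩, ⟨0, by rw [hS0, Matrix.zero_mulVec, zero_smul]⟩⟩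
    · obtain ⟨v, hv⟩ := exists_vec hQ
      have e1 : Q *ᵥ (Q *ᵥ v) = Q *ᵥ v := by rw [Matrix.mulVec_mulVec, hQQ]
      refine ⟨Q *ᵥ v, hv, ⟨1, by rw [Matrix.one_mulVec, one_smul]⟩, ⟨1, by rw [e1, one_smul]⟩, ⟨0, ?_⟩,
        ⟨0, by rw [hS0, Matrix.zero_mulVec, zero_smul]⟩⟩
      rw [hR, Matrix.add_mulVec, Matrix.one_mulVec, e1, zero_smul, ← two_smul F, h2, zero_smul]
  · obtain ⟨N, hNd⟩ : ∃ N, N = C + 1 := ⟨_, rfl⟩
    rw [← hNd] at hN
    have hCN : C = N + 1 := by rw [hNd, add_assoc, as, add_zero]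
    have hNN : N * N = 0 := by
      rw [hNd]
      calc (C + 1) * (C + 1) = C * C + (C + C) + 1 := by noncomm_ring
        _ = 0 := by rw [hC, as, add_zero, as]
    obtain ⟨v, hv⟩ := exists_vec hN
    have hNm : N *ᵥ (N *ᵥ v) = 0 := by rw [Matrix.mulVec_mulVec, hNN, Matrix.zero_mulVec]
    have cPN : P * N = N * P := by rw [hNd, mul_add, add_mul, hPC, mul_one, one_mul]
    have cSN : S * N = N * S := by rw [hNd, mul_add, add_mul, hSC, mul_one, one_mul]
    -- operators commuting with `N`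
    have key : ∀ Z : Matrix (Fin 2) (Fin 2) F, N * Z * N = 0 → ∃ p : F, Z *ᵥ (N *ᵥ v) = p • (N *ᵥ v) := by
      intro Z hZ
      apply ker_nil hN hv hNm
      rw [Matrix.mulVec_mulVec, Matrix.mulVec_mulVec, hZ, Matrix.zero_mulVec]
    have nil : ∀ Z : Matrix (Fin 2) (Fin 2) F, Z * N = N * Z → Z * Z = 0 → N * Z = 0 := by
      intro Z hZN hZZ
      by_contra hne
      obtain ⟨y, hy⟩ := exists_vec hne
      have h1 : N * Z * N = 0 := by rw [mul_assoc, hZN, ← mul_assoc, hNN, zero_mul]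
      rw [← Matrix.mulVec_mulVec] at hy
      -- `N (Z y)` is a multiple of `N y`
      obtain ⟨q, hq⟩ := ker_nil (w := Z *ᵥ (N *ᵥ y)) hN (m := N *ᵥ y) (by
        intro h0
        apply hy
        rw [Matrix.mulVec_mulVec, ← hZN, ← Matrix.mulVec_mulVec, h0, Matrix.mulVec_zero]) (by
        rw [Matrix.mulVec_mulVec, hNN, Matrix.zero_mulVec]) (by
        rw [Matrix.mulVec_mulVec, Matrix.mulVec_mulVec, h1, Matrix.zero_mulVec])
      have h3 : Z *ᵥ (Z *ᵥ (N *ᵥ y)) = 0 := by rw [Matrix.mulVec_mulVec, hZZ, Matrix.zero_mulVec]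
      rw [hq, Matrix.mulVec_smul, hq, smul_smul] at h3
      have h4 : N *ᵥ (Z *ᵥ y) = q • (N *ᵥ y) := by
        rw [← hq, Matrix.mulVec_mulVec, Matrix.mulVec_mulVec, hZN]
      rcases smul_eq_zero.1 h3 with h5 | h5
      · apply hy
        rw [h4, mul_self_eq_zero.1 h5, zero_smul]
      · apply hy
        rw [h4, h5, smul_zero]
    have hS0 : N * S = 0 := nil S cSN hSS
    have hP0 : N * (1 + P) = 0 := nil (1 + P) (by rw [add_mul, mul_add, cPN, one_mul, mul_one]) (by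
      calc (1 + P) * (1 + P) = 1 + P * P + (P + P) := by noncomm_ring
        _ = 0 := by rw [hPP, as, as, add_zero])
    have hcomm : ∀ Z : Matrix (Fin 2) (Fin 2) F, Z * C + C * Z = C * (1 + S + P) → N * Z * N = 0 := by
      intro Z hZ
      have e1 : Z * N + N * Z = C * (1 + S + P) := by
        rw [← hZ, hCN]
        calc Z * N + N * Z = Z * N + N * Z + (Z + Z) := by rw [as, add_zero]
          _ = Z * (N + 1) + (N + 1) * Z := by noncomm_ring
      have e2 : N * (Z * N + N * Z) = N * Z * N := by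
        rw [mul_add, ← mul_assoc, ← mul_assoc, hNN, zero_mul, add_zero]
      rw [← e2, e1, hCN]
      calc N * ((N + 1) * (1 + S + P)) = (N * N) * (1 + S + P) + N * S + N * (1 + P) := by noncomm_ring
        _ = 0 := by rw [hNN, zero_mul, hS0, hP0, add_zero, add_zero]
    refine ⟨N *ᵥ v, hv, key P ?_, key Q (hcomm Q hQC), key R (hcomm R hRC), key S ?_⟩
    · rw [mul_assoc, cPN, ← mul_assoc, hNN, zero_mul]
    · rw [mul_assoc, cSN, ← mul_assoc, hNN, zero_mul]

end small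

section nil

/-- Cayley–Hamilton -/
theorem ch_two (Z : Matrix (Fin 2) (Fin 2) F) : Z * Z = Z.trace • Z - Z.det • (1 : Matrix (Fin 2) (Fin 2) F) := by
  ext i j
  fin_cases i <;> fin_cases j <;>
    simp [Matrix.mul_apply, Fin.sum_univ_two, Matrix.trace_fin_two, Matrix.det_fin_two] <;> ring

theorem nil_two {Z : Matrix (Fin 2) (Fin 2) F} (h : Z * Z * (Z * Z) = 0) : Z * Z = 0 := by
  have hd : Z.det = 0 := by
    have := congrArg Matrix.det h
    rw [Matrix.det_mul, Matrix.det_mul, Matrix.det_zero] at this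
    · rcases mul_eq_zero.1 this with h1 | h1
      · exact mul_self_eq_zero.1 h1
      · exact mul_self_eq_zero.1 h1
  have h1 := ch_two Z
  rw [hd, zero_smul, sub_zero] at h1
  rw [h1, smul_mul_smul_comm, h1, smul_smul] at h
  rcases smul_eq_zero.1 h with h3 | h3
  · have : Z.trace = 0 := by
      have h4 : Z.trace * Z.trace = 0 ∨ Z.trace = 0 := mul_eq_zero.1 h3
      rcases h4 with h5 | h5
      · exact mul_self_eq_zero.1 h5
      · exact h5
    rw [h1, this, zero_smul]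
  · rw [h3, Matrix.mul_zero]

end nil

section blocks

/-- the relations -/
structure TwoRel (X Y S T U : M6 F) (z ζ : F) : Prop where
  h2 : (2 : F) = 0
  hζ : ζ * ζ + ζ + 1 = 0
  hz : z * z * z = 1
  XX : X * X * X = 1
  YY : Y * Y * Y = 1
  XY : X * Y = ζ • (Y * X)
  SX : S * X = Y * S
  SY : S * Y = X * X * S
  SS : S * S = U
  UU : U * U = 1
  TT : T * T = 1
  TU : T * U = U * T
  TS : T * S = S * T * U
  TX : T * X * T = z • (X * X * T * (X * X))
  TX' : T * (X * X) * T = (z * z) • (X * T * X)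

/-- the decomposition -/
structure Dec (X Y : M6 F) (ζ : F) (J0 J1 J2 : Matrix (Fin 6) (Fin 2) F) (K0 K1 K2 : Matrix (Fin 2) (Fin 6) F) : Prop where
  j1 : J1 = Y * J0
  j2 : J2 = Y * J1
  k1 : K1 = K2 * Y
  k2 : K2 = K0 * Y
  e0 : J0 * K0 = 1 + X + X * X
  sum : J0 * K0 + J1 * K1 + J2 * K2 = 1
  k00 : K0 * J0 = 1
  k01 : K0 * J1 = 0
  k02 : K0 * J2 = 0
  k10 : K1 * J0 = 0
  k11 : K1 * J1 = 1
  k12 : K1 * J2 = 0
  k20 : K2 * J0 = 0
  k21 : K2 * J1 = 0
  k22 : K2 * J2 = 1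
  x0 : X * J0 = J0
  x1 : X * J1 = ζ • J1
  x2 : X * J2 = (ζ * ζ) • J2
  y0 : K0 * X = K0
  y1 : K1 * X = ζ • K1
  y2 : K2 * X = (ζ * ζ) • K2

theorem exists_JK {e : M6 F} (he : e * e = e) (hr : e.rank = 2) :
    ∃ (J : Matrix (Fin 6) (Fin 2) F) (K : Matrix (Fin 2) (Fin 6) F), J * K = e ∧ K * J = 1 := by
  have hfin : Module.finrank F (LinearMap.range e.mulVecLin) = 2 := hr
  let b := Module.finBasisOfFinrankEq F (LinearMap.range e.mulVecLin) hfin
  refine ⟨LinearMap.toMatrix' ((LinearMap.range e.mulVecLin).subtype.comp b.equivFun.symm.toLinearMap),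
    LinearMap.toMatrix' (b.equivFun.toLinearMap.comp e.mulVecLin.rangeRestrict), ?_, ?_⟩
  · rw [← LinearMap.toMatrix'_comp]
    have : ((LinearMap.range e.mulVecLin).subtype.comp b.equivFun.symm.toLinearMap).comp
        (b.equivFun.toLinearMap.comp e.mulVecLin.rangeRestrict) = Matrix.toLin' e := by
      refine LinearMap.ext fun v => ?_
      change ((b.equivFun.symm (b.equivFun (e.mulVecLin.rangeRestrict v)) : LinearMap.range e.mulVecLin) : Fin 6 → F) = _
      rw [LinearEquiv.symm_apply_apply, Matrix.toLin'_apply]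
      rfl
    rw [this, LinearMap.toMatrix'_toLin']
  · rw [← LinearMap.toMatrix'_comp]
    have : (b.equivFun.toLinearMap.comp e.mulVecLin.rangeRestrict).comp
        ((LinearMap.range e.mulVecLin).subtype.comp b.equivFun.symm.toLinearMap) = LinearMap.id := by
      refine LinearMap.ext fun v => ?_
      have h1 : ∀ y : LinearMap.range e.mulVecLin, e.mulVecLin.rangeRestrict (y : Fin 6 → F) = y := by
        rintro ⟨_, y, rfl⟩
        apply Subtype.ext
        change e *ᵥ (e *ᵥ y) = e *ᵥ y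
        rw [Matrix.mulVec_mulVec, he]
      change b.equivFun (e.mulVecLin.rangeRestrict ((b.equivFun.symm v : LinearMap.range e.mulVecLin) : Fin 6 → F)) = v
      rw [h1, LinearEquiv.apply_symm_apply]
    rw [this, LinearMap.toMatrix'_id]

variable {X Y S T U : M6 F} {z ζ : F}

theorem TwoRel.z3 (h : TwoRel X Y S T U z ζ) : ζ * ζ * ζ = 1 := by linear_combination (ζ - 1) * h.hζ

theorem TwoRel.exists_dec (h : TwoRel X Y S T U z ζ) : ∃ J0 J1 J2 K0 K1 K2, Dec X Y ζ J0 J1 J2 K0 K1 K2 := by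
  have as := fun Z : M6 F => add_self' h.h2 Z
  have z3 := h.z3
  obtain ⟨e0, he0⟩ : ∃ e0, e0 = 1 + X + X * X := ⟨_, rfl⟩
  obtain ⟨e1, he1⟩ : ∃ e1, e1 = Y * e0 * (Y * Y) := ⟨_, rfl⟩
  obtain ⟨e2, he2⟩ : ∃ e2, e2 = Y * Y * e0 * Y := ⟨_, rfl⟩
  have YX : Y * X = (ζ * ζ) • (X * Y) := by rw [h.XY, smul_smul, z3, one_smul]
  have Xe : X * e0 = e0 := by
    rw [he0]
    calc X * (1 + X + X * X) = X + X * X + X * X * X := by noncomm_ring
      _ = 1 + X + X * X := by rw [h.XX]; abel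
  have eX : e0 * X = e0 := by
    rw [he0]
    calc (1 + X + X * X) * X = X + X * X + X * X * X := by noncomm_ring
      _ = 1 + X + X * X := by rw [h.XX]; abel
  have YXY : Y * X * (Y * Y) = (ζ * ζ) • X := by
    rw [YX, smul_mul_assoc, mul_assoc X, ← mul_assoc Y, h.YY, mul_one]
  have YXXY : Y * (X * X) * (Y * Y) = ζ • (X * X) := by
    have : Y * (X * X) * (Y * Y) = (Y * X * (Y * Y)) * (Y * X * (Y * Y)) := by
      calc Y * (X * X) * (Y * Y) = Y * X * 1 * X * (Y * Y) := by noncomm_ring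
        _ = _ := by rw [← h.YY]; noncomm_ring
    rw [this, YXY, smul_mul_smul_comm]
    congr 1
    linear_combination ζ * z3
  have E1 : e1 = 1 + (ζ * ζ) • X + ζ • (X * X) := by
    rw [he1, he0, mul_add, mul_add, add_mul, add_mul, mul_one, YXY, YXXY, ← mul_assoc, h.YY]
  have E2 : e2 = 1 + ζ • X + (ζ * ζ) • (X * X) := by
    have : e2 = Y * e1 * (Y * Y) := by
      rw [he2, he1]
      calc Y * Y * e0 * Y = Y * Y * e0 * Y * (Y * Y * Y) := by rw [h.YY, mul_one]
        _ = Y * (Y * e0 * (Y * Y)) * (Y * Y) := by noncomm_ring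
    rw [this, E1, mul_add, mul_add, add_mul, add_mul, mul_one, mul_smul_comm, smul_mul_assoc, mul_smul_comm, smul_mul_assoc,
      YXY, YXXY, ← mul_assoc, h.YY, smul_smul, smul_smul]
    congr 2
    rw [show ζ * ζ * (ζ * ζ) = ζ by linear_combination ζ * z3]
  have ee : e0 * e0 = e0 := by
    nth_rewrite 2 [he0]
    rw [mul_add, mul_add, mul_one, ← mul_assoc, eX, eX, add_assoc, as, add_zero]
  have lin : ∀ Z : M6 F, Z + (ζ * ζ) • Z + ζ • Z = 0 := by
    intro Z
    rw [← one_smul F Z, smul_smul, smul_smul, ← add_smul, ← add_smul,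
      show (1 : F) + ζ * ζ * 1 + ζ * 1 = 0 by linear_combination h.hζ, zero_smul]
  have o01 : e0 * e1 = 0 := by
    rw [E1, mul_add, mul_add, mul_one, mul_smul_comm, mul_smul_comm, ← mul_assoc, eX, eX, lin]
  have o10 : e1 * e0 = 0 := by
    rw [E1, add_mul, add_mul, one_mul, smul_mul_assoc, smul_mul_assoc, mul_assoc, Xe, Xe, lin]
  have o02 : e0 * e2 = 0 := by
    rw [E2, mul_add, mul_add, mul_one, mul_smul_comm, mul_smul_comm, ← mul_assoc, eX, eX, add_right_comm, lin]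
  have o20 : e2 * e0 = 0 := by
    rw [E2, add_mul, add_mul, one_mul, smul_mul_assoc, smul_mul_assoc, mul_assoc, Xe, Xe, add_right_comm, lin]
  have sum : e0 + e1 + e2 = 1 := by
    have e3 : e0 + e1 + e2 = (1 + 1) + 1 + (X + (ζ * ζ) • X + ζ • X) + (X * X + (ζ * ζ) • (X * X) + ζ • (X * X)) := by
      rw [he0, E1, E2]; abel
    rw [e3, lin, lin, as, zero_add, add_zero, add_zero]
  have eYe : e0 * Y * e0 = 0 := by
    calc e0 * Y * e0 = e0 * Y * e0 * (Y * Y * Y) := by rw [h.YY, mul_one]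
      _ = e0 * (Y * e0 * (Y * Y)) * Y := by noncomm_ring
      _ = 0 := by rw [← he1, o01, zero_mul]
  have eYYe : e0 * (Y * Y) * e0 = 0 := by
    calc e0 * (Y * Y) * e0 = e0 * (Y * Y) * e0 * (Y * Y * Y) := by rw [h.YY, mul_one]
      _ = e0 * (Y * Y * e0 * Y) * (Y * Y) := by noncomm_ring
      _ = 0 := by rw [← he2, o02, zero_mul]
  have i1 : e1 * e1 = e1 := by
    calc e1 * e1 = Y * (e0 * (Y * Y * Y) * e0) * (Y * Y) := by rw [he1]; noncomm_ring
      _ = e1 := by rw [h.YY, mul_one, ee, he1]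
  have i2 : e2 * e2 = e2 := by
    calc e2 * e2 = Y * Y * (e0 * (Y * Y * Y) * e0) * Y := by rw [he2]; noncomm_ring
      _ = e2 := by rw [h.YY, mul_one, ee, he2]
  have o12 : e1 * e2 = 0 := by
    calc e1 * e2 = Y * (e0 * (Y * Y * Y) * (Y * e0)) * Y := by rw [he1, he2]; noncomm_ring
      _ = Y * (e0 * Y * e0) * Y := by rw [h.YY]; noncomm_ring
      _ = 0 := by rw [eYe]; noncomm_ring
  have o21 : e2 * e1 = 0 := by
    calc e2 * e1 = Y * Y * (e0 * (Y * Y) * e0) * (Y * Y) := by rw [he1, he2]; noncomm_ring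
      _ = 0 := by rw [eYYe]; noncomm_ring
  have r1 : e0.rank = e1.rank := rank_conj he1 (by
    rw [he1]
    calc e0 = (Y * Y * Y) * e0 * (Y * Y * Y) := by rw [h.YY, one_mul, mul_one]
      _ = Y * Y * (Y * e0 * (Y * Y)) * Y := by noncomm_ring)
  have r2 : e0.rank = e2.rank := rank_conj he2 (by
    rw [he2]
    calc e0 = (Y * Y * Y) * e0 * (Y * Y * Y) := by rw [h.YY, one_mul, mul_one]
      _ = Y * (Y * Y * e0 * Y) * (Y * Y) := by noncomm_ring)
  have hr : e0.rank = 2 := by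
    have w1 := rank_add_idem ee i1 o01 o10
    have w2 : (e0 + e1 + e2).rank = (e0 + e1).rank + e2.rank := by
      apply rank_add_idem
      · rw [add_mul, mul_add, mul_add, ee, i1, o01, o10, add_zero, zero_add]
      · exact i2
      · rw [add_mul, o02, o12, add_zero]
      · rw [mul_add, o20, o21, add_zero]
    rw [sum, Matrix.rank_one, Fintype.card_fin] at w2
    omega
  obtain ⟨J, K, hJK, hKJ⟩ := exists_JK ee hr
  have eJ : e0 * J = J := by rw [← hJK, Matrix.mul_assoc, hKJ, Matrix.mul_one]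
  have Ke : K * e0 = K := by rw [← hJK, ← Matrix.mul_assoc, hKJ, Matrix.one_mul]
  have XJ : X * J = J := by
    rw [← eJ, ← Matrix.mul_assoc, Xe]
  have KX : K * X = K := by
    rw [← Ke, Matrix.mul_assoc, eX]
  have KYJ : K * (Y * J) = 0 := by
    calc K * (Y * J) = K * e0 * (Y * (e0 * J)) := by rw [Ke, eJ]
      _ = K * (e0 * Y * e0) * J := by simp only [Matrix.mul_assoc]
      _ = 0 := by rw [eYe, Matrix.mul_zero, Matrix.zero_mul]
  have KYYJ : K * (Y * (Y * J)) = 0 := by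
    calc K * (Y * (Y * J)) = K * e0 * (Y * (Y * (e0 * J))) := by rw [Ke, eJ]
      _ = K * (e0 * (Y * Y) * e0) * J := by simp only [Matrix.mul_assoc]
      _ = 0 := by rw [eYYe, Matrix.mul_zero, Matrix.zero_mul]
  have YYY : ∀ Z : Matrix (Fin 6) (Fin 2) F, Y * (Y * (Y * Z)) = Z := by
    intro Z
    rw [← Matrix.mul_assoc, ← Matrix.mul_assoc, h.YY, Matrix.one_mul]
  refine ⟨J, Y * J, Y * (Y * J), K, K * Y * Y, K * Y, ⟨rfl, rfl, rfl, rfl, by rw [hJK, he0], ?_, hKJ, KYJ, KYYJ, ?_, ?_, ?_,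
    ?_, ?_, ?_, XJ, ?_, ?_, KX, ?_, ?_⟩⟩
  · rw [← sum, hJK, he1, he2, ← hJK]
    simp only [Matrix.mul_assoc]
  · rw [Matrix.mul_assoc, Matrix.mul_assoc, KYYJ]
  · rw [Matrix.mul_assoc, Matrix.mul_assoc, YYY, hKJ]
  · rw [Matrix.mul_assoc, Matrix.mul_assoc, YYY, KYJ]
  · rw [Matrix.mul_assoc, KYJ]
  · rw [Matrix.mul_assoc, KYYJ]
  · rw [Matrix.mul_assoc, YYY, hKJ]
  · rw [← Matrix.mul_assoc, h.XY, Matrix.smul_mul, Matrix.mul_assoc, XJ]
  · rw [← Matrix.mul_assoc, h.XY, Matrix.smul_mul, Matrix.mul_assoc, ← Matrix.mul_assoc X, h.XY, Matrix.smul_mul,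
      Matrix.mul_assoc, XJ, Matrix.mul_smul, smul_smul]
  · rw [Matrix.mul_assoc, YX, Matrix.mul_smul, Matrix.mul_assoc K, ← Matrix.mul_assoc Y, YX, Matrix.smul_mul,
      Matrix.mul_smul, smul_smul, Matrix.mul_assoc X, ← Matrix.mul_assoc K, KX, ← Matrix.mul_assoc,
      show ζ * ζ * (ζ * ζ) = ζ by linear_combination ζ * z3]
  · rw [Matrix.mul_assoc, YX, Matrix.mul_smul, ← Matrix.mul_assoc, KX]

variable {J0 J1 J2 : Matrix (Fin 6) (Fin 2) F} {K0 K1 K2 : Matrix (Fin 2) (Fin 6) F}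

theorem Dec.c0 (d : Dec X Y ζ J0 J1 J2 K0 K1 K2) (a b c : Matrix (Fin 2) (Fin 2) F) :
    K0 * (J0 * a + J1 * b + J2 * c) = a := by
  rw [Matrix.mul_add, Matrix.mul_add, ← Matrix.mul_assoc, ← Matrix.mul_assoc, ← Matrix.mul_assoc, d.k00, d.k01, d.k02,
    Matrix.one_mul, Matrix.zero_mul, Matrix.zero_mul, add_zero, add_zero]

theorem Dec.c1 (d : Dec X Y ζ J0 J1 J2 K0 K1 K2) (a b c : Matrix (Fin 2) (Fin 2) F) :
    K1 * (J0 * a + J1 * b + J2 * c) = b := by
  rw [Matrix.mul_add, Matrix.mul_add, ← Matrix.mul_assoc, ← Matrix.mul_assoc, ← Matrix.mul_assoc, d.k10, d.k11, d.k12,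
    Matrix.one_mul, Matrix.zero_mul, Matrix.zero_mul, zero_add, add_zero]

theorem Dec.c2 (d : Dec X Y ζ J0 J1 J2 K0 K1 K2) (a b c : Matrix (Fin 2) (Fin 2) F) :
    K2 * (J0 * a + J1 * b + J2 * c) = c := by
  rw [Matrix.mul_add, Matrix.mul_add, ← Matrix.mul_assoc, ← Matrix.mul_assoc, ← Matrix.mul_assoc, d.k20, d.k21, d.k22,
    Matrix.one_mul, Matrix.zero_mul, Matrix.zero_mul, zero_add, zero_add]

/-- expansion -/
theorem Dec.exp (d : Dec X Y ζ J0 J1 J2 K0 K1 K2) (Z : Matrix (Fin 6) (Fin 2) F) :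
    Z = J0 * (K0 * Z) + J1 * (K1 * Z) + J2 * (K2 * Z) := by
  conv_lhs => rw [← Matrix.one_mul Z, ← d.sum]
  rw [Matrix.add_mul, Matrix.add_mul, Matrix.mul_assoc, Matrix.mul_assoc, Matrix.mul_assoc]

theorem TwoRel.actS (h : TwoRel X Y S T U z ζ) (d : Dec X Y ζ J0 J1 J2 K0 K1 K2) :
    S * J0 = J0 * (K0 * S * J0) + J1 * (K0 * S * J0) + J2 * (K0 * S * J0) ∧
    S * J1 = J0 * (K0 * S * J0) + J1 * ((ζ * ζ) • (K0 * S * J0)) + J2 * (ζ • (K0 * S * J0)) ∧
    S * J2 = J0 * (K0 * S * J0) + J1 * (ζ • (K0 * S * J0)) + J2 * ((ζ * ζ) • (K0 * S * J0)) := by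
  have z3 := h.z3
  have e2 : K2 * (S * J0) = K0 * S * J0 := by
    rw [d.k2, Matrix.mul_assoc, ← Matrix.mul_assoc Y, ← h.SX, Matrix.mul_assoc S, d.x0, ← Matrix.mul_assoc]
  have e1 : K1 * (S * J0) = K0 * S * J0 := by
    rw [d.k1, Matrix.mul_assoc, ← Matrix.mul_assoc Y, ← h.SX, Matrix.mul_assoc S, d.x0, e2]
  have f0 : S * J0 = J0 * (K0 * S * J0) + J1 * (K0 * S * J0) + J2 * (K0 * S * J0) := by
    conv_lhs => rw [d.exp (S * J0)]
    rw [e1, e2, Matrix.mul_assoc K0]
  generalize K0 * S * J0 = C at *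
  have xx0 : X * X * J0 = J0 := by rw [Matrix.mul_assoc, d.x0, d.x0]
  have xx1 : X * X * J1 = (ζ * ζ) • J1 := by rw [Matrix.mul_assoc, d.x1, Matrix.mul_smul, d.x1, smul_smul]
  have xx2 : X * X * J2 = ζ • J2 := by
    rw [Matrix.mul_assoc, d.x2, Matrix.mul_smul, d.x2, smul_smul,
      show ζ * ζ * (ζ * ζ) = ζ by linear_combination ζ * z3]
  have f1 : S * J1 = J0 * C + J1 * ((ζ * ζ) • C) + J2 * (ζ • C) := by
    rw [d.j1, ← Matrix.mul_assoc, h.SY, Matrix.mul_assoc, f0, Matrix.mul_add, Matrix.mul_add, ← Matrix.mul_assoc,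
      ← Matrix.mul_assoc, ← Matrix.mul_assoc, xx0, xx1, xx2, ← d.j1, Matrix.smul_mul, Matrix.smul_mul, Matrix.mul_smul,
      Matrix.mul_smul]
  refine ⟨f0, f1, ?_⟩
  rw [d.j2, ← Matrix.mul_assoc, h.SY, Matrix.mul_assoc, f1, Matrix.mul_add, Matrix.mul_add, ← Matrix.mul_assoc,
    ← Matrix.mul_assoc, ← Matrix.mul_assoc, xx0, xx1, xx2, ← d.j2, Matrix.smul_mul, Matrix.smul_mul, Matrix.mul_smul,
    Matrix.mul_smul, Matrix.mul_smul, Matrix.mul_smul, smul_smul, smul_smul,
    show ζ * ζ * (ζ * ζ) = ζ by linear_combination ζ * z3]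

theorem TwoRel.actU (h : TwoRel X Y S T U z ζ) (d : Dec X Y ζ J0 J1 J2 K0 K1 K2) :
    (K0 * S * J0) * (K0 * S * J0) = 1 ∧ U * J0 = J0 ∧ U * J1 = J2 ∧ U * J2 = J1 ∧ K0 * U = K0 ∧ K1 * U = K2 ∧ K2 * U = K1 := by
  have as := fun Z : Matrix (Fin 2) (Fin 2) F => add_self' h.h2 Z
  have as' := fun Z : Matrix (Fin 6) (Fin 2) F => add_self' h.h2 Z
  have z3 := h.z3
  obtain ⟨f0, f1, f2⟩ := h.actS d
  generalize K0 * S * J0 = C at *
  have U0 : U * J0 = J0 * (C * C) := by
    have e1 : U * J0 = S * J0 * C + S * J1 * C + S * J2 * C := by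
      rw [← h.SS, Matrix.mul_assoc]
      conv_lhs => rw [f0]
      rw [Matrix.mul_add, Matrix.mul_add, ← Matrix.mul_assoc, ← Matrix.mul_assoc, ← Matrix.mul_assoc]
    have lin : ∀ Z : Matrix (Fin 6) (Fin 2) F, Z + (ζ * ζ) • Z + ζ • Z = 0 := by
      intro Z
      rw [← one_smul F Z, smul_smul, smul_smul, ← add_smul, ← add_smul,
        show (1 : F) + ζ * ζ * 1 + ζ * 1 = 0 by linear_combination h.hζ, zero_smul]
    have e2 : U * J0 = (J0 * (C * C) + J0 * (C * C)) + J0 * (C * C) +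
        (J1 * (C * C) + (ζ * ζ) • (J1 * (C * C)) + ζ • (J1 * (C * C))) +
        (J2 * (C * C) + (ζ * ζ) • (J2 * (C * C)) + ζ • (J2 * (C * C))) := by
      rw [e1, f0, f1, f2]
      simp only [Matrix.add_mul, Matrix.mul_assoc, Matrix.mul_smul, Matrix.smul_mul]
      abel
    rw [e2, lin, lin, as', zero_add, add_zero, add_zero]
  have C4 : C * C * (C * C) = 1 := by
    have e1 : J0 = J0 * (C * C * (C * C)) := by
      calc J0 = U * (U * J0) := by rw [← Matrix.mul_assoc, h.UU, Matrix.one_mul]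
        _ = J0 * (C * C * (C * C)) := by rw [U0, ← Matrix.mul_assoc, U0]; simp only [Matrix.mul_assoc]
    have e2 := congrArg (fun Z => K0 * Z) e1
    simp only [← Matrix.mul_assoc, d.k00, Matrix.one_mul] at e2
    rw [e2]; simp only [Matrix.mul_assoc]
  have C2 : C * C = 1 := by
    have e1 : (C + 1) * (C + 1) = C * C + 1 := by
      calc (C + 1) * (C + 1) = C * C + (C + C) + 1 := by noncomm_ring
        _ = C * C + 1 := by rw [as, add_zero]
    have e2 : (C + 1) * (C + 1) * ((C + 1) * (C + 1)) = 0 := by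
      rw [e1]
      calc (C * C + 1) * (C * C + 1) = C * C * (C * C) + (C * C + C * C) + 1 := by noncomm_ring
        _ = 0 := by rw [C4, as, add_zero, as]
    have e3 := nil_two e2
    rw [e1] at e3
    exact eq_of_add h.h2 e3
  have U0' : U * J0 = J0 := by rw [U0, C2, Matrix.mul_one]
  have UY : U * Y = Y * Y * U := by
    rw [← h.SS]
    calc S * S * Y = S * (S * Y) := by rw [mul_assoc]
      _ = (S * X) * X * S := by rw [h.SY]; simp only [mul_assoc]
      _ = (Y * S) * X * S := by rw [h.SX]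
      _ = Y * (S * X) * S := by simp only [mul_assoc]
      _ = Y * (Y * S) * S := by rw [h.SX]
      _ = Y * Y * (S * S) := by simp only [mul_assoc]
  have U1 : U * J1 = J2 := by
    rw [d.j1, ← Matrix.mul_assoc, UY, Matrix.mul_assoc, U0', Matrix.mul_assoc, ← d.j1, ← d.j2]
  have U2 : U * J2 = J1 := by rw [← U1, ← Matrix.mul_assoc, h.UU, Matrix.one_mul]
  have key : ∀ K : Matrix (Fin 2) (Fin 6) F, K * U = K * J0 * K0 + K * J2 * K1 + K * J1 * K2 := by
    intro K
    calc K * U = K * U * (J0 * K0 + J1 * K1 + J2 * K2) := by rw [d.sum, Matrix.mul_one]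
      _ = K * (U * J0) * K0 + K * (U * J1) * K1 + K * (U * J2) * K2 := by
        simp only [Matrix.mul_add, Matrix.mul_assoc]
      _ = _ := by rw [U0', U1, U2]
  refine ⟨C2, U0', U1, U2, ?_, ?_, ?_⟩
  · rw [key, d.k00, d.k01, d.k02, Matrix.one_mul, Matrix.zero_mul, Matrix.zero_mul, add_zero, add_zero]
  · rw [key, d.k10, d.k11, d.k12, Matrix.one_mul, Matrix.zero_mul, Matrix.zero_mul, zero_add, zero_add]
  · rw [key, d.k20, d.k21, d.k22, Matrix.one_mul, Matrix.zero_mul, Matrix.zero_mul, zero_add, add_zero]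

theorem Dec.inj (d : Dec X Y ζ J0 J1 J2 K0 K1 K2) {a b c a' b' c' : Matrix (Fin 2) (Fin 2) F}
    (h : J0 * a + J1 * b + J2 * c = J0 * a' + J1 * b' + J2 * c') : a = a' ∧ b = b' ∧ c = c' :=
  ⟨by rw [← d.c0 a b c, h, d.c0], by rw [← d.c1 a b c, h, d.c1], by rw [← d.c2 a b c, h, d.c2]⟩

theorem TwoRel.blocks (h : TwoRel X Y S T U z ζ) (d : Dec X Y ζ J0 J1 J2 K0 K1 K2) :
    ∃ m : Fin 2 → F, m ≠ 0 ∧ (∃ a b c : F, T *ᵥ (J0 *ᵥ m) = a • (J0 *ᵥ m) + b • (J1 *ᵥ m) + c • (J2 *ᵥ m)) ∧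
      (∃ a b c : F, T *ᵥ (J1 *ᵥ m) = a • (J0 *ᵥ m) + b • (J1 *ᵥ m) + c • (J2 *ᵥ m)) ∧
      (∃ a b c : F, T *ᵥ (J2 *ᵥ m) = a • (J0 *ᵥ m) + b • (J1 *ᵥ m) + c • (J2 *ᵥ m)) := by
  have as := fun Z : Matrix (Fin 2) (Fin 2) F => add_self' h.h2 Z
  have z3 := h.z3
  have hζ := h.hζ
  have hz := h.hz
  obtain ⟨s0, s1, s2⟩ := h.actS d
  obtain ⟨C2, u0, u1, u2, v0, v1, v2⟩ := h.actU d
  obtain ⟨P, hP⟩ : ∃ P, P = K0 * (T * J0) := ⟨_, rfl⟩
  obtain ⟨Q, hQ⟩ : ∃ Q, Q = K0 * (T * J1) := ⟨_, rfl⟩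
  obtain ⟨R, hR⟩ : ∃ R, R = K1 * (T * J0) := ⟨_, rfl⟩
  obtain ⟨A, hA⟩ : ∃ A, A = K1 * (T * J1) := ⟨_, rfl⟩
  obtain ⟨B, hB⟩ : ∃ B, B = K1 * (T * J2) := ⟨_, rfl⟩
  -- the blocks under `U`
  have swap : ∀ (K K' : Matrix (Fin 2) (Fin 6) F) (J J' : Matrix (Fin 6) (Fin 2) F), K * U = K' → U * J = J' →
      K' * (T * J) = K * (T * J') := by
    intro K K' J J' hK hJ
    rw [← hK, ← hJ, Matrix.mul_assoc, ← Matrix.mul_assoc U, ← h.TU, Matrix.mul_assoc]
  have b02 : K0 * (T * J2) = Q := by rw [hQ]; exact swap _ _ _ _ v0 u2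
  have b20 : K2 * (T * J0) = R := by rw [hR]; exact swap _ _ _ _ v1 u0
  have b21 : K2 * (T * J1) = B := by rw [hB]; exact swap _ _ _ _ v1 u1
  have b22 : K2 * (T * J2) = A := by rw [hA]; exact swap _ _ _ _ v1 u2
  have t0 : T * J0 = J0 * P + J1 * R + J2 * R := by
    conv_lhs => rw [d.exp (T * J0)]
    rw [← hP, ← hR, b20]
  have t1 : T * J1 = J0 * Q + J1 * A + J2 * B := by
    conv_lhs => rw [d.exp (T * J1)]
    rw [← hQ, ← hA, b21]
  have t2 : T * J2 = J0 * Q + J1 * B + J2 * A := by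
    conv_lhs => rw [d.exp (T * J2)]
    rw [b02, ← hB, b22]
  -- the relation `(t x)³ = z`
  have rel : T * J0 * (K0 * T) = 1 + z • (X * X * T * (X * X)) + (z * z) • (X * T * X) := by
    calc T * J0 * (K0 * T) = T * (J0 * K0) * T := by simp only [Matrix.mul_assoc]
      _ = T * T + T * X * T + T * (X * X) * T := by rw [d.e0]; noncomm_ring
      _ = _ := by rw [h.TT, h.TX, h.TX']
  have REL : ∀ (K : Matrix (Fin 2) (Fin 6) F) (J : Matrix (Fin 6) (Fin 2) F) (k j : F), K * X = k • K → X * J = j • J →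
      (K * (T * J0)) * (K0 * (T * J)) = K * J + (z * (k * k * (j * j)) + z * z * (k * j)) • (K * (T * J)) := by
    intro K J k j hk hj
    have e1 : K * (X * X * T * (X * X)) * J = (k * k * (j * j)) • (K * (T * J)) := by
      calc K * (X * X * T * (X * X)) * J = (K * X) * X * T * X * (X * J) := by simp only [Matrix.mul_assoc]
        _ = (k * j) • ((K * X) * T * (X * J)) := by
          rw [hk, hj]; simp only [Matrix.smul_mul, Matrix.mul_smul, smul_smul]; rw [hk, Matrix.mul_assoc, Matrix.mul_assoc, hj]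
          simp only [Matrix.smul_mul, Matrix.mul_smul, smul_smul, Matrix.mul_assoc, hj]
          congr 1; ring
        _ = (k * k * (j * j)) • (K * (T * J)) := by
          rw [hk, hj]; simp only [Matrix.smul_mul, Matrix.mul_smul, smul_smul, Matrix.mul_assoc]
          congr 1; ring
    have e2 : K * (X * T * X) * J = (k * j) • (K * (T * J)) := by
      calc K * (X * T * X) * J = (K * X) * T * (X * J) := by simp only [Matrix.mul_assoc]
        _ = _ := by
          rw [hk, hj]; simp only [Matrix.smul_mul, Matrix.mul_smul, smul_smul, Matrix.mul_assoc]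
          rw [mul_comm j k]
    calc (K * (T * J0)) * (K0 * (T * J)) = K * (T * J0 * (K0 * T)) * J := by simp only [Matrix.mul_assoc]
      _ = K * J + z • (K * (X * X * T * (X * X)) * J) + (z * z) • (K * (X * T * X) * J) := by
        rw [rel]
        simp only [Matrix.mul_add, Matrix.add_mul, Matrix.mul_smul, Matrix.smul_mul, Matrix.mul_one]
      _ = _ := by rw [e1, e2, smul_smul, smul_smul, add_assoc, ← add_smul]
  have n2 : (1 : F) + 1 = 0 := by rw [one_add_one_eq_two]; exact h.h2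
  have zz : ζ * ζ + ζ = 1 := by linear_combination hζ - n2
  have X0 : X * J0 = (1 : F) • J0 := by rw [one_smul, d.x0]
  have Y0 : K0 * X = (1 : F) • K0 := by rw [one_smul, d.y0]
  have q00 := REL K0 J0 1 1 Y0 X0
  have q01 := REL K0 J1 1 ζ Y0 d.x1
  have q02 := REL K0 J2 1 (ζ * ζ) Y0 d.x2
  have q10 := REL K1 J0 ζ 1 d.y1 X0
  have q20 := REL K2 J0 (ζ * ζ) 1 d.y2 X0
  have q11 := REL K1 J1 ζ ζ d.y1 d.x1
  have q12 := REL K1 J2 ζ (ζ * ζ) d.y1 d.x2
  have q22 := REL K2 J2 (ζ * ζ) (ζ * ζ) d.y2 d.x2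
  rw [b02] at q02 q12
  rw [b20] at q20 q22
  rw [b22, b02] at q22
  rw [← hP] at q00 q01 q02 q10 q20
  rw [← hR] at q10 q11 q12
  rw [← hQ] at q01 q11
  rw [← hA] at q11
  rw [← hB] at q12
  rw [d.k00] at q00
  rw [d.k01, zero_add] at q01
  rw [d.k02, zero_add] at q02
  rw [d.k10, zero_add] at q10
  rw [d.k20, zero_add] at q20
  rw [d.k11] at q11
  rw [d.k12, zero_add] at q12
  rw [d.k22] at q22
  have hz1 : z = 1 := by
    have hz3 : (z - 1) * ((z - ζ) * (z - ζ * ζ)) = 0 := by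
      linear_combination hz - (z * z - z) * hζ - z3 + (z * z3) - z * z * 0
    have nt : (1 : Matrix (Fin 2) (Fin 2) F) ≠ 0 := one_ne_zero
    rcases mul_eq_zero.1 hz3 with h1 | h1
    · exact sub_eq_zero.1 h1
    rcases mul_eq_zero.1 h1 with h1 | h1
    · exfalso
      have hzz := sub_eq_zero.1 h1
      subst hzz
      have c1 : z * (1 * 1 * (z * z)) + z * z * (1 * z) = 0 := by linear_combination 2 * z3 + n2
      have c2 : z * (1 * 1 * (z * z * (z * z))) + z * z * (1 * (z * z)) = 1 := by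
        linear_combination (z * z + z) * z3 + zz
      have c3 : z * (z * z * (z * z) * (z * z * (z * z))) + z * z * (z * z * (z * z)) = 0 := by
        linear_combination (z ^ 6 + z ^ 3 + 1) * z3 + (z ^ 3 + 1) * z3 + n2
      rw [c1, zero_smul] at q01
      rw [c2, one_smul, q01] at q02
      rw [c3, zero_smul, add_zero, ← q02, Matrix.mul_zero] at q22
      exact nt q22.symm
    · exfalso
      have hzz := sub_eq_zero.1 h1
      subst hzz
      have c1 : ζ * ζ * (1 * 1 * (ζ * ζ)) + ζ * ζ * (ζ * ζ) * (1 * ζ) = 1 := by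
        linear_combination (ζ + ζ * ζ) * z3 + zz
      have c2 : ζ * ζ * (1 * 1 * (ζ * ζ * (ζ * ζ))) + ζ * ζ * (ζ * ζ) * (1 * (ζ * ζ)) = 0 := by
        linear_combination (2 * ζ ^ 3 + 2) * z3 + n2
      have c3 : ζ * ζ * (ζ * ζ * (ζ * ζ)) + ζ * ζ * (ζ * ζ) * (ζ * ζ) = 0 := by
        linear_combination (2 * ζ ^ 3 + 2) * z3 + n2
      rw [c2, zero_smul] at q02
      rw [c1, one_smul, q02] at q01
      rw [c3, zero_smul, add_zero, ← q01, Matrix.mul_zero] at q11
      exact nt q11.symm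
  subst hz1
  have hPP : P * P = 1 := by
    rw [q00, show (1 : F) * (1 * 1 * (1 * 1)) + 1 * 1 * (1 * 1) = 0 by linear_combination n2, zero_smul, add_zero]
  have hPQ : P * Q = Q := by
    rw [q01, show (1 : F) * (1 * 1 * (ζ * ζ)) + 1 * 1 * (1 * ζ) = 1 by linear_combination zz, one_smul]
  have hRP : R * P = R := by
    rw [q10, show (1 : F) * (ζ * ζ * (1 * 1)) + 1 * 1 * (ζ * 1) = 1 by linear_combination zz, one_smul]
  have hRQ : R * Q = 0 := by
    rw [q12, show (1 : F) * (ζ * ζ * (ζ * ζ * (ζ * ζ))) + 1 * 1 * (ζ * (ζ * ζ)) = 0 by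
      linear_combination (ζ ^ 3 + 2) * z3 + n2, zero_smul]
  have hA1 : A = 1 := by
    rw [hRQ, show (1 : F) * (ζ * ζ * (ζ * ζ)) + 1 * 1 * (ζ * ζ) = 1 by linear_combination ζ * z3 + zz, one_smul] at q11
    exact (eq_of_add h.h2 q11.symm).symm
  subst hA1
  -- `t² = 1`
  have e1 : T * (T * J1) = J1 := by rw [← Matrix.mul_assoc, h.TT, Matrix.one_mul]
  have e2 : J0 * (P * Q + Q + Q * B) + J1 * (R * Q + 1 + B * B) + J2 * (R * Q + B + B) =
      J0 * (0 : Matrix (Fin 2) (Fin 2) F) + J1 * (1 : Matrix (Fin 2) (Fin 2) F) + J2 * (0 : Matrix (Fin 2) (Fin 2) F) := by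
    have e3 : T * (T * J1) = J0 * (P * Q + Q + Q * B) + J1 * (R * Q + 1 + B * B) + J2 * (R * Q + B + B) := by
      conv_lhs => rw [t1]
      rw [Matrix.mul_add, Matrix.mul_add, ← Matrix.mul_assoc, ← Matrix.mul_assoc, ← Matrix.mul_assoc, t0, t1, t2]
      simp only [Matrix.mul_one, Matrix.add_mul, Matrix.mul_add, Matrix.mul_assoc]
      abel
    rw [← e3, e1, Matrix.mul_zero, Matrix.mul_zero, Matrix.mul_one, zero_add, add_zero]
  obtain ⟨g0, g1, -⟩ := d.inj e2
  have hQB : Q * B = 0 := by rwa [hPQ, as, zero_add] at g0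
  have hBB : B * B = 0 := by rwa [hRQ, zero_add, add_eq_left] at g1
  -- `t s t = s⁻¹`
  generalize K0 * S * J0 = C at *
  have TSJ : ∀ J J' : Matrix (Fin 6) (Fin 2) F, U * J = J' → T * (S * J) = S * (T * J') := by
    intro J J' hJ
    rw [← hJ, ← Matrix.mul_assoc, h.TS]
    simp only [Matrix.mul_assoc]
  have w0 := TSJ _ _ u0
  have w1 := TSJ _ _ u1
  have W0 : J0 * (P * C + Q * C + Q * C) + J1 * (R * C + C + B * C) + J2 * (R * C + B * C + C) =
      J0 * (C * P + C * R + C * R) + J1 * (C * P + (ζ * ζ) • (C * R) + ζ • (C * R)) +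
      J2 * (C * P + ζ • (C * R) + (ζ * ζ) • (C * R)) := by
    have a1 : T * (S * J0) = J0 * (P * C + Q * C + Q * C) + J1 * (R * C + C + B * C) + J2 * (R * C + B * C + C) := by
      rw [s0, Matrix.mul_add, Matrix.mul_add, ← Matrix.mul_assoc, ← Matrix.mul_assoc, ← Matrix.mul_assoc, t0, t1, t2]
      simp only [Matrix.mul_one, Matrix.add_mul, Matrix.mul_add, Matrix.mul_assoc]
      abel
    have a2 : S * (T * J0) = J0 * (C * P + C * R + C * R) + J1 * (C * P + (ζ * ζ) • (C * R) + ζ • (C * R)) +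
        J2 * (C * P + ζ • (C * R) + (ζ * ζ) • (C * R)) := by
      rw [t0, Matrix.mul_add, Matrix.mul_add, ← Matrix.mul_assoc, ← Matrix.mul_assoc, ← Matrix.mul_assoc, s0, s1, s2]
      simp only [Matrix.add_mul, Matrix.mul_add, Matrix.mul_assoc, Matrix.smul_mul, Matrix.mul_smul]
      abel
    rw [← a1, ← a2, w0]
  have W1 : J0 * (P * C + (ζ * ζ) • (Q * C) + ζ • (Q * C)) + J1 * (R * C + (ζ * ζ) • C + ζ • (B * C)) +
      J2 * (R * C + (ζ * ζ) • (B * C) + ζ • C) =
      J0 * (C * Q + C * B + C) + J1 * (C * Q + (ζ * ζ) • (C * B) + ζ • C) + J2 * (C * Q + ζ • (C * B) + (ζ * ζ) • C) := by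
    have a1 : T * (S * J1) = J0 * (P * C + (ζ * ζ) • (Q * C) + ζ • (Q * C)) + J1 * (R * C + (ζ * ζ) • C + ζ • (B * C)) +
        J2 * (R * C + (ζ * ζ) • (B * C) + ζ • C) := by
      rw [s1, Matrix.mul_add, Matrix.mul_add, ← Matrix.mul_assoc, ← Matrix.mul_assoc, ← Matrix.mul_assoc, t0, t1, t2]
      simp only [Matrix.mul_one, Matrix.add_mul, Matrix.mul_add, Matrix.mul_assoc, Matrix.smul_mul, Matrix.mul_smul,
        smul_add]
      abel
    have a2 : S * (T * J2) = J0 * (C * Q + C * B + C) + J1 * (C * Q + (ζ * ζ) • (C * B) + ζ • C) +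
        J2 * (C * Q + ζ • (C * B) + (ζ * ζ) • C) := by
      rw [t2, Matrix.mul_add, Matrix.mul_add, ← Matrix.mul_assoc, ← Matrix.mul_assoc, ← Matrix.mul_assoc, s0, s1, s2]
      simp only [Matrix.mul_one, Matrix.add_mul, Matrix.mul_add, Matrix.mul_assoc, Matrix.smul_mul, Matrix.mul_smul]
      abel
    rw [← a1, ← a2, w1]
  obtain ⟨x0, x1, -⟩ := d.inj W0
  obtain ⟨y0, y1, y2⟩ := d.inj W1
  have lin1 : ∀ Z : Matrix (Fin 2) (Fin 2) F, (ζ * ζ) • Z + ζ • Z = Z := by
    intro Z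
    rw [← add_smul, zz, one_smul]
  have lin2 : ∀ Z : Matrix (Fin 2) (Fin 2) F, ζ • Z + (ζ * ζ) • Z = Z := by
    intro Z
    rw [add_comm, lin1]
  have hPC : P * C = C * P := by
    rwa [add_assoc, as, add_zero, add_assoc, as, add_zero] at x0
  have hBC : B * C = C * B := by
    have e4 : (R * C + (ζ * ζ) • C + ζ • (B * C)) + (R * C + (ζ * ζ) • (B * C) + ζ • C) =
        (C * Q + (ζ * ζ) • (C * B) + ζ • C) + (C * Q + ζ • (C * B) + (ζ * ζ) • C) := by rw [y1, y2]
    have e5 : (R * C + R * C) + ((ζ * ζ) • C + ζ • C) + (ζ • (B * C) + (ζ * ζ) • (B * C)) =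
        (C * Q + C * Q) + ((ζ * ζ) • C + ζ • C) + (ζ • (C * B) + (ζ * ζ) • (C * B)) := by
      calc _ = (R * C + (ζ * ζ) • C + ζ • (B * C)) + (R * C + (ζ * ζ) • (B * C) + ζ • C) := by abel
        _ = _ := by rw [e4]; abel
    rw [as, as, lin1, lin2, lin2, zero_add] at e5
    exact add_left_cancel e5
  have tr : ∀ {a b c : Matrix (Fin 2) (Fin 2) F}, a + b = c → a = c + b := by
    intro a b c hab
    rw [← hab, add_assoc, as, add_zero]
  have hRC : R * C + C * R = C * (1 + B + P) := by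
    have e4 : R * C + (C + B * C) = C * P + C * R := by
      rw [← add_assoc, x1, add_assoc, lin1]
    rw [mul_add, mul_add, mul_one, ← hBC, tr e4]
    calc C * P + C * R + (C + B * C) + C * R = (C * R + C * R) + (C + B * C + C * P) := by abel
      _ = C + B * C + C * P := by rw [as, zero_add]
  have hQC : Q * C + C * Q = C * (1 + B + P) := by
    have e4 : Q * C + P * C = C * Q + C * B + C := by
      rw [← y0, add_assoc, lin1, add_comm]
    rw [mul_add, mul_add, mul_one, tr e4, hPC]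
    calc C * Q + C * B + C + C * P + C * Q = (C * Q + C * Q) + (C + C * B + C * P) := by abel
      _ = C + C * B + C * P := by rw [as, zero_add]
  have hRCQ : R * C + C * Q = C + C * B := by
    have e4 : R * C + ((ζ * ζ) • C + ζ • (B * C)) = C * Q + (ζ * ζ) • (C * B) + ζ • C := by
      rw [← y1, add_assoc]
    rw [tr e4, hBC]
    calc C * Q + (ζ * ζ) • (C * B) + ζ • C + ((ζ * ζ) • C + ζ • (C * B)) + C * Q
        = (C * Q + C * Q) + ((ζ * ζ) • C + ζ • C) + ((ζ * ζ) • (C * B) + ζ • (C * B)) := by abel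
      _ = C + C * B := by rw [as, lin1, lin1, zero_add]
  obtain ⟨m, hm, ⟨p, hp⟩, ⟨q, hq⟩, ⟨r, hr⟩, ⟨b, hb⟩⟩ :=
    two_by_two h.h2 C2 hPC hBC hQC hRC hRCQ hPP hPQ hRP hRQ hBB hQB
  have app : ∀ a b c : Matrix (Fin 2) (Fin 2) F, (J0 * a + J1 * b + J2 * c) *ᵥ m =
      J0 *ᵥ (a *ᵥ m) + J1 *ᵥ (b *ᵥ m) + J2 *ᵥ (c *ᵥ m) := by
    intro a b c
    rw [Matrix.add_mulVec, Matrix.add_mulVec, Matrix.mulVec_mulVec, Matrix.mulVec_mulVec, Matrix.mulVec_mulVec]
  refine ⟨m, hm, ⟨p, r, r, ?_⟩, ⟨q, 1, b, ?_⟩, ⟨q, b, 1, ?_⟩⟩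
  · rw [Matrix.mulVec_mulVec, t0, app, hp, hr, Matrix.mulVec_smul, Matrix.mulVec_smul, Matrix.mulVec_smul]
  · rw [Matrix.mulVec_mulVec, t1, app, hq, hb, Matrix.one_mulVec, one_smul, Matrix.mulVec_smul, Matrix.mulVec_smul]
  · rw [Matrix.mulVec_mulVec, t2, app, hq, hb, Matrix.one_mulVec, one_smul, Matrix.mulVec_smul, Matrix.mulVec_smul]

/-- **The invariant subspace.** -/
theorem TwoRel.exists_sub (h : TwoRel X Y S T U z ζ) : ∃ W : Submodule F (Fin 6 → F), W ≠ ⊥ ∧ Module.finrank F W ≤ 3 ∧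
    (∀ v ∈ W, X *ᵥ v ∈ W) ∧ (∀ v ∈ W, Y *ᵥ v ∈ W) ∧ (∀ v ∈ W, T *ᵥ v ∈ W) := by
  obtain ⟨J0, J1, J2, K0, K1, K2, d⟩ := h.exists_dec
  obtain ⟨m, hm, ⟨a0, b0, c0, h0⟩, ⟨a1, b1, c1, h1⟩, ⟨a2, b2, c2, h2⟩⟩ := h.blocks d
  have hne : J0 *ᵥ m ≠ 0 := by
    intro h0
    apply hm
    have : K0 *ᵥ (J0 *ᵥ m) = m := by rw [Matrix.mulVec_mulVec, d.k00, Matrix.one_mulVec]
    rw [← this, h0, Matrix.mulVec_zero]
  have y0 : Y *ᵥ (J0 *ᵥ m) = J1 *ᵥ m := by rw [Matrix.mulVec_mulVec, ← d.j1]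
  have y1 : Y *ᵥ (J1 *ᵥ m) = J2 *ᵥ m := by rw [Matrix.mulVec_mulVec, ← d.j2]
  have y2 : Y *ᵥ (J2 *ᵥ m) = J0 *ᵥ m := by
    rw [← y1, ← y0, Matrix.mulVec_mulVec, Matrix.mulVec_mulVec, h.YY, Matrix.one_mulVec]
  have x0 : X *ᵥ (J0 *ᵥ m) = J0 *ᵥ m := by rw [Matrix.mulVec_mulVec, d.x0]
  have x1 : X *ᵥ (J1 *ᵥ m) = ζ • (J1 *ᵥ m) := by rw [Matrix.mulVec_mulVec, d.x1, Matrix.smul_mulVec]
  have x2 : X *ᵥ (J2 *ᵥ m) = (ζ * ζ) • (J2 *ᵥ m) := by rw [Matrix.mulVec_mulVec, d.x2, Matrix.smul_mulVec]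
  obtain ⟨W, hW⟩ : ∃ W : Submodule F (Fin 6 → F), W = Submodule.span F (Set.range ![J0 *ᵥ m, J1 *ᵥ m, J2 *ᵥ m]) := ⟨_, rfl⟩
  have w0 : J0 *ᵥ m ∈ W := by rw [hW]; exact Submodule.subset_span ⟨0, rfl⟩
  have w1 : J1 *ᵥ m ∈ W := by rw [hW]; exact Submodule.subset_span ⟨1, rfl⟩
  have w2 : J2 *ᵥ m ∈ W := by rw [hW]; exact Submodule.subset_span ⟨2, rfl⟩
  have pres : ∀ M : M6 F, M *ᵥ (J0 *ᵥ m) ∈ W → M *ᵥ (J1 *ᵥ m) ∈ W → M *ᵥ (J2 *ᵥ m) ∈ W → ∀ z ∈ W, M *ᵥ z ∈ W := by
    intro M m0 m1 m2 z hz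
    rw [hW] at hz
    induction hz using Submodule.span_induction with
    | mem z hz =>
      obtain ⟨i, rfl⟩ := hz
      fin_cases i
      · exact m0
      · exact m1
      · exact m2
    | zero => rw [Matrix.mulVec_zero]; exact W.zero_mem
    | add a b _ _ ha hb => rw [Matrix.mulVec_add]; exact W.add_mem ha hb
    | smul k a _ ha => rw [Matrix.mulVec_smul]; exact W.smul_mem k ha
  have comb : ∀ a b c : F, a • (J0 *ᵥ m) + b • (J1 *ᵥ m) + c • (J2 *ᵥ m) ∈ W := fun a b c =>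
    W.add_mem (W.add_mem (W.smul_mem _ w0) (W.smul_mem _ w1)) (W.smul_mem _ w2)
  refine ⟨W, fun h0 => hne (by rw [h0] at w0; exact (Submodule.mem_bot F).1 w0), ?_, pres X ?_ ?_ ?_, pres Y ?_ ?_ ?_,
    pres T ?_ ?_ ?_⟩
  · rw [hW]
    have := finrank_range_le_card (R := F) ![J0 *ᵥ m, J1 *ᵥ m, J2 *ᵥ m]
    rw [Fintype.card_fin] at this
    exact this
  · rw [x0]; exact w0
  · rw [x1]; exact W.smul_mem _ w1
  · rw [x2]; exact W.smul_mem _ w2
  · rw [y0]; exact w1
  · rw [y1]; exact w2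
  · rw [y2]; exact w0
  · rw [h0]; exact comb _ _ _
  · rw [h1]; exact comb _ _ _
  · rw [h2]; exact comb _ _ _

end blocks

section final

variable {G : Type*} [Group G] {m : G →* M6 F} {φ : G →* Perm (Fin 6)}

/-- uniqueness of the lift inverted by an involution -/
theorem Hex.uniq3 (h : Hex m φ) {g g' u : G} (h1 : φ g = φ g') (hu : u * u = 1) (hg : u * g * u = g⁻¹)
    (hg' : u * g' * u = g'⁻¹) : g = g' := by
  have hk : φ (g⁻¹ * g') = 1 := by rw [map_mul, map_inv, h1, inv_mul_cancel]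
  have hc := fun s => h.central hk s
  have h3 := h.cube hk
  have e : g' = g * (g⁻¹ * g') := by group
  generalize g⁻¹ * g' = k at *
  have h4 : k * k = 1 := by
    have e1 : u * (g * k) * u = (u * g * u) * k := by
      calc u * (g * k) * u = u * g * (k * u) := by group
        _ = (u * g * u) * k := by rw [hc]; group
    rw [e, e1, hg, _root_.mul_inv_rev, ← hc, mul_left_inj] at hg'
    nth_rewrite 1 [hg']
    exact inv_mul_cancel k
  rw [h4, one_mul] at h3
  rw [e, h3, mul_one]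

theorem Hex.scalar (h : Hex m φ) {k : G} (hk : φ k = 1) : ∃ c : F, c * c * c = 1 ∧ m k = c • (1 : M6 F) ∧
    ∀ g, m (k * g) = c • m g := by
  obtain ⟨c, hc, hm⟩ := h.ker k hk
  exact ⟨c, by rw [← hc]; ring, hm, fun g => by rw [map_mul, hm, smul_mul_assoc, one_mul]⟩

/-- **`3.A₆` is not irreducible in dimension six in characteristic two.** -/
theorem Hex.false_of_two (h2 : (2 : F) = 0) (h : Hex m φ)
    (hirr : ∀ W : Submodule F (Fin 6 → F), (∀ g, ∀ v ∈ W, m g *ᵥ v ∈ W) → W = ⊥ ∨ W = ⊤) : False := by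
  obtain ⟨t1, t2, u, r, x, a, b, d⟩ := h.exists_data
  obtain ⟨y, hy, uy⟩ := h.exists_three (s := c[3, 4, 5]) (u := u) (by decide) (by rw [d.hu]; decide)
  have qy := h.cube_three (x := y) (by rw [hy]; decide) d.qu uy
  have iy : y⁻¹ = y * y := by rw [inv_eq_iff_mul_eq_one, ← mul_assoc]; exact qy
  obtain ⟨g, hg⟩ := h.onto (c[0, 4, 1, 5] * c[2, 3]) (by decide)
  obtain ⟨s, hs, ss⟩ : ∃ s, φ s = c[0, 4, 1, 5] * c[2, 3] ∧ s * s = u := by
    have hk : φ (u⁻¹ * (g * g)) = 1 := by rw [map_mul, map_inv, map_mul, hg, d.hu]; decide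
    have hc := fun s => h.central hk s
    have h3 := h.cube hk
    have e : g * g = u * (u⁻¹ * (g * g)) := by group
    refine ⟨g * (u⁻¹ * (g * g)), by rw [map_mul, hk, mul_one, hg], ?_⟩
    generalize u⁻¹ * (g * g) = k at *
    calc g * k * (g * k) = g * (k * g) * k := by group
      _ = g * g * (k * k) := by rw [hc]; group
      _ = u * (k * k * k) := by rw [e]; group
      _ = u := by rw [h3, mul_one]
  have su : s * u = u * s := by rw [← ss]; group
  have iu : u⁻¹ = u := inv_eq_of_mul_eq_one_left d.qu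
  have it : t1⁻¹ = t1 := inv_eq_of_mul_eq_one_left d.qt1
  have ix := d.inv_x
  -- `s x = y s`
  have sx : s * x * s⁻¹ = y := by
    refine h.uniq3 (u := u) (by rw [map_mul, map_mul, map_inv, hs, d.hx, hy]; decide) d.qu ?_ uy
    calc u * (s * x * s⁻¹) * u = (u * s) * x * (u⁻¹ * s)⁻¹ := by group
      _ = (s * u) * x * (s * u)⁻¹ := by rw [iu, su]
      _ = s * (u * x * u⁻¹) * s⁻¹ := by group
      _ = (s * x * s⁻¹)⁻¹ := by rw [iu, d.ux]; group
  have sy : s * y * s⁻¹ = x * x := by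
    refine h.uniq3 (u := u) (by rw [map_mul, map_mul, map_inv, map_mul, hs, d.hx, hy]; decide) d.qu ?_ ?_
    · calc u * (s * y * s⁻¹) * u = (u * s) * y * (u⁻¹ * s)⁻¹ := by group
        _ = (s * u) * y * (s * u)⁻¹ := by rw [iu, su]
        _ = s * (u * y * u⁻¹) * s⁻¹ := by group
        _ = (s * y * s⁻¹)⁻¹ := by rw [iu, uy]; group
    · calc u * (x * x) * u = (u * x * u⁻¹) * (u * x * u) := by group
        _ = (x * x)⁻¹ := by rw [iu, d.ux]; group
  have tu : t1 * u = u * t1 := h.comm (by rw [d.ht1, d.hu]; decide) d.qu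
  have ts : t1 * s = s * t1 * u := by
    have hk : φ ((t1 * s * t1) * (s * u)⁻¹) = 1 := by
      rw [map_mul, map_mul, map_mul, map_inv, map_mul, d.ht1, hs, d.hu]; decide
    have hc := fun s => h.central hk s
    have h3 := h.cube hk
    have e : t1 * s * t1 = ((t1 * s * t1) * (s * u)⁻¹) * (s * u) := by group
    generalize (t1 * s * t1) * (s * u)⁻¹ = k at *
    have e1 : (t1 * s * t1) * (t1 * s * t1) = u := by
      calc (t1 * s * t1) * (t1 * s * t1) = t1 * s * (t1 * t1) * s * t1 := by group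
        _ = t1 * (s * s) * t1 := by rw [d.qt1]; group
        _ = u := by rw [ss, tu, mul_assoc, d.qt1, mul_one]
    have e2 : (k * (s * u)) * (k * (s * u)) = k * k * u := by
      calc (k * (s * u)) * (k * (s * u)) = k * ((s * u) * k) * (s * u) := by group
        _ = k * k * (s * u * (s * u)) := by rw [← hc]; group
        _ = k * k * u := by
          rw [su]
          calc k * k * (u * s * (u * s)) = k * k * (u * (s * u) * s) := by group
            _ = k * k * ((u * u) * (s * s)) := by rw [su]; group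
            _ = k * k * u := by rw [d.qu, one_mul, ss]
    rw [e, e2] at e1
    have e3 : k * k = 1 := by rwa [mul_eq_right] at e1
    rw [e3, one_mul] at h3
    rw [h3, one_mul] at e
    calc t1 * s = t1 * s * (t1 * t1) := by rw [d.qt1, mul_one]
      _ = (t1 * s * t1) * t1 := by group
      _ = s * (u * t1) := by rw [e]; group
      _ = s * t1 * u := by rw [← tu]; group
  -- the scalars
  have hk1 : φ (x * y * (y * x)⁻¹) = 1 := by rw [map_mul, map_inv, map_mul, map_mul, d.hx, hy]; decide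
  obtain ⟨ζ, hζ3, hζm, hζ⟩ := h.scalar hk1
  have hζ1 : ζ ≠ 1 := by
    rintro rfl
    apply h.nc' d.hx hy
    have : x * y * (y * x)⁻¹ = 1 := h.inj (by rw [hζm, one_smul, map_one])
    rwa [mul_inv_eq_one] at this
  have hk2 : φ (t1 * x * t1 * x * t1 * x) = 1 := by
    simp only [map_mul, d.hx, d.ht1]; decide
  obtain ⟨z, hz3, hzm, hz⟩ := h.scalar hk2
  have hc2 := fun s => h.central hk2 s
  have h32 := h.cube hk2
  have txt : t1 * x * t1 = (t1 * x * t1 * x * t1 * x) * (x * x * t1 * (x * x)) := by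
    rw [← ix]
    calc t1 * x * t1 = t1 * x * t1 * x * (t1 * t1) * x⁻¹ := by rw [d.qt1]; group
      _ = (t1 * x * t1 * x * t1 * x) * (x⁻¹ * t1 * x⁻¹) := by group
  have key2 : ∀ k : G, t1 * x * t1 = k * (x * x * t1 * (x * x)) → (∀ s, k * s = s * k) → k * k * k = 1 →
      t1 * (x * x) * t1 = (k * k) * (x * t1 * x) := by
    intro k hk hck hk3
    have e1 : t1 * (x * x) * t1 = (t1 * x * t1)⁻¹ := by
      rw [← ix, _root_.mul_inv_rev, _root_.mul_inv_rev, it]; group
    have e2 : (x * x * t1 * (x * x))⁻¹ = x * t1 * x := by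
      rw [← ix]
      calc (x⁻¹ * t1 * x⁻¹)⁻¹ = x * t1⁻¹ * x := by group
        _ = x * t1 * x := by rw [it]
    have e3 : k⁻¹ = k * k := by rw [inv_eq_iff_mul_eq_one, ← mul_assoc]; exact hk3
    have c1 := hck (x * t1 * x)
    rw [e1, hk, _root_.mul_inv_rev, e2, e3]
    calc x * t1 * x * (k * k) = (x * t1 * x) * k * k := by rw [mul_assoc (x * t1 * x)]
      _ = k * (x * t1 * x) * k := by rw [c1]
      _ = k * ((x * t1 * x) * k) := by rw [mul_assoc]
      _ = k * (k * (x * t1 * x)) := by rw [c1]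
      _ = k * k * (x * t1 * x) := by rw [mul_assoc k k]
  have txxt := key2 _ txt hc2 h32
  have R : TwoRel (m x) (m y) (m s) (m t1) (m u) z ζ := by
    refine ⟨h2, ?_, hz3, ?_, ?_, ?_, ?_, ?_, ?_, ?_, ?_, ?_, ?_, ?_, ?_⟩
    · have : (ζ - 1) * (ζ * ζ + ζ + 1) = 0 := by linear_combination hζ3
      exact (mul_eq_zero.1 this).resolve_left (sub_ne_zero.2 hζ1)
    · rw [← map_mul, ← map_mul, d.qx, map_one]
    · rw [← map_mul, ← map_mul, qy, map_one]
    · rw [← map_mul, ← map_mul, ← hζ]; congr 1; group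
    · rw [← map_mul, ← map_mul, ← sx]; congr 1; group
    · rw [← map_mul, ← map_mul, ← map_mul, ← sy]; congr 1; group
    · rw [← map_mul, ss]
    · rw [← map_mul, d.qu, map_one]
    · rw [← map_mul, d.qt1, map_one]
    · rw [← map_mul, tu, map_mul]
    · rw [← map_mul, ts, map_mul, map_mul]
    · rw [← map_mul, ← map_mul, ← map_mul, ← map_mul, ← map_mul, ← hz, ← txt]
    · rw [← map_mul, ← map_mul, ← map_mul, ← map_mul, ← map_mul, txxt, mul_assoc (t1 * x * t1 * x * t1 * x), hz, hz,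
        smul_smul]
  obtain ⟨W, hW, hfin, wx, wy, wt⟩ := R.exists_sub
  have mulW : ∀ {g g' : G}, (∀ v ∈ W, m g *ᵥ v ∈ W) → (∀ v ∈ W, m g' *ᵥ v ∈ W) → ∀ v ∈ W, m (g * g') *ᵥ v ∈ W :=
    fun hg hg' v hv => by rw [map_mul, ← Matrix.mulVec_mulVec]; exact hg _ (hg' _ hv)
  have kerW : ∀ k, φ k = 1 → ∀ v ∈ W, m k *ᵥ v ∈ W := fun k hk v hv => by
    obtain ⟨c', -, hc'⟩ := h.ker k hk
    rw [hc', Matrix.smul_mulVec, Matrix.one_mulVec]
    exact W.smul_mem _ hv
  have modk : ∀ {g g' : G}, φ g = φ g' → (∀ v ∈ W, m g' *ᵥ v ∈ W) → ∀ v ∈ W, m g *ᵥ v ∈ W := by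
    intro g g' hgg hg'
    have e : g = g' * (g'⁻¹ * g) := by group
    rw [e]
    exact mulW hg' (kerW _ (by rw [map_mul, map_inv, hgg, inv_mul_cancel]))
  have key := d.induct h (Q := fun g => ∀ v ∈ W, m g *ᵥ v ∈ W) kerW (fun g g' hg hg' => mulW hg hg') wt
    (modk (g' := x * x * t1 * x) (by simp only [map_mul, d.ht2, d.hx, d.ht1]; decide)
      (mulW (mulW (mulW wx wx) wt) wx))
    (modk (g' := y * t1 * y * y * t1 * y * t1) (by simp only [map_mul, d.hu, hy, d.ht1]; decide)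
      (mulW (mulW (mulW (mulW (mulW (mulW wy wt) wy) wy) wt) wy) wt))
    (modk (g' := t1 * y * t1 * y) (by simp only [map_mul, d.hr, hy, d.ht1]; decide)
      (mulW (mulW (mulW wt wy) wt) wy)) wx
  rcases hirr W key with h0 | h0
  · exact hW h0
  · rw [h0, finrank_top, Module.finrank_fintype_fun_eq_card, Fintype.card_fin] at hfin
    omega

end final

end Cfsg.Agent.H910.Six
end

-- part: H910/Six/Main3
section
prune_inst 0x4110055400562020000000082810026004c00019000088800c0400a04060064220002a02090a01000000820040008000002000020420000000a00040001190080088000003100010002008e000080400000000000000000000000000000000004000000000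
set_option linter.all false
open scoped Cfsg.Agent.FastGrp

-- part: H910/Six/HexOf
section
/-!
# A core with socle `A₆` and centre of order three is `3.A₆` (helper910)
-/

set_option autoImplicit false
set_option linter.unusedSectionVars false

open Matrix Equiv Cfsg Cfsg.Geo Cfsg.Agent.H915.LD

namespace Cfsg.Agent.H910.Six

section centr

/-- the subgroup of the elements commuting with `(0 1 2)` and `(3 4 5)` -/
def H9 : Subgroup (Perm (Fin 6)) := Subgroup.centralizer {c[0, 1, 2], c[3, 4, 5]}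

theorem mem_H9 {σ : Perm (Fin 6)} : σ ∈ H9 ↔ (c[0, 1, 2] * σ = σ * c[0, 1, 2] ∧ c[3, 4, 5] * σ = σ * c[3, 4, 5]) := by
  unfold H9
  rw [Subgroup.mem_centralizer_iff]
  simp only [_root_.Fin.isValue, _root_.Set.mem_insert_iff, _root_.Set.mem_singleton_iff, _root_.forall_eq_or_imp, _root_.forall_eq]

theorem H9_form : ∀ σ : Perm (Fin 6), (c[0, 1, 2] * σ = σ * c[0, 1, 2] ∧ c[3, 4, 5] * σ = σ * c[3, 4, 5]) →
    ∃ i j : Fin 3, σ = c[0, 1, 2] ^ (i : ℕ) * c[3, 4, 5] ^ (j : ℕ) := by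
  (set_option synthInstance.maxSize 9000 in open scoped Cfsg.Agent.Lib.FastPerm in decide +kernel)

theorem card_H9 : Nat.card H9 = 9 := by
  have e : (H9 : Set (Perm (Fin 6))) = ((Finset.univ.filter fun σ : Perm (Fin 6) =>
      (c[0, 1, 2] * σ = σ * c[0, 1, 2] ∧ c[3, 4, 5] * σ = σ * c[3, 4, 5]) : Finset (Perm (Fin 6))) : Set (Perm (Fin 6))) := by
    ext σ
    simp only [SetLike.mem_coe, mem_H9, Finset.coe_filter, Finset.mem_univ, true_and, Set.mem_setOf_eq]
  have : Nat.card H9 = Nat.card (H9 : Set (Perm (Fin 6))) := rfl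
  rw [this, e, Nat.card_coe_set_eq, Set.ncard_coe_finset]
  (set_option synthInstance.maxSize 9000 in open scoped Cfsg.Agent.Lib.FastPerm in decide +kernel)

theorem H9_le : H9 ≤ alternatingGroup (Fin 6) := by
  intro σ hσ
  rw [mem_H9] at hσ
  obtain ⟨i, j, rfl⟩ := H9_form σ hσ
  rw [Perm.mem_alternatingGroup]
  revert i j
  (set_option synthInstance.maxSize 9000 in open scoped Cfsg.Agent.Lib.FastPerm in decide +kernel)

theorem relIndex_H9 : H9.relIndex (alternatingGroup (Fin 6)) = 40 := by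
  have h1 := Subgroup.relIndex_mul_relIndex (⊥ : Subgroup (Perm (Fin 6))) H9 (alternatingGroup (Fin 6)) bot_le H9_le
  rw [Subgroup.relIndex_bot_left, Subgroup.relIndex_bot_left, card_H9] at h1
  have h2 : Nat.card (alternatingGroup (Fin 6)) = 360 := by
    have h3 := nat_card_alternatingGroup (α := Fin 6)
    rw [Nat.card_eq_fintype_card (α := Fin 6), Fintype.card_fin] at h3
    rw [h3]
    rfl
  omega

end centr

/-- In a perfect group a central element of order `3` is not in the preimage of an abelian subgroup of index prime to three. -/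
theorem no_comm_of_perfect {G : Type*} [Group G] (hperf : commutator G = ⊤) {H : Subgroup G}
    (hc : ∀ a ∈ H, ∀ b ∈ H, a * b = b * a) {z : G} (hz : z ∈ Subgroup.center G) {n : ℕ} (hn : H.index = 3 * n + 1)
    (h3 : z ^ 3 = 1) : z = 1 := by
  letI : CommGroup H := { (inferInstance : Group H) with mul_comm := fun a b => Subtype.ext (hc a a.2 b b.2) }
  haveI : H.FiniteIndex := ⟨by rw [hn]; omega⟩
  have key : ∀ (k : ℕ) (g₀ : G), g₀⁻¹ * z ^ k * g₀ ∈ H → g₀⁻¹ * z ^ k * g₀ = z ^ k := by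
    intro k g₀ _
    have h1 := Subgroup.mem_center_iff.1 (pow_mem hz k) g₀
    rw [mul_assoc, ← h1, inv_mul_cancel_left]
  have h1 := MonoidHom.transfer_eq_pow (H := H) (MonoidHom.id H) z key
  have h2 : MonoidHom.transfer (MonoidHom.id H) z = 1 := by
    have : z ∈ (MonoidHom.transfer (MonoidHom.id H)).ker := by
      apply Abelianization.commutator_subset_ker
      rw [hperf]; trivial
    exact this
  rw [h2] at h1
  have h3' := congrArg (fun a : H => (a : G)) h1
  simp only [MonoidHom.id_apply] at h3'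
  have h4 : z ^ H.index = 1 := h3'.symm
  rw [hn, pow_succ, pow_mul, h3, one_pow, one_mul] at h4
  exact h4

variable {F : Type*} [Field F] {P : Subgroup (GL (Fin 6) F)}

/-- the matrices of `P` -/
def mrep (P : Subgroup (GL (Fin 6) F)) : P →* M6 F := (Units.coeHom _).comp P.subtype

theorem mrep_apply (g : P) : mrep P g = ((g : GL (Fin 6) F) : M6 F) := rfl

theorem mrep_inj : Function.Injective (mrep P) := by
  intro a b h
  exact Subtype.ext (Units.ext h)

/-- the permutations of `P` -/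
def phi (e : Soc P ≃* alternatingGroup (Fin 6)) : P →* Perm (Fin 6) :=
  (alternatingGroup (Fin 6)).subtype.comp (e.toMonoidHom.comp (toSoc P))

theorem phi_onto (e : Soc P ≃* alternatingGroup (Fin 6)) (σ : Perm (Fin 6)) (hσ : Perm.sign σ = 1) :
    ∃ g, phi e g = σ := by
  obtain ⟨g, hg⟩ := (e.surjective.comp (toSoc_surjective P)) ⟨σ, Perm.mem_alternatingGroup.2 hσ⟩
  exact ⟨g, congrArg Subtype.val hg⟩

theorem phi_even (e : Soc P ≃* alternatingGroup (Fin 6)) (g : P) : Perm.sign (phi e g) = 1 :=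
  Perm.mem_alternatingGroup.1 (e (toSoc P g)).2

theorem mem_of_phi (e : Soc P ≃* alternatingGroup (Fin 6)) {g : P} : phi e g = 1 ↔ g ∈ (scalars (Fin 6) F).subgroupOf P := by
  rw [← ker_comp e, MonoidHom.mem_ker]
  constructor
  · intro h
    exact Subtype.ext h
  · intro h
    exact congrArg Subtype.val h

theorem hex_of_core (hC : Core P) (e : Soc P ≃* alternatingGroup (Fin 6))
    (h3 : Nat.card ((scalars (Fin 6) F).subgroupOf P) = 3) : Hex (mrep P) (phi e) := by
  have hcube : ∀ z ∈ (scalars (Fin 6) F).subgroupOf P, z ^ 3 = 1 := by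
    intro z hz
    have h4 : (⟨z, hz⟩ : (scalars (Fin 6) F).subgroupOf P) ^ Nat.card ((scalars (Fin 6) F).subgroupOf P) = 1 :=
      pow_card_eq_one'
    rw [h3] at h4
    exact congrArg Subtype.val h4
  refine ⟨mrep_inj, phi_onto e, phi_even e, ?_, ?_⟩
  · intro g hg
    rw [mem_of_phi] at hg
    have h1 := hcube g hg
    rw [Subgroup.mem_subgroupOf, mem_scalars_iff] at hg
    obtain ⟨c, hc⟩ := hg
    refine ⟨c, ?_, hc⟩
    have h2 := congrArg (mrep P) h1
    rw [map_pow, map_one, mrep_apply, hc, smul_pow, one_pow] at h2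
    have h5 := congrFun (congrFun h2 0) 0
    simpa using h5
  · obtain ⟨x, hx⟩ := phi_onto e c[0, 1, 2] (by decide)
    obtain ⟨y, hy⟩ := phi_onto e c[3, 4, 5] (by decide)
    refine ⟨x, y, hx, hy, fun hxy => ?_⟩
    obtain ⟨z, hz, hz1⟩ : ∃ z ∈ (scalars (Fin 6) F).subgroupOf P, z ≠ 1 := by
      by_contra hcon
      push Not at hcon
      have : (scalars (Fin 6) F).subgroupOf P = ⊥ := (Subgroup.eq_bot_iff_forall _).2 hcon
      rw [this, Subgroup.card_bot] at h3
      omega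
    apply hz1
    have hidx : (H9.comap (phi e)).index = 40 := by
      rw [Subgroup.index_comap]
      have : (phi e).range = alternatingGroup (Fin 6) := by
        ext σ
        constructor
        · rintro ⟨g, rfl⟩
          exact Perm.mem_alternatingGroup.2 (phi_even e g)
        · intro hσ
          exact phi_onto e σ (Perm.mem_alternatingGroup.1 hσ)
      rw [this, relIndex_H9]
    refine no_comm_of_perfect hC.commutator_top (H := H9.comap (phi e)) ?_ (scalars_le_center hz) (n := 13) hidx (hcube z hz)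
    have form : ∀ g ∈ H9.comap (phi e), ∃ i j : ℕ, ∃ k ∈ Subgroup.center P, g = x ^ i * y ^ j * k := by
      intro g hg
      rw [Subgroup.mem_comap, mem_H9] at hg
      obtain ⟨i, j, hij⟩ := H9_form _ hg
      refine ⟨i, j, (x ^ (i : ℕ) * y ^ (j : ℕ))⁻¹ * g, ?_, by group⟩
      apply scalars_le_center
      rw [← mem_of_phi e, map_mul, map_inv, map_mul, map_pow, map_pow, hx, hy, hij, inv_mul_cancel]
    intro g hg h hh
    obtain ⟨i, j, k, hk, rfl⟩ := form g hg
    obtain ⟨i', j', k', hk', rfl⟩ := form h hh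
    have cxy : Commute x y := hxy
    have ck : ∀ s, Commute k s := fun s => (Subgroup.mem_center_iff.1 hk s).symm
    have ck' : ∀ s, Commute k' s := fun s => (Subgroup.mem_center_iff.1 hk' s).symm
    have c1 : Commute (x ^ i * y ^ j * k) (x ^ i' * y ^ j' * k') := by
      apply Commute.mul_right
      · apply Commute.mul_left
        · apply Commute.mul_right
          · exact ((Commute.refl x).pow_pow i i').mul_left (cxy.symm.pow_pow j i')
          · exact (cxy.pow_pow i j').mul_left ((Commute.refl y).pow_pow j j')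
        · exact ck _
      · exact (ck' _).symm
    exact c1

end Cfsg.Agent.H910.Six
end

-- part: H910/Six/Omega
section
/-!
# The stabiliser of the 252 lines (helper910)
-/

set_option autoImplicit false
set_option linter.unusedSectionVars false

open Matrix Equiv

namespace Cfsg.Agent.H910.Six

variable {F : Type*} [Field F]

/-- the non-zero vectors on the 252 lines -/
def Om (w : F) (B : GL (Fin 6) F) : Set (Fin 6 → F) :=
  {z | ∃ v ∈ vs, ∃ c : F, c ≠ 0 ∧ z = c • ((B : M6 F) *ᵥ vec w v)}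

/-- `g` preserves the lines -/
def Pres (w : F) (B g : GL (Fin 6) F) : Prop := ∀ z, (g : M6 F) *ᵥ z ∈ Om w B ↔ z ∈ Om w B

variable {w : F} {B : GL (Fin 6) F}

theorem Pres.one : Pres w B 1 := fun z => by rw [Units.val_one, Matrix.one_mulVec]

theorem Pres.mul {g h : GL (Fin 6) F} (hg : Pres w B g) (hh : Pres w B h) : Pres w B (g * h) := fun z => by
  rw [Units.val_mul, ← Matrix.mulVec_mulVec, hg, hh]

theorem Pres.inv {g : GL (Fin 6) F} (hg : Pres w B g) : Pres w B g⁻¹ := fun z => by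
  rw [← hg, Matrix.mulVec_mulVec, ← Units.val_mul, mul_inv_cancel, Units.val_one, Matrix.one_mulVec]

theorem Pres.smul {g h : GL (Fin 6) F} {c : F} (hg : Pres w B g) (hc : (h : M6 F) = c • (g : M6 F)) : Pres w B h := by
  have hc0 : c ≠ 0 := by
    rintro rfl
    rw [zero_smul] at hc
    have h1 : (h : M6 F) * ((h⁻¹ : GL (Fin 6) F) : M6 F) = 1 := Units.mul_inv h
    rw [hc, Matrix.zero_mul] at h1
    have := congrFun (congrFun h1 0) 0
    simp at this
  intro z
  rw [← hg z, hc, Matrix.smul_mulVec]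
  constructor
  · rintro ⟨v, hv, d, hd, e⟩
    refine ⟨v, hv, c⁻¹ * d, mul_ne_zero (inv_ne_zero hc0) hd, ?_⟩
    rw [mul_smul, ← e, smul_smul, inv_mul_cancel₀ hc0, one_smul]
  · rintro ⟨v, hv, d, hd, e⟩
    exact ⟨v, hv, c * d, mul_ne_zero hc0 hd, by rw [e, smul_smul]⟩

theorem pres_of_map [Finite F] {g : GL (Fin 6) F} (h : ∀ z ∈ Om w B, (g : M6 F) *ᵥ z ∈ Om w B) : Pres w B g := by
  intro z
  refine ⟨fun hz => ?_, h z⟩
  have hinj : Function.Injective fun z : Fin 6 → F => (g : M6 F) *ᵥ z := by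
    intro a b hab
    have : ((g⁻¹ : GL (Fin 6) F) : M6 F) *ᵥ ((g : M6 F) *ᵥ a) = ((g⁻¹ : GL (Fin 6) F) : M6 F) *ᵥ ((g : M6 F) *ᵥ b) := by
      rw [show (g : M6 F) *ᵥ a = (g : M6 F) *ᵥ b from hab]
    rwa [Matrix.mulVec_mulVec, Matrix.mulVec_mulVec, Units.inv_mul, Matrix.one_mulVec, Matrix.one_mulVec] at this
  have hfin : (Om w B).Finite := Set.toFinite _
  have hsurj := (hfin.injOn_iff_bijOn_of_mapsTo (f := fun z : Fin 6 → F => (g : M6 F) *ᵥ z) h).1 hinj.injOn
  obtain ⟨y, hy, e⟩ := hsurj.surjOn hz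
  rwa [← hinj e]

theorem Pres.of_chk [Finite F] {p : ℕ} [CharP F p] (hp : 5 ≤ p) (hp' : p.Prime) (hw : w * w + w + 1 = 0)
    {M : List (List E)} {T : List (ℕ × E)} (hchk : chk vs M T = true) {g : GL (Fin 6) F}
    (hg : (g : M6 F) * (B : M6 F) = (B : M6 F) * mat w M) : Pres w B g := by
  obtain ⟨h1, h2⟩ := chk_spec hchk
  apply pres_of_map
  rintro _ ⟨v, hv, c, hc, rfl⟩
  obtain ⟨v', hv', s, hs, e⟩ := h2 v hv
  refine ⟨v', hv', c * ev w s, mul_ne_zero hc (ev_ne_zero hw hp hp' hs), ?_⟩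
  rw [Matrix.mulVec_smul, Matrix.mulVec_mulVec, hg, ← Matrix.mulVec_mulVec, mat_mulVec hw h1, e, vec_smul hw,
    Matrix.mulVec_smul, smul_smul]

theorem mat_mono {M : List (List E)} {σ : Perm (Fin 6)} {d : Fin 6 → E}
    (h : ∀ i j : Fin 6, ent M i j = if i = σ j then d j else (0, 0)) : mat w M = mono σ fun j => ev w (d j) := by
  ext i j
  rw [mono_apply, mat, Matrix.of_apply]
  have := h i j
  rw [ent] at this
  rw [this]
  split_ifs
  · rfl
  · exact ev_zero w

theorem mat_t1 : mat w Mt1 = mono (c[0, 1] * c[2, 3]) (fun _ => (1 : F)) := by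
  rw [mat_mono (σ := c[0, 1] * c[2, 3]) (d := fun _ => (1, 0)) (by decide +kernel)]
  simp only [ev_one]

theorem mat_t2 : mat w Mt2 = mono (c[0, 2] * c[1, 3]) (fun _ => (1 : F)) := by
  rw [mat_mono (σ := c[0, 2] * c[1, 3]) (d := fun _ => (1, 0)) (by decide +kernel)]
  simp only [ev_one]

theorem mat_u : mat w Mu = mono (c[0, 1] * c[4, 5]) (fun _ => (1 : F)) := by
  rw [mat_mono (σ := c[0, 1] * c[4, 5]) (d := fun _ => (1, 0)) (by decide +kernel)]
  simp only [ev_one]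

theorem mat_r : mat w Mr = mono (c[2, 4] * c[3, 5]) (fun _ => (1 : F)) := by
  rw [mat_mono (σ := c[2, 4] * c[3, 5]) (d := fun _ => (1, 0)) (by decide +kernel)]
  simp only [ev_one]

theorem mat_x (hw : w * w + w + 1 = 0) : mat w Mx = mono c[0, 1, 2] (![1, 1, 1, 1, w * w, w] : Fin 6 → F) := by
  rw [mat_mono (σ := c[0, 1, 2]) (d := ![(1, 0), (1, 0), (1, 0), (1, 0), (-1, -1), (0, 1)]) (by decide +kernel)]
  congr 1
  have e2 : w * w = -1 - w := by linear_combination hw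
  ext j
  (revert j; simp only [ev, e2, _root_.Fin.forall_fin_succ, Int.reduceNeg, Fin.isValue, _root_.Matrix.cons_val_zero, _root_.Int.cast_one, _root_.Int.cast_zero, _root_.MulZeroClass.zero_mul, _root_.add_zero, _root_.Matrix.cons_val_succ, _root_.Int.cast_neg, _root_.neg_mul, _root_.one_mul, _root_.Matrix.cons_val_fin_one, _root_.zero_add, _root_.implies_true, _root_.and_true, _root_.true_and]) <;> (repeat' with_reducible apply And.intro)
  ring

variable {G : Type*} [Group G] {m : G →* M6 F} {φ : G →* Perm (Fin 6)} {t1 t2 u r x a b : G}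

theorem sM_mat (hw : w * w + w + 1 = 0) (e : E) : mat w (sM e) = ev w e • (1 : M6 F) := by
  ext i j
  have e1 : (sM e).getD i [] = (List.range 6).map fun j => if (i : ℕ) = j then e else (0, 0) := by
    rw [sM, List.getD_eq_getElem _ _ (by rw [List.length_map, List.length_range]; exact i.2), List.getElem_map,
      List.getElem_range]
  have : ((sM e).getD i []).getD j (0, 0) = if (i : ℕ) = j then e else (0, 0) := by
    rw [e1, List.getD_eq_getElem _ _ (by rw [List.length_map, List.length_range]; exact j.2), List.getElem_map,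
      List.getElem_range]
  rw [mat, Matrix.of_apply, this, Matrix.smul_apply, Matrix.one_apply]
  by_cases h : i = j
  · rw [if_pos h, if_pos (by rw [h]), smul_eq_mul, mul_one]
  · rw [if_neg h, if_neg (fun h' => h (Fin.ext h')), ev_zero, smul_zero]

end Cfsg.Agent.H910.Six
end

-- part: H910/Six/Main3
section
/-!
# `3.A₆` in dimension six: the normaliser (helper910)
-/

set_option autoImplicit false
set_option linter.unusedSectionVars false

open Matrix Equiv Cfsg Cfsg.Geo Cfsg.Agent.H915.LD Cfsg.Agent.H910.Aut Cfsg.Agent.LFourA.AltPsiAut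

namespace Cfsg.Agent.H910.Six

universe u

variable {F : Type u} [Field F]

/-- `g` has the matrix `M` in the basis `B` -/
structure Rp (w : F) (B : GL (Fin 6) F) (g : M6 F) (M : List (List E)) : Prop where
  eq : g * (B : M6 F) = (B : M6 F) * mat w M
  len : M.length = 6
  row : ∀ r ∈ M, r.length ≤ 6

theorem Rp.mul {w : F} {B : GL (Fin 6) F} {g g' : M6 F} {M M' : List (List E)} (hw : w * w + w + 1 = 0) (h : Rp w B g M)
    (h' : Rp w B g' M') : Rp w B (g * g') (mulM M M') := by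
  refine ⟨by rw [mat_mul hw h.row h.len, mul_assoc, h'.eq, ← mul_assoc, h.eq, mul_assoc], ?_, ?_⟩
  · rw [mulM, List.length_map, h.len]
  · intro r hr
    rw [mulM, List.mem_map] at hr
    obtain ⟨s, -, rfl⟩ := hr
    rw [List.length_map, List.length_range]

variable {P : Subgroup (GL (Fin 6) F)} {e : Soc P ≃* alternatingGroup (Fin 6)} {t1 t2 u r x a b : P} {w : F}
  {B : GL (Fin 6) F}

theorem Rp.of_explicit (ex : Explicit B w (mrep P) t1 t2 u r x) :
    Rp w B (mrep P t1) Mt1 ∧ Rp w B (mrep P t2) Mt2 ∧ Rp w B (mrep P u) Mu ∧ Rp w B (mrep P r) Mr ∧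
    Rp w B (mrep P x) Mx :=
  ⟨⟨by rw [ex.e1, mat_t1], by decide +kernel, by decide +kernel⟩, ⟨by rw [ex.e2, mat_t2], by decide +kernel, by decide +kernel⟩,
    ⟨by rw [ex.eu, mat_u], by decide +kernel, by decide +kernel⟩, ⟨by rw [ex.er, mat_r], by decide +kernel, by decide +kernel⟩,
    ⟨by rw [ex.ex, mat_x ex.hw], by decide +kernel, by decide +kernel⟩⟩

/-- `h s = W h` -/
theorem Rp.conj {h1 : GL (Fin 6) F} {Mh Ms MW : List (List E)} (hw : w * w + w + 1 = 0)
    (hh : Rp w B (h1 : M6 F) Mh) {s W : P} (hs : Rp w B (mrep P s) Ms) (hW : Rp w B (mrep P W) MW)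
    (hc : mulM Mh Ms = mulM MW Mh) : h1 * (s : GL (Fin 6) F) * h1⁻¹ = W := by
  rw [mul_inv_eq_iff_eq_mul]
  apply Units.ext
  have e1 := (hh.mul hw hs).eq
  have e2 := (hW.mul hw hh).eq
  rw [hc, ← e2, mrep_apply, mrep_apply, ← Units.val_mul, ← Units.val_mul, ← Units.val_mul, ← Units.val_mul] at e1
  have e3 := Units.ext e1
  rw [mul_left_inj] at e3
  exact congrArg Units.val e3

private noncomputable def _root_.Cfsg.Agent.LsF.f4077ec_0 : {f // @Cfsg.Agent.H910.Six.eadd = f} := ⟨_, by first | (delta Cfsg.Agent.H910.Six.eadd; rewrite [Cfsg.Agent.LsF.iadd_pat]; exact rfl) | exact rfl⟩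
private noncomputable def _root_.Cfsg.Agent.LsF.f4077ec_1 : {f // @Cfsg.Agent.H910.Six.emul = f} := ⟨_, by first | (delta Cfsg.Agent.H910.Six.emul; rewrite [Cfsg.Agent.LsF.iadd_pat, Cfsg.Agent.LsF.imul_pat, Cfsg.Agent.LsF.isub_pat]; exact rfl) | exact rfl⟩
private noncomputable def _root_.Cfsg.Agent.LsF.f4077ec_2 : {f // @Cfsg.Agent.H910.Six.dot = f} := ⟨_, by first | (delta Cfsg.Agent.H910.Six.dot List.brecOn List.brecOn.go Cfsg.Agent.H910.Six.dot._f; rewrite [Cfsg.Agent.LsF.f4077ec_0.2, Cfsg.Agent.LsF.f4077ec_1.2]; (try delta Cfsg.Agent.H910.Six.dot.match_1); (try delta Cfsg.Agent.H910.Six.dot._sparseCasesOn_1); first | dsimp -zeta only | exact rfl) | exact rfl⟩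
private noncomputable def _root_.Cfsg.Agent.LsF.f4077ec_3 : {f // @Cfsg.Agent.H910.Six.mulM = f} := ⟨_, by first | (delta Cfsg.Agent.H910.Six.mulM; rewrite [Cfsg.Agent.LsF.f4077ec_2.2, Cfsg.Agent.LsF.map_eq, Cfsg.Agent.LsF.range_eq, Cfsg.Agent.LsF.getD_eq]; exact rfl) | exact rfl⟩
private noncomputable def _root_.Cfsg.Agent.LsF.f4077ec_4 : {f // @Cfsg.Agent.H910.Six.deE = f} := ⟨_, by first | (delta Cfsg.Agent.H910.Six.deE; rewrite [Cfsg.Agent.LsF.ndiv_pat, Cfsg.Agent.LsF.nmod_pat, Cfsg.Agent.LsF.isub_pat, Cfsg.Agent.LsF.icast_pat]; exact rfl) | exact rfl⟩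
private noncomputable def _root_.Cfsg.Agent.LsF.f4077ec_5 : {f // @Cfsg.Agent.H910.Six.deV = f} := ⟨_, by first | (delta Cfsg.Agent.H910.Six.deV; rewrite [Cfsg.Agent.LsF.f4077ec_4.2, Cfsg.Agent.LsF.ndiv_pat, Cfsg.Agent.LsF.nmod_pat, Cfsg.Agent.LsF.npow_pat, Cfsg.Agent.LsF.map_eq, Cfsg.Agent.LsF.range_eq]; exact rfl) | exact rfl⟩
private noncomputable def _root_.Cfsg.Agent.LsF.f4077ec_6 : {f // @Cfsg.Agent.H910.Six.Mh = f} := ⟨_, by first | (delta Cfsg.Agent.H910.Six.Mh; rewrite [Cfsg.Agent.LsF.f4077ec_5.2, Cfsg.Agent.LsF.map_eq]; exact rfl) | exact rfl⟩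
private noncomputable def _root_.Cfsg.Agent.LsF.f4077ec_7 : {f // @Cfsg.Agent.H910.Six.Mt1 = f} := ⟨_, by first | (delta Cfsg.Agent.H910.Six.Mt1; rewrite [Cfsg.Agent.LsF.f4077ec_5.2, Cfsg.Agent.LsF.map_eq]; exact rfl) | exact rfl⟩
private noncomputable def _root_.Cfsg.Agent.LsF.f4077ec_8 : {f // @Cfsg.Agent.H910.Six.Mr = f} := ⟨_, by first | (delta Cfsg.Agent.H910.Six.Mr; rewrite [Cfsg.Agent.LsF.f4077ec_5.2, Cfsg.Agent.LsF.map_eq]; exact rfl) | exact rfl⟩
theorem w1 : mulM Mh Mt1 = mulM Mr Mh := by (refine of_decide_eq_true ?_; (try (rewrite [Cfsg.Agent.LsF.f4077ec_3.2, Cfsg.Agent.LsF.f4077ec_6.2, Cfsg.Agent.LsF.f4077ec_7.2, Cfsg.Agent.LsF.f4077ec_8.2, Cfsg.Agent.LsF.dProdEq_eq, Cfsg.Agent.LsF.instIDecEq_eq, Cfsg.Agent.LsF.dListEq_eq, Cfsg.Agent.LsF.decide_eq])); decide +kernel)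
private noncomputable def _root_.Cfsg.Agent.LsF.f4077ec_9 : {f // @Cfsg.Agent.H910.Six.Mt2 = f} := ⟨_, by first | (delta Cfsg.Agent.H910.Six.Mt2; rewrite [Cfsg.Agent.LsF.f4077ec_5.2, Cfsg.Agent.LsF.map_eq]; exact rfl) | exact rfl⟩
private noncomputable def _root_.Cfsg.Agent.LsF.f4077ec_10 : {f // @Cfsg.Agent.H910.Six.Mu = f} := ⟨_, by first | (delta Cfsg.Agent.H910.Six.Mu; rewrite [Cfsg.Agent.LsF.f4077ec_5.2, Cfsg.Agent.LsF.map_eq]; exact rfl) | exact rfl⟩
private noncomputable def _root_.Cfsg.Agent.LsF.f4077ec_11 : {f // @Cfsg.Agent.H910.Six.Mx = f} := ⟨_, by first | (delta Cfsg.Agent.H910.Six.Mx; rewrite [Cfsg.Agent.LsF.f4077ec_5.2, Cfsg.Agent.LsF.map_eq]; exact rfl) | exact rfl⟩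
theorem w2 : mulM Mh Mt2 = mulM (mulM (mulM (mulM (mulM (mulM (mulM Mt2 Mu) Mr) Mx) Mr) Mt2) Mu) Mh := by (refine of_decide_eq_true ?_; (try (rewrite [Cfsg.Agent.LsF.f4077ec_3.2, Cfsg.Agent.LsF.f4077ec_6.2, Cfsg.Agent.LsF.f4077ec_9.2, Cfsg.Agent.LsF.f4077ec_10.2, Cfsg.Agent.LsF.f4077ec_8.2, Cfsg.Agent.LsF.f4077ec_11.2, Cfsg.Agent.LsF.dProdEq_eq, Cfsg.Agent.LsF.instIDecEq_eq, Cfsg.Agent.LsF.dListEq_eq, Cfsg.Agent.LsF.decide_eq])); decide +kernel)
theorem w3 : mulM Mh Mu = mulM (mulM (mulM Mt1 Mu) Mr) Mh := by (refine of_decide_eq_true ?_; (try (rewrite [Cfsg.Agent.LsF.f4077ec_3.2, Cfsg.Agent.LsF.f4077ec_6.2, Cfsg.Agent.LsF.f4077ec_10.2, Cfsg.Agent.LsF.f4077ec_7.2, Cfsg.Agent.LsF.f4077ec_8.2, Cfsg.Agent.LsF.dProdEq_eq, Cfsg.Agent.LsF.instIDecEq_eq, Cfsg.Agent.LsF.dListEq_eq, Cfsg.Agent.LsF.decide_eq])); decide +kernel)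
theorem w4 : mulM Mh Mr = mulM Mu Mh := by decide +kernel
theorem w5 : mulM Mh Mx = mulM (mulM (mulM (mulM (mulM (mulM (mulM (mulM (mulM Mu Mx) Mr) Mx) Mr) Mx) Mt1) Mx) Mr) Mh := by
  (refine of_decide_eq_true ?_; (try (rewrite [Cfsg.Agent.LsF.f4077ec_3.2, Cfsg.Agent.LsF.f4077ec_6.2, Cfsg.Agent.LsF.f4077ec_11.2, Cfsg.Agent.LsF.f4077ec_10.2, Cfsg.Agent.LsF.f4077ec_8.2, Cfsg.Agent.LsF.f4077ec_7.2, Cfsg.Agent.LsF.dProdEq_eq, Cfsg.Agent.LsF.instIDecEq_eq, Cfsg.Agent.LsF.dListEq_eq, Cfsg.Agent.LsF.decide_eq])); decide +kernel)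

/-- the images of the generators under conjugation by `h` -/
theorem conj_gen {h1 : GL (Fin 6) F} (ex : Explicit B w (mrep P) t1 t2 u r x)
    (hh : (h1 : M6 F) * (B : M6 F) = (B : M6 F) * mat w Mh) :
    h1 * (t1 : GL (Fin 6) F) * h1⁻¹ = r ∧ h1 * (t2 : GL (Fin 6) F) * h1⁻¹ = (t2 * u * r * x * r * t2 * u : P) ∧
    h1 * (u : GL (Fin 6) F) * h1⁻¹ = (t1 * u * r : P) ∧ h1 * (r : GL (Fin 6) F) * h1⁻¹ = u ∧
    h1 * (x : GL (Fin 6) F) * h1⁻¹ = (u * x * r * x * r * x * t1 * x * r : P) := by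
  obtain ⟨r1, r2, r3, r4, r5⟩ := Rp.of_explicit ex
  have hw := ex.hw
  have rh : Rp w B (h1 : M6 F) Mh := ⟨hh, by decide +kernel, by decide +kernel⟩
  refine ⟨rh.conj hw r1 r4 w1, rh.conj hw r2 ?_ w2, rh.conj hw r3 ?_ w3, rh.conj hw r4 r3 w4, rh.conj hw r5 ?_ w5⟩
  · simp only [map_mul]
    exact ((((((r2.mul hw r3).mul hw r4).mul hw r5).mul hw r4).mul hw r2).mul hw r3)
  · simp only [map_mul]
    exact ((r1.mul hw r3).mul hw r4)
  · simp only [map_mul]
    exact ((((((((r3.mul hw r5).mul hw r4).mul hw r5).mul hw r4).mul hw r5).mul hw r1).mul hw r5).mul hw r4)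

theorem nrm_h [Finite F] {h1 : GL (Fin 6) F} (h : Hex (mrep P) (phi e)) (d : Data (mrep P) (phi e) t1 t2 u r x a b)
    (ex : Explicit B w (mrep P) t1 t2 u r x) (hh : (h1 : M6 F) * (B : M6 F) = (B : M6 F) * mat w Mh) : Nrm P h1 := by
  obtain ⟨c1, c2, c3, c4, c5⟩ := conj_gen ex hh
  apply Nrm.of_to
  have key := d.induct h (Q := fun g => h1 * (g : GL (Fin 6) F) * h1⁻¹ ∈ P) (fun k hk => by
      rw [mem_of_phi e, Subgroup.mem_subgroupOf] at hk
      rw [conj_scalar hk]; exact k.2) (fun g g' hg hg' => by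
      rw [Subgroup.coe_mul, show h1 * ((g : GL (Fin 6) F) * g') * h1⁻¹ = (h1 * g * h1⁻¹) * (h1 * g' * h1⁻¹) by group]
      exact P.mul_mem hg hg') (by rw [c1]; exact r.2) (by rw [c2]; exact Subtype.property _)
      (by rw [c3]; exact Subtype.property _) (by rw [c4]; exact u.2) (by rw [c5]; exact Subtype.property _)
  exact fun x hx => key ⟨x, hx⟩

/-- `h` induces an exotic automorphism -/
theorem exotic_h {h1 : GL (Fin 6) F} (d : Data (mrep P) (phi e) t1 t2 u r x a b)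
    (ex : Explicit B w (mrep P) t1 t2 u r x) (hh : (h1 : M6 F) * (B : M6 F) = (B : M6 F) * mat w Mh) (hn : Nrm P h1)
    {α : MulAut A6} (hα : ∀ y : P, e (toSoc P (hn.conj y)) = α (e (toSoc P y))) : α ∉ NE := by
  obtain ⟨c1, c2, c3, c4, c5⟩ := conj_gen ex hh
  intro hNE
  rw [mem_NE_iff] at hNE
  have e1 : e (toSoc P x) = u3 := Subtype.ext (by
    change phi e x = _
    rw [d.hx]; decide)
  have e2 : hn.conj x = u * x * r * x * r * x * t1 * x * r := Subtype.ext (by rw [Nrm.conj_coe, c5])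
  rw [← e1, ← hα, e2] at hNE
  have e3 : ((e (toSoc P (u * x * r * x * r * x * t1 * x * r)) : A6) : Perm (Fin 6)) =
      phi e (u * x * r * x * r * x * t1 * x * r) := rfl
  rw [e3] at hNE
  simp only [map_mul, d.hu, d.hx, d.hr, d.ht1] at hNE
  have := hNE.card_support
  revert this
  decide +kernel

/-- odd permutations are not induced -/
theorem not_odd (h : Hex (mrep P) (phi e)) {g : GL (Fin 6) F} (hn : Nrm P g) {σ : Perm (Fin 6)}
    (hσ : ∀ y : P, phi e (hn.conj y) = σ * phi e y * σ⁻¹) : Perm.sign σ = 1 := by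
  by_contra hs
  have hs' : Perm.sign σ = -1 := (Int.units_eq_one_or _).resolve_left hs
  obtain ⟨X, Y, hX, hY, hne⟩ := h.nc
  obtain ⟨k, hk⟩ := h.onto (σ * c[0, 1]) (by
    rw [Perm.sign_mul, hs']; decide)
  -- the scalar `[X, Y]`
  have hz : phi e (X * Y * X⁻¹ * Y⁻¹) = 1 := by
    rw [map_mul, map_mul, map_mul, map_inv, map_inv, hX, hY]; decide
  have hzc := h.central hz
  have hz3 := h.cube hz
  have hz' : ∀ s : GL (Fin 6) F, s * (X * Y * X⁻¹ * Y⁻¹ : P) * s⁻¹ = (X * Y * X⁻¹ * Y⁻¹ : P) := by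
    intro s
    exact conj_scalar (Subgroup.mem_subgroupOf.1 ((mem_of_phi e).1 hz))
  -- `k⁻¹ g` acts as the transposition
  have hn' : Nrm P ((k : GL (Fin 6) F)⁻¹ * g) := (Nrm.of_mem (P.inv_mem k.2)).mul hn
  have hact : ∀ y : P, phi e (hn'.conj y) = c[0, 1] * phi e y * c[0, 1] := by
    intro y
    have e1 : hn'.conj y = k⁻¹ * hn.conj y * k := by
      apply Subtype.ext
      simp only [Nrm.conj_coe, Subgroup.coe_mul, Subgroup.coe_inv]
      group
    rw [e1, map_mul, map_mul, map_inv, hσ, hk]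
    have e2 : (c[0, 1] : Perm (Fin 6))⁻¹ = c[0, 1] := by decide
    calc (σ * c[0, 1])⁻¹ * (σ * phi e y * σ⁻¹) * (σ * c[0, 1]) = c[0, 1]⁻¹ * phi e y * c[0, 1] := by group
      _ = c[0, 1] * phi e y * c[0, 1] := by rw [e2]
  have e1 : phi e (X * hn'.conj X) = 1 := by
    rw [map_mul, hact, hX]; decide
  have e2 : phi e (hn'.conj Y * Y⁻¹) = 1 := by
    rw [map_mul, hact, map_inv, hY]; decide
  have z1 := h.central e1
  have z2 := h.central e2
  have e3 : hn'.conj (X * Y * X⁻¹ * Y⁻¹) = X * Y * X⁻¹ * Y⁻¹ := Subtype.ext (hz' _)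
  rw [map_mul, map_mul, map_mul, map_inv, map_inv] at e3
  have hX' : hn'.conj X = X⁻¹ * (X * hn'.conj X) := by group
  have hY' : hn'.conj Y = (hn'.conj Y * Y⁻¹) * Y := by group
  generalize hn'.conj X = X' at *
  generalize hn'.conj Y = Y' at *
  generalize X * X' = c1 at *
  generalize Y' * Y⁻¹ = c2 at *
  subst hX' hY'
  have e4 : X⁻¹ * c1 * (c2 * Y) * (X⁻¹ * c1)⁻¹ * (c2 * Y)⁻¹ = X⁻¹ * Y * X * Y⁻¹ := by
    calc X⁻¹ * c1 * (c2 * Y) * (X⁻¹ * c1)⁻¹ * (c2 * Y)⁻¹
        = X⁻¹ * (c1 * (c2 * Y)) * c1⁻¹ * X * Y⁻¹ * c2⁻¹ := by group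
      _ = X⁻¹ * (c2 * (Y * X * Y⁻¹)) * c2⁻¹ := by rw [z1]; group
      _ = X⁻¹ * Y * X * Y⁻¹ := by rw [z2]; group
  rw [e4] at e3
  -- `z⁻¹ = z`
  have e5 : X⁻¹ * (X * Y * X⁻¹ * Y⁻¹) * X = X * Y * X⁻¹ * Y⁻¹ := by rw [mul_assoc, hzc, inv_mul_cancel_left]
  have e6 : (X⁻¹ * Y * X * Y⁻¹) * (X * Y * X⁻¹ * Y⁻¹) = 1 := by
    have : X⁻¹ * (X * Y * X⁻¹ * Y⁻¹) * X = Y * X⁻¹ * Y⁻¹ * X := by group
    rw [← e5, this]; group
  rw [e3] at e6
  apply hne
  rw [e6, one_mul] at hz3
  calc X * Y = (X * Y * X⁻¹ * Y⁻¹) * (Y * X) := by group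
    _ = Y * X := by rw [hz3, one_mul]

/-- **The normaliser of `3.A₆`.** -/
theorem normaliser (hC : Core P) (h : Hex (mrep P) (phi e)) (d : Data (mrep P) (phi e) t1 t2 u r x a b)
    (ex : Explicit B w (mrep P) t1 t2 u r x) {h1 : GL (Fin 6) F} (hh : (h1 : M6 F) * (B : M6 F) = (B : M6 F) * mat w Mh)
    (hn1 : Nrm P h1) {g : GL (Fin 6) F} (hn : Nrm P g) :
    ∃ k : P, (∃ c : F, (g : M6 F) = c • ((k : GL (Fin 6) F) : M6 F)) ∨
      (∃ c : F, (g : M6 F) = c • ((h1 * (k : GL (Fin 6) F) : GL (Fin 6) F) : M6 F)) := by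
  -- automorphisms mapping three-cycles to three-cycles come from `P`
  have key : ∀ {g : GL (Fin 6) F} (hn : Nrm P g) {α : MulAut A6},
      (∀ y : P, e (toSoc P (hn.conj y)) = α (e (toSoc P y))) → α ∈ NE →
      ∃ k : P, ∃ c : F, (g : M6 F) = c • ((k : GL (Fin 6) F) : M6 F) := by
    intro g hn α hα hNE
    obtain ⟨σ, hσ⟩ := exists_perm hNE
    have h1 : ∀ y : P, phi e (hn.conj y) = σ * phi e y * σ⁻¹ := by
      intro y
      change ((e (toSoc P (hn.conj y)) : A6) : Perm (Fin 6)) = _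
      rw [hα, hσ]
      rfl
    obtain ⟨k, hk⟩ := h.onto σ (not_odd h hn h1)
    refine ⟨k, scalar_of_eq hC e hn (Nrm.of_mem k.2) hα fun y => ?_⟩
    rw [← hα]
    apply Subtype.ext
    change phi e ((Nrm.of_mem k.2).conj y) = phi e (hn.conj y)
    rw [h1, ← hk, ← map_inv, ← map_mul, ← map_mul]
    congr 1
  obtain ⟨α, hα⟩ := hn.exists_aut e
  by_cases hNE : α ∈ NE
  · obtain ⟨k, hk⟩ := key hn hα hNE
    exact ⟨k, Or.inl hk⟩
  · obtain ⟨β, hβ⟩ := hn1.exists_aut e
    have hβN := exotic_h d ex hh hn1 hβ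
    obtain ⟨k, c, hk⟩ := key (hn1.inv.mul hn) (α := β⁻¹ * α) (fun y => by
      have e1 : hn1.conj ((hn1.inv.mul hn).conj y) = hn.conj y := by
        apply Subtype.ext
        simp only [Nrm.conj_coe]
        group
      apply β.injective
      rw [← hβ, e1, hα, MulAut.mul_apply, MulAut.apply_inv_self]) (inv_mul_mem hβN hNE)
    refine ⟨k, Or.inr ⟨c, ?_⟩⟩
    have e2 : (g : M6 F) = (h1 : M6 F) * ((h1⁻¹ * g : GL (Fin 6) F) : M6 F) := by
      rw [← Units.val_mul, mul_inv_cancel_left]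
    rw [e2, hk, Matrix.mul_smul, Units.val_mul]

/-- `P` preserves the lines -/
theorem pres_P [Finite F] {p : ℕ} [CharP F p] (hp : 5 ≤ p) (hp' : p.Prime) (h : Hex (mrep P) (phi e))
    (d : Data (mrep P) (phi e) t1 t2 u r x a b) (ex : Explicit B w (mrep P) t1 t2 u r x) (g : P) : Pres w B g := by
  obtain ⟨r1, r2, r3, r4, r5⟩ := Rp.of_explicit ex
  refine d.induct h (Q := fun g => Pres w B (g : GL (Fin 6) F)) (fun k hk => ?_) (fun g g' hg hg' => ?_)
    (Pres.of_chk hp hp' ex.hw chk_t1 r1.eq) (Pres.of_chk hp hp' ex.hw chk_t2 r2.eq) (Pres.of_chk hp hp' ex.hw chk_u r3.eq)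
    (Pres.of_chk hp hp' ex.hw chk_r r4.eq) (Pres.of_chk hp hp' ex.hw chk_x r5.eq) g
  · rw [mem_of_phi e, Subgroup.mem_subgroupOf, mem_scalars_iff] at hk
    obtain ⟨c, hc⟩ := hk
    exact Pres.one.smul (c := c) (by rw [hc, Units.val_one])
  · rw [Subgroup.coe_mul]
    exact hg.mul hg'

/-- the stabiliser -/
def Stab (w : F) (B : GL (Fin 6) F) (K : Subgroup (GL (Fin 6) F)) : Subgroup (GL (Fin 6) F) where
  carrier := {g | g ∈ K ∧ Pres w B g}
  one_mem' := ⟨K.one_mem, Pres.one⟩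
  mul_mem' := fun h h' => ⟨K.mul_mem h.1 h'.1, h.2.mul h'.2⟩
  inv_mem' := fun h => ⟨K.inv_mem h.1, h.2.inv⟩

/-- `diag (-1, 1, 1, 1, 1, -1)` does not preserve the lines -/
theorem not_pres {p : ℕ} [CharP F p] (hp : 5 ≤ p) (hp' : p.Prime) (hw : w * w + w + 1 = 0) {D : GL (Fin 6) F}
    (hD : (D : M6 F) * (B : M6 F) = (B : M6 F) * Matrix.diagonal ![-1, 1, 1, 1, 1, -1]) : ¬ Pres w B D := by
  intro hpres
  have n2 : (2 : F) ≠ 0 := by
    intro h0
    have := (CharP.cast_eq_zero_iff F p 2).1 (by exact_mod_cast h0)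
    have := Nat.le_of_dvd (by norm_num) this
    omega
  have h1 : (B : M6 F) *ᵥ vec w [(1, 0), (-1, 0), (0, 0), (0, 0), (0, 0), (0, 0)] ∈ Om w B :=
    ⟨_, vs_mem, 1, one_ne_zero, (one_smul _ _).symm⟩
  rw [← hpres] at h1
  obtain ⟨v, hv, c, hc, e⟩ := h1
  rw [Matrix.mulVec_mulVec, hD, ← Matrix.mulVec_mulVec, ← Matrix.mulVec_smul] at e
  have hinj : ∀ {y z : Fin 6 → F}, (B : M6 F) *ᵥ y = (B : M6 F) *ᵥ z → y = z := by
    intro y z hyz
    have : ((B⁻¹ : GL (Fin 6) F) : M6 F) *ᵥ ((B : M6 F) *ᵥ y) = ((B⁻¹ : GL (Fin 6) F) : M6 F) *ᵥ ((B : M6 F) *ᵥ z) := by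
      rw [hyz]
    rwa [Matrix.mulVec_mulVec, Matrix.mulVec_mulVec, Units.inv_mul, Matrix.one_mulVec, Matrix.one_mulVec] at this
  have e1 := hinj e
  have q : ∀ i : Fin 6, (Matrix.diagonal ![-1, 1, 1, 1, 1, -1] *ᵥ
      vec w [(1, 0), (-1, 0), (0, 0), (0, 0), (0, 0), (0, 0)]) i = (![-1, -1, 0, 0, 0, 0] : Fin 6 → F) i := by
    intro i
    rw [Matrix.mulVec_diagonal]
    (revert i; simp only [vec, ev, _root_.Fin.forall_fin_succ, _root_.Nat.succ_eq_add_one, Nat.reduceAdd, Int.reduceNeg, _root_.List.getD_eq_getElem?_getD, _root_.List.length_cons, _root_.List.length_nil, _root_.zero_add, _root_.Fin.is_lt, _root_.getElem?_pos, _root_.Option.getD_some, Fin.isValue, _root_.Matrix.cons_val_zero, _root_.Fin.coe_ofNat_eq_mod, _root_.Nat.zero_mod, _root_.List.getElem_cons_zero, _root_.Int.cast_one, _root_.Int.cast_zero, _root_.MulZeroClass.zero_mul, _root_.add_zero, _root_.mul_one, _root_.Matrix.cons_val_succ, _root_.Fin.val_succ, _root_.List.getElem_cons_succ,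 _root_.Int.cast_neg, _root_.mul_neg, _root_.MulZeroClass.mul_zero, _root_.Matrix.cons_val_fin_one, _root_.Fin.val_eq_zero, _root_.implies_true, _root_.and_self])
  rcases vs_good v hv with ⟨i, hi, hn⟩ | hn
  · have e2 := congrFun e1 i
    rw [q, Pi.smul_apply, smul_eq_mul, vec] at e2
    have e3 : (![-1, -1, 0, 0, 0, 0] : Fin 6 → F) i = 0 := by
      fin_cases i <;> first | rfl | (simp at hi)
    rw [e3] at e2
    exact mul_ne_zero hc (ev_ne_zero hw hp hp' hn) e2.symm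
  · have e2 := congrFun e1 0
    have e3 := congrFun e1 1
    rw [q, Pi.smul_apply, smul_eq_mul, vec] at e2 e3
    have e4 : c * ev w (esub (v.getD 0 (0, 0)) (v.getD 1 (0, 0))) = 0 := by
      have : ev w (esub (v.getD 0 (0, 0)) (v.getD 1 (0, 0))) = ev w (v.getD 0 (0, 0)) - ev w (v.getD 1 (0, 0)) := by
        simp only [ev, esub]; push_cast; ring
      rw [this]
      have e5 : (![-1, -1, 0, 0, 0, 0] : Fin 6 → F) 0 = -1 := rfl
      have e6 : (![-1, -1, 0, 0, 0, 0] : Fin 6 → F) 1 = -1 := rfl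
      rw [e5] at e2
      rw [e6] at e3
      have e2' : -1 = c * ev w (v.getD 0 (0, 0)) := e2
      have e3' : -1 = c * ev w (v.getD 1 (0, 0)) := e3
      linear_combination e3' - e2'
    exact mul_ne_zero hc (ev_ne_zero hw hp hp' hn) e4

theorem exists_unit {M N : M6 F} {c : F} (hc : c ≠ 0) (hMN : M * N = c • (1 : M6 F)) (B : GL (Fin 6) F) :
    ∃ g : GL (Fin 6) F, (g : M6 F) * (B : M6 F) = (B : M6 F) * M := by
  have h1 : M * (c⁻¹ • N) = 1 := by rw [Matrix.mul_smul, hMN, smul_smul, inv_mul_cancel₀ hc, one_smul]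
  have h2 : (c⁻¹ • N) * M = 1 := mul_eq_one_comm.1 h1
  refine ⟨B * ⟨M, c⁻¹ • N, h1, h2⟩ * B⁻¹, ?_⟩
  rw [Units.val_mul, Units.val_mul, mul_assoc, Units.inv_mul, mul_one]

/-- every element of `P` is monomial -/
theorem mono_P (h : Hex (mrep P) (phi e)) (d : Data (mrep P) (phi e) t1 t2 u r x a b)
    (ex : Explicit B w (mrep P) t1 t2 u r x) (g : P) :
    ∃ dd : Fin 6 → F, mrep P g * (B : M6 F) = (B : M6 F) * mono (phi e g) dd := by
  refine d.induct h (Q := fun g => ∃ dd : Fin 6 → F, mrep P g * (B : M6 F) = (B : M6 F) * mono (phi e g) dd)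
    (fun k hk => ?_) (fun g g' hg hg' => ?_) ⟨_, by rw [ex.e1, d.ht1]⟩ ⟨_, by rw [ex.e2, d.ht2]⟩ ⟨_, by rw [ex.eu, d.hu]⟩
    ⟨_, by rw [ex.er, d.hr]⟩ ⟨_, by rw [ex.ex, d.hx]⟩ g
  · obtain ⟨c, -, hc⟩ := h.ker k hk
    refine ⟨fun _ => c, ?_⟩
    rw [hc, hk, smul_mul_assoc, one_mul]
    have : mono (1 : Perm (Fin 6)) (fun _ => c) = c • (1 : M6 F) := by
      rw [← mono_one]
      ext i j
      rw [mono_apply, Matrix.smul_apply, mono_apply]
      split_ifs <;> simp
    rw [this, mul_smul_comm, mul_one]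
  · obtain ⟨dd, h1⟩ := hg
    obtain ⟨dd', h2⟩ := hg'
    refine ⟨fun j => dd (phi e g' j) * dd' j, ?_⟩
    rw [map_mul, mul_assoc, h2, ← mul_assoc, h1, mul_assoc, mono_mul, map_mul]

theorem mat_n (hw : w * w + w + 1 = 0) (n3 : (3 : F) ≠ 0) {y0 y1 : GL (Fin 6) F} (ex : Explicit B w (mrep P) t1 t2 u r x)
    (hy : (y1 : M6 F) * (B : M6 F) = (B : M6 F) * mat w My) (h0 : y0 = y1 * (t1 : GL (Fin 6) F) * y1⁻¹) :
    (3 : F) • ((y0 : M6 F) * (B : M6 F)) = (B : M6 F) * mat w Mn := by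
  have e0 : (y0 : M6 F) * (y1 : M6 F) = (y1 : M6 F) * mrep P t1 := by
    rw [mrep_apply, ← Units.val_mul, ← Units.val_mul, h0, inv_mul_cancel_right]
  have e1 : ((y0 : M6 F) * (B : M6 F)) * mat w My = (B : M6 F) * (mat w My * mat w Mt1) := by
    rw [mul_assoc, ← hy, ← mul_assoc, e0, mul_assoc, ex.e1, ← mul_assoc, hy, mul_assoc, mat_t1]
  have e2 : mat w Mn * mat w My = (3 : F) • (mat w My * mat w Mt1) := by
    rw [← mat_mul hw (by decide +kernel) (by decide +kernel), n_y, mat_mul hw (by decide +kernel) (by decide +kernel),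
      mat_mul hw (by decide +kernel) (by decide +kernel), sM_mat hw, Matrix.mul_smul, mul_one]
    simp [ev]
  have e3 : mat w My * mat w Mys = (3 : F) • (1 : M6 F) := by
    rw [← mat_mul hw (by decide +kernel) (by decide +kernel), y_ys, sM_mat hw]
    simp [ev]
  have e4 : (3 : F) • ((y0 : M6 F) * (B : M6 F)) * mat w My = (B : M6 F) * mat w Mn * mat w My := by
    rw [smul_mul_assoc, e1, mul_assoc, e2, Matrix.mul_smul]
  have e5 := congrArg (fun Z : M6 F => Z * mat w Mys) e4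
  simp only [mul_assoc, e3, Matrix.mul_smul, mul_one] at e5
  have e6 := smul_right_injective (M6 F) n3 e5
  simpa [mul_assoc] using e6

/-- **The main theorem for `3.A₆`.** -/
theorem not_maximal [Finite F] {p : ℕ} [CharP F p] (hp : 5 ≤ p) (hp' : p.Prime) {K H : Subgroup (GL (Fin 6) F)}
    (hmax : IsMaximalIn K H) (hres : IsResidualCore H P) (h : Hex (mrep P) (phi e))
    (d : Data (mrep P) (phi e) t1 t2 u r x a b) (ex : Explicit B w (mrep P) t1 t2 u r x)
    (hK1 : ∀ D : GL (Fin 6) F, (D : M6 F) * (B : M6 F) = (B : M6 F) * Matrix.diagonal ![-1, 1, 1, 1, 1, -1] → D ∈ K)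
    (hK2 : ∀ y1 : GL (Fin 6) F, (y1 : M6 F) * (B : M6 F) = (B : M6 F) * mat w My →
      y1 * (t1 : GL (Fin 6) F) * y1⁻¹ ∈ K) : False := by
  have hC := core_of_residual hres
  have hw := ex.hw
  have hne : ∀ n : ℕ, ¬ p ∣ n → (n : F) ≠ 0 := fun n hn h => hn ((CharP.cast_eq_zero_iff F p n).1 h)
  have n2 : (2 : F) ≠ 0 := by
    have := hne 2 (fun h => by have := Nat.le_of_dvd (by norm_num) h; omega)
    exact_mod_cast this
  have n3 : (3 : F) ≠ 0 := by
    have := hne 3 (fun h => by have := Nat.le_of_dvd (by norm_num) h; omega)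
    exact_mod_cast this
  have n6 : (6 : F) ≠ 0 := by rw [show (6 : F) = 2 * 3 by norm_num]; exact mul_ne_zero n2 n3
  obtain ⟨h1, hh1⟩ := exists_unit (M := mat w Mh) (N := mat w Mhs) n6 (by
    rw [← mat_mul hw (by decide +kernel) (by decide +kernel), h_hs, sM_mat hw]; simp [ev]) B
  obtain ⟨y1, hy1⟩ := exists_unit (M := mat w My) (N := mat w Mys) n3 (by
    rw [← mat_mul hw (by decide +kernel) (by decide +kernel), y_ys, sM_mat hw]; simp [ev]) B
  obtain ⟨D, hD⟩ := exists_unit (F := F) (M := Matrix.diagonal ![-1, 1, 1, 1, 1, -1])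
    (N := Matrix.diagonal ![-1, 1, 1, 1, 1, -1]) one_ne_zero (by
      rw [Matrix.diagonal_mul_diagonal, one_smul, ← Matrix.diagonal_one]
      congr 1
      ext i
      (revert i; simp only [_root_.Fin.forall_fin_succ, Fin.isValue, _root_.Matrix.cons_val_zero, _root_.mul_neg, _root_.mul_one, _root_.neg_neg, _root_.Matrix.cons_val_succ, _root_.Matrix.cons_val_fin_one, _root_.implies_true, _root_.and_self])) B
  have hn1 := nrm_h h d ex hh1
  have hph : Pres w B h1 := Pres.of_chk hp hp' hw chk_h hh1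
  have hpy : Pres w B y1 := Pres.of_chk hp hp' hw chk_y hy1
  have hP := pres_P hp hp' h d ex
  have hle : H ≤ Stab w B K := by
    intro g hg
    refine ⟨hmax.1.le hg, ?_⟩
    obtain ⟨k, ⟨c, hc⟩ | ⟨c, hc⟩⟩ := normaliser hC h d ex hh1 hn1 (Nrm.of_core hres hg)
    · exact (hP k).smul hc
    · exact (hph.mul (hP k)).smul hc
  rcases hmax.2 (Stab w B K) hle (fun g hg => hg.1) with hY | hY
  · have hy0 : y1 * (t1 : GL (Fin 6) F) * y1⁻¹ ∈ H := by
      rw [← hY]
      exact ⟨hK2 y1 hy1, (hpy.mul (hP t1)).mul hpy.inv⟩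
    have hmem := hres.normal _ hy0 t2 t2.2
    obtain ⟨dd, hdd⟩ := mono_P h d ex ⟨_, hmem⟩
    have hN := mat_n hw n3 ex hy1 rfl
    generalize phi e ⟨_, hmem⟩ = σ at hdd
    generalize hy : y1 * (t1 : GL (Fin 6) F) * y1⁻¹ = y0 at *
    have e1 : mat w Mn * mat w Mt2 = mono σ dd * mat w Mn := by
      have e2 : (y0 : M6 F) * mrep P t2 = mrep P ⟨_, hmem⟩ * (y0 : M6 F) := by
        rw [mrep_apply, mrep_apply, ← Units.val_mul, ← Units.val_mul, inv_mul_cancel_right]
      have e3 : (B : M6 F) * (mat w Mn * mat w Mt2) = (B : M6 F) * (mono σ dd * mat w Mn) := by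
        rw [← mul_assoc, ← hN, ← mul_assoc, ← hdd, mul_assoc _ (B : M6 F), ← hN, smul_mul_assoc, mul_smul_comm, ← mul_assoc,
          ← e2, mul_assoc, mul_assoc, mat_t2, ex.e2]
      have e4 := congrArg (fun Z : M6 F => ((B⁻¹ : GL (Fin 6) F) : M6 F) * Z) e3
      simp only [← mul_assoc, Units.inv_mul, one_mul] at e4
      exact e4
    obtain ⟨j, k, hjk⟩ := n_t2 (σ.symm 0)
    have row : ∀ j : Fin 6, ev w (ent (mulM Mn Mt2) 0 j) = dd (σ.symm 0) * ev w (ent Mn (σ.symm 0) j) := by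
      intro j
      have e2 := congrFun (congrFun e1 0) j
      rw [← mat_mul hw (by decide +kernel) (by decide +kernel), Matrix.mul_apply, Finset.sum_eq_single (σ.symm 0)] at e2
      · rw [mono_apply, if_pos (σ.apply_symm_apply 0).symm] at e2
        exact e2
      · intro i _ hi
        rw [mono_apply, if_neg, zero_mul]
        intro h0
        apply hi
        rw [h0, Equiv.symm_apply_apply]
      · intro h0; exact absurd (Finset.mem_univ _) h0
    apply ev_ne_zero hw hp hp' hjk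
    have e5 : ∀ x y : E, ev w (esub x y) = ev w x - ev w y := by
      intro x y
      simp only [ev, esub]; push_cast; ring
    rw [e5, ev_mul hw, ev_mul hw, row, row]
    ring
  · exact not_pres hp hp' hw hD (by
      have : D ∈ Stab w B K := by rw [hY]; exact hK1 D hD
      exact this.2)

end Cfsg.Agent.H910.Six
end

private theorem dce_2197c7951ed5 : _root_.True := by
  try have : _root_.True := by simp only [_root_.Cfsg.Agent.H910.Six.ent.eq_1]
  try have : _root_.True := by simp only [_root_.Cfsg.Agent.H910.Six.sM.eq_1]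
  try have : _root_.True := by simp only [_root_.Cfsg.Agent.H910.Six.esub.eq_1]
  exact _root_.True.intro
end

-- part: H913/N6Two2
section
prune_inst 0x5501400502200000000050012000600000000020048800000000204074824620040282080000000002004042804000002000000420000000a000000011c00800000000001000000000080000080400000000000000000000000000000000000000000000
set_option linter.all false
open scoped Cfsg.Agent.FastGrp

-- part: H913/N6Inv
section
/-!
# Involutory lifts (helper913)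

`Setup` : a conjugacy class `TV` of involutions of `T` containing the nontrivial elements of an elementary abelian group of
order 8; then every class element has a lift of square one, unique up to sign, and lifts of commuting elements with product in
the class commute.
-/

set_option autoImplicit false
set_option linter.unusedSectionVars false

namespace Cfsg.Agent.H913.N6

open Cfsg Cfsg.Geo Matrix Module
open Cfsg.Agent.H915.LD (Core Soc toSoc tr)

variable {ι : Type} [Fintype ι] [DecidableEq ι] {F : Type*} [Field F] {P H : Subgroup (GL ι F)}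
  {T : Type*} [Group T] {C : Cov P T}

/-- the action of `GL` on vectors -/
abbrev ap (g : GL ι F) (v : ι → F) : ι → F := (g : Matrix ι ι F) *ᵥ v

theorem ap_mul (g h : GL ι F) (v : ι → F) : ap (g * h) v = ap g (ap h v) := by
  rw [ap, ap, ap, Units.val_mul, Matrix.mulVec_mulVec]

theorem ap_one (v : ι → F) : ap 1 v = v := by rw [ap, Units.val_one, Matrix.one_mulVec]

theorem ap_add (g : GL ι F) (v w : ι → F) : ap g (v + w) = ap g v + ap g w := Matrix.mulVec_add _ _ _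

theorem ap_sub (g : GL ι F) (v w : ι → F) : ap g (v - w) = ap g v - ap g w := Matrix.mulVec_sub _ _ _

theorem ap_neg (g : GL ι F) (v : ι → F) : ap g (-v) = - ap g v := Matrix.mulVec_neg _ _

theorem ap_zero (g : GL ι F) : ap g 0 = 0 := Matrix.mulVec_zero _

theorem ap_smul (g : GL ι F) (c : F) (v : ι → F) : ap g (c • v) = c • ap g v := Matrix.mulVec_smul _ _ _

theorem ap_sum {κ : Type*} (s : Finset κ) (g : GL ι F) (f : κ → ι → F) : ap g (∑ i ∈ s, f i) = ∑ i ∈ s, ap g (f i) := by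
  simp only [ap, Matrix.mulVec_sum]

theorem ap_inv_eq {g : GL ι F} {v w : ι → F} (h : ap g v = w) : ap g⁻¹ w = v := by
  rw [← h, ← ap_mul, inv_mul_cancel, ap_one]

theorem ap_sc (c : Fˣ) (v : ι → F) : ap (sc c) v = (c : F) • v := by
  rw [ap, coe_sc, Matrix.smul_mulVec, Matrix.one_mulVec]

theorem ap_inj {g h : GL ι F} (h1 : ∀ v, ap g v = ap h v) : g = h := by
  apply Units.ext
  exact Matrix.mulVec_injective (funext h1)

theorem ap_ext {κ : Type*} (b : Basis κ F (ι → F)) {g h : GL ι F} (h1 : ∀ i, ap g (b i) = ap h (b i)) : g = h := by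
  apply ap_inj
  have h2 : Matrix.toLin' (g : Matrix ι ι F) = Matrix.toLin' (h : Matrix ι ι F) := by
    apply b.ext
    intro i
    rw [Matrix.toLin'_apply, Matrix.toLin'_apply]
    exact h1 i
  intro v
  have h3 := congrArg (fun f => f v) h2
  simpa only [Matrix.toLin'_apply] using h3

/-- the trace in a basis -/
theorem tr_eq_sum {κ : Type*} [Fintype κ] [DecidableEq κ] (b : Basis κ F (ι → F)) (g : GL ι F) :
    tr g = ∑ i, b.repr (ap g (b i)) i := by
  rw [tr, ← Matrix.trace_toLin'_eq, LinearMap.trace_eq_matrix_trace F b, Matrix.trace]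
  refine Finset.sum_congr rfl fun i _ => ?_
  rw [Matrix.diag_apply, LinearMap.toMatrix_apply, Matrix.toLin'_apply]

/-- the determinant in a basis -/
theorem det_eq_det {κ : Type*} [Fintype κ] [DecidableEq κ] (b : Basis κ F (ι → F)) (g : GL ι F) :
    (g : Matrix ι ι F).det = (Matrix.of fun i j => b.repr (ap g (b j)) i).det := by
  rw [← LinearMap.det_toLin', ← LinearMap.det_toMatrix b]
  congr 1
  ext i j
  rw [LinearMap.toMatrix_apply, Matrix.toLin'_apply, Matrix.of_apply]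

theorem sc_neg_one : ((sc (-1) : GL ι F) : Matrix ι ι F) = -1 := by
  rw [coe_sc]; simp

/-- the scalar `-1` -/
def m1 : GL ι F := sc (-1)

theorem ap_m1 (v : ι → F) : ap (m1 : GL ι F) v = -v := by
  rw [m1, ap_sc]; simp

theorem m1_mul_m1 : (m1 * m1 : GL ι F) = 1 := by
  rw [m1, ← sc_mul]; simp

theorem m1_comm (x : GL ι F) : m1 * x = x * m1 := sc_comm _ _

/-- an involutory (or trivial) lift -/
def IL (C : Cov P T) (x : GL ι F) (τ : T) : Prop := C.L x τ ∧ x * x = 1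

/-- a class of involutions whose elements generate an elementary abelian group of order 8 inside the class -/
structure Setup (P : Subgroup (GL ι F)) (C : Cov P T) (TV : Set T) : Prop where
  two : (2 : F) ≠ 0
  card : Fintype.card ι = 6
  pow : ∀ c : Fˣ, sc c ∈ P → c ^ 6 = 1
  neg : (m1 : GL ι F) ∈ P
  conj : ∀ τ ∈ TV, ∀ g : T, g * τ * g⁻¹ ∈ TV
  isConj : ∀ τ ∈ TV, ∀ τ' ∈ TV, ∃ g : T, g * τ * g⁻¹ = τ'
  sq : ∀ τ ∈ TV, τ * τ = 1
  ne_one : (1 : T) ∉ TV
  ex : ∃ a ∈ TV, ∃ b ∈ TV, ∃ c ∈ TV, a * b ∈ TV ∧ a * c ∈ TV ∧ b * c ∈ TV ∧ a * (b * c) ∈ TV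

namespace Setup

variable {TV : Set T} (S : Setup P C TV)
include S

theorem nonempty : Nonempty ι := Fintype.card_pos_iff.1 (by rw [S.card]; norm_num)

theorem neg_ne : (-1 : Fˣ) ≠ 1 := by
  intro h
  have h1 : ((-1 : Fˣ) : F) = ((1 : Fˣ) : F) := by rw [h]
  rw [Units.val_neg, Units.val_one] at h1
  exact S.two (by linear_combination -h1)

theorem m1_ne : (m1 : GL ι F) ≠ 1 := by
  intro h
  have : Nonempty ι := S.nonempty
  rw [m1, ← sc_one] at h
  exact S.neg_ne (sc_inj h)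

/-- a scalar of `P` whose square is `± 1` has square `1` -/
theorem sq_one {c : Fˣ} (hc : sc c ∈ P) (h : c ^ 2 = 1 ∨ c ^ 2 = -1) : c ^ 2 = 1 := by
  rcases h with h | h
  · exact h
  · exfalso
    have h6 := S.pow c hc
    have h7 : c ^ 6 = (c ^ 2) ^ 3 := by rw [← pow_mul]
    rw [h7, h] at h6
    have h8 : (-1 : Fˣ) ^ 3 = -1 := Odd.neg_one_pow (by decide)
    rw [h8] at h6
    exact S.neg_ne h6

theorem pm_of_sq {c : Fˣ} (h : c ^ 2 = 1) : c = 1 ∨ c = -1 := by
  have h1 : ((c : F) - 1) * ((c : F) + 1) = 0 := by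
    have h2 : ((c ^ 2 : Fˣ) : F) = 1 := by rw [h]; rfl
    rw [Units.val_pow_eq_pow_val] at h2
    linear_combination h2
  rcases mul_eq_zero.1 h1 with h2 | h2
  · left; exact Units.ext (by rw [Units.val_one]; linear_combination h2)
  · right; exact Units.ext (by rw [Units.val_neg, Units.val_one]; linear_combination h2)

/-- two lifts of class elements with squares `± 1` have the same square -/
theorem same_sq {x y : GL ι F} {τ τ' : T} (hx : C.L x τ) (hy : C.L y τ') (hτ : τ ∈ TV) (hτ' : τ' ∈ TV)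
    (h1 : x * x = 1 ∨ x * x = m1) (h2 : y * y = 1 ∨ y * y = m1) : x * x = y * y := by
  obtain ⟨g, hg⟩ := S.isConj τ hτ τ' hτ'
  obtain ⟨k, hk⟩ := C.exists_lift g
  have h3 := hx.conj hk
  rw [hg] at h3
  obtain ⟨c, hc, hyc⟩ := hy.exists_sc h3
  have e1 : (k * x * k⁻¹) * (k * x * k⁻¹) = x * x := by
    have : (k * x * k⁻¹) * (k * x * k⁻¹) = k * (x * x) * k⁻¹ := by group
    rw [this]
    rcases h1 with h | h
    · rw [h]; group
    · rw [h, ← m1_comm, mul_assoc, mul_inv_cancel, mul_one]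
  have e2 : y * y = sc (c ^ 2) * (x * x) := by
    rw [hyc, sc_pow, pow_two]
    calc sc c * (k * x * k⁻¹) * (sc c * (k * x * k⁻¹)) = sc c * ((k * x * k⁻¹) * sc c) * (k * x * k⁻¹) := by group
      _ = sc c * (sc c * (k * x * k⁻¹)) * (k * x * k⁻¹) := by rw [sc_comm c (k * x * k⁻¹)]
      _ = sc c * sc c * ((k * x * k⁻¹) * (k * x * k⁻¹)) := by group
      _ = sc c * sc c * (x * x) := by rw [e1]
  have : Nonempty ι := S.nonempty
  have h4 : c ^ 2 = 1 ∨ c ^ 2 = -1 := by
    rcases h1 with h | h <;> rcases h2 with h' | h'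
    · left; apply sc_inj (ι := ι); rw [sc_one, ← h', e2, h, mul_one]
    · right; apply sc_inj (ι := ι); rw [← m1, ← h', e2, h, mul_one]
    · right
      apply sc_inj (ι := ι)
      rw [← m1]
      have h5 := e2
      rw [h', h] at h5
      calc sc (c ^ 2) = sc (c ^ 2) * (m1 * m1) := by rw [m1_mul_m1, mul_one]
        _ = (sc (c ^ 2) * m1) * m1 := by rw [mul_assoc]
        _ = m1 := by rw [← h5, one_mul]
    · left
      apply sc_inj (ι := ι)
      rw [sc_one]
      have h5 := e2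
      rw [h', h] at h5
      calc sc (c ^ 2) = sc (c ^ 2) * (m1 * m1) := by rw [m1_mul_m1, mul_one]
        _ = (sc (c ^ 2) * m1) * m1 := by rw [mul_assoc]
        _ = 1 := by rw [← h5, m1_mul_m1]
  rw [e2, S.sq_one hc h4, sc_one, one_mul]

/-- commutation up to a sign, and the square of the product -/
theorem comm_sign {x y : GL ι F} {τ τ' : T} (hx : C.L x τ) (hy : C.L y τ') (hc : τ * τ' = τ' * τ)
    (h1 : x * x = 1 ∨ x * x = m1) (h2 : y * y = 1 ∨ y * y = m1) :
    (x * y = y * x ∧ (x * y) * (x * y) = (x * x) * (y * y)) ∨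
      (x * y = m1 * (y * x) ∧ (x * y) * (x * y) = m1 * ((x * x) * (y * y))) := by
  have : Nonempty ι := S.nonempty
  have h3 := hx.mul hy
  have h4 := hy.mul hx
  rw [← hc] at h4
  obtain ⟨c, hcP, hxy⟩ := h3.exists_sc h4
  have hcen : ∀ z : GL ι F, (x * x) * z = z * (x * x) := by
    intro z
    rcases h1 with h | h
    · rw [h, one_mul, mul_one]
    · rw [h, m1_comm]
  have e1 : sc (c ^ 2) = (1 : GL ι F) := by
    -- `x x y = x (c y x) = c (x y) x = c c y x x`
    have a1 : (x * x) * y = sc c * sc c * (y * (x * x)) := by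
      calc (x * x) * y = x * (x * y) := by group
        _ = x * (sc c * (y * x)) := by rw [hxy]
        _ = (x * sc c) * (y * x) := by group
        _ = (sc c * x) * (y * x) := by rw [sc_comm c x]
        _ = sc c * ((x * y) * x) := by group
        _ = sc c * (sc c * (y * x) * x) := by rw [hxy]
        _ = sc c * sc c * (y * (x * x)) := by group
    rw [hcen] at a1
    rw [sc_pow, pow_two]
    calc sc c * sc c = sc c * sc c * (y * (x * x)) * (y * (x * x))⁻¹ := by group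
      _ = 1 := by rw [← a1, mul_inv_cancel]
  have e2 : c ^ 2 = 1 := by
    apply sc_inj (ι := ι)
    rw [e1, sc_one]
  rcases S.pm_of_sq e2 with rfl | rfl
  · left
    have h5 : x * y = y * x := by rw [hxy, sc_one, one_mul]
    refine ⟨h5, ?_⟩
    calc x * y * (x * y) = x * (y * x) * y := by group
      _ = x * (x * y) * y := by rw [h5]
      _ = (x * x) * (y * y) := by group
  · right
    have h5 : x * y = m1 * (y * x) := hxy
    refine ⟨h5, ?_⟩
    have h6 : y * x = m1 * (x * y) := by rw [h5, ← mul_assoc, m1_mul_m1, one_mul]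
    calc x * y * (x * y) = x * (y * x) * y := by group
      _ = x * (m1 * (x * y)) * y := by rw [h6]
      _ = (x * m1) * (x * (y * y)) := by group
      _ = (m1 * x) * (x * (y * y)) := by rw [m1_comm x]
      _ = m1 * ((x * x) * (y * y)) := by group

/-- a lift with square `± 1` -/
theorem exists_pm {τ : T} (hτ : τ ∈ TV) : ∃ x, C.L x τ ∧ (x * x = 1 ∨ x * x = m1) := by
  obtain ⟨x, hx⟩ := C.exists_lift τ
  have h1 := hx.mul hx
  rw [S.sq τ hτ] at h1
  obtain ⟨hm, c, hc⟩ := Cov.L.one_iff.1 h1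
  have h6 := S.pow c (hc ▸ hm)
  refine ⟨x * x * x, ?_, ?_⟩
  · have := (hx.mul hx).mul hx
    rwa [S.sq τ hτ, one_mul] at this
  · have e1 : (x * x * x) * (x * x * x) = (x * x) * (x * x) * (x * x) := by group
    rw [e1, hc, ← sc_mul, ← sc_mul]
    have h2 : (c * c * c) ^ 2 = 1 := by rw [← h6]; rw [← pow_three', ← pow_mul]
    rcases S.pm_of_sq h2 with h | h
    · left; rw [h, sc_one]
    · right; rw [h, m1]

/-- **Class elements lift to involutions.** -/
theorem sq_eq_one {x : GL ι F} {τ : T} (hx : C.L x τ) (hτ : τ ∈ TV) (h1 : x * x = 1 ∨ x * x = m1) : x * x = 1 := by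
  have : Nonempty ι := S.nonempty
  rcases h1 with h1 | h1
  · exact h1
  exfalso
  -- all class elements have lifts of square `-1`
  have all : ∀ (y : GL ι F) (σ : T), C.L y σ → σ ∈ TV → (y * y = 1 ∨ y * y = m1) → y * y = m1 := by
    intro y σ hy hσ h2
    rw [← S.same_sq hx hy hτ hσ (Or.inr h1) h2, h1]
  obtain ⟨a, ha, b, hb, c, hc, hab, hac, hbc, habc⟩ := S.ex
  obtain ⟨x1, l1, q1⟩ := S.exists_pm ha
  obtain ⟨x2, l2, q2⟩ := S.exists_pm hb
  obtain ⟨x3, l3, q3⟩ := S.exists_pm hc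
  have comm_of : ∀ {σ τ : T}, σ ∈ TV → τ ∈ TV → σ * τ ∈ TV → σ * τ = τ * σ := by
    intro σ τ h h' h''
    have e1 := S.sq _ h''
    have e2 : τ * σ = (σ * σ) * (τ * σ) * (τ * τ) := by rw [S.sq _ h, S.sq _ h', one_mul, mul_one]
    rw [e2]
    calc σ * τ = σ * (1 : T) * τ := by rw [mul_one]
      _ = σ * (σ * τ * (σ * τ)) * τ := by rw [e1]
      _ = σ * σ * (τ * σ) * (τ * τ) := by group
  have anti : ∀ {u v : GL ι F} {σ τ : T}, C.L u σ → C.L v τ → σ ∈ TV → τ ∈ TV → σ * τ ∈ TV →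
      (u * u = 1 ∨ u * u = m1) → (v * v = 1 ∨ v * v = m1) → u * v = m1 * (v * u) ∧ (u * v) * (u * v) = m1 := by
    intro u v σ τ hu hv h h' h'' hq hq'
    have e1 := all u σ hu h hq
    have e2 := all v τ hv h' hq'
    rcases S.comm_sign hu hv (comm_of h h' h'') hq hq' with ⟨e3, e4⟩ | ⟨e3, e4⟩
    · exfalso
      rw [e1, e2, m1_mul_m1] at e4
      have e5 := all _ _ (hu.mul hv) h'' (Or.inl e4)
      rw [e4] at e5
      exact S.m1_ne e5.symm
    · rw [e1, e2, m1_mul_m1, mul_one] at e4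
      exact ⟨e3, e4⟩
  obtain ⟨a12, -⟩ := anti l1 l2 ha hb hab q1 q2
  obtain ⟨a13, -⟩ := anti l1 l3 ha hc hac q1 q3
  obtain ⟨-, s23⟩ := anti l2 l3 hb hc hbc q2 q3
  obtain ⟨a123, -⟩ := anti l1 (l2.mul l3) ha hbc habc q1 (Or.inr s23)
  -- but `x1` commutes with `x2 x3`
  have e1 : x1 * (x2 * x3) = (x2 * x3) * x1 := by
    calc x1 * (x2 * x3) = (x1 * x2) * x3 := by group
      _ = m1 * (x2 * x1) * x3 := by rw [a12]
      _ = m1 * (x2 * (x1 * x3)) := by group
      _ = m1 * (x2 * (m1 * (x3 * x1))) := by rw [a13]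
      _ = m1 * ((x2 * m1) * (x3 * x1)) := by group
      _ = m1 * ((m1 * x2) * (x3 * x1)) := by rw [m1_comm x2]
      _ = (m1 * m1) * ((x2 * x3) * x1) := by group
      _ = (x2 * x3) * x1 := by rw [m1_mul_m1, one_mul]
  rw [e1] at a123
  apply S.m1_ne (ι := ι)
  calc (m1 : GL ι F) = m1 * ((x2 * x3) * x1) * ((x2 * x3) * x1)⁻¹ := by group
    _ = 1 := by rw [← a123, mul_inv_cancel]

theorem exists_IL {τ : T} (hτ : τ ∈ TV) : ∃ x, IL C x τ := by
  obtain ⟨x, hx, h⟩ := S.exists_pm hτ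
  exact ⟨x, hx, S.sq_eq_one hx hτ h⟩

theorem IL_unique {x y : GL ι F} {τ : T} (hx : IL C x τ) (hy : IL C y τ) : x = y ∨ x = m1 * y := by
  have : Nonempty ι := S.nonempty
  obtain ⟨c, hc, h⟩ := hx.1.exists_sc hy.1
  have h1 : sc (c ^ 2) = (1 : GL ι F) := by
    have h2 := hx.2
    rw [h] at h2
    calc sc (c ^ 2) = sc c * sc c * (y * y) := by rw [hy.2, sc_pow, pow_two, mul_one]
      _ = sc c * (sc c * y) * y := by group
      _ = sc c * (y * sc c) * y := by rw [sc_comm c y]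
      _ = sc c * y * (sc c * y) := by group
      _ = 1 := h2
  have h2 : c ^ 2 = 1 := by apply sc_inj (ι := ι); rw [h1, sc_one]
  rcases S.pm_of_sq h2 with rfl | rfl
  · left; rw [h, sc_one, one_mul]
  · right; exact h

theorem IL_neg {x : GL ι F} {τ : T} (hx : IL C x τ) : IL C (m1 * x) τ := by
  refine ⟨hx.1.sc_mul S.neg, ?_⟩
  calc m1 * x * (m1 * x) = m1 * (x * m1) * x := by group
    _ = m1 * (m1 * x) * x := by rw [m1_comm x]
    _ = (m1 * m1) * (x * x) := by group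
    _ = 1 := by rw [m1_mul_m1, hx.2, one_mul]

omit S in
theorem IL_conj {x g : GL ι F} {τ γ : T} (hx : IL C x τ) (hg : C.L g γ) : IL C (g * x * g⁻¹) (γ * τ * γ⁻¹) := by
  refine ⟨hx.1.conj hg, ?_⟩
  calc g * x * g⁻¹ * (g * x * g⁻¹) = g * (x * x) * g⁻¹ := by group
    _ = 1 := by rw [hx.2]; group

/-- involutory lifts of `τ`, `τ'` commute if `τ τ'` is in the class -/
theorem IL_comm {x y : GL ι F} {τ τ' : T} (hx : IL C x τ) (hy : IL C y τ') (hc : τ * τ' = τ' * τ) (h : τ * τ' ∈ TV) :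
    x * y = y * x ∧ IL C (x * y) (τ * τ') := by
  have hL := hx.1.mul hy.1
  have key : ∀ e : GL ι F, (x * y) * (x * y) = e → (e = 1 ∨ e = m1) → (x * y) * (x * y) = 1 := by
    intro e he h'
    exact S.sq_eq_one hL h (by rw [he]; exact h')
  rcases S.comm_sign hx.1 hy.1 hc (Or.inl hx.2) (Or.inl hy.2) with ⟨h1, h2⟩ | ⟨h1, h2⟩
  · rw [hx.2, hy.2, one_mul] at h2
    exact ⟨h1, hL, h2⟩
  · exfalso
    rw [hx.2, hy.2, one_mul, mul_one] at h2
    have h3 := key _ h2 (Or.inr rfl)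
    rw [h2] at h3
    exact S.m1_ne h3

end Setup

end Cfsg.Agent.H913.N6
end

-- part: H913/N6Frame
section
/-!
# The frame of an elementary abelian group of order 16 (helper913)
-/

set_option autoImplicit false
set_option linter.unusedSectionVars false

namespace Cfsg.Agent.H913.N6

open Cfsg Cfsg.Geo Matrix Module
open Cfsg.Agent.H915.LD (Core Soc toSoc tr)

variable {ι : Type} [Fintype ι] [DecidableEq ι] {F : Type*} [Field F] {P H : Subgroup (GL ι F)}
  {T : Type*} [Group T] {C : Cov P T}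

/-- a sign as an element of the field -/
def sg (F : Type*) [Field F] (u : ℤˣ) : F := ((u : ℤ) : F)

@[simp] theorem sg_one : sg F 1 = 1 := by simp [sg]
@[simp] theorem sg_neg_one : sg F (-1) = -1 := by simp [sg]
theorem sg_mul (u v : ℤˣ) : sg F (u * v) = sg F u * sg F v := by simp [sg]
theorem sg_cases (u : ℤˣ) : u = 1 ∨ u = -1 := Int.units_eq_one_or u
theorem sg_sq (u : ℤˣ) : sg F u * sg F u = 1 := by
  rcases sg_cases u with rfl | rfl <;> simp
theorem sg_inj (h2 : (2 : F) ≠ 0) {u v : ℤˣ} (h : sg F u = sg F v) : u = v := by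
  rcases sg_cases u with rfl | rfl <;> rcases sg_cases v with rfl | rfl
  · rfl
  · exfalso; simp at h; exact h2 (by linear_combination h)
  · exfalso; simp at h; exact h2 (by linear_combination -h)
  · rfl

/-- even sign vectors -/
abbrev Ev := {s : Fin 6 → ℤˣ // ∏ i, s i = 1}

theorem card_Ev : Fintype.card Ev = 32 := by decide +kernel

/-- an elementary abelian subgroup of order 16 inside the class -/
structure Rad (TV : Set T) (R : Subgroup T) : Prop where
  card : Nat.card R = 16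
  mem : ∀ r ∈ R, r ≠ 1 → r ∈ TV
  comm : ∀ r ∈ R, ∀ s ∈ R, r * s = s * r

/-- the involutory lifts of the elements of `R` -/
def DD (C : Cov P T) (R : Subgroup T) : Set (GL ι F) := {x | ∃ r ∈ R, IL C x r}

/-- `x` is the sign change `s` in the basis `b` -/
def Sgn (b : Fin 6 → ι → F) (x : GL ι F) (s : Fin 6 → ℤˣ) : Prop := ∀ j, ap x (b j) = sg F (s j) • b j

theorem Sgn.mul {b : Fin 6 → ι → F} {x y : GL ι F} {s t : Fin 6 → ℤˣ} (hx : Sgn b x s) (hy : Sgn b y t) :
    Sgn b (x * y) (s * t) := by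
  intro j
  rw [ap_mul, hy j, ap_smul, hx j, smul_smul, Pi.mul_apply, sg_mul, mul_comm]

theorem Sgn.eq {b : Basis (Fin 6) F (ι → F)} {x y : GL ι F} {s : Fin 6 → ℤˣ} (hx : Sgn b x s) (hy : Sgn b y s) :
    x = y := ap_ext b fun j => by rw [hx j, hy j]

theorem Sgn.unique (h2 : (2 : F) ≠ 0) {b : Basis (Fin 6) F (ι → F)} {x : GL ι F} {s t : Fin 6 → ℤˣ} (hx : Sgn b x s)
    (hy : Sgn b x t) : s = t := by
  funext j
  have h := (hx j).symm.trans (hy j)
  have h1 : (sg F (s j) - sg F (t j)) • b j = 0 := by rw [sub_smul, h, sub_self]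
  rcases smul_eq_zero.1 h1 with h3 | h3
  · exact sg_inj h2 (sub_eq_zero.1 h3)
  · exact absurd h3 (b.ne_zero j)

theorem Sgn.m1 (b : Fin 6 → ι → F) : Sgn b (N6.m1 : GL ι F) (fun _ => -1) := by
  intro j
  rw [ap_m1, sg_neg_one, neg_one_smul]

theorem Sgn.one (b : Fin 6 → ι → F) : Sgn b (1 : GL ι F) 1 := by
  intro j
  rw [ap_one, Pi.one_apply, sg_one, one_smul]

theorem Sgn.tr {b : Basis (Fin 6) F (ι → F)} {x : GL ι F} {s : Fin 6 → ℤˣ} (hx : Sgn b x s) :
    tr x = ∑ j, sg F (s j) := by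
  rw [tr_eq_sum b]
  refine Finset.sum_congr rfl fun j _ => ?_
  rw [hx j, map_smul, Finsupp.smul_apply, b.repr_self, Finsupp.single_eq_same, smul_eq_mul, mul_one]

theorem Sgn.det {b : Basis (Fin 6) F (ι → F)} {x : GL ι F} {s : Fin 6 → ℤˣ} (hx : Sgn b x s) :
    (x : Matrix ι ι F).det = ∏ j, sg F (s j) := by
  rw [det_eq_det b]
  have : (Matrix.of fun i j => b.repr (ap x (b j)) i) = Matrix.diagonal fun j => sg F (s j) := by
    ext i j
    rw [Matrix.of_apply, hx j, map_smul, Finsupp.smul_apply, b.repr_self, smul_eq_mul, Matrix.diagonal_apply,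
      Finsupp.single_apply]
    by_cases h : j = i
    · subst h; simp
    · rw [if_neg h, if_neg (Ne.symm h), mul_zero]
  rw [this, Matrix.det_diagonal]

theorem sg_prod (s : Fin 6 → ℤˣ) : ∏ j, sg F (s j) = sg F (∏ j, s j) := by
  simp only [sg]
  push_cast
  rfl

/-- the frame `b` of a set `D` of sign changes -/
structure Frm (b : Basis (Fin 6) F (ι → F)) (D : Set (GL ι F)) : Prop where
  diag : ∀ x ∈ D, ∃ s : Fin 6 → ℤˣ, ∏ i, s i = 1 ∧ Sgn b x s
  full : ∀ s : Fin 6 → ℤˣ, ∏ i, s i = 1 → ∃ x ∈ D, Sgn b x s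

namespace Setup

variable {TV : Set T} (S : Setup P C TV) {R : Subgroup T}
include S

theorem IL_one_iff {x : GL ι F} : IL C x 1 ↔ x = 1 ∨ x = m1 := by
  have h1 : IL C (1 : GL ι F) 1 := ⟨Cov.L.one, one_mul 1⟩
  constructor
  · intro h
    rcases S.IL_unique h h1 with h | h
    · exact Or.inl h
    · rw [mul_one] at h; exact Or.inr h
  · rintro (rfl | rfl)
    · exact h1
    · have := S.IL_neg h1
      rwa [mul_one] at this

theorem dd_comm (hR : Rad TV R) {x y : GL ι F} (hx : x ∈ DD C R) (hy : y ∈ DD C R) : x * y = y * x := by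
  obtain ⟨r, hr, hx⟩ := hx
  obtain ⟨s, hs, hy⟩ := hy
  by_cases h1 : r = 1
  · subst h1
    rcases S.IL_one_iff.1 hx with rfl | rfl
    · rw [one_mul, mul_one]
    · exact m1_comm y
  by_cases h2 : s = 1
  · subst h2
    rcases S.IL_one_iff.1 hy with rfl | rfl
    · rw [one_mul, mul_one]
    · exact (m1_comm x).symm
  by_cases h3 : r * s = 1
  · have h4 : s = r := by
      have := S.sq r (hR.mem r hr h1)
      rw [← this] at h3
      exact mul_left_cancel h3
    subst h4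
    rcases S.IL_unique hx hy with h | h
    · rw [h]
    · rw [h]
      calc m1 * y * y = m1 * (y * y) := by group
        _ = (y * y) * m1 := m1_comm _
        _ = y * (y * m1) := by group
        _ = y * (m1 * y) := by rw [m1_comm y]
  · exact (S.IL_comm hx hy (hR.comm r hr s hs) (hR.mem _ (mul_mem hr hs) h3)).1

theorem exists_IL' (hR : Rad TV R) {r : T} (hr : r ∈ R) : ∃ x, IL C x r := by
  by_cases h : r = 1
  · subst h; exact ⟨1, S.IL_one_iff.2 (Or.inl rfl)⟩
  · exact S.exists_IL (hR.mem r hr h)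

omit S in
theorem dd_conj {x g : GL ι F} {γ : T} (hx : x ∈ DD C R) (hg : C.L g γ) (hn : ∀ r ∈ R, γ * r * γ⁻¹ ∈ R) :
    g * x * g⁻¹ ∈ DD C R := by
  obtain ⟨r, hr, hx⟩ := hx
  exact ⟨_, hn r hr, IL_conj hx hg⟩

/-- **The frame.** -/
theorem exists_frame (hR : Rad TV R) (hdet : ∀ x ∈ P, (x : Matrix ι ι F).det = 1) :
    ∃ b : Basis (Fin 6) F (ι → F), Frm b (DD C R) := by
  classical
  have hRf : Finite R := Nat.finite_of_card_ne_zero (by rw [hR.card]; norm_num)
  -- choose lifts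
  choose l hl using fun r : R => S.exists_IL' hR r.2
  obtain ⟨b, hb⟩ := H100.Diag.exists_basis (K := F) (V := ι → F) S.two
    (fun r : R => Matrix.toLin' ((l r : GL ι F) : Matrix ι ι F))
    (by
      intro i j v
      have h := S.dd_comm hR (x := l i) (y := l j) ⟨i, i.2, hl i⟩ ⟨j, j.2, hl j⟩
      simp only [Matrix.toLin'_apply]
      change ap _ (ap _ v) = ap _ (ap _ v)
      rw [← ap_mul, ← ap_mul, h])
    (by
      intro i v
      simp only [Matrix.toLin'_apply]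
      change ap _ (ap _ v) = v
      rw [← ap_mul, (hl i).2, ap_one])
    (n := 6) (by rw [Module.finrank_fintype_fun_eq_card, S.card])
  have hsgn : ∀ r : R, ∃ s : Fin 6 → ℤˣ, Sgn b (l r) s := by
    intro r
    have : ∀ j, ∃ u : ℤˣ, ap (l r) (b j) = sg F u • b j := by
      intro j
      rcases hb r j with h | h
      · refine ⟨1, ?_⟩
        rw [sg_one, one_smul]
        simpa only [Matrix.toLin'_apply] using h
      · refine ⟨-1, ?_⟩
        rw [sg_neg_one, neg_one_smul]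
        simpa only [Matrix.toLin'_apply] using h
    choose s hs using this
    exact ⟨s, hs⟩
  choose sl hsl using hsgn
  have hprod : ∀ (x : GL ι F) (s : Fin 6 → ℤˣ), x ∈ P → Sgn b x s → ∏ i, s i = 1 := by
    intro x s hx hs
    have h1 := hs.det
    rw [hdet x hx, sg_prod] at h1
    exact sg_inj S.two (by rw [← h1, sg_one])
  have hdiag : ∀ x ∈ DD C R, ∃ s : Fin 6 → ℤˣ, ∏ i, s i = 1 ∧ Sgn b x s := by
    rintro x ⟨r, hr, hx⟩
    rcases S.IL_unique hx (hl ⟨r, hr⟩) with h | h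
    · have h1 : Sgn b x (sl ⟨r, hr⟩) := by rw [h]; exact hsl _
      exact ⟨_, hprod x _ hx.1.mem h1, h1⟩
    · have h1 : Sgn b x ((fun _ => -1) * sl ⟨r, hr⟩) := by rw [h]; exact (Sgn.m1 b).mul (hsl _)
      exact ⟨_, hprod x _ hx.1.mem h1, h1⟩
  refine ⟨b, hdiag, ?_⟩
  let f : R × ℤˣ → Ev := fun p => ⟨(fun _ => p.2) * sl p.1, by
    rcases sg_cases p.2 with h | h
    · rw [h]
      have h1 := hprod _ _ (hl p.1).1.mem (hsl p.1)
      simpa using h1
    · rw [h]
      exact hprod _ _ (S.IL_neg (hl p.1)).1.mem ((Sgn.m1 b).mul (hsl p.1))⟩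
  have hlift : ∀ p : R × ℤˣ, ∃ x, IL C x (p.1 : T) ∧ Sgn b x (f p).1 := by
    rintro ⟨r, u⟩
    rcases sg_cases u with h | h
    · subst h
      refine ⟨l r, hl r, ?_⟩
      have h1 := (Sgn.one (F := F) (ι := ι) b).mul (hsl r)
      rw [one_mul] at h1
      exact h1
    · subst h
      exact ⟨m1 * l r, S.IL_neg (hl r), (Sgn.m1 b).mul (hsl r)⟩
  have hinj : Function.Injective f := by
    intro p q hpq
    obtain ⟨x, hx, hxs⟩ := hlift p
    obtain ⟨y, hy, hys⟩ := hlift q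
    have h1 : (f p).1 = (f q).1 := by rw [hpq]
    rw [h1] at hxs
    have h2 : x = y := hxs.eq hys
    subst h2
    have h3 : p.1 = q.1 := Subtype.ext (hx.1.unique hy.1)
    have h4 : (fun _ : Fin 6 => p.2) * sl p.1 = (fun _ => q.2) * sl q.1 := h1
    rw [h3] at h4
    have h5 := congrFun (mul_right_cancel h4) 0
    exact Prod.ext h3 h5
  have hcard : Nat.card Ev ≤ Nat.card (R × ℤˣ) := by
    rw [Nat.card_prod, hR.card, Nat.card_eq_fintype_card, Nat.card_eq_fintype_card, card_Ev]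
    decide
  have hbij := hinj.bijective_of_nat_card_le hcard
  intro s hs
  obtain ⟨p, hp⟩ := hbij.2 ⟨s, hs⟩
  obtain ⟨x, hx, hxs⟩ := hlift p
  rw [hp] at hxs
  exact ⟨x, ⟨_, p.1.2, hx⟩, hxs⟩

end Setup

end Cfsg.Agent.H913.N6
end

-- part: H913/N6Par
section
/-!
# Monomial elements and the parity argument (helper913)
-/

set_option autoImplicit false
set_option linter.unusedSectionVars false

namespace Cfsg.Agent.H913.N6

open Cfsg Cfsg.Geo Matrix Module
open Cfsg.Agent.H915.LD (Core Soc toSoc tr)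

variable {ι : Type} [Fintype ι] [DecidableEq ι] {F : Type*} [Field F] {P H : Subgroup (GL ι F)}
  {T : Type*} [Group T] {C : Cov P T}

/-- `g` is monomial in `b` -/
def Mono (b : Fin 6 → ι → F) (g : GL ι F) (σ : Fin 6 → Fin 6) (a : Fin 6 → F) : Prop :=
  ∀ i, a i ≠ 0 ∧ ap g (b i) = a i • b (σ i)

/-- the sign change at `i` and `j` -/
def sij (i j : Fin 6) : Fin 6 → ℤˣ := fun k => if k = i ∨ k = j then -1 else 1

theorem sij_prod {i j : Fin 6} (h : i ≠ j) : ∏ k, sij i j k = 1 := by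
  revert h
  revert i j
  decide +kernel

theorem exists_mono {b : Basis (Fin 6) F (ι → F)} {D : Set (GL ι F)} (hb : Frm b D) (h2 : (2 : F) ≠ 0) {g : GL ι F}
    (hg : ∀ x ∈ D, g⁻¹ * x * g ∈ D) : ∃ σ a, Mono b g σ a := by
  classical
  have key : ∀ i, ∃ (j : Fin 6) (c : F), c ≠ 0 ∧ ap g (b i) = c • b j := by
    intro i
    set v := ap g (b i) with hv
    have hv0 : v ≠ 0 := by
      intro h
      have h1 : b i = 0 := by
        rw [← ap_one (b i), ← inv_mul_cancel g, ap_mul, ← hv, h, ap_zero]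
      exact b.ne_zero i h1
    have h1 : ∀ z ∈ D, ∃ u : ℤˣ, ap z v = sg F u • v := by
      intro z hz
      obtain ⟨s, -, hs⟩ := hb.diag _ (hg z hz)
      refine ⟨s i, ?_⟩
      have h3 := hs i
      have h4 : ap z v = ap g (ap (g⁻¹ * z * g) (b i)) := by
        have e1 : z * g = g * (g⁻¹ * z * g) := by group
        rw [hv, ← ap_mul, ← ap_mul, ← e1]
      rw [h4, h3, ap_smul]
    obtain ⟨k, hk⟩ : ∃ k, b.repr v k ≠ 0 := by
      by_contra hcon
      push_neg at hcon
      apply hv0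
      rw [← b.sum_repr v]
      exact Finset.sum_eq_zero fun k _ => by rw [hcon k, zero_smul]
    have h5 : ∀ l, l ≠ k → b.repr v l = 0 := by
      intro l hl
      by_contra hne
      obtain ⟨m, hmk, hml⟩ : ∃ m : Fin 6, m ≠ k ∧ m ≠ l := by
        clear * -
        revert k l
        decide +kernel
      obtain ⟨z, hz, hzs⟩ := hb.full (sij k m) (sij_prod hmk.symm)
      obtain ⟨u, hu⟩ := h1 z hz
      have h6 : ∀ t, b.repr (ap z v) t = sg F (sij k m t) * b.repr v t := by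
        intro t
        have h7 : ap z v = ∑ t, b.repr v t • ap z (b t) := by
          conv_lhs => rw [← b.sum_repr v]
          rw [ap_sum]
          refine Finset.sum_congr rfl fun t _ => ?_
          rw [ap_smul]
        rw [h7, map_sum, Finsupp.finset_sum_apply]
        rw [Finset.sum_eq_single t]
        · rw [hzs t, map_smul, map_smul, Finsupp.smul_apply, Finsupp.smul_apply, b.repr_self,
            Finsupp.single_eq_same, smul_eq_mul, smul_eq_mul, mul_one, mul_comm]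
        · intro t' _ ht'
          rw [hzs t', map_smul, map_smul, Finsupp.smul_apply, Finsupp.smul_apply, b.repr_self,
            Finsupp.single_eq_of_ne ht'.symm, smul_zero, smul_zero]
        · intro h; exact absurd (Finset.mem_univ t) h
      have h8 := h6 k
      have h9 := h6 l
      rw [hu, map_smul, Finsupp.smul_apply, smul_eq_mul] at h8 h9
      have e1 : sij k m k = -1 := by simp [sij]
      have e2 : sij k m l = 1 := by simp [sij, hl, hml.symm]
      rw [e1] at h8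
      rw [e2] at h9
      have h10 := sg_inj h2 (mul_right_cancel₀ hk h8)
      have h11 := sg_inj h2 (mul_right_cancel₀ hne h9)
      rw [h10] at h11
      exact absurd h11 (by decide)
    refine ⟨k, b.repr v k, hk, ?_⟩
    conv_lhs => rw [← b.sum_repr v]
    rw [Finset.sum_eq_single k]
    · intro l _ hl
      rw [h5 l hl, zero_smul]
    · intro h; exact absurd (Finset.mem_univ k) h
  choose σ a h using key
  exact ⟨σ, a, h⟩

theorem Mono.inj {b : Basis (Fin 6) F (ι → F)} {g : GL ι F} {σ : Fin 6 → Fin 6} {a : Fin 6 → F} (h : Mono b g σ a) :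
    Function.Injective σ := by
  intro i j hij
  by_contra hne
  have h1 := (h i).2
  have h2 := (h j).2
  rw [hij] at h1
  have h3 : ap g (a j • b i - a i • b j) = 0 := by
    rw [ap_sub, ap_smul, ap_smul, h1, h2, smul_smul, smul_smul, mul_comm, sub_self]
  have h4 : a j • b i - a i • b j = 0 := by
    rw [← ap_one (a j • b i - a i • b j), ← inv_mul_cancel g, ap_mul, h3, ap_zero]
  have h5 := congrArg (fun v => b.repr v j) h4
  simp only [map_sub, map_smul, Finsupp.sub_apply, Finsupp.smul_apply, b.repr_self, smul_eq_mul, map_zero,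
    Finsupp.zero_apply] at h5
  rw [Finsupp.single_eq_of_ne (Ne.symm hne), Finsupp.single_eq_same, mul_zero, mul_one, zero_sub, neg_eq_zero] at h5
  exact (h i).1 h5

/-- the trace of a monomial element -/
theorem Mono.tr {b : Basis (Fin 6) F (ι → F)} {g : GL ι F} {σ : Fin 6 → Fin 6} {a : Fin 6 → F} (h : Mono b g σ a) :
    tr g = ∑ i, if σ i = i then a i else 0 := by
  rw [tr_eq_sum b]
  refine Finset.sum_congr rfl fun i _ => ?_
  rw [(h i).2, map_smul, Finsupp.smul_apply, b.repr_self, smul_eq_mul, Finsupp.single_apply]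
  split_ifs with h1 <;> simp

theorem ev_cases : ∀ s : Ev, s.1 = 1 ∨ s.1 = (fun _ => -1) ∨ ∑ i, ((s.1 i : ℤ)) = 2 ∨ ∑ i, ((s.1 i : ℤ)) = -2 := by
  decide +kernel

theorem sum_sg (s : Fin 6 → ℤˣ) : ∑ i, sg F (s i) = ((∑ i, ((s i : ℤ)) : ℤ) : F) := by
  simp only [sg]; push_cast; rfl

theorem tr_m1_mul (x : GL ι F) : tr (m1 * x) = - tr x := by
  rw [tr, tr, Units.val_mul, m1, sc_neg_one, neg_one_mul, Matrix.trace_neg]

namespace Setup

variable {TV : Set T} (S : Setup P C TV) {R : Subgroup T}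
include S

/-- an involutory lift of a nontrivial element has trace `± 2` -/
theorem tr_dd {b : Basis (Fin 6) F (ι → F)} (hb : Frm b (DD C R)) {x : GL ι F} {r : T} (hr : r ∈ R) (hr1 : r ≠ 1)
    (hx : IL C x r) : tr x = 2 ∨ tr x = -2 := by
  obtain ⟨s, hs, hxs⟩ := hb.diag x ⟨r, hr, hx⟩
  rcases ev_cases ⟨s, hs⟩ with h | h | h | h
  · exfalso
    have h' : s = 1 := h
    subst h'
    have h1 : x = 1 := hxs.eq (Sgn.one b)
    rw [h1] at hx
    exact hr1 (hx.1.unique Cov.L.one)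
  · exfalso
    have h' : s = fun _ => -1 := h
    subst h'
    have h1 : x = m1 := hxs.eq (Sgn.m1 b)
    rw [h1] at hx
    exact hr1 (hx.1.unique (Cov.L.of_sc S.neg))
  · left
    rw [hxs.tr, sum_sg]
    change (((∑ i, ((s i : ℤ)) : ℤ)) : F) = 2
    rw [show ∑ i, ((s i : ℤ)) = 2 from h]; norm_num
  · right
    rw [hxs.tr, sum_sg]
    change (((∑ i, ((s i : ℤ)) : ℤ)) : F) = -2
    rw [show ∑ i, ((s i : ℤ)) = -2 from h]; norm_num

/-- every class element: trace `± 2` -/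
theorem tr_cl {b : Basis (Fin 6) F (ι → F)} (hR : Rad TV R) (hb : Frm b (DD C R)) {x : GL ι F} {τ : T} (hτ : τ ∈ TV)
    (hx : IL C x τ) : tr x = 2 ∨ tr x = -2 := by
  have hRf : Finite R := Nat.finite_of_card_ne_zero (by rw [hR.card]; norm_num)
  obtain ⟨r, hr, hr1⟩ : ∃ r ∈ R, r ≠ 1 := by
    have : Nontrivial R := Finite.one_lt_card_iff_nontrivial.1 (by rw [hR.card]; norm_num)
    obtain ⟨r, hr⟩ := exists_ne (1 : R)
    exact ⟨r, r.2, fun h => hr (Subtype.ext h)⟩
  obtain ⟨g, hg⟩ := S.isConj τ hτ r (hR.mem r hr hr1)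
  obtain ⟨k, hk⟩ := C.exists_lift g
  have h1 := IL_conj hx hk
  rw [hg] at h1
  have h2 := S.tr_dd hb hr hr1 h1
  rwa [H915.LD.tr_conj] at h2

/-- the involutory lift with trace `c = ± 2` -/
theorem exists_tr {b : Basis (Fin 6) F (ι → F)} (hR : Rad TV R) (hb : Frm b (DD C R)) {τ : T} (hτ : τ ∈ TV)
    {c : F} (hc : c = 2 ∨ c = -2) : ∃ x, IL C x τ ∧ tr x = c := by
  obtain ⟨x, hx⟩ := S.exists_IL hτ
  have h1 := S.tr_cl hR hb hτ hx
  by_cases h : tr x = c
  · exact ⟨x, hx, h⟩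
  · refine ⟨m1 * x, S.IL_neg hx, ?_⟩
    rw [tr_m1_mul]
    rcases h1 with h1 | h1 <;> rcases hc with rfl | rfl
    · exact absurd h1 h
    · rw [h1]
    · rw [h1]; ring
    · exact absurd h1 h

theorem tr_unique {x y : GL ι F} {τ : T} (hx : IL C x τ) (hy : IL C y τ) (h : tr x = tr y)
    (h2 : tr y = 2 ∨ tr y = -2) : x = y := by
  rcases S.IL_unique hx hy with h1 | h1
  · exact h1
  · exfalso
    rw [h1, tr_m1_mul] at h
    have h3 : 2 * tr y = 0 := by linear_combination -h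
    rcases mul_eq_zero.1 h3 with h4 | h4
    · exact S.two h4
    · rw [h4] at h2
      rcases h2 with h2 | h2
      · exact S.two h2.symm
      · exact S.two (by linear_combination h2)

end Setup

/-- sign vectors of trace 2 -/
abbrev E2 := {s : Fin 6 → ℤˣ // ∏ i, s i = 1 ∧ ∑ i, ((s i : ℤ)) = 2}

theorem prod_E2 : ∏ s : E2, s.1 0 = -1 := by decide +kernel

/-- the data of the parity argument -/
structure ParD (R : Subgroup T) {E : Type*} (f : E → T) (μ : Equiv.Perm E) : Prop where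
  inj : Function.Injective f
  mem : ∀ e, f e ∈ R
  ne : ∀ e, f e ≠ 1
  surj : ∀ t ∈ R, t ≠ 1 → ∃ e, f e = t
  prod : ∀ r, f r * f (μ r) * f (μ (μ r)) = 1
  trans : ∀ r r', ∃ γ : T, γ * f r * γ⁻¹ = f r' ∧
    γ * f (μ r) * γ⁻¹ = f (μ r') ∧ γ * f (μ (μ r)) * γ⁻¹ = f (μ (μ r'))

namespace Setup

variable {TV : Set T} (S : Setup P C TV) {R : Subgroup T}
include S

theorem parity {b : Basis (Fin 6) F (ι → F)} (hR : Rad TV R) (hb : Frm b (DD C R)) {E : Type*} {f : E → T}
    {μ : Equiv.Perm E} (hμ : ParD R f μ) {x y z : GL ι F} (r : E) (hx : IL C x (f r)) (hx2 : tr x = 2)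
    (hy : IL C y (f (μ r))) (hy2 : tr y = 2) (hz : IL C z (f (μ (μ r)))) (hz2 : tr z = 2) :
    x * y = m1 * z := by
  classical
  have hRf : Finite R := Nat.finite_of_card_ne_zero (by rw [hR.card]; norm_num)
  have : Fintype R := Fintype.ofFinite R
  have hfE : Finite E := Finite.of_injective (fun e : E => (⟨f e, hμ.mem e⟩ : R)) fun e e' h =>
    hμ.inj (congrArg Subtype.val h)
  have : Fintype E := Fintype.ofFinite E
  have hcl : ∀ r : E, f r ∈ TV := fun r => hR.mem _ (hμ.mem r) (hμ.ne r)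
  choose l hl hl2 using fun r : E => S.exists_tr hR hb (hcl r) (Or.inl rfl)
  have huniq : ∀ (r : E) (w : GL ι F), IL C w (f r) → tr w = 2 → w = l r := by
    intro r w hw hw2
    exact S.tr_unique hw (hl r) (by rw [hw2, hl2]) (Or.inl (hl2 r))
  have hmul : ∀ r, (f r) * (f (μ r)) = (f (μ (μ r))) := by
    intro r
    have h1 := hμ.prod r
    have h2 := S.sq _ (hcl (μ (μ r)))
    calc (f r) * (f (μ r)) =
        ((f r) * (f (μ r)) * (f (μ (μ r)))) * (f (μ (μ r)))⁻¹ := by group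
      _ = (f (μ (μ r)))⁻¹ := by rw [h1, one_mul]
      _ = (f (μ (μ r))) := by rw [inv_eq_iff_mul_eq_one, h2]
  have hIL : ∀ r, IL C (l r * l (μ r)) (f (μ (μ r))) := by
    intro r
    have h1 := S.IL_comm (hl r) (hl (μ r)) (hR.comm _ (hμ.mem r) _ (hμ.mem (μ r))) (by rw [hmul]; exact hcl _)
    rw [hmul] at h1
    exact h1.2
  have hpm : ∀ r, l r * l (μ r) = l (μ (μ r)) ∨ l r * l (μ r) = m1 * l (μ (μ r)) := fun r =>
    S.IL_unique (hIL r) (hl _)
  -- the sign is the same for all `r`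
  have hconst : ∀ r r', l r * l (μ r) = l (μ (μ r)) → l r' * l (μ r') = l (μ (μ r')) := by
    intro r r' h
    obtain ⟨γ, h1, h2, h3⟩ := hμ.trans r r'
    obtain ⟨g, hg⟩ := C.exists_lift γ
    have c1 : g * l r * g⁻¹ = l r' := by
      apply huniq
      · have := IL_conj (hl r) hg; rwa [h1] at this
      · rw [H915.LD.tr_conj, hl2]
    have c2 : g * l (μ r) * g⁻¹ = l (μ r') := by
      apply huniq
      · have := IL_conj (hl (μ r)) hg; rwa [h2] at this
      · rw [H915.LD.tr_conj, hl2]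
    have c3 : g * l (μ (μ r)) * g⁻¹ = l (μ (μ r')) := by
      apply huniq
      · have := IL_conj (hl (μ (μ r))) hg; rwa [h3] at this
      · rw [H915.LD.tr_conj, hl2]
    rw [← c1, ← c2, ← c3, ← h]
    group
  have hneg : ∀ r, l r * l (μ r) = m1 * l (μ (μ r)) := by
    by_contra hcon
    push_neg at hcon
    obtain ⟨r0, hr0⟩ := hcon
    have h0 := (hpm r0).resolve_right hr0
    have hall : ∀ r, l r * l (μ r) = l (μ (μ r)) := fun r => hconst r0 r h0
    -- the sign at `0`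
    have hs : ∀ r, ∃ s : E2, Sgn b (l r) s.1 := by
      intro r
      obtain ⟨s, hs, hls⟩ := hb.diag _ ⟨_, hμ.mem r, hl r⟩
      have h1 := hls.tr
      rw [hl2 r, sum_sg] at h1
      refine ⟨⟨s, hs, ?_⟩, hls⟩
      rcases ev_cases ⟨s, hs⟩ with h | h | h | h
      · exfalso
        have h' : s = 1 := h
        subst h'
        have h3 : l r = 1 := hls.eq (Sgn.one b)
        have h4 := hl r
        rw [h3] at h4
        exact hμ.ne r (h4.1.unique Cov.L.one)
      · exfalso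
        have h' : s = fun _ => -1 := h
        subst h'
        have h3 : l r = m1 := hls.eq (Sgn.m1 b)
        have h4 := hl r
        rw [h3] at h4
        exact hμ.ne r (h4.1.unique (Cov.L.of_sc S.neg))
      · exact h
      · exfalso
        rw [show ∑ i, ((s i : ℤ)) = -2 from h] at h1
        push_cast at h1
        have h5 : (2 : F) * 2 = 0 := by linear_combination h1
        rcases mul_eq_zero.1 h5 with h6 | h6 <;> exact S.two h6
    choose s hss using hs
    have hbij : Function.Bijective s := by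
      constructor
      · intro r r' h
        have h1 := hss r
        rw [h] at h1
        have h2 := h1.eq (hss r')
        have h3 := hl r
        rw [h2] at h3
        exact hμ.inj (h3.1.unique (hl r').1)
      · rintro ⟨t, ht, ht2⟩
        obtain ⟨w, ⟨τ, hτ, hw⟩, hwt⟩ := hb.full t ht
        have hτ1 : τ ≠ 1 := by
          rintro rfl
          rcases S.IL_one_iff.1 hw with h | h
          · rw [h] at hwt
            have := hwt.unique S.two (Sgn.one b)
            rw [this] at ht2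
            revert ht2; decide
          · rw [h] at hwt
            have := hwt.unique S.two (Sgn.m1 b)
            rw [this] at ht2
            revert ht2; decide
        have hw2 : tr w = 2 := by rw [hwt.tr, sum_sg, ht2]; norm_num
        obtain ⟨e, rfl⟩ := hμ.surj τ hτ hτ1
        refine ⟨e, ?_⟩
        have h1 := huniq e w hw hw2
        apply Subtype.ext
        have h2 := hss e
        rw [← h1] at h2
        exact h2.unique S.two hwt
    have hprod : ∏ r, (s r).1 0 = -1 := by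
      rw [← prod_E2]
      exact Fintype.prod_bijective s hbij _ _ fun _ => rfl
    have hrel : ∀ r, (s r).1 0 * (s (μ r)).1 0 = (s (μ (μ r))).1 0 := by
      intro r
      have h1 := (hss r).mul (hss (μ r))
      rw [hall r] at h1
      have h2 := h1.unique S.two (hss (μ (μ r)))
      have h3 := congrFun h2 0
      exact h3
    have e1 : ∏ r, (s (μ r)).1 0 = ∏ r, (s r).1 0 := Equiv.prod_comp μ fun r => (s r).1 0
    have e2 : ∏ r, (s (μ (μ r))).1 0 = ∏ r, (s r).1 0 := by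
      rw [← e1]
      exact Equiv.prod_comp μ fun r => (s (μ r)).1 0
    have e3 : ∏ r, ((s r).1 0 * (s (μ r)).1 0) = ∏ r, (s (μ (μ r))).1 0 := Finset.prod_congr rfl fun r _ => hrel r
    rw [Finset.prod_mul_distrib, e1, e2, hprod] at e3
    revert e3; decide
  rw [huniq r x hx hx2, huniq _ y hy hy2, huniq _ z hz hz2]
  exact hneg r

end Setup

end Cfsg.Agent.H913.N6
end

-- part: H913/N6Ico
section
/-!
# The normal form of the monomial action of `SL_2(4)` (helper913)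
-/

set_option autoImplicit false
set_option linter.unusedSectionVars false

namespace Cfsg.Agent.H913.N6

open Cfsg Cfsg.Geo Matrix
open Module (Basis)
open Cfsg.Agent.H915.LD (Core Soc toSoc tr)

/-- combinatorics of a dihedral group of order 10 on six points -/
theorem comb {τ σ : Fin 6 → Fin 6} (hτ : Function.Injective τ) (h5 : ∀ i, τ^[5] i = i) (hσ : ∀ i, σ (σ i) = i)
    (h : ∀ i, τ (σ (τ i)) = σ i) (hne : ∃ i, τ i ≠ i) : ∃ e : Equiv.Perm (Fin 6),
      (τ (e 0) = e 0 ∧ τ (e 1) = e 2 ∧ τ (e 2) = e 3 ∧ τ (e 3) = e 4 ∧ τ (e 4) = e 5 ∧ τ (e 5) = e 1) ∧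
      (σ (e 0) = e 0 ∧ σ (e 1) = e 1 ∧ σ (e 2) = e 5 ∧ σ (e 3) = e 4 ∧ σ (e 4) = e 3 ∧ σ (e 5) = e 2) := by
  have hσi : Function.Injective σ := fun i j hij => by rw [← hσ i, hij, hσ]
  have hk : ∀ (k : ℕ) i, τ^[k] (σ (τ^[k] i)) = σ i := by
    intro k
    induction k with
    | zero => intro i; rfl
    | succ k ih =>
      intro i
      rw [Function.iterate_succ_apply' τ k i, Function.iterate_succ_apply, h, ih]
  have hdis : ∀ i, τ i ≠ i → ∀ j k : ℕ, j < k → k < 5 → τ^[j] i ≠ τ^[k] i := by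
    intro i hi j k hjk hk5 he
    obtain ⟨r, rfl⟩ := Nat.exists_eq_add_of_lt hjk
    have e1 : τ^[j + r + 1] i = τ^[j] (τ^[r + 1] i) := by
      rw [← Function.iterate_add_apply, add_assoc]
    rw [e1] at he
    have e2 : i = τ^[r + 1] i := (hτ.iterate j) he
    have h5i := h5 i
    have hr : r < 4 := by omega
    apply hi
    interval_cases r
    · exact e2.symm
    · have e3 : τ^[4] i = i := by
        rw [show (4 : ℕ) = (1 + 1) + (1 + 1) by norm_num, Function.iterate_add_apply, ← e2, ← e2]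
      rw [show (5 : ℕ) = 1 + 4 by norm_num, Function.iterate_add_apply, e3] at h5i
      exact h5i
    · have e3 := Function.iterate_add_apply τ (2 + 1) (2 + 1) i
      rw [← e2, ← e2] at e3
      have e4 := Function.iterate_add_apply τ 1 5 i
      rw [h5i] at e4
      exact e4.symm.trans e3
    · rw [show (5 : ℕ) = 1 + (3 + 1) by norm_num, Function.iterate_add_apply, ← e2] at h5i
      exact h5i
  -- the enumeration starting from a moved point
  have enum : ∀ i, τ i ≠ i → ∃ e : Equiv.Perm (Fin 6), e 1 = i ∧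
      (τ (e 0) = e 0 ∧ τ (e 1) = e 2 ∧ τ (e 2) = e 3 ∧ τ (e 3) = e 4 ∧ τ (e 4) = e 5 ∧ τ (e 5) = e 1) := by
    intro i hi
    have d := hdis i hi
    have h5i := h5 i
    obtain ⟨j0, hj0⟩ : ∃ j0 : Fin 6, j0 ∉ ({i, τ i, τ (τ i), τ (τ (τ i)), τ (τ (τ (τ i)))} : Finset (Fin 6)) := by
      by_contra hcon
      push Not at hcon
      have h1 : (Finset.univ : Finset (Fin 6)) ⊆ ({i, τ i, τ (τ i), τ (τ (τ i)), τ (τ (τ (τ i)))} : Finset (Fin 6)) :=
        fun j _ => hcon j
      have h2 := Finset.card_le_card h1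
      rw [Finset.card_univ, Fintype.card_fin] at h2
      have h3 : (({i, τ i, τ (τ i), τ (τ (τ i)), τ (τ (τ (τ i)))} : Finset (Fin 6))).card ≤ 5 := Finset.card_le_five
      omega
    simp only [Finset.mem_insert, Finset.mem_singleton, not_or] at hj0
    obtain ⟨q0, q1, q2, q3, q4⟩ := hj0
    have d01 := d 0 1 (by norm_num) (by norm_num)
    have d02 := d 0 2 (by norm_num) (by norm_num)
    have d03 := d 0 3 (by norm_num) (by norm_num)
    have d04 := d 0 4 (by norm_num) (by norm_num)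
    have d12 := d 1 2 (by norm_num) (by norm_num)
    have d13 := d 1 3 (by norm_num) (by norm_num)
    have d14 := d 1 4 (by norm_num) (by norm_num)
    have d23 := d 2 3 (by norm_num) (by norm_num)
    have d24 := d 2 4 (by norm_num) (by norm_num)
    have d34 := d 3 4 (by norm_num) (by norm_num)
    simp only [Function.iterate_succ, Function.iterate_zero, Function.comp_apply, id] at d01 d02 d03 d04 d12 d13 d14 d23 d24 d34 h5i
    let f : Fin 6 → Fin 6 := ![j0, i, τ i, τ (τ i), τ (τ (τ i)), τ (τ (τ (τ i)))]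
    have hf : Function.Injective f := by
      intro a b hab
      fin_cases a <;> fin_cases b <;> simp [f] at hab ⊢ <;>
        [exact absurd hab q0; exact absurd hab q1; exact absurd hab q2; exact absurd hab q3; exact absurd hab q4; exact absurd hab.symm q0;
         exact absurd hab d01; exact absurd hab d02; exact absurd hab d03; exact absurd hab d04; exact absurd hab.symm q1; exact absurd hab.symm d01;
         exact absurd hab d12; exact absurd hab d13; exact absurd hab d14; exact absurd hab.symm q2; exact absurd hab.symm d02; exact absurd hab.symm d12;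
         exact absurd hab d23; exact absurd hab d24; exact absurd hab.symm q3; exact absurd hab.symm d03; exact absurd hab.symm d13; exact absurd hab.symm d23;
         exact absurd hab d34; exact absurd hab.symm q4; exact absurd hab.symm d04; exact absurd hab.symm d14; exact absurd hab.symm d24;
         exact absurd hab.symm d34]
    have hb := Finite.injective_iff_bijective.1 hf
    refine ⟨Equiv.ofBijective f hb, rfl, ?_, rfl, rfl, rfl, rfl, ?_⟩
    · change τ j0 = j0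
      obtain ⟨a, ha⟩ := hb.2 (τ j0)
      fin_cases a
      · exact ha.symm
      · exfalso
        change i = τ j0 at ha
        rw [← h5i] at ha
        exact q4 (hτ ha).symm
      · exact absurd (hτ (show τ i = τ j0 from ha)).symm q0
      · exact absurd (hτ (show τ (τ i) = τ j0 from ha)).symm q1
      · exact absurd (hτ (show τ (τ (τ i)) = τ j0 from ha)).symm q2
      · exact absurd (hτ (show τ (τ (τ (τ i))) = τ j0 from ha)).symm q3
    · change τ (τ (τ (τ (τ i)))) = i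
      exact h5i
  obtain ⟨i0, hi0⟩ := hne
  -- a moved point fixed by `σ`
  obtain ⟨i1, hi1, hσ1⟩ : ∃ i1, τ i1 ≠ i1 ∧ σ i1 = i1 := by
    obtain ⟨e, he, h0, h1, h2, h3, h4, h6⟩ := enum i0 hi0
    have hs : τ (σ i0) ≠ σ i0 := by
      intro h7
      have h8 := h i0
      rw [← h7] at h8
      exact hi0 (hσi (hτ h8))
    have hmv : ∀ k : ℕ, τ (τ^[k] i0) ≠ τ^[k] i0 := by
      intro k hk'
      rw [← Function.iterate_succ_apply' τ k, Function.iterate_succ_apply] at hk'
      exact hi0 ((hτ.iterate k) hk')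
    obtain ⟨a, ha⟩ : ∃ a : ℕ, σ i0 = τ^[a] i0 := by
      obtain ⟨j, hj⟩ := e.surjective (σ i0)
      rw [← hj] at hs
      rw [← hj, ← he]
      fin_cases j
      · exact absurd h0 hs
      · exact ⟨0, rfl⟩
      · exact ⟨1, h1.symm⟩
      · refine ⟨2, ?_⟩
        change e 3 = τ (τ (e 1))
        rw [h1, h2]
      · refine ⟨3, ?_⟩
        change e 4 = τ (τ (τ (e 1)))
        rw [h1, h2, h3]
      · refine ⟨4, ?_⟩
        change e 5 = τ (τ (τ (τ (e 1))))
        rw [h1, h2, h3, h4]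
    refine ⟨τ^[3 * a] i0, hmv _, ?_⟩
    apply hτ.iterate (3 * a)
    rw [hk, ha, ← Function.iterate_add_apply]
    have h55 : ∀ (k : ℕ) i, τ^[5 * k] i = i := by
      intro k i
      induction k with
      | zero => rfl
      | succ k ih => rw [mul_add, mul_one, Function.iterate_add_apply, h5, ih]
    rw [show 3 * a + 3 * a = a + 5 * a by ring, Function.iterate_add_apply, h55]
  obtain ⟨e, he, h0, h1, h2, h3, h4, h6⟩ := enum i1 hi1
  refine ⟨e, ⟨h0, h1, h2, h3, h4, h6⟩, ?_, ?_, ?_, ?_, ?_, ?_⟩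
  · have h7 : τ (σ (e 0)) = σ (e 0) := by
      have := h (e 0)
      rwa [h0] at this
    obtain ⟨j, hj⟩ := e.surjective (σ (e 0))
    rw [← hj] at h7 ⊢
    fin_cases j
    · rfl
    · have h8 : τ (e 1) = e 1 := h7
      rw [he] at h8
      exact absurd h8 hi1
    · have h8 : τ (e 2) = e 2 := h7
      rw [h2] at h8
      exact absurd (e.injective h8) (by decide)
    · have h8 : τ (e 3) = e 3 := h7
      rw [h3] at h8
      exact absurd (e.injective h8) (by decide)
    · have h8 : τ (e 4) = e 4 := h7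
      rw [h4] at h8
      exact absurd (e.injective h8) (by decide)
    · have h8 : τ (e 5) = e 5 := h7
      rw [h6] at h8
      exact absurd (e.injective h8) (by decide)
  · rw [he]; exact hσ1
  · -- `σ (τ i) = τ⁴ i`
    have h7 := h (e 1)
    rw [he, hσ1, ← he, h1] at h7
    apply hτ
    rw [h7, h6]
  · have h7 : σ (e 2) = e 5 := by
      have h7 := h (e 1)
      rw [he, hσ1, ← he, h1] at h7
      apply hτ
      rw [h7, h6]
    have h8 := h (e 2)
    rw [h2, h7] at h8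
    apply hτ
    rw [h8, h4]
  · have h7 : σ (e 2) = e 5 := by
      have h7 := h (e 1)
      rw [he, hσ1, ← he, h1] at h7
      apply hτ
      rw [h7, h6]
    have h8 := h (e 2)
    rw [h2, h7] at h8
    have h9 : σ (e 3) = e 4 := by
      apply hτ
      rw [h8, h4]
    rw [← h9, hσ]
  · have h7 : σ (e 2) = e 5 := by
      have h7 := h (e 1)
      rw [he, hσ1, ← he, h1] at h7
      apply hτ
      rw [h7, h6]
    rw [← h7, hσ]

variable {ι : Type} [Fintype ι] [DecidableEq ι] {F : Type*} [Field F]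

theorem Mono.mul {b : Fin 6 → ι → F} {g h : GL ι F} {σ τ : Fin 6 → Fin 6} {a c : Fin 6 → F} (hg : Mono b g σ a)
    (hh : Mono b h τ c) : Mono b (g * h) (σ ∘ τ) (fun i => c i * a (τ i)) := by
  intro i
  refine ⟨mul_ne_zero (hh i).1 (hg _).1, ?_⟩
  rw [ap_mul, (hh i).2, ap_smul, (hg _).2, smul_smul]
  rfl

theorem Mono.unique {b : Basis (Fin 6) F (ι → F)} {g : GL ι F} {σ τ : Fin 6 → Fin 6} {a c : Fin 6 → F}
    (hg : Mono b g σ a) (hh : Mono b g τ c) : σ = τ ∧ a = c := by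
  have key : ∀ i, σ i = τ i ∧ a i = c i := by
    intro i
    have h1 := (hg i).2.symm.trans (hh i).2
    have h2 := congrArg (fun v => b.repr v (σ i)) h1
    simp only [map_smul, Finsupp.smul_apply, b.repr_self, Finsupp.single_eq_same, smul_eq_mul, mul_one,
      Finsupp.single_apply] at h2
    by_cases h : τ i = σ i
    · rw [if_pos h, mul_one] at h2
      exact ⟨h.symm, h2⟩
    · rw [if_neg h, mul_zero] at h2
      exact absurd h2 (hg i).1
  exact ⟨funext fun i => (key i).1, funext fun i => (key i).2⟩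

theorem Mono.one (b : Fin 6 → ι → F) : Mono b (1 : GL ι F) id 1 := by
  intro i
  refine ⟨one_ne_zero, ?_⟩
  rw [ap_one, Pi.one_apply, one_smul]; rfl

/-- `b'` is `b` up to scalars and order -/
def Reb (b b' : Basis (Fin 6) F (ι → F)) : Prop :=
  ∃ (e : Equiv.Perm (Fin 6)) (k : Fin 6 → F), ∀ i, k i ≠ 0 ∧ b' i = k i • b (e i)

theorem exists_reb (b : Basis (Fin 6) F (ι → F)) (e : Equiv.Perm (Fin 6)) (k : Fin 6 → F) (hk : ∀ i, k i ≠ 0) :
    ∃ b' : Basis (Fin 6) F (ι → F), ∀ i, b' i = k i • b (e i) := by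
  refine ⟨(b.reindex e.symm).isUnitSMul (w := k) (fun i => (hk i).isUnit), fun i => ?_⟩
  rw [Module.Basis.isUnitSMul_apply, Module.Basis.reindex_apply, Equiv.symm_symm]

theorem Reb.trans {b b' b'' : Basis (Fin 6) F (ι → F)} (h : Reb b b') (h' : Reb b' b'') : Reb b b'' := by
  obtain ⟨e, k, hk⟩ := h
  obtain ⟨e', k', hk'⟩ := h'
  refine ⟨e'.trans e, fun i => k' i * k (e' i), fun i => ⟨mul_ne_zero (hk' i).1 (hk _).1, ?_⟩⟩
  rw [(hk' i).2, (hk (e' i)).2, smul_smul]
  rfl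

theorem Mono.reb {b b' : Basis (Fin 6) F (ι → F)} (hr : Reb b b') {g : GL ι F} {σ : Fin 6 → Fin 6} {a : Fin 6 → F}
    (hg : Mono b g σ a) : ∃ σ' a', Mono b' g σ' a' := by
  obtain ⟨e, k, hk⟩ := hr
  refine ⟨fun i => e.symm (σ (e i)), fun i => k i * a (e i) * (k (e.symm (σ (e i))))⁻¹, fun i => ⟨?_, ?_⟩⟩
  · exact mul_ne_zero (mul_ne_zero (hk i).1 (hg _).1) (inv_ne_zero (hk _).1)
  · rw [(hk i).2, ap_smul, (hg _).2, (hk (e.symm (σ (e i)))).2, Equiv.apply_symm_apply, smul_smul, smul_smul,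
      inv_mul_cancel_right₀ (hk _).1]

theorem Frm.reb {b b' : Basis (Fin 6) F (ι → F)} (hr : Reb b b') {D : Set (GL ι F)} (hb : Frm b D) : Frm b' D := by
  obtain ⟨e, k, hk⟩ := hr
  constructor
  · intro x hx
    obtain ⟨s, hs, hxs⟩ := hb.diag x hx
    refine ⟨s ∘ e, ?_, fun i => ?_⟩
    · rw [← hs]
      exact Equiv.prod_comp e s
    · rw [(hk i).2, ap_smul, hxs, smul_comm]; rfl
  · intro s hs
    obtain ⟨x, hx, hxs⟩ := hb.full (s ∘ e.symm) (by rw [← hs]; exact Equiv.prod_comp e.symm s)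
    refine ⟨x, hx, fun i => ?_⟩
    rw [(hk i).2, ap_smul, hxs, smul_comm]
    simp

/-- fixed lines have sign `-1` -/
def FS (b : Basis (Fin 6) F (ι → F)) (g : GL ι F) : Prop := ∀ (i : Fin 6) (s : F), ap g (b i) = s • b i → s = -1

theorem FS.reb {b b' : Basis (Fin 6) F (ι → F)} (hr : Reb b b') {g : GL ι F} (h : FS b g) : FS b' g := by
  obtain ⟨e, k, hk⟩ := hr
  intro i s hs
  rw [(hk i).2, ap_smul, smul_comm] at hs
  refine h (e i) s ?_
  exact smul_right_injective _ (hk i).1 hs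

theorem FS.transport {b : Basis (Fin 6) F (ι → F)} {g g' d : GL ι F} {σ : Fin 6 → Fin 6} {a : Fin 6 → F}
    (hd : Mono b d σ a) (h : FS b g) (hdg : d * g * d⁻¹ = g') : FS b g' := by
  intro i s hs
  obtain ⟨j, rfl⟩ := (Finite.injective_iff_surjective.1 hd.inj) i
  refine h j s ?_
  have h1 : ap g' (ap d (b j)) = s • ap d (b j) := by
    rw [(hd j).2, ap_smul, hs, smul_comm]
  rw [← hdg, ← ap_mul] at h1
  have e1 : d * g * d⁻¹ * d = d * g := by group
  rw [e1, ap_mul, ← ap_smul] at h1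
  have h2 := congrArg (ap d⁻¹) h1
  have key : ∀ v, ap d⁻¹ (ap d v) = v := fun v => by rw [← ap_mul, inv_mul_cancel, ap_one]
  rwa [key, key] at h2

/-- the normal form -/
structure NF (w : Fin 6 → ι → F) (n m x : GL ι F) : Prop where
  c0 : ap (n * m) (w 0) = w 0
  c1 : ap (n * m) (w 1) = w 2
  c2 : ap (n * m) (w 2) = w 3
  c3 : ap (n * m) (w 3) = w 4
  c4 : ap (n * m) (w 4) = w 5
  c5 : ap (n * m) (w 5) = w 1
  n0 : ap n (w 0) = - w 0
  n1 : ap n (w 1) = - w 1
  n2 : ap n (w 2) = - w 5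
  n3 : ap n (w 3) = - w 4
  n4 : ap n (w 4) = - w 3
  n5 : ap n (w 5) = - w 2
  x0 : ap x (w 0) = w 1
  x1 : ap x (w 1) = w 0
  x2 : ap x (w 2) = w 5
  x3 : ap x (w 3) = - w 3
  x4 : ap x (w 4) = - w 4
  x5 : ap x (w 5) = w 2

theorem pm_of_sq' {ν : F} (h : ν * ν = 1) : ν = 1 ∨ ν = -1 := by
  have h1 : (ν - 1) * (ν + 1) = 0 := by linear_combination h
  rcases mul_eq_zero.1 h1 with h2 | h2
  · left; linear_combination h2
  · right; linear_combination h2

theorem smul_b_inj {b : Basis (Fin 6) F (ι → F)} {i : Fin 6} {s t : F} (h : s • b i = t • b i) : s = t := by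
  have h1 : (s - t) • b i = 0 := by rw [sub_smul, h, sub_self]
  rcases smul_eq_zero.1 h1 with h2 | h2
  · exact sub_eq_zero.1 h2
  · exact absurd h2 (b.ne_zero i)

theorem b_line {b : Basis (Fin 6) F (ι → F)} {i j : Fin 6} {s t : F} (hs : s ≠ 0) (h : s • b i = t • b j) : i = j := by
  by_contra hne
  have h2 := congrArg (fun v => b.repr v i) h
  simp only [map_smul, Finsupp.smul_apply, b.repr_self, Finsupp.single_eq_same, smul_eq_mul, mul_one] at h2
  rw [Finsupp.single_eq_of_ne hne, mul_zero] at h2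
  exact hs h2

end Cfsg.Agent.H913.N6
end

-- part: H913/N6Ico2
section
/-!
# The normal form: existence (helper913)
-/

set_option autoImplicit false
set_option linter.unusedSectionVars false

namespace Cfsg.Agent.H913.N6

open Cfsg Cfsg.Geo Matrix
open Module (Basis)
open Cfsg.Agent.H915.LD (Core Soc toSoc tr)

variable {ι : Type} [Fintype ι] [DecidableEq ι] {F : Type*} [Field F]

theorem Mono.pow {b : Fin 6 → ι → F} {g : GL ι F} {σ : Fin 6 → Fin 6} {a : Fin 6 → F} (hg : Mono b g σ a) (k : ℕ) :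
    ∃ c, Mono b (g ^ k) (σ^[k]) c := by
  induction k with
  | zero => exact ⟨1, by rw [pow_zero]; exact Mono.one b⟩
  | succ k ih =>
    obtain ⟨c, hc⟩ := ih
    exact ⟨_, by rw [pow_succ]; exact hc.mul hg⟩

theorem ap_cancel {g : GL ι F} {v w : ι → F} (h : ap g v = ap g w) : v = w := by
  have h2 := congrArg (ap g⁻¹) h
  have key : ∀ v, ap g⁻¹ (ap g v) = v := fun v => by rw [← ap_mul, inv_mul_cancel, ap_one]
  rwa [key, key] at h2

theorem exists_NF (h2 : (2 : F) ≠ 0) {b : Basis (Fin 6) F (ι → F)} {n m x d : GL ι F}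
    (hn : ∃ σ a, Mono b n σ a) (hm : ∃ σ a, Mono b m σ a) (hx : ∃ σ a, Mono b x σ a) (hd : ∃ σ a, Mono b d σ a)
    (nn : n * n = 1) (mm : m * m = 1) (xx : x * x = 1) (comm : x * n = n * x) (trn : tr n = -2)
    (dn : d * n * d⁻¹ = x) (dx : d * x * d⁻¹ = x * n) (five : (n * m) ^ 5 = 1) (three : (x * n * m) ^ 3 = 1)
    (hne : ∃ i, ∀ s : F, ap (n * m) (b i) ≠ s • b i) : ∃ w : Basis (Fin 6) F (ι → F), Reb b w ∧ NF w n m x := by
  obtain ⟨σ, an, hn⟩ := hn
  obtain ⟨σm, am, hm⟩ := hm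
  have hc := hn.mul hm
  obtain ⟨c, hcdef⟩ : ∃ c, n * m = c := ⟨_, rfl⟩
  rw [hcdef] at hc five hne
  generalize σ ∘ σm = τ at hc
  generalize (fun i => am i * an (σm i)) = k at hc
  have one_ne : (1 : F) ≠ -1 := fun h => h2 (by linear_combination h)
  -- combinatorics
  have h5 : ∀ i, τ^[5] i = i := by
    obtain ⟨a5, ha5⟩ := hc.pow 5
    rw [five] at ha5
    have := (ha5.unique (Mono.one b)).1
    intro i
    rw [this]; rfl
  have hσσ : ∀ i, σ (σ i) = i := by
    have h6 := hn.mul hn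
    rw [nn] at h6
    have := (h6.unique (Mono.one b)).1
    intro i
    exact congrFun this i
  have hcnc : c * n * c = n := by
    rw [← hcdef]
    calc n * m * n * (n * m) = n * m * (n * n) * m := by group
      _ = n * (m * m) := by rw [nn]; group
      _ = n := by rw [mm, mul_one]
  have hτσ : ∀ i, τ (σ (τ i)) = σ i := by
    have h6 := (hc.mul hn).mul hc
    rw [hcnc] at h6
    have := (h6.unique hn).1
    intro i
    exact congrFun this i
  obtain ⟨e, ⟨t0, t1, t2, t3, t4, t5⟩, s0, s1, s2, s3, s4, s5⟩ := comb hc.inj h5 hσσ hτσ (by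
    obtain ⟨i, hi⟩ := hne
    refine ⟨i, fun h => hi (k i) ?_⟩
    rw [(hc i).2, h])
  -- the first basis
  obtain ⟨b1, hb1⟩ := exists_reb b e
    ![1, 1, k (e 1), k (e 1) * k (e 2), k (e 1) * k (e 2) * k (e 3), k (e 1) * k (e 2) * k (e 3) * k (e 4)] (by
      have hk0 := fun i => (hc i).1
      intro i
      (revert i; simp only [hk0, _root_.Fin.forall_fin_succ, Fin.isValue, _root_.ne_eq, _root_.Matrix.cons_val_zero, _root_.one_ne_zero, _root_.not_false_eq_true, _root_.Matrix.cons_val_succ, _root_.mul_eq_zero, _root_.or_self, _root_.Matrix.cons_val_fin_one, _root_.implies_true, _root_.and_self]))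
  have hr1 : Reb b b1 := ⟨e, _, fun i => ⟨by
    have hk0 := fun i => (hc i).1
    (revert i; simp only [hk0, _root_.Fin.forall_fin_succ, Fin.isValue, _root_.ne_eq, _root_.Matrix.cons_val_zero, _root_.one_ne_zero, _root_.not_false_eq_true, _root_.Matrix.cons_val_succ, _root_.mul_eq_zero, _root_.or_self, _root_.Matrix.cons_val_fin_one, _root_.implies_true, _root_.and_self]), hb1 i⟩⟩
  have b0 : b1 0 = b (e 0) := by rw [hb1 0]; exact one_smul _ _
  have b1' : b1 1 = b (e 1) := by rw [hb1 1]; exact one_smul _ _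
  have b2 : b1 2 = k (e 1) • b (e 2) := hb1 2
  have b3 : b1 3 = (k (e 1) * k (e 2)) • b (e 3) := hb1 3
  have b4 : b1 4 = (k (e 1) * k (e 2) * k (e 3)) • b (e 4) := hb1 4
  have b5 : b1 5 = (k (e 1) * k (e 2) * k (e 3) * k (e 4)) • b (e 5) := hb1 5
  have C0 : ap c (b1 0) = k (e 0) • b1 0 := by rw [b0, (hc _).2, t0]
  have C1 : ap c (b1 1) = b1 2 := by rw [b1', (hc _).2, t1, b2]
  have C2 : ap c (b1 2) = b1 3 := by rw [b2, ap_smul, (hc _).2, t2, b3, smul_smul]
  have C3 : ap c (b1 3) = b1 4 := by rw [b3, ap_smul, (hc _).2, t3, b4, smul_smul]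
  have C4 : ap c (b1 4) = b1 5 := by rw [b4, ap_smul, (hc _).2, t4, b5, smul_smul]
  have C5 : ap c (b1 5) = b1 1 := by
    have h6 : ap (c ^ 5) (b1 1) = b1 1 := by rw [five, ap_one]
    have e1 : c ^ 5 = c * (c * (c * (c * c))) := by rw [pow_succ, pow_succ, pow_succ, pow_two]; group
    rw [e1, ap_mul, ap_mul, ap_mul, ap_mul, C1, C2, C3, C4] at h6
    exact h6
  have N0 : ap n (b1 0) = an (e 0) • b1 0 := by rw [b0, (hn _).2, s0]
  have N1 : ap n (b1 1) = an (e 1) • b1 1 := by rw [b1', (hn _).2, s1]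
  have hν0 : an (e 0) * an (e 0) = 1 := by
    have h6 : ap (n * n) (b1 0) = (1 : F) • b1 0 := by rw [nn, ap_one, one_smul]
    rw [ap_mul, N0, ap_smul, N0, smul_smul] at h6
    exact smul_b_inj h6
  have hν1 : an (e 1) * an (e 1) = 1 := by
    have h6 : ap (n * n) (b1 1) = (1 : F) • b1 1 := by rw [nn, ap_one, one_smul]
    rw [ap_mul, N1, ap_smul, N1, smul_smul] at h6
    exact smul_b_inj h6
  have htr : an (e 0) + an (e 1) = -2 := by
    rw [← trn, hn.tr, ← Equiv.sum_comp e (fun i => if σ i = i then an i else 0)]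
    rw [Fin.sum_univ_six]
    rw [s0, s1, s2, s3, s4, s5]
    have hij : ∀ {i j : Fin 6}, i ≠ j → ¬ (e i = e j) := fun h h' => h (e.injective h')
    rw [if_pos rfl, if_pos rfl, if_neg (hij (show (5 : Fin 6) ≠ 2 by decide)),
      if_neg (hij (show (4 : Fin 6) ≠ 3 by decide)), if_neg (hij (show (3 : Fin 6) ≠ 4 by decide)),
      if_neg (hij (show (2 : Fin 6) ≠ 5 by decide))]
    simp only [_root_.Fin.isValue, _root_.add_zero]
  obtain ⟨e0, e1⟩ : an (e 0) = -1 ∧ an (e 1) = -1 := by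
    rcases pm_of_sq' hν0 with h | h <;> rcases pm_of_sq' hν1 with h' | h' <;> rw [h, h'] at htr
    · exfalso
      have h6 : (2 : F) * 2 = 0 := by linear_combination htr
      rcases mul_eq_zero.1 h6 with h7 | h7 <;> exact h2 h7
    · exfalso; exact h2 (by linear_combination htr)
    · exfalso; exact h2 (by linear_combination htr)
    · exact ⟨h, h'⟩
  rw [e0, neg_one_smul] at N0
  rw [e1, neg_one_smul] at N1
  have hcn : ∀ v, ap c (ap n (ap c v)) = ap n v := fun v => by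
    rw [← ap_mul, ← ap_mul, hcnc]
  have C0' : ap c (b1 0) = b1 0 := by
    have h6 := hcn (b1 0)
    rw [C0, ap_smul, N0, ap_smul, ap_neg, C0, smul_neg, smul_smul, neg_inj] at h6
    have h7 : k (e 0) * k (e 0) = 1 := by
      have : (k (e 0) * k (e 0)) • b1 0 = (1 : F) • b1 0 := by rw [h6, one_smul]
      exact smul_b_inj this
    have h8 : ap (c ^ 5) (b1 0) = (1 : F) • b1 0 := by rw [five, ap_one, one_smul]
    have e1 : c ^ 5 = c * (c * (c * (c * c))) := by rw [pow_succ, pow_succ, pow_succ, pow_two]; group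
    rw [e1, ap_mul, ap_mul, ap_mul, ap_mul, C0, ap_smul, C0, smul_smul, h7, one_smul, C0, ap_smul, C0, smul_smul, h7,
      one_smul, C0] at h8
    rw [C0, h8]
  have N2 : ap n (b1 2) = - b1 5 := by
    apply ap_cancel (g := c)
    rw [← C1, hcn, N1, ap_neg, C5]
  have N3 : ap n (b1 3) = - b1 4 := by
    apply ap_cancel (g := c)
    rw [← C2, hcn, N2, ap_neg, C4]
  have N4 : ap n (b1 4) = - b1 3 := by
    apply ap_cancel (g := c)
    rw [← C3, hcn, N3, ap_neg, C3]
  have N5 : ap n (b1 5) = - b1 2 := by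
    apply ap_cancel (g := c)
    rw [← C4, hcn, N4, ap_neg, C2]
  have m1ne : (-1 : F) ≠ 0 := neg_ne_zero.2 one_ne_zero
  have FSn : FS b1 n := by
    intro i s hs
    fin_cases i
    · change ap n (b1 0) = s • b1 0 at hs
      rw [N0, ← neg_one_smul F (b1 0)] at hs
      exact (smul_b_inj hs).symm
    · change ap n (b1 1) = s • b1 1 at hs
      rw [N1, ← neg_one_smul F (b1 1)] at hs
      exact (smul_b_inj hs).symm
    · change ap n (b1 2) = s • b1 2 at hs
      rw [N2, ← neg_one_smul F (b1 5)] at hs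
      exact absurd (b_line m1ne hs) (by decide)
    · change ap n (b1 3) = s • b1 3 at hs
      rw [N3, ← neg_one_smul F (b1 4)] at hs
      exact absurd (b_line m1ne hs) (by decide)
    · change ap n (b1 4) = s • b1 4 at hs
      rw [N4, ← neg_one_smul F (b1 3)] at hs
      exact absurd (b_line m1ne hs) (by decide)
    · change ap n (b1 5) = s • b1 5 at hs
      rw [N5, ← neg_one_smul F (b1 2)] at hs
      exact absurd (b_line m1ne hs) (by decide)
  obtain ⟨σd, ad, hd⟩ := hd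
  obtain ⟨σd', ad', hd'⟩ := hd.reb hr1
  have FSx : FS b1 x := FSn.transport hd' dn
  have FSxn : FS b1 (x * n) := FSx.transport hd' dx
  obtain ⟨σx, ax, hx⟩ := hx
  obtain ⟨σx', ax', hx'⟩ := hx.reb hr1
  -- `x` maps the line of `b1 0` to the line of `b1 1`
  have hx0 : σx' 0 = 1 := by
    have h6 : ap n (ap x (b1 0)) = - ap x (b1 0) := by
      rw [← ap_mul, ← comm, ap_mul, N0, ap_neg]
    rw [(hx' 0).2, ap_smul, ← smul_neg] at h6
    have h7 : ap n (b1 (σx' 0)) = - b1 (σx' 0) := smul_right_injective _ (hx' 0).1 h6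
    generalize hj : σx' 0 = j at h7
    fin_cases j
    · exfalso
      have h8 : ap x (b1 0) = ax' 0 • b1 0 := by
        have := (hx' 0).2
        rw [hj] at this
        exact this
      have h9 := FSx 0 _ h8
      rw [h9] at h8
      have h10 : ap (x * n) (b1 0) = (1 : F) • b1 0 := by
        rw [ap_mul, N0, ap_neg, h8, neg_one_smul, neg_neg, one_smul]
      exact one_ne (FSxn 0 _ h10)
    · rfl
    · exfalso
      change ap n (b1 2) = - b1 2 at h7
      rw [N2, ← neg_one_smul F (b1 5), ← neg_one_smul F (b1 2)] at h7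
      exact absurd (b_line m1ne h7) (by decide)
    · exfalso
      change ap n (b1 3) = - b1 3 at h7
      rw [N3, ← neg_one_smul F (b1 3), ← neg_one_smul F (b1 4)] at h7
      exact absurd (b_line m1ne h7) (by decide)
    · exfalso
      change ap n (b1 4) = - b1 4 at h7
      rw [N4, ← neg_one_smul F (b1 3), ← neg_one_smul F (b1 4)] at h7
      exact absurd (b_line m1ne h7) (by decide)
    · exfalso
      change ap n (b1 5) = - b1 5 at h7
      rw [N5, ← neg_one_smul F (b1 5), ← neg_one_smul F (b1 2)] at h7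
      exact absurd (b_line m1ne h7) (by decide)
  set κ := ax' 0 with hκ
  have hκ0 : κ ≠ 0 := (hx' 0).1
  have X0 : ap x (b1 0) = κ • b1 1 := by
    have := (hx' 0).2
    rw [hx0] at this
    exact this
  -- the final basis
  obtain ⟨w, hw⟩ := exists_reb b1 (Equiv.refl _) ![κ⁻¹, 1, 1, 1, 1, 1] (by
    intro i
    (revert i; simp only [hκ0, _root_.Fin.forall_fin_succ, _root_.ne_eq, Fin.isValue, _root_.Matrix.cons_val_zero, _root_.inv_eq_zero, _root_.not_false_eq_true, _root_.Matrix.cons_val_succ, _root_.one_ne_zero, _root_.Matrix.cons_val_fin_one, _root_.implies_true, _root_.and_self]))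
  have hr2 : Reb b1 w := ⟨Equiv.refl _, _, fun i => ⟨by
    (revert i; simp only [hκ0, _root_.Fin.forall_fin_succ, _root_.ne_eq, Fin.isValue, _root_.Matrix.cons_val_zero, _root_.inv_eq_zero, _root_.not_false_eq_true, _root_.Matrix.cons_val_succ, _root_.one_ne_zero, _root_.Matrix.cons_val_fin_one, _root_.implies_true, _root_.and_self]), hw i⟩⟩
  have w0 : w 0 = κ⁻¹ • b1 0 := hw 0
  have w1 : w 1 = b1 1 := by rw [hw 1]; exact one_smul _ _
  have w2 : w 2 = b1 2 := by rw [hw 2]; exact one_smul _ _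
  have w3 : w 3 = b1 3 := by rw [hw 3]; exact one_smul _ _
  have w4 : w 4 = b1 4 := by rw [hw 4]; exact one_smul _ _
  have w5 : w 5 = b1 5 := by rw [hw 5]; exact one_smul _ _
  rw [← w1, ← w2] at C1
  rw [← w2, ← w3] at C2
  rw [← w3, ← w4] at C3
  rw [← w4, ← w5] at C4
  rw [← w5, ← w1] at C5
  rw [← w1] at N1
  rw [← w2, ← w5] at N2
  rw [← w3, ← w4] at N3
  rw [← w4, ← w3] at N4
  rw [← w5, ← w2] at N5
  have C0'' : ap c (w 0) = w 0 := by rw [w0, ap_smul, C0']
  have N0' : ap n (w 0) = - w 0 := by rw [w0, ap_smul, N0, smul_neg]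
  have X0' : ap x (w 0) = w 1 := by rw [w0, ap_smul, X0, smul_smul, inv_mul_cancel₀ hκ0, one_smul, w1]
  have hxx : ∀ v, ap x (ap x v) = v := fun v => by rw [← ap_mul, xx, ap_one]
  have X1' : ap x (w 1) = w 0 := by rw [← X0', hxx]
  have FSx' : FS w x := FSx.reb hr2
  have FSxn' : FS w (x * n) := FSxn.reb hr2
  obtain ⟨σy, ay, hy⟩ := hx'.reb hr2
  -- the cubic relation
  have hR : ∀ v, ap c (ap x (ap c (ap x (ap c v)))) = ap x v := by
    intro v
    have h6 : x * (c * (x * (c * (x * c)))) = 1 := by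
      have e9 : x * n * m = x * c := by rw [← hcdef, mul_assoc]
      rw [e9] at three
      calc x * (c * (x * (c * (x * c)))) = (x * c) ^ 3 := by rw [pow_succ, pow_two]; group
        _ = 1 := three
    have h7 : c * (x * (c * (x * c))) = x⁻¹ := eq_inv_of_mul_eq_one_right h6
    have h8 : x⁻¹ = x := by rw [inv_eq_iff_mul_eq_one, xx]
    rw [h8] at h7
    rw [← ap_mul, ← ap_mul, ← ap_mul, ← ap_mul]
    have e10 : c * x * c * x * c = x := by
      calc c * x * c * x * c = c * (x * (c * (x * c))) := by group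
        _ = x := h7
    rw [e10]
  have X5' : ap x (w 5) = w 2 := by
    have := hR (w 5)
    rw [C5, X1', C0'', X0', C1] at this
    exact this.symm
  have X2' : ap x (w 2) = w 5 := by rw [← X5', hxx]
  -- the image of `w 3`
  have hx3 : ∀ (s : F) (j l : Fin 6), s ≠ 0 → ap x (w l) = w j → ap x (w 3) = s • w j → l = 3 := by
    intro s j l hs hl h
    rw [← hl, ← ap_smul] at h
    have h6 := ap_cancel h
    have h7 : (1 : F) • w 3 = s • w l := by rw [one_smul, h6]
    exact (b_line one_ne_zero h7).symm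
  have X3' : ap x (w 3) = - w 3 := by
    have h6 := (hy 3).2
    have h7 := (hy 3).1
    generalize hj : σy 3 = j at h6
    fin_cases j
    · exact absurd (hx3 _ _ _ h7 X1' h6) (by decide)
    · exact absurd (hx3 _ _ _ h7 X0' h6) (by decide)
    · exact absurd (hx3 _ _ _ h7 X5' h6) (by decide)
    · change ap x (w 3) = ay 3 • w 3 at h6
      rw [FSx' 3 _ h6, neg_one_smul] at h6
      exact h6
    · exfalso
      change ap x (w 3) = ay 3 • w 4 at h6
      have h8 : ap x (w 4) = (ay 3)⁻¹ • w 3 := by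
        have h9 : w 4 = (ay 3)⁻¹ • ap x (w 3) := by rw [h6, smul_smul, inv_mul_cancel₀ h7, one_smul]
        rw [h9, ap_smul, hxx]
      have h9 : ap (x * n) (w 3) = (-(ay 3)⁻¹) • w 3 := by rw [ap_mul, N3, ap_neg, h8, neg_smul]
      have h10 := FSxn' 3 _ h9
      have h11 : ay 3 = 1 := by
        have h12 : (ay 3)⁻¹ = 1 := neg_injective h10
        exact inv_eq_one.1 h12
      rw [h11, one_smul] at h6
      have h12 := hR (w 2)
      rw [C2, h6, C4, X5', C2, X2'] at h12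
      have h13 : (1 : F) • w 3 = (1 : F) • w 5 := by rw [one_smul, one_smul, h12]
      exact absurd (b_line one_ne_zero h13) (by decide)
    · exact absurd (hx3 _ _ _ h7 X2' h6) (by decide)
  have X4' : ap x (w 4) = - w 4 := by
    have h6 : w 4 = - ap n (w 3) := by rw [N3, neg_neg]
    have h7 : ap x (ap n (w 3)) = ap n (ap x (w 3)) := by rw [← ap_mul, ← ap_mul, comm]
    rw [h6, ap_neg, h7, X3', ap_neg]
  subst hcdef
  exact ⟨w, hr1.trans hr2, ⟨C0'', C1, C2, C3, C4, C5, N0', N1, N2, N3, N4, N5, X0', X1', X2', X3', X4', X5'⟩⟩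

end Cfsg.Agent.H913.N6
end

-- part: H913/N6T
section
/-!
# `PSL_3(4)` : involutions and radicals (helper913)
-/

set_option autoImplicit false
set_option linter.unusedSectionVars false

namespace Cfsg.Agent.H913.N6

open Cfsg Cfsg.Geo Matrix
open Module (Basis)
open Cfsg.Agent.H915.LD (Core Soc toSoc tr)
open Cfsg.Agent.H906.SL3Par Cfsg.Agent.H906.L34 Cfsg.Agent.H906.T14

/-- the group `PSL_3(K)` -/
abbrev PT (K : Type*) [Field K] := Matrix.ProjectiveSpecialLinearGroup (Fin 3) K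

/-- involutions -/
def TVK (K : Type*) [Field K] : Set (PT K) := {t | t * t = 1 ∧ t ≠ 1}

section

variable {K : Type*} [Field K]

/-- lower elements -/
def low (a b : K) : X K := ⟨!![1, 0, 0; 0, 1, 0; a, b, 1], by simp [Matrix.det_fin_three]⟩

lemma low_mul (a b a' b' : K) : low a b * low a' b' = low (a + a') (b + b') := by
  apply ext'
  intro i j
  rw [mul_entry]
  (revert i j; simp only [low, _root_.Fin.forall_fin_succ, Fin.isValue, _root_.Matrix.of_apply, _root_.Matrix.cons_val', _root_.Matrix.cons_val_zero, _root_.Matrix.cons_val_fin_one, _root_.Matrix.cons_val_one, _root_.Matrix.cons_val, _root_.mul_one, _root_.MulZeroClass.mul_zero, _root_.add_zero, _root_.Matrix.cons_val_succ, _root_.zero_add, _root_.implies_true, _root_.and_true, _root_.MulZeroClass.zero_mul, _root_.and_self, _root_.one_mul])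

lemma low_zero : low (0 : K) 0 = 1 := by
  apply ext'
  intro i j
  (revert i j; simp only [low, _root_.Fin.forall_fin_succ, _root_.Matrix.of_apply, _root_.Matrix.cons_val', _root_.Matrix.cons_val_fin_one, _root_.Matrix.SpecialLinearGroup.coe_one, Fin.isValue, _root_.Matrix.cons_val_zero, _root_.Matrix.cons_val_succ, _root_.IsEmpty.forall_iff, _root_.and_true, _root_.Matrix.one_apply_eq, Nat.reduceAdd, _root_.Fin.succ_zero_eq_one, _root_.ne_eq, _root_.zero_ne_one, _root_.not_false_eq_true, _root_.Matrix.one_apply_ne, _root_.Fin.succ_one_eq_two, Fin.reduceEq, _root_.and_self, _root_.Fin.succ_ne_zero, _root_.true_and])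

lemma low_inv (a b : K) : (low a b)⁻¹ = low (-a) (-b) := by
  rw [inv_eq_iff_mul_eq_one, low_mul, add_neg_cancel, add_neg_cancel, low_zero]

lemma uni_mul' (b c b' c' : K) : uni 0 b c * uni 0 b' c' = uni 0 (b + b') (c + c') := by
  rw [uni_mul]; congr 1 <;> ring

/-- the lower unipotent group -/
def Qc (K : Type*) [Field K] : Subgroup (X K) where
  carrier := {g | ∃ a b, g = low a b}
  mul_mem' := by
    rintro _ _ ⟨b, c, rfl⟩ ⟨b', c', rfl⟩
    exact ⟨_, _, low_mul _ _ _ _⟩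
  one_mem' := ⟨0, 0, low_zero.symm⟩
  inv_mem' := by
    rintro _ ⟨b, c, rfl⟩
    exact ⟨_, _, low_inv _ _⟩

/-- a nonscalar element -/
lemma pj_ne_one {g : X K} {i j : Fin 3} (hij : i ≠ j) (h : g.1 i j ≠ 0) : pj K g ≠ 1 := by
  intro h0
  have h1 : g ∈ Subgroup.center (X K) := (QuotientGroup.eq_one_iff g).1 h0
  obtain ⟨r, -, hr⟩ := Matrix.SpecialLinearGroup.mem_center_iff.1 h1
  have := congrFun (congrFun hr i) j
  rw [Matrix.scalar_apply, Matrix.diagonal_apply_ne _ hij] at this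
  exact h this.symm

lemma pj_eq {g h : X K} (h0 : pj K g = pj K h) : ∃ r : K, r ^ 3 = 1 ∧ ∀ i j, h.1 i j = r * g.1 i j := by
  have h1 : g⁻¹ * h ∈ Subgroup.center (X K) := QuotientGroup.eq.1 h0
  obtain ⟨r, hr3, hr⟩ := Matrix.SpecialLinearGroup.mem_center_iff.1 h1
  rw [Fintype.card_fin] at hr3
  refine ⟨r, hr3, fun i j => ?_⟩
  have e1 : h.1 = g.1 * (Matrix.scalar (Fin 3)) r := by
    rw [hr]
    change h.1 = (g * (g⁻¹ * h)).1
    rw [mul_inv_cancel_left]
  rw [e1, Matrix.scalar_apply, Matrix.mul_diagonal, mul_comm]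

/-- the radical of the stabiliser of a line -/
abbrev Rl (K : Type*) [Field K] : Subgroup (PT K) := (Qa K).map (pj K)

/-- the opposite radical -/
abbrev Rq (K : Type*) [Field K] : Subgroup (PT K) := (Qc K).map (pj K)

variable [Fintype K] (hK : Fintype.card K = 4)
include hK

lemma uni_sq (b c : K) : uni 0 b c * uni 0 b c = 1 := by
  rw [uni_mul', add_self hK, add_self hK, uni_zero]

lemma low_sq (a b : K) : low a b * low a b = 1 := by
  rw [low_mul, add_self hK, add_self hK, low_zero]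

omit [Fintype K] hK in
lemma uni_ne {a b c : K} (h : a ≠ 0 ∨ b ≠ 0 ∨ c ≠ 0) : pj K (uni a b c) ≠ 1 := by
  rcases h with h | h | h
  · exact pj_ne_one (i := 0) (j := 1) (by decide) (by simpa [uni] using h)
  · exact pj_ne_one (i := 1) (j := 2) (by decide) (by simpa [uni] using h)
  · exact pj_ne_one (i := 0) (j := 2) (by decide) (by simpa [uni] using h)

omit [Fintype K] hK in
lemma low_ne {a b : K} (h : a ≠ 0 ∨ b ≠ 0) : pj K (low a b) ≠ 1 := by
  rcases h with h | h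
  · exact pj_ne_one (i := 2) (j := 0) (by decide) (by simpa [low] using h)
  · exact pj_ne_one (i := 2) (j := 1) (by decide) (by simpa [low] using h)

lemma uni_TV {b c : K} (h : b ≠ 0 ∨ c ≠ 0) : pj K (uni 0 b c) ∈ TVK K :=
  ⟨by rw [← map_mul, uni_sq hK, map_one], uni_ne (Or.inr h)⟩

lemma low_TV {a b : K} (h : a ≠ 0 ∨ b ≠ 0) : pj K (low a b) ∈ TVK K :=
  ⟨by rw [← map_mul, low_sq hK, map_one], low_ne h⟩

lemma rad_l : Rad (TVK K) (Rl K) := by
  refine ⟨?_, ?_, ?_⟩
  · have cardK : Nat.card (K × K) = 16 := by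
      rw [Nat.card_prod, Nat.card_eq_fintype_card, hK]
    rw [← cardK]
    symm
    refine Nat.card_congr (Equiv.ofBijective
      (fun x : K × K => (⟨pj K (uni 0 x.1 x.2), ⟨_, ⟨_, _, rfl⟩, rfl⟩⟩ : Rl K)) ⟨?_, ?_⟩)
    · rintro ⟨b, c⟩ ⟨b', c'⟩ hh
      have h6 := pj_uni_inj (congrArg Subtype.val hh)
      have h7 := congrFun (congrFun (congrArg Subtype.val h6) 1) 2
      have h8 := congrFun (congrFun (congrArg Subtype.val h6) 0) 2
      simp [uni] at h7 h8
      rw [h7, h8]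
    · rintro ⟨_, _, ⟨b, c, rfl⟩, rfl⟩
      exact ⟨(b, c), rfl⟩
  · rintro _ ⟨_, ⟨b, c, rfl⟩, rfl⟩ hne
    refine ⟨by rw [← map_mul, uni_sq hK, map_one], hne⟩
  · rintro _ ⟨_, ⟨b, c, rfl⟩, rfl⟩ _ ⟨_, ⟨b', c', rfl⟩, rfl⟩
    rw [← map_mul, ← map_mul, uni_mul', uni_mul', add_comm b, add_comm c]

lemma rad_q : Rad (TVK K) (Rq K) := by
  refine ⟨?_, ?_, ?_⟩
  · have cardK : Nat.card (K × K) = 16 := by
      rw [Nat.card_prod, Nat.card_eq_fintype_card, hK]
    rw [← cardK]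
    symm
    refine Nat.card_congr (Equiv.ofBijective
      (fun x : K × K => (⟨pj K (low x.1 x.2), ⟨_, ⟨_, _, rfl⟩, rfl⟩⟩ : Rq K)) ⟨?_, ?_⟩)
    · rintro ⟨b, c⟩ ⟨b', c'⟩ hh
      have h6 : pj K (low b c) = pj K (low b' c') := congrArg Subtype.val hh
      obtain ⟨r, -, hr⟩ := pj_eq h6
      have h7 := hr 0 0
      have h8 := hr 2 0
      have h9 := hr 2 1
      simp only [low, _root_.Fin.isValue, _root_.Matrix.of_apply, _root_.Matrix.cons_val', _root_.Matrix.cons_val_zero, _root_.Matrix.cons_val_fin_one, _root_.mul_one, _root_.Matrix.cons_val, _root_.Matrix.cons_val_one] at h7 h8 h9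
      rw [← h7, one_mul] at h8 h9
      rw [h8, h9]
    · rintro ⟨_, _, ⟨b, c, rfl⟩, rfl⟩
      exact ⟨(b, c), rfl⟩
  · rintro _ ⟨_, ⟨b, c, rfl⟩, rfl⟩ hne
    refine ⟨by rw [← map_mul, low_sq hK, map_one], hne⟩
  · rintro _ ⟨_, ⟨b, c, rfl⟩, rfl⟩ _ ⟨_, ⟨b', c', rfl⟩, rfl⟩
    rw [← map_mul, ← map_mul, low_mul, low_mul, add_comm b, add_comm c]

/-- the setup -/
theorem setupK {ι : Type} [Fintype ι] [DecidableEq ι] {F : Type*} [Field F] {P : Subgroup (GL ι F)} {C : Cov P (PT K)}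
    (two : (2 : F) ≠ 0) (card : Fintype.card ι = 6) (pow : ∀ c : Fˣ, sc c ∈ P → c ^ 6 = 1) (neg : (m1 : GL ι F) ∈ P) :
    Setup P C (TVK K) := by
  refine ⟨two, card, pow, neg, ?_, ?_, ?_, ?_, ?_⟩
  · rintro τ ⟨h1, h2⟩ g
    refine ⟨?_, ?_⟩
    · calc g * τ * g⁻¹ * (g * τ * g⁻¹) = g * (τ * τ) * g⁻¹ := by group
        _ = 1 := by rw [h1]; group
    · intro h
      apply h2
      calc τ = g⁻¹ * (g * τ * g⁻¹) * g := by group
        _ = 1 := by rw [h]; group
  · rintro τ ⟨h1, h2⟩ τ' ⟨h1', h2'⟩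
    exact conj_invol hK (by rw [pow_two]; exact h1) h2 (by rw [pow_two]; exact h1') h2'
  · rintro τ ⟨h1, h2⟩; exact h1
  · rintro ⟨h1, h2⟩; exact h2 rfl
  · obtain ⟨w, hw⟩ := exists_w hK
    have hw0 : w ≠ 0 := by rintro rfl; simp at hw
    have hw1 : (1 : K) + w ≠ 0 := by
      intro h
      have h2 := two_zero hK
      have : (1 : K) = 0 := by linear_combination hw - w * h
      exact one_ne_zero this
    refine ⟨pj K (uni 0 1 0), uni_TV hK (Or.inl one_ne_zero), pj K (uni 0 0 1), uni_TV hK (Or.inr one_ne_zero),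
      pj K (uni 0 w 0), uni_TV hK (Or.inl hw0), ?_, ?_, ?_, ?_⟩
    · rw [← map_mul, uni_mul']
      exact uni_TV hK (Or.inl (by rw [add_zero]; exact one_ne_zero))
    · rw [← map_mul, uni_mul']
      exact uni_TV hK (Or.inl hw1)
    · rw [← map_mul, uni_mul']
      exact uni_TV hK (Or.inl (by rw [zero_add]; exact hw0))
    · rw [← map_mul, ← map_mul, uni_mul', uni_mul']
      exact uni_TV hK (Or.inl (by rw [zero_add]; exact hw1))

end

/-! ### block elements -/

section Blk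

variable {K : Type*} [Field K]

/-- block diagonal elements -/
def blk (a b c d : K) (h : a * d - b * c = 1) : X K :=
  ⟨!![a, b, 0; c, d, 0; 0, 0, 1], by simp [Matrix.det_fin_three]; linear_combination h⟩

lemma blk_uni {a b c d : K} (h : a * d - b * c = 1) (x y : K) :
    blk a b c d h * uni 0 y x = uni 0 (c * x + d * y) (a * x + b * y) * blk a b c d h := by
  apply ext'
  intro i j
  rw [mul_entry, mul_entry]
  (revert i j; simp only [uni, blk, _root_.Fin.forall_fin_succ, Fin.isValue, _root_.Matrix.of_apply, _root_.Matrix.cons_val', _root_.Matrix.cons_val_zero, _root_.Matrix.cons_val_fin_one, _root_.Matrix.cons_val_one, _root_.Matrix.cons_val, _root_.mul_one, _root_.MulZeroClass.mul_zero, _root_.add_zero, _root_.Matrix.cons_val_succ, _root_.zero_add, _root_.forall_const, _root_.one_mul, _root_.MulZeroClass.zero_mul, _root_.and_self, _root_.implies_true])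

lemma blk_low {a b c d : K} (h : a * d - b * c = 1) (x y : K) :
    low x y * blk a b c d h = blk a b c d h * low (x * a + y * c) (x * b + y * d) := by
  apply ext'
  intro i j
  rw [mul_entry, mul_entry]
  (revert i j; simp only [low, blk, _root_.Fin.forall_fin_succ, Fin.isValue, _root_.Matrix.of_apply, _root_.Matrix.cons_val', _root_.Matrix.cons_val_zero, _root_.Matrix.cons_val_fin_one, _root_.Matrix.cons_val_one, _root_.Matrix.cons_val, _root_.MulZeroClass.mul_zero, _root_.add_zero, _root_.mul_one, _root_.Matrix.cons_val_succ, _root_.zero_add, _root_.implies_true, _root_.and_true, _root_.one_mul, _root_.MulZeroClass.zero_mul, _root_.and_self])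

lemma blk_mul {a b c d a' b' c' d' : K} (h : a * d - b * c = 1) (h' : a' * d' - b' * c' = 1)
    (h'' : (a * a' + b * c') * (c * b' + d * d') - (a * b' + b * d') * (c * a' + d * c') = 1) :
    blk a b c d h * blk a' b' c' d' h' = blk (a * a' + b * c') (a * b' + b * d') (c * a' + d * c') (c * b' + d * d')
      h'' := by
  apply ext'
  intro i j
  rw [mul_entry]
  (revert i j; simp only [blk, _root_.Fin.forall_fin_succ, Fin.isValue, _root_.Matrix.of_apply, _root_.Matrix.cons_val', _root_.Matrix.cons_val_zero, _root_.Matrix.cons_val_fin_one, _root_.Matrix.cons_val_one, _root_.Matrix.cons_val, _root_.MulZeroClass.mul_zero, _root_.add_zero, _root_.Matrix.cons_val_succ, _root_.mul_one, _root_.zero_add, _root_.implies_true, _root_.and_true, _root_.and_self, _root_.MulZeroClass.zero_mul])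

/-- block elements normalise `R_l` -/
lemma blk_norm_l {a b c d : K} (h : a * d - b * c = 1) : ∀ r ∈ Rl K,
    pj K (blk a b c d h) * r * (pj K (blk a b c d h))⁻¹ ∈ Rl K := by
  rintro _ ⟨_, ⟨y, x, rfl⟩, rfl⟩
  refine ⟨uni 0 (c * x + d * y) (a * x + b * y), ⟨_, _, rfl⟩, ?_⟩
  rw [eq_mul_inv_iff_mul_eq, ← map_mul, ← map_mul, blk_uni]

/-- block elements normalise `R_q` -/
lemma blk_norm_q {a b c d : K} (h : a * d - b * c = 1) : ∀ r ∈ Rq K,
    pj K (blk a b c d h) * r * (pj K (blk a b c d h))⁻¹ ∈ Rq K := by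
  rintro _ ⟨_, ⟨x, y, rfl⟩, rfl⟩
  refine ⟨low (x * d - y * c) (y * a - x * b), ⟨_, _, rfl⟩, ?_⟩
  rw [eq_mul_inv_iff_mul_eq, ← map_mul, ← map_mul, blk_low]
  congr 3
  · linear_combination x * h
  · linear_combination y * h

end Blk

end Cfsg.Agent.H913.N6
end

-- part: H913/N6T2
section
/-!
# Canonical lifts and relations for covers of `PSL_3(4)` (helper913)
-/

set_option autoImplicit false
set_option linter.unusedSectionVars false

namespace Cfsg.Agent.H913.N6

open Cfsg Cfsg.Geo Matrix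
open Module (Basis)
open Cfsg.Agent.H915.LD (Core Soc toSoc tr)
open Cfsg.Agent.H906.SL3Par Cfsg.Agent.H906.L34 Cfsg.Agent.H906.T14

section Blk

variable {K : Type*} [Field K]

lemma blk_inv {a b c d : K} (h : a * d - b * c = 1) (h' : d * a - (-b) * (-c) = 1) :
    (blk a b c d h)⁻¹ = blk d (-b) (-c) a h' := by
  rw [inv_eq_iff_mul_eq_one]
  apply ext'
  intro i j
  rw [mul_entry]
  (revert i j; simp only [blk, _root_.Fin.forall_fin_succ, Fin.isValue, _root_.Matrix.of_apply, _root_.Matrix.cons_val', _root_.Matrix.cons_val_zero, _root_.Matrix.cons_val_fin_one, _root_.Matrix.cons_val_one, _root_.Matrix.cons_val, _root_.Matrix.SpecialLinearGroup.coe_one, _root_.mul_neg, _root_.MulZeroClass.mul_zero, _root_.add_zero, _root_.Matrix.cons_val_succ, _root_.mul_one, _root_.zero_add, _root_.IsEmpty.forall_iff, _root_.Matrix.one_apply_eq, Nat.reduceAdd, _root_.Fin.succ_zero_eq_one, _root_.ne_eq, _root_.zero_ne_one, _root_.not_false_eq_true,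 _root_.Matrix.one_apply_ne, _root_.Fin.succ_one_eq_two, Fin.reduceEq, _root_.Fin.succ_ne_zero, _root_.MulZeroClass.zero_mul, _root_.neg_zero, _root_.and_true, _root_.true_and]) <;> (repeat' with_reducible apply And.intro)
  · linear_combination h
  · ring
  · ring
  · linear_combination h

lemma blk_norm_l' {a b c d : K} (h : a * d - b * c = 1) : ∀ r ∈ Rl K,
    (pj K (blk a b c d h))⁻¹ * r * pj K (blk a b c d h) ∈ Rl K := by
  intro r hr
  have h' : d * a - (-b) * (-c) = 1 := by linear_combination h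
  have := blk_norm_l h' r hr
  rw [← blk_inv h h', map_inv, inv_inv] at this
  exact this

lemma blk_norm_q' {a b c d : K} (h : a * d - b * c = 1) : ∀ r ∈ Rq K,
    (pj K (blk a b c d h))⁻¹ * r * pj K (blk a b c d h) ∈ Rq K := by
  intro r hr
  have h' : d * a - (-b) * (-c) = 1 := by linear_combination h
  have := blk_norm_q h' r hr
  rw [← blk_inv h h', map_inv, inv_inv] at this
  exact this

lemma col {x y : K} (h : x ≠ 0 ∨ y ≠ 0) : ∃ p r, x * r - p * y = 1 := by
  by_cases hx : x = 0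
  · have hy : y ≠ 0 := by
      rcases h with h | h
      · exact absurd hx h
      · exact h
    exact ⟨-y⁻¹, 0, by field_simp; ring⟩
  · exact ⟨0, x⁻¹, by field_simp; ring⟩

lemma blk_trans {x y x' y' : K} (h : x ≠ 0 ∨ y ≠ 0) (h' : x' ≠ 0 ∨ y' ≠ 0) :
    ∃ (a b c d : K) (_ : a * d - b * c = 1), a * x + b * y = x' ∧ c * x + d * y = y' := by
  obtain ⟨p, r, h1⟩ := col h
  obtain ⟨p', r', h2⟩ := col h'
  refine ⟨x' * r - p' * y, p' * x - x' * p, y' * r - r' * y, r' * x - y' * p, ?_, ?_, ?_⟩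
  · linear_combination (x' * r' - p' * y') * h1 + h2
  · linear_combination x' * h1
  · linear_combination y' * h1

/-- nonzero vectors -/
abbrev EV (K : Type*) [Field K] := {v : K × K // v.1 ≠ 0 ∨ v.2 ≠ 0}

/-- multiplication by a nonzero scalar -/
def muV (w u : K) (h : w * u = 1) : Equiv.Perm (EV K) where
  toFun v := ⟨(w * v.1.1, w * v.1.2), by
    have hw : w ≠ 0 := left_ne_zero_of_mul_eq_one h
    exact v.2.imp (mul_ne_zero hw) (mul_ne_zero hw)⟩
  invFun v := ⟨(u * v.1.1, u * v.1.2), by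
    have hw : u ≠ 0 := right_ne_zero_of_mul_eq_one h
    exact v.2.imp (mul_ne_zero hw) (mul_ne_zero hw)⟩
  left_inv v := by
    apply Subtype.ext
    apply Prod.ext
    · change u * (w * v.1.1) = v.1.1
      linear_combination v.1.1 * h
    · change u * (w * v.1.2) = v.1.2
      linear_combination v.1.2 * h
  right_inv v := by
    apply Subtype.ext
    apply Prod.ext
    · change w * (u * v.1.1) = v.1.1
      linear_combination v.1.1 * h
    · change w * (u * v.1.2) = v.1.2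
      linear_combination v.1.2 * h

/-- the indexing of `R_l` -/
def fV (v : EV K) : PT K := pj K (uni 0 v.1.2 v.1.1)

variable [Fintype K] (hK : Fintype.card K = 4)
include hK

theorem parD {w : K} (hw : w ^ 2 + w + 1 = 0) (hw' : w * w ^ 2 = 1) : ParD (Rl K) fV (muV w (w ^ 2) hw') where
  inj := by
    rintro ⟨⟨x, y⟩, h⟩ ⟨⟨x', y'⟩, h'⟩ h0
    have h6 := pj_uni_inj h0
    have h7 := congrFun (congrFun (congrArg Subtype.val h6) 1) 2
    have h8 := congrFun (congrFun (congrArg Subtype.val h6) 0) 2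
    simp [uni] at h7 h8
    subst h7 h8
    rfl
  mem := fun v => ⟨_, ⟨_, _, rfl⟩, rfl⟩
  ne := fun v => uni_ne (Or.inr v.2.symm)
  surj := by
    rintro _ ⟨_, ⟨y, x, rfl⟩, rfl⟩ hne
    refine ⟨⟨(x, y), ?_⟩, rfl⟩
    by_contra hcon
    push Not at hcon
    obtain ⟨h1, h2⟩ := hcon
    apply hne
    change x = 0 at h1
    change y = 0 at h2
    rw [h1, h2, uni_zero, map_one]
  prod := by
    rintro ⟨⟨x, y⟩, h⟩
    change pj K (uni 0 y x) * pj K (uni 0 (w * y) (w * x)) * pj K (uni 0 (w * (w * y)) (w * (w * x))) = 1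
    rw [← map_mul, ← map_mul, uni_mul', uni_mul', ← map_one (pj K), ← uni_zero]
    congr 2
    · linear_combination y * hw
    · linear_combination x * hw
  trans := by
    rintro ⟨⟨x, y⟩, h⟩ ⟨⟨x', y'⟩, h'⟩
    obtain ⟨a, b, c, d, hd, h1, h2⟩ := blk_trans h h'
    change a * x + b * y = x' at h1
    change c * x + d * y = y' at h2
    refine ⟨pj K (blk a b c d hd), ?_, ?_, ?_⟩
    · change _ * pj K (uni 0 y x) * _ = pj K (uni 0 y' x')
      rw [mul_inv_eq_iff_eq_mul, ← map_mul, ← map_mul, blk_uni, h1, h2]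
    · change _ * pj K (uni 0 (w * y) (w * x)) * _ = pj K (uni 0 (w * y') (w * x'))
      rw [mul_inv_eq_iff_eq_mul, ← map_mul, ← map_mul, blk_uni, ← h1, ← h2]
      congr 3 <;> ring
    · change _ * pj K (uni 0 (w * (w * y)) (w * (w * x))) * _ = pj K (uni 0 (w * (w * y')) (w * (w * x')))
      rw [mul_inv_eq_iff_eq_mul, ← map_mul, ← map_mul, blk_uni, ← h1, ← h2]
      congr 3 <;> ring

end Blk

/-! ### canonical lifts -/

section CL

variable {ι : Type} [Fintype ι] [DecidableEq ι] {F : Type*} [Field F] {P : Subgroup (GL ι F)}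
  {T : Type*} [Group T] {C : Cov P T} {TV : Set T}

/-- the involutory lift with trace `-2` -/
def CL (C : Cov P T) (x : GL ι F) (τ : T) : Prop := IL C x τ ∧ tr x = -2

theorem CL.conj {x g : GL ι F} {τ γ : T} (hx : CL C x τ) (hg : C.L g γ) : CL C (g * x * g⁻¹) (γ * τ * γ⁻¹) :=
  ⟨Setup.IL_conj hx.1 hg, by rw [H915.LD.tr_conj]; exact hx.2⟩

namespace Setup

variable (S : Setup P C TV)
include S

theorem CL_unique {x y : GL ι F} {τ : T} (hx : CL C x τ) (hy : CL C y τ) : x = y :=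
  S.tr_unique hx.1 hy.1 (by rw [hx.2, hy.2]) (Or.inr hy.2)

theorem exists_CL {R : Subgroup T} {b : Basis (Fin 6) F (ι → F)} (hR : Rad TV R) (hb : Frm b (DD C R)) {τ : T}
    (hτ : τ ∈ TV) : ∃ x, CL C x τ := by
  obtain ⟨x, hx, h⟩ := S.exists_tr hR hb hτ (Or.inr rfl)
  exact ⟨x, hx, h⟩

/-- canonical lifts multiply along root groups -/
theorem CL_mul {R : Subgroup T} {b : Basis (Fin 6) F (ι → F)} (hR : Rad TV R) (hb : Frm b (DD C R)) {E : Type*}
    {f : E → T} {μ : Equiv.Perm E} (hμ : ParD R f μ) {x y z : GL ι F} (r : E) (γ : T)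
    (hx : CL C x (γ * f r * γ⁻¹)) (hy : CL C y (γ * f (μ r) * γ⁻¹)) (hz : CL C z (γ * f (μ (μ r)) * γ⁻¹)) :
    x * y = z := by
  obtain ⟨g, hg⟩ := C.exists_lift γ
  have key : ∀ {x : GL ι F} {τ : T}, CL C x (γ * τ * γ⁻¹) → IL C (m1 * (g⁻¹ * x * g)) τ ∧ tr (m1 * (g⁻¹ * x * g)) = 2 := by
    intro x τ hx
    have h1 := hx.conj hg.inv
    rw [inv_inv, inv_inv] at h1
    have e : γ⁻¹ * (γ * τ * γ⁻¹) * γ = τ := by group
    rw [e] at h1
    refine ⟨S.IL_neg h1.1, ?_⟩
    rw [tr_m1_mul, h1.2, neg_neg]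
  obtain ⟨a1, a2⟩ := key hx
  obtain ⟨b1, b2⟩ := key hy
  obtain ⟨c1, c2⟩ := key hz
  have h := S.parity hR hb hμ r a1 a2 b1 b2 c1 c2
  have e1 : m1 * (g⁻¹ * x * g) * (m1 * (g⁻¹ * y * g)) = g⁻¹ * (x * y) * g := by
    calc m1 * (g⁻¹ * x * g) * (m1 * (g⁻¹ * y * g)) = m1 * ((g⁻¹ * x * g) * m1) * (g⁻¹ * y * g) := by group
      _ = m1 * (m1 * (g⁻¹ * x * g)) * (g⁻¹ * y * g) := by rw [m1_comm (g⁻¹ * x * g)]
      _ = (m1 * m1) * (g⁻¹ * (x * y) * g) := by group
      _ = g⁻¹ * (x * y) * g := by rw [m1_mul_m1, one_mul]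
  have e2 : m1 * (m1 * (g⁻¹ * z * g)) = g⁻¹ * z * g := by
    rw [← mul_assoc, m1_mul_m1, one_mul]
  rw [e1, e2] at h
  calc x * y = g * (g⁻¹ * (x * y) * g) * g⁻¹ := by group
    _ = g * (g⁻¹ * z * g) * g⁻¹ := by rw [h]
    _ = z := by group

/-- a product of two canonical lifts -/
theorem CL_order {n m : GL ι F} {N M : T} (hn : CL C n N) (hm : CL C m M) {k : ℕ}
    (h : (N * M) ^ k * N = M * (N * M) ^ k) : (n * m) ^ (2 * k + 1) = 1 := by
  have hL : C.L ((n * m) ^ k) ((N * M) ^ k) := (hn.1.1.mul hm.1.1).pow k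
  have h1 := hn.conj hL
  have e : (N * M) ^ k * N * ((N * M) ^ k)⁻¹ = M := by rw [h]; group
  rw [e] at h1
  have h2 := S.CL_unique h1 hm
  set c := n * m with hc
  have hm' : m = n * c := by rw [hc, ← mul_assoc, hn.1.2, one_mul]
  have hcn : n * c * n = c⁻¹ := by
    rw [← hm', eq_inv_iff_mul_eq_one, hc]
    calc m * n * (n * m) = m * (n * n) * m := by group
      _ = 1 := by rw [hn.1.2, mul_one, hm.1.2]
  have hck : n * c ^ k * n = (c ^ k)⁻¹ := by
    have hni : n⁻¹ = n := by rw [inv_eq_iff_mul_eq_one]; exact hn.1.2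
    have h3 : n * c * n⁻¹ = c⁻¹ := by rw [hni, hcn]
    have h4 : n * c ^ k * n⁻¹ = (n * c * n⁻¹) ^ k := by rw [conj_pow]
    rw [hni] at h4
    rw [h4]
    have h5 : n * c * n = n * c * n⁻¹ := by rw [hni]
    rw [h5, h3, inv_pow]
  have h6 : c ^ k * n = n * (c ^ k)⁻¹ := by
    rw [← hck]
    calc c ^ k * n = (n * n) * (c ^ k * n) := by rw [hn.1.2, one_mul]
      _ = n * (n * c ^ k * n) := by group
  have h7 : c ^ k * n = n * c * c ^ k := by
    rw [← hm']
    calc c ^ k * n = (c ^ k * n * (c ^ k)⁻¹) * c ^ k := by group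
      _ = m * c ^ k := by rw [h2]
  rw [h6] at h7
  have h8 : (c ^ k)⁻¹ = c * c ^ k := by
    have : n * (c ^ k)⁻¹ = n * (c * c ^ k) := by rw [h7, mul_assoc]
    exact mul_left_cancel this
  calc c ^ (2 * k + 1) = c ^ k * (c * c ^ k) := by
        rw [← pow_succ', ← pow_add]; congr 1; omega
    _ = 1 := by rw [← h8, mul_inv_cancel]

end Setup

end CL

/-! ### the generators -/

section Gens

variable {ι : Type} [Fintype ι] [DecidableEq ι] {F : Type*} [Field F] {P : Subgroup (GL ι F)}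
  {K : Type*} [Field K]

/-- upper block elements -/
def up (a : K) : X K := blk 1 a 0 1 (by ring)

/-- lower block elements -/
def dn (a : K) : X K := blk 1 0 a 1 (by ring)

/-- the generators of the block `SL_2(4)` -/
structure Gens (C : Cov P (PT K)) (w : K) (n m x d : GL ι F) : Prop where
  nL : CL C n (pj K (up 1))
  xL : CL C x (pj K (up w))
  xnL : CL C (x * n) (pj K (up (w * w)))
  mL : CL C m (pj K (dn w))
  dL : ∃ h, C.L d (pj K (blk (w * w) 0 0 w h))
  comm : x * n = n * x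
  dn : d * n * d⁻¹ = x
  dx : d * x * d⁻¹ = x * n
  five : (n * m) ^ 5 = 1
  three : (x * n * m) ^ 3 = 1

theorem exists_gens [Fintype K] (hK : Fintype.card K = 4) {C : Cov P (PT K)} (S : Setup P C (TVK K))
    {b : Basis (Fin 6) F (ι → F)} (hb : Frm b (DD C (Rl K))) {w : K} (hw : w ^ 2 + w + 1 = 0) :
    ∃ n m x d : GL ι F, Gens C w n m x d := by
  have h2 := two_zero hK
  have hw3 : w * w ^ 2 = 1 := by linear_combination (w - 1) * hw
  have hw0 : w ≠ 0 := left_ne_zero_of_mul_eq_one hw3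
  have hup : ∀ {a : K}, a ≠ 0 → pj K (up a) ∈ TVK K := by
    intro a ha
    refine ⟨?_, pj_ne_one (i := 0) (j := 1) (by decide) (by simpa [up, blk] using ha)⟩
    rw [← map_mul, up, blk_mul _ _ (by ring)]
    have : blk (1 * 1 + a * 0) (1 * a + a * 1) (0 * 1 + 1 * 0) (0 * a + 1 * 1) (by ring) = (1 : X K) := by
      apply ext'
      intro i j
      (revert i j; simp only [blk, _root_.Fin.forall_fin_succ, _root_.mul_one, _root_.MulZeroClass.mul_zero, _root_.add_zero, _root_.one_mul, _root_.MulZeroClass.zero_mul, _root_.zero_add, _root_.Matrix.of_apply, _root_.Matrix.cons_val', _root_.Matrix.cons_val_fin_one, _root_.Matrix.SpecialLinearGroup.coe_one, Fin.isValue, _root_.Matrix.cons_val_zero, _root_.Matrix.cons_val_succ, _root_.IsEmpty.forall_iff, _root_.Matrix.one_apply_eq, Nat.reduceAdd, _root_.Fin.succ_zero_eq_one, _root_.ne_eq, _root_.zero_ne_one, _root_.not_false_eq_true, _root_.Matrix.one_apply_ne, _root_.Fin.succ_one_eq_two, Fin.reduceEq,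 _root_.Fin.succ_ne_zero, _root_.and_true, _root_.true_and]) <;> (repeat' with_reducible apply And.intro)
      linear_combination a * h2
    rw [this, map_one]
  have hdn : pj K (dn w) ∈ TVK K := by
    refine ⟨?_, pj_ne_one (i := 1) (j := 0) (by decide) (by simpa [dn, blk] using hw0)⟩
    rw [← map_mul, dn, blk_mul _ _ (by ring)]
    have : blk (1 * 1 + 0 * w) (1 * 0 + 0 * 1) (w * 1 + 1 * w) (w * 0 + 1 * 1) (by ring) = (1 : X K) := by
      apply ext'
      intro i j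
      (revert i j; simp only [blk, _root_.Fin.forall_fin_succ, _root_.mul_one, _root_.MulZeroClass.zero_mul, _root_.add_zero, _root_.MulZeroClass.mul_zero, _root_.one_mul, _root_.zero_add, _root_.Matrix.of_apply, _root_.Matrix.cons_val', _root_.Matrix.cons_val_fin_one, _root_.Matrix.SpecialLinearGroup.coe_one, Fin.isValue, _root_.Matrix.cons_val_zero, _root_.Matrix.cons_val_succ, _root_.IsEmpty.forall_iff, _root_.Matrix.one_apply_eq, Nat.reduceAdd, _root_.Fin.succ_zero_eq_one, _root_.ne_eq, _root_.zero_ne_one, _root_.not_false_eq_true, _root_.Matrix.one_apply_ne, _root_.Fin.succ_one_eq_two, Fin.reduceEq, _root_.Fin.succ_ne_zero, _root_.and_true, _root_.true_and]) <;> (repeat' with_reducible apply And.intro)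
      linear_combination w * h2
    rw [this, map_one]
  obtain ⟨n, hn⟩ := S.exists_CL (rad_l hK) hb (hup one_ne_zero)
  obtain ⟨x, hx⟩ := S.exists_CL (rad_l hK) hb (hup hw0)
  obtain ⟨z, hz⟩ := S.exists_CL (rad_l hK) hb (hup (mul_ne_zero hw0 hw0))
  obtain ⟨m, hm⟩ := S.exists_CL (rad_l hK) hb hdn
  have hdd : (w * w) * w - 0 * 0 = 1 := by linear_combination hw3
  obtain ⟨d, hd⟩ := C.exists_lift (pj K (blk (w * w) 0 0 w hdd))
  -- the product
  have hconj : ∀ c : K, pj K (n23 K) * pj K (uni 0 0 c) * (pj K (n23 K))⁻¹ = pj K (up c) := by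
    intro c
    rw [mul_inv_eq_iff_eq_mul, ← map_mul, ← map_mul]
    congr 1
    apply ext'
    intro i j
    rw [mul_entry, mul_entry]
    (revert i j; simp only [up, blk, uni, n23, _root_.Fin.forall_fin_succ, Fin.isValue, _root_.Matrix.of_apply, _root_.Matrix.cons_val', _root_.Matrix.cons_val_zero, _root_.Matrix.cons_val_fin_one, _root_.Matrix.cons_val_one, _root_.Matrix.cons_val, _root_.mul_one, _root_.MulZeroClass.mul_zero, _root_.add_zero, _root_.Matrix.cons_val_succ, _root_.zero_add, _root_.mul_neg, _root_.forall_const, _root_.one_mul, _root_.MulZeroClass.zero_mul, _root_.neg_zero, _root_.implies_true, _root_.and_true, _root_.true_and]) <;> (repeat' with_reducible apply And.intro)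
    linear_combination c * h2
  have hnx : n * x = z := by
    refine S.CL_mul (rad_l hK) hb (parD hK hw hw3) (⟨(1, 0), Or.inl one_ne_zero⟩ : EV K) (pj K (n23 K)) ?_ ?_ ?_
    · change CL C n (pj K (n23 K) * pj K (uni 0 0 1) * (pj K (n23 K))⁻¹)
      rw [hconj]; exact hn
    · change CL C x (pj K (n23 K) * pj K (uni 0 (w * 0) (w * 1)) * (pj K (n23 K))⁻¹)
      rw [mul_zero, mul_one, hconj]; exact hx
    · change CL C z (pj K (n23 K) * pj K (uni 0 (w * (w * 0)) (w * (w * 1))) * (pj K (n23 K))⁻¹)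
      rw [mul_zero, mul_zero, mul_one, hconj]; exact hz
  have hcomm : x * n = n * x := by
    refine (S.IL_comm hx.1 hn.1 ?_ ?_).1
    · rw [← map_mul, ← map_mul]
      congr 1
      apply ext'
      intro i j
      rw [mul_entry, mul_entry]
      (revert i j; simp only [up, blk, _root_.Fin.forall_fin_succ, Fin.isValue, _root_.Matrix.of_apply, _root_.Matrix.cons_val', _root_.Matrix.cons_val_zero, _root_.Matrix.cons_val_fin_one, _root_.Matrix.cons_val_one, _root_.Matrix.cons_val, _root_.add_left_inj, _root_.mul_one, _root_.MulZeroClass.mul_zero, _root_.add_zero, _root_.Matrix.cons_val_succ, _root_.implies_true, _root_.one_mul, _root_.MulZeroClass.zero_mul, _root_.and_true, _root_.true_and]) <;> (repeat' with_reducible apply And.intro)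
      ring
    · rw [← map_mul]
      have e : up w * up 1 = up (1 + w) := by
        apply ext'
        intro i j
        rw [mul_entry]
        (revert i j; simp only [up, blk, _root_.Fin.forall_fin_succ, Fin.isValue, _root_.Matrix.of_apply, _root_.Matrix.cons_val', _root_.Matrix.cons_val_zero, _root_.Matrix.cons_val_fin_one, _root_.Matrix.cons_val_one, _root_.Matrix.cons_val, _root_.mul_one, _root_.MulZeroClass.mul_zero, _root_.add_zero, _root_.Matrix.cons_val_succ, _root_.zero_add, _root_.implies_true, _root_.and_true, _root_.true_and, _root_.add_eq_right, _root_.and_self])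
      rw [e]
      apply hup
      intro h
      have : (w : K) ^ 2 = 0 := by linear_combination hw - h
      exact hw0 (pow_eq_zero_iff (two_ne_zero) |>.1 this)
  have hxn : x * n = z := by rw [hcomm, hnx]
  refine ⟨n, m, x, d, hn, hx, by rw [hxn]; exact hz, hm, ⟨hdd, hd⟩, hcomm, ?_, ?_, ?_, ?_⟩
  · refine S.CL_unique ?_ hx
    have h1 := hn.conj hd
    have e : pj K (blk (w * w) 0 0 w hdd) * pj K (up 1) * (pj K (blk (w * w) 0 0 w hdd))⁻¹ = pj K (up w) := by
      rw [mul_inv_eq_iff_eq_mul, ← map_mul, ← map_mul]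
      congr 1
      apply ext'
      intro i j
      rw [mul_entry, mul_entry]
      (revert i j; simp only [up, blk, _root_.Fin.forall_fin_succ, Fin.isValue, _root_.Matrix.of_apply, _root_.Matrix.cons_val', _root_.Matrix.cons_val_zero, _root_.Matrix.cons_val_fin_one, _root_.Matrix.cons_val_one, _root_.Matrix.cons_val, _root_.add_left_inj, _root_.mul_one, _root_.MulZeroClass.mul_zero, _root_.add_zero, _root_.Matrix.cons_val_succ, _root_.zero_add, _root_.implies_true, _root_.and_true, _root_.one_mul, _root_.and_self, _root_.MulZeroClass.zero_mul])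
    rw [e] at h1
    exact h1
  · rw [hxn]
    refine S.CL_unique ?_ hz
    have h1 := hx.conj hd
    have e : pj K (blk (w * w) 0 0 w hdd) * pj K (up w) * (pj K (blk (w * w) 0 0 w hdd))⁻¹ = pj K (up (w * w)) := by
      rw [mul_inv_eq_iff_eq_mul, ← map_mul, ← map_mul]
      congr 1
      apply ext'
      intro i j
      rw [mul_entry, mul_entry]
      (revert i j; simp only [up, blk, _root_.Fin.forall_fin_succ, Fin.isValue, _root_.Matrix.of_apply, _root_.Matrix.cons_val', _root_.Matrix.cons_val_zero, _root_.Matrix.cons_val_fin_one, _root_.Matrix.cons_val_one, _root_.Matrix.cons_val, _root_.add_left_inj, _root_.mul_one, _root_.MulZeroClass.mul_zero, _root_.add_zero, _root_.Matrix.cons_val_succ, _root_.zero_add, _root_.implies_true, _root_.and_true, _root_.one_mul, _root_.and_self, _root_.MulZeroClass.zero_mul])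
    rw [e] at h1
    exact h1
  · refine S.CL_order hn hm (k := 2) ?_
    rw [← map_mul, ← map_pow, ← map_mul, ← map_mul]
    congr 1
    have e1 : (up 1 * dn w : X K).1 = !![1 + w, 1, 0; w, 1, 0; 0, 0, 1] := by
      ext i j
      rw [mul_entry]
      (revert i j; simp only [up, dn, blk, _root_.Fin.forall_fin_succ, Fin.isValue, _root_.Matrix.of_apply, _root_.Matrix.cons_val', _root_.Matrix.cons_val_zero, _root_.Matrix.cons_val_fin_one, _root_.Matrix.cons_val_one, _root_.Matrix.cons_val, _root_.mul_one, _root_.MulZeroClass.mul_zero, _root_.add_zero, _root_.Matrix.cons_val_succ, _root_.zero_add, _root_.implies_true, _root_.and_self, _root_.and_true, _root_.one_mul, _root_.MulZeroClass.zero_mul])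
    have e2 : ((up 1 * dn w) * (up 1 * dn w) : X K).1 = !![w ^ 2 + w + 1, w, 0; w ^ 2, 1 + w, 0; 0, 0, 1] := by
      ext i j
      rw [mul_entry, e1]
      (revert i j; simp only [_root_.Fin.forall_fin_succ, Fin.isValue, _root_.Matrix.of_apply, _root_.Matrix.cons_val', _root_.Matrix.cons_val_zero, _root_.Matrix.cons_val_fin_one, _root_.Matrix.cons_val_one, _root_.Matrix.cons_val, _root_.MulZeroClass.mul_zero, _root_.add_zero, _root_.Matrix.cons_val_succ, _root_.mul_one, _root_.zero_add, _root_.implies_true, _root_.one_mul, _root_.MulZeroClass.zero_mul, _root_.and_true, _root_.true_and]) <;> (repeat' with_reducible apply And.intro)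
      · linear_combination w * h2
      · linear_combination h2
      · linear_combination w * h2
      · ring
    rw [pow_two]
    generalize (up 1 * dn w) * (up 1 * dn w) = A at e2 ⊢
    apply ext'
    intro i j
    rw [mul_entry, mul_entry, e2]
    (revert i j; simp only [up, dn, blk, _root_.Fin.forall_fin_succ, Fin.isValue, _root_.Matrix.of_apply, _root_.Matrix.cons_val', _root_.Matrix.cons_val_zero, _root_.Matrix.cons_val_fin_one, _root_.Matrix.cons_val_one, _root_.Matrix.cons_val, _root_.add_left_inj, _root_.mul_one, _root_.MulZeroClass.mul_zero, _root_.add_zero, _root_.Matrix.cons_val_succ, _root_.implies_true, _root_.one_mul, _root_.MulZeroClass.zero_mul, _root_.add_eq_right, _root_.right_eq_add, _root_.mul_eq_zero, _root_.and_true, _root_.true_and]) <;> (repeat' with_reducible apply And.intro)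
    · exact hw
    · exact Or.inr hw
    · ring
  · have h3 := S.CL_order (n := x * n) (m := m) (by rw [hxn]; exact hz) hm (k := 1) (by
      rw [pow_one, ← map_mul, ← map_mul, ← map_mul]
      congr 1
      have e1 : (up (w * w) * dn w : X K).1 = !![1 + w * w * w, w * w, 0; w, 1, 0; 0, 0, 1] := by
        ext i j
        rw [mul_entry]
        (revert i j; simp only [up, dn, blk, _root_.Fin.forall_fin_succ, Fin.isValue, _root_.Matrix.of_apply, _root_.Matrix.cons_val', _root_.Matrix.cons_val_zero, _root_.Matrix.cons_val_fin_one, _root_.Matrix.cons_val_one, _root_.Matrix.cons_val, _root_.mul_one, _root_.MulZeroClass.mul_zero, _root_.add_zero, _root_.Matrix.cons_val_succ, _root_.zero_add, _root_.implies_true, _root_.and_self, _root_.and_true, _root_.one_mul, _root_.MulZeroClass.zero_mul])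
      generalize (up (w * w) * dn w) = A at e1 ⊢
      apply ext'
      intro i j
      rw [mul_entry, mul_entry, e1]
      have e0 : 1 + w * w * w = 0 := by linear_combination hw3 + h2
      (revert i j; simp only [up, dn, blk, _root_.Fin.forall_fin_succ, Fin.isValue, _root_.Matrix.of_apply, _root_.Matrix.cons_val', _root_.Matrix.cons_val_zero, _root_.Matrix.cons_val_fin_one, _root_.Matrix.cons_val_one, _root_.Matrix.cons_val, _root_.add_left_inj, _root_.mul_one, _root_.MulZeroClass.mul_zero, _root_.add_zero, _root_.Matrix.cons_val_succ, _root_.implies_true, _root_.one_mul, _root_.MulZeroClass.zero_mul, _root_.add_eq_right, _root_.mul_eq_zero, _root_.or_self, _root_.right_eq_add, _root_.and_true, _root_.true_and]) <;> (repeat' with_reducible apply And.intro)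
      · exact Or.inl e0
      · exact Or.inr e0)
    exact h3

end Gens

end Cfsg.Agent.H913.N6
end

-- part: H913/N6Two
section
/-!
# Two opposite frames (helper913)
-/

set_option autoImplicit false
set_option linter.unusedSectionVars false

namespace Cfsg.Agent.H913.N6

open Cfsg Cfsg.Geo Matrix
open Module (Basis)
open Cfsg.Agent.H915.LD (Core Soc toSoc tr)
open Cfsg.Agent.H906.SL3Par Cfsg.Agent.H906.L34 Cfsg.Agent.H906.T14

variable {ι : Type} [Fintype ι] [DecidableEq ι] {F : Type*} [Field F]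

/-- the combination `α b_i + β (C b)_i` -/
structure Cmb (b g : Fin 6 → ι → F) (α β : F) : Prop where
  g0 : g 0 = α • b 0 + β • (b 1 + b 2 + b 3 + b 4 + b 5)
  g1 : g 1 = α • b 1 + β • (b 0 + b 2 - b 3 - b 4 + b 5)
  g2 : g 2 = α • b 2 + β • (b 0 + b 1 + b 3 - b 4 - b 5)
  g3 : g 3 = α • b 3 + β • (b 0 - b 1 + b 2 + b 4 - b 5)
  g4 : g 4 = α • b 4 + β • (b 0 - b 1 - b 2 + b 3 + b 5)
  g5 : g 5 = α • b 5 + β • (b 0 + b 1 - b 2 - b 3 + b 4)

theorem exists_cmb {b g : Basis (Fin 6) F (ι → F)} {n m x : GL ι F} (hb : NF b n m x) (hg : NF g n m x) :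
    ∃ α β : F, Cmb b g α β := by
  have e0 : g 0 = b.repr (g 0) 0 • b 0 + b.repr (g 0) 1 • b 1 + b.repr (g 0) 2 • b 2 + b.repr (g 0) 3 • b 3 +
      b.repr (g 0) 4 • b 4 + b.repr (g 0) 5 • b 5 := by
    conv_lhs => rw [← b.sum_repr (g 0)]
    rw [Fin.sum_univ_six]
  generalize b.repr (g 0) 0 = a0 at e0
  generalize b.repr (g 0) 1 = a1 at e0
  generalize b.repr (g 0) 2 = a2 at e0
  generalize b.repr (g 0) 3 = a3 at e0
  generalize b.repr (g 0) 4 = a4 at e0
  generalize b.repr (g 0) 5 = a5 at e0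
  have e1 : a0 • b 0 + a1 • b 1 + a2 • b 2 + a3 • b 3 + a4 • b 4 + a5 • b 5 =
      a0 • b 0 + a1 • b 2 + a2 • b 3 + a3 • b 4 + a4 • b 5 + a5 • b 1 := by
    rw [← e0, ← hg.c0, e0]
    simp only [ap_add, ap_smul, hb.c0, hb.c1, hb.c2, hb.c3, hb.c4, hb.c5]
  have f1 := congrArg (fun v => b.repr v 1) e1
  have f2 := congrArg (fun v => b.repr v 2) e1
  have f3 := congrArg (fun v => b.repr v 3) e1
  have f4 := congrArg (fun v => b.repr v 4) e1
  simp [Finsupp.single_apply] at f1 f2 f3 f4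
  subst f4 f3 f2 f1
  have e2 : g 0 = a0 • b 0 + a4 • (b 1 + b 2 + b 3 + b 4 + b 5) := by rw [e0]; module
  have e3 : g 1 = a0 • b 1 + a4 • (b 0 + b 2 - b 3 - b 4 + b 5) := by
    rw [← hg.x0, e2]
    simp only [ap_add, ap_smul, hb.x0, hb.x1, hb.x2, hb.x3, hb.x4, hb.x5]
    module
  have e4 : g 2 = a0 • b 2 + a4 • (b 0 + b 1 + b 3 - b 4 - b 5) := by
    rw [← hg.c1, e3]
    simp only [ap_add, ap_sub, ap_smul, hb.c0, hb.c1, hb.c2, hb.c3, hb.c4, hb.c5]
    module
  have e5 : g 3 = a0 • b 3 + a4 • (b 0 - b 1 + b 2 + b 4 - b 5) := by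
    rw [← hg.c2, e4]
    simp only [ap_add, ap_sub, ap_smul, hb.c0, hb.c1, hb.c2, hb.c3, hb.c4, hb.c5]
    module
  have e6 : g 4 = a0 • b 4 + a4 • (b 0 - b 1 - b 2 + b 3 + b 5) := by
    rw [← hg.c3, e5]
    simp only [ap_add, ap_sub, ap_smul, hb.c0, hb.c1, hb.c2, hb.c3, hb.c4, hb.c5]
    module
  have e7 : g 5 = a0 • b 5 + a4 • (b 0 + b 1 - b 2 - b 3 + b 4) := by
    rw [← hg.c4, e6]
    simp only [ap_add, ap_sub, ap_smul, hb.c0, hb.c1, hb.c2, hb.c3, hb.c4, hb.c5]
    module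
  exact ⟨a0, a4, e2, e3, e4, e5, e6, e7⟩

theorem Cmb.inv0 {b g : Fin 6 → ι → F} {α β : F} (h : Cmb b g α β) :
    (α ^ 2 - 5 * β ^ 2) • b 0 = α • g 0 - β • (g 1 + g 2 + g 3 + g 4 + g 5) := by
  rw [h.g0, h.g1, h.g2, h.g3, h.g4, h.g5]
  module

/-- the algebra behind the ratio -/
theorem ratio_aux (h2 : (2 : F) ≠ 0) {b g : Basis (Fin 6) F (ι → F)} {α β : F} (h : Cmb b g α β) (hβ : β ≠ 0)
    {t u : GL ι F} (ht : Sgn g t (sij 0 1)) (hu : Sgn b u (sij 0 1)) {s : F} {i : Fin 6} (hi : i = 0 ∨ i = 1)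
    (hy : ap (t * u * (t * u)) (b 0) = s • b i) : α ^ 2 = -3 * β ^ 2 := by
  have u0 : ap u (b 0) = - b 0 := by
    have := hu 0
    rw [show sij 0 1 0 = -1 by decide, sg_neg_one, neg_one_smul] at this
    exact this
  have u1 : ap u (b 1) = - b 1 := by
    have := hu 1
    rw [show sij 0 1 1 = -1 by decide, sg_neg_one, neg_one_smul] at this
    exact this
  have u2 : ap u (b 2) = b 2 := by
    have := hu 2
    rw [show sij 0 1 2 = 1 by decide, sg_one, one_smul] at this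
    exact this
  have u3 : ap u (b 3) = b 3 := by
    have := hu 3
    rw [show sij 0 1 3 = 1 by decide, sg_one, one_smul] at this
    exact this
  have u4 : ap u (b 4) = b 4 := by
    have := hu 4
    rw [show sij 0 1 4 = 1 by decide, sg_one, one_smul] at this
    exact this
  have u5 : ap u (b 5) = b 5 := by
    have := hu 5
    rw [show sij 0 1 5 = 1 by decide, sg_one, one_smul] at this
    exact this
  have t0 : ap t (g 0) = - g 0 := by
    have := ht 0
    rw [show sij 0 1 0 = -1 by decide, sg_neg_one, neg_one_smul] at this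
    exact this
  have t1 : ap t (g 1) = - g 1 := by
    have := ht 1
    rw [show sij 0 1 1 = -1 by decide, sg_neg_one, neg_one_smul] at this
    exact this
  have t2 : ap t (g 2) = g 2 := by
    have := ht 2
    rw [show sij 0 1 2 = 1 by decide, sg_one, one_smul] at this
    exact this
  have t3 : ap t (g 3) = g 3 := by
    have := ht 3
    rw [show sij 0 1 3 = 1 by decide, sg_one, one_smul] at this
    exact this
  have t4 : ap t (g 4) = g 4 := by
    have := ht 4
    rw [show sij 0 1 4 = 1 by decide, sg_one, one_smul] at this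
    exact this
  have t5 : ap t (g 5) = g 5 := by
    have := ht 5
    rw [show sij 0 1 5 = 1 by decide, sg_one, one_smul] at this
    exact this
  set Δ := α ^ 2 - 5 * β ^ 2 with hΔ
  set ε := α ^ 2 - β ^ 2 with hε
  -- `p = α g₀ - β g₁`
  obtain ⟨p, hp⟩ : ∃ p, p = α • g 0 - β • g 1 := ⟨_, rfl⟩
  have hp2 : p = ε • b 0 + (α * β - β ^ 2) • (b 2 + b 5) + (α * β + β ^ 2) • (b 3 + b 4) := by
    rw [hp, h.g0, h.g1, hε]; module
  have tp : ap t p = - p := by
    rw [hp, ap_sub, ap_smul, ap_smul, t0, t1]; module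
  have up : ap u p = p - (2 * ε) • b 0 := by
    rw [hp2]
    simp only [ap_add, ap_smul, u0, u2, u3, u4, u5]
    module
  have tb : Δ • ap t (b 0) = Δ • b 0 - (2 : F) • p := by
    rw [← ap_smul, h.inv0, hp]
    simp only [ap_sub, ap_add, ap_smul, t0, t1, t2, t3, t4, t5]
    module
  have key : (Δ ^ 2) • ap (t * u * (t * u)) (b 0) = (Δ * (Δ - 4 * ε)) • b 0 - (4 * (Δ - 2 * ε)) • p := by
    have e1 : Δ • ap u (ap t (ap u (b 0))) = (Δ - 4 * ε) • b 0 + (2 : F) • p := by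
      rw [u0, ap_neg, ap_neg, smul_neg, ← ap_smul, tb, ap_sub, ap_smul, ap_smul, up, u0]
      module
    rw [ap_mul, ap_mul, ap_mul, pow_two, mul_smul, ← ap_smul, e1, ap_add, ap_smul, ap_smul, tp, smul_add, smul_smul,
      mul_comm Δ, mul_smul, tb]
    module
  rw [hy, hp2] at key
  have f2 := congrArg (fun v => b.repr v 2) key
  have f3 := congrArg (fun v => b.repr v 3) key
  have hi2 : i ≠ 2 := by rcases hi with rfl | rfl <;> decide
  have hi3 : i ≠ 3 := by rcases hi with rfl | rfl <;> decide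
  simp [Finsupp.single_apply, hi2, hi3] at f2 f3
  have h4 : (8 : F) ≠ 0 := by
    intro h8
    have : (2 : F) ^ 3 = 0 := by rw [← h8]; norm_num
    exact h2 (pow_eq_zero_iff (by norm_num) |>.1 this)
  have f2' : 4 * (Δ - 2 * ε) * (α * β - β ^ 2) = 0 := by
    rcases f2 with (h | h) | h
    · rw [h]; ring
    · rw [h]; ring
    · rw [h]; ring
  have h5 : 8 * β ^ 2 * (Δ - 2 * ε) = 0 := by linear_combination f3 - f2'
  rcases mul_eq_zero.1 h5 with h6 | h6
  · rcases mul_eq_zero.1 h6 with h7 | h7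
    · exact absurd h7 h4
    · exact absurd (pow_eq_zero_iff two_ne_zero |>.1 h7) hβ
  · rw [hΔ, hε] at h6
    linear_combination -h6

section TT

variable {P : Subgroup (GL ι F)} {K : Type*} [Field K]

lemma pj_low_inj {a b a' b' : K} (h : pj K (low a b) = pj K (low a' b')) : a = a' ∧ b = b' := by
  obtain ⟨r, -, hr⟩ := pj_eq h
  have h7 := hr 0 0
  have h8 := hr 2 0
  have h9 := hr 2 1
  simp only [low, _root_.Fin.isValue, _root_.Matrix.of_apply, _root_.Matrix.cons_val', _root_.Matrix.cons_val_zero, _root_.Matrix.cons_val_fin_one, _root_.mul_one, _root_.Matrix.cons_val, _root_.Matrix.cons_val_one] at h7 h8 h9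
  rw [← h7, one_mul] at h8 h9
  exact ⟨h8.symm, h9.symm⟩

lemma pj_uni_inj' {a b c a' b' c' : K} (h : pj K (uni a b c) = pj K (uni a' b' c')) : a = a' ∧ b = b' ∧ c = c' := by
  have h6 := pj_uni_inj h
  have h7 := congrFun (congrFun (congrArg Subtype.val h6) 1) 2
  have h8 := congrFun (congrFun (congrArg Subtype.val h6) 0) 2
  have h9 := congrFun (congrFun (congrArg Subtype.val h6) 0) 1
  simp only [uni, _root_.Fin.isValue, _root_.Matrix.of_apply, _root_.Matrix.cons_val', _root_.Matrix.cons_val, _root_.Matrix.cons_val_fin_one, _root_.Matrix.cons_val_one, _root_.Matrix.cons_val_zero] at h7 h8 h9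
  exact ⟨h9, h7, h8⟩

lemma up_comm_low {a b : K} (h : pj K (up 1) * pj K (low a b) = pj K (low a b) * pj K (up 1)) : a = 0 := by
  rw [← map_mul, ← map_mul, up, blk_low, map_mul, map_mul] at h
  have h1 := (pj_low_inj (mul_left_cancel h)).2
  linear_combination -h1

lemma up_comm_uni {b c : K} (h : pj K (up 1) * pj K (uni 0 b c) = pj K (uni 0 b c) * pj K (up 1)) : b = 0 := by
  rw [← map_mul, ← map_mul, up, blk_uni, map_mul, map_mul] at h
  have h1 := (pj_uni_inj' (mul_right_cancel h)).2.2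
  linear_combination h1

lemma low_uni_sq (h2 : (2 : K) = 0) (b c : K) : (low 0 b * uni 0 0 c) * (low 0 b * uni 0 0 c) = up (c * b) := by
  have e1 : (low 0 b * uni 0 0 c).1 = !![1, 0, c; 0, 1, 0; 0, b, 1] := by
    ext i j
    rw [mul_entry]
    (revert i j; simp only [low, uni, _root_.Fin.forall_fin_succ, Fin.isValue, _root_.Matrix.of_apply, _root_.Matrix.cons_val', _root_.Matrix.cons_val_zero, _root_.Matrix.cons_val_fin_one, _root_.Matrix.cons_val_one, _root_.Matrix.cons_val, _root_.mul_one, _root_.MulZeroClass.mul_zero, _root_.add_zero, _root_.Matrix.cons_val_succ, _root_.zero_add, _root_.forall_const, _root_.true_and, _root_.one_mul, _root_.add_eq_right, _root_.mul_eq_zero, _root_.true_or, _root_.implies_true, _root_.and_self])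
  generalize low 0 b * uni 0 0 c = A at e1 ⊢
  apply ext'
  intro i j
  rw [mul_entry, e1]
  (revert i j; simp only [up, blk, _root_.Fin.forall_fin_succ, Fin.isValue, _root_.Matrix.of_apply, _root_.Matrix.cons_val', _root_.Matrix.cons_val_zero, _root_.Matrix.cons_val_fin_one, _root_.Matrix.cons_val_one, _root_.Matrix.cons_val, _root_.mul_one, _root_.MulZeroClass.mul_zero, _root_.add_zero, _root_.Matrix.cons_val_succ, _root_.zero_add, _root_.forall_const, _root_.one_mul, _root_.add_eq_right, _root_.mul_eq_zero, _root_.MulZeroClass.zero_mul, _root_.true_or, _root_.and_true, _root_.true_and]) <;> (repeat' with_reducible apply And.intro)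
  · linear_combination c * h2
  · linear_combination b * h2

lemma elts {w : K} (hw : w ^ 2 + w + 1 = 0) {k : K} (hk : k ^ 3 = 1) : k = 1 ∨ k = w ∨ k = w * w := by
  have h : (k - 1) * ((k - w) * (k - w * w)) = 0 := by
    linear_combination hk + (k - 1) * (w - 1 - k) * hw
  rcases mul_eq_zero.1 h with h | h
  · left; linear_combination h
  rcases mul_eq_zero.1 h with h | h
  · right; left; linear_combination h
  · right; right; linear_combination h

end TT

end Cfsg.Agent.H913.N6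
end

-- part: H913/N6Two2
section
/-!
# Two opposite frames: existence (helper913)
-/

set_option autoImplicit false
set_option linter.unusedSectionVars false

namespace Cfsg.Agent.H913.N6

open Cfsg Cfsg.Geo Matrix
open Module (Basis)
open Cfsg.Agent.H915.LD (Core Soc toSoc tr)
open Cfsg.Agent.H906.SL3Par Cfsg.Agent.H906.L34 Cfsg.Agent.H906.T14

variable {ι : Type} [Fintype ι] [DecidableEq ι] {F : Type*} [Field F] {P : Subgroup (GL ι F)}
  {K : Type*} [Field K]

/-- two opposite frames in relative position `θ + C` -/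
structure Two (C : Cov P (PT K)) (b g : Basis (Fin 6) F (ι → F)) (θ : F) : Prop where
  hb : Frm b (DD C (Rl K))
  hg : Frm g (DD C (Rq K))
  hθ : θ * θ = -3
  cmb : Cmb b g θ 1
  nf : ∃ n ∈ P, ∃ m ∈ P, ∃ x ∈ P, NF b n m x

/-- the frames of an invariant radical are monomial for the generators -/
theorem mono_of_norm {C : Cov P (PT K)} {R : Subgroup (PT K)} {b : Basis (Fin 6) F (ι → F)} (h2 : (2 : F) ≠ 0)
    (hb : Frm b (DD C R)) {y : GL ι F} {γ : PT K} (hy : C.L y γ) (hn : ∀ r ∈ R, γ⁻¹ * r * γ ∈ R) :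
    ∃ σ a, Mono b y σ a := by
  refine exists_mono hb h2 fun z hz => ?_
  have h1 := Setup.dd_conj hz hy.inv (by
    intro r hr
    rw [inv_inv]
    exact hn r hr)
  rwa [inv_inv] at h1

theorem NF_of_gens [Fintype K] {C : Cov P (PT K)} (S : Setup P C (TVK K)) {R : Subgroup (PT K)}
    {b : Basis (Fin 6) F (ι → F)} (hb : Frm b (DD C R)) {w : K} {n m x d : GL ι F} (G : Gens C w n m x d)
    (hR : ∀ (a b c d : K) (h : a * d - b * c = 1), ∀ r ∈ R, (pj K (blk a b c d h))⁻¹ * r * pj K (blk a b c d h) ∈ R)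
    (hne : ∃ r ∈ R, (∃ z, IL C z r) ∧ pj K (up 1) * pj K (dn w) * r ≠ r * (pj K (up 1) * pj K (dn w))) :
    ∃ w : Basis (Fin 6) F (ι → F), Reb b w ∧ NF w n m x := by
  obtain ⟨hdd, hd⟩ := G.dL
  refine exists_NF S.two (mono_of_norm S.two hb G.nL.1.1 (hR _ _ _ _ _)) (mono_of_norm S.two hb G.mL.1.1 (hR _ _ _ _ _))
    (mono_of_norm S.two hb G.xL.1.1 (hR _ _ _ _ _)) (mono_of_norm S.two hb hd (hR _ _ _ _ _)) G.nL.1.2 G.mL.1.2
    G.xL.1.2 G.comm G.nL.2 G.dn G.dx G.five G.three ?_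
  by_contra hcon
  push Not at hcon
  obtain ⟨r, hr, ⟨z, hz⟩, hne⟩ := hne
  apply hne
  obtain ⟨s, -, hzs⟩ := hb.diag z ⟨r, hr, hz⟩
  have h1 : n * m * z = z * (n * m) := by
    apply ap_ext b
    intro i
    obtain ⟨t, ht⟩ := hcon i
    rw [ap_mul (n * m) z, ap_mul z (n * m), hzs i, ht, ap_smul, ap_smul, ht, hzs i, smul_comm]
  have h2 := (G.nL.1.1.mul G.mL.1.1).mul hz.1
  have h3 := hz.1.mul (G.nL.1.1.mul G.mL.1.1)
  rw [h1] at h2
  exact h2.unique h3

theorem exists_two [Fintype K] (hK : Fintype.card K = 4) {C : Cov P (PT K)} (S : Setup P C (TVK K))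
    (hdet : ∀ x ∈ P, (x : Matrix ι ι F).det = 1) : ∃ (b g : Basis (Fin 6) F (ι → F)) (θ : F), Two C b g θ := by
  obtain ⟨b0, hb0⟩ := S.exists_frame (rad_l hK) hdet
  obtain ⟨g0, hg0⟩ := S.exists_frame (rad_q hK) hdet
  obtain ⟨w, hw⟩ := exists_w hK
  have k2 := two_zero hK
  have hw3 : w * w ^ 2 = 1 := by linear_combination (w - 1) * hw
  have hw0 : w ≠ 0 := left_ne_zero_of_mul_eq_one hw3
  obtain ⟨n, m, x, d, G⟩ := exists_gens hK S hb0 hw
  have eA : up 1 * dn w = blk (1 + w) 1 w 1 (by ring) := by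
    apply ext'
    intro i j
    rw [mul_entry]
    (revert i j; simp only [up, dn, blk, _root_.Fin.forall_fin_succ, Fin.isValue, _root_.Matrix.of_apply, _root_.Matrix.cons_val', _root_.Matrix.cons_val_zero, _root_.Matrix.cons_val_fin_one, _root_.Matrix.cons_val_one, _root_.Matrix.cons_val, _root_.mul_one, _root_.MulZeroClass.mul_zero, _root_.add_zero, _root_.Matrix.cons_val_succ, _root_.zero_add, _root_.implies_true, _root_.and_self, _root_.and_true, _root_.one_mul, _root_.MulZeroClass.zero_mul])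
  obtain ⟨b, hrb, nb⟩ := NF_of_gens S hb0 G (fun a b c d h => blk_norm_l' h) (by
    refine ⟨pj K (uni 0 0 1), ⟨_, ⟨_, _, rfl⟩, rfl⟩, S.exists_IL (uni_TV hK (Or.inr one_ne_zero)), ?_⟩
    rw [← map_mul, ← map_mul, ← map_mul, eA, blk_uni, map_mul, map_mul]
    intro h
    have h1 := (pj_uni_inj' (mul_right_cancel h)).2.1
    apply hw0
    linear_combination h1)
  obtain ⟨g, hrg, ng⟩ := NF_of_gens S hg0 G (fun a b c d h => blk_norm_q' h) (by
    refine ⟨pj K (low 1 0), ⟨_, ⟨_, _, rfl⟩, rfl⟩, S.exists_IL (low_TV hK (Or.inl one_ne_zero)), ?_⟩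
    rw [← map_mul, ← map_mul, ← map_mul, eA, blk_low, map_mul, map_mul]
    intro h
    have h1 := (pj_low_inj (mul_left_cancel h)).2
    have h2 : (1 : K) = 0 := by linear_combination -h1
    exact one_ne_zero h2)
  have hb := hb0.reb hrb
  have hg := hg0.reb hrg
  obtain ⟨α, β, hc⟩ := exists_cmb nb ng
  obtain ⟨t, ⟨_, ⟨_, ⟨a1, b1, rfl⟩, rfl⟩, ht⟩, hts⟩ := hg.full (sij 0 1) (by decide)
  obtain ⟨u, ⟨_, ⟨_, ⟨b2, c2, rfl⟩, rfl⟩, hu⟩, hus⟩ := hb.full (sij 0 1) (by decide)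
  have comm_n : ∀ {f : Basis (Fin 6) F (ι → F)} {z : GL ι F}, NF f n m x → Sgn f z (sij 0 1) → n * z = z * n := by
    intro f z hf hz
    have z0 : ap z (f 0) = - f 0 := by
      have := hz 0
      rwa [show sij 0 1 0 = -1 by decide, sg_neg_one, neg_one_smul] at this
    have z1 : ap z (f 1) = - f 1 := by
      have := hz 1
      rwa [show sij 0 1 1 = -1 by decide, sg_neg_one, neg_one_smul] at this
    have z2 : ap z (f 2) = f 2 := by
      have := hz 2
      rwa [show sij 0 1 2 = 1 by decide, sg_one, one_smul] at this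
    have z3 : ap z (f 3) = f 3 := by
      have := hz 3
      rwa [show sij 0 1 3 = 1 by decide, sg_one, one_smul] at this
    have z4 : ap z (f 4) = f 4 := by
      have := hz 4
      rwa [show sij 0 1 4 = 1 by decide, sg_one, one_smul] at this
    have z5 : ap z (f 5) = f 5 := by
      have := hz 5
      rwa [show sij 0 1 5 = 1 by decide, sg_one, one_smul] at this
    apply ap_ext f
    intro i
    rw [ap_mul, ap_mul]
    fin_cases i
    · change ap n (ap z (f 0)) = ap z (ap n (f 0))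
      rw [z0, hf.n0, ap_neg, ap_neg, hf.n0, z0]
    · change ap n (ap z (f 1)) = ap z (ap n (f 1))
      rw [z1, hf.n1, ap_neg, ap_neg, hf.n1, z1]
    · change ap n (ap z (f 2)) = ap z (ap n (f 2))
      rw [z2, hf.n2, ap_neg, z5]
    · change ap n (ap z (f 3)) = ap z (ap n (f 3))
      rw [z3, hf.n3, ap_neg, z4]
    · change ap n (ap z (f 4)) = ap z (ap n (f 4))
      rw [z4, hf.n4, ap_neg, z3]
    · change ap n (ap z (f 5)) = ap z (ap n (f 5))
      rw [z5, hf.n5, ap_neg, z2]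
  have ha1 : a1 = 0 := by
    apply up_comm_low (b := b1)
    have h1 := G.nL.1.1.mul ht.1
    rw [comm_n ng hts] at h1
    exact h1.unique (ht.1.mul G.nL.1.1)
  have hb2 : b2 = 0 := by
    apply up_comm_uni (c := c2)
    have h1 := G.nL.1.1.mul hu.1
    rw [comm_n nb hus] at h1
    exact h1.unique (hu.1.mul G.nL.1.1)
  subst ha1 hb2
  have hconst : ∀ (f : Basis (Fin 6) F (ι → F)) (z : GL ι F), Sgn f z (sij 0 1) → IL C z 1 → False := by
    intro f z hf hz
    rcases S.IL_one_iff.1 hz with rfl | rfl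
    · have := hf.unique S.two (Sgn.one f)
      exact absurd (congrFun this 0) (by decide)
    · have := hf.unique S.two (Sgn.m1 f)
      exact absurd (congrFun this 2) (by decide)
  have hb1 : b1 ≠ 0 := by
    rintro rfl
    rw [low_zero, map_one] at ht
    exact hconst g t hts ht
  have hc2 : c2 ≠ 0 := by
    rintro rfl
    rw [uni_zero, map_one] at hu
    exact hconst b u hus hu
  -- the commutator
  have hy : C.L (t * u * (t * u)) (pj K (up (c2 * b1))) := by
    rw [← low_uni_sq k2, map_mul, map_mul]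
    exact (ht.1.mul hu.1).mul (ht.1.mul hu.1)
  have hcb : (c2 * b1) ^ 3 = 1 := cube_one hK (mul_ne_zero hc2 hb1)
  have hyb : ∃ (s : F) (i : Fin 6), (i = 0 ∨ i = 1) ∧ ap (t * u * (t * u)) (b 0) = s • b i := by
    rcases elts hw hcb with h | h | h
    · rw [h] at hy
      obtain ⟨c, -, hc⟩ := hy.exists_sc G.nL.1.1
      refine ⟨-(c : F), 0, Or.inl rfl, ?_⟩
      rw [hc, ap_mul, nb.n0, ap_sc, smul_neg, neg_smul]
    · rw [h] at hy
      obtain ⟨c, -, hc⟩ := hy.exists_sc G.xL.1.1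
      refine ⟨(c : F), 1, Or.inr rfl, ?_⟩
      rw [hc, ap_mul, nb.x0, ap_sc]
    · rw [h] at hy
      obtain ⟨c, -, hc⟩ := hy.exists_sc G.xnL.1.1
      refine ⟨-(c : F), 1, Or.inr rfl, ?_⟩
      rw [hc, ap_mul, ap_mul, nb.n0, ap_neg, nb.x0, ap_sc, smul_neg, neg_smul]
  have hβ : β ≠ 0 := by
    rintro rfl
    have hα : ∀ i, g i = α • b i := by
      intro i
      fin_cases i
      · exact (hc.g0).trans (by rw [zero_smul, add_zero]; rfl)
      · exact (hc.g1).trans (by rw [zero_smul, add_zero]; rfl)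
      · exact (hc.g2).trans (by rw [zero_smul, add_zero]; rfl)
      · exact (hc.g3).trans (by rw [zero_smul, add_zero]; rfl)
      · exact (hc.g4).trans (by rw [zero_smul, add_zero]; rfl)
      · exact (hc.g5).trans (by rw [zero_smul, add_zero]; rfl)
    have hus' : Sgn g u (sij 0 1) := by
      intro i
      rw [hα i, ap_smul, hus i, smul_comm]
    have htu : t = u := hts.eq hus'
    have h1 : t * u * (t * u) = 1 := by
      rw [htu, hu.2, one_mul]
    rw [h1] at hy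
    have h2 := hy.unique Cov.L.one
    exact pj_ne_one (i := 0) (j := 1) (by decide) (by simpa only [up, blk, _root_.Fin.isValue, _root_.Matrix.of_apply, _root_.Matrix.cons_val', _root_.Matrix.cons_val_one, _root_.Matrix.cons_val_zero, _root_.Matrix.cons_val_fin_one, _root_.ne_eq, _root_.mul_eq_zero, _root_.not_or] using mul_ne_zero hc2 hb1) h2
  obtain ⟨s, i, hi, hyb⟩ := hyb
  have hratio := ratio_aux S.two hc hβ hts hus hi hyb
  -- rescale
  obtain ⟨g', hg'⟩ := exists_reb g (Equiv.refl _) (fun _ => β⁻¹) (fun _ => inv_ne_zero hβ)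
  have hrg' : Reb g g' := ⟨Equiv.refl _, _, fun i => ⟨inv_ne_zero hβ, hg' i⟩⟩
  have hg'' : ∀ i, g' i = β⁻¹ • g i := hg'
  refine ⟨b, g', α / β, hb, hg.reb hrg', ?_, ?_, ⟨n, G.nL.1.1.mem, m, G.mL.1.1.mem, x, G.xL.1.1.mem, nb⟩⟩
  · rw [div_mul_div_comm, div_eq_iff (mul_ne_zero hβ hβ)]
    linear_combination hratio
  · have e1 : β⁻¹ * α = α / β := by rw [div_eq_mul_inv, mul_comm]
    have e2 : β⁻¹ * β = 1 := inv_mul_cancel₀ hβ
    constructor
    · rw [hg'', hc.g0, smul_add, smul_smul, smul_smul, e1, e2]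
    · rw [hg'', hc.g1, smul_add, smul_smul, smul_smul, e1, e2]
    · rw [hg'', hc.g2, smul_add, smul_smul, smul_smul, e1, e2]
    · rw [hg'', hc.g3, smul_add, smul_smul, smul_smul, e1, e2]
    · rw [hg'', hc.g4, smul_add, smul_smul, smul_smul, e1, e2]
    · rw [hg'', hc.g5, smul_add, smul_smul, smul_smul, e1, e2]

end Cfsg.Agent.H913.N6
end

private theorem dce_2cace04a16ec : _root_.True := by
  try have : _root_.True := by simp only [_root_.Cfsg.Agent.H913.N6.low.eq_1]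
  try have : _root_.True := by simp only [_root_.Cfsg.Agent.H913.N6.sij.eq_1]
  try have : _root_.True := by simp only [_root_.Cfsg.Agent.H915.LD.tr.eq_1]
  try have : _root_.True := by simp only [_root_.Cfsg.Agent.H913.N6.up.eq_1]
  try have : _root_.True := by simp only [_root_.Cfsg.Agent.H913.N6.m1.eq_1]
  try have : _root_.True := by simp only [_root_.Cfsg.Agent.H913.N6.dn.eq_1]
  try have : _root_.True := by simp only [_root_.Cfsg.Agent.H913.N6.blk.eq_1]
  try have : _root_.True := by simp only [_root_.Cfsg.Agent.H913.N6.ap.eq_1]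
  try have : _root_.True := by simp only [_root_.Cfsg.Agent.H913.N6.sg.eq_1]
  exact _root_.True.intro
end

-- part: H913/N6Max
section
prune_inst 0x155001403400000000180500100000002000000200000800080000000001000000000001022000000020004000040000000000300000000000000000000500000800000400000000000000000080000000000000000000000000000000000000000000000
set_option linter.all false
open scoped Cfsg.Agent.FastGrp

/-- decoders of the packed data (elaboration time only) -/
private noncomputable def pk61d (b S i : Nat) : Nat := Nat.mod (Nat.shiftRight S (Nat.mul b i)) (Nat.shiftLeft (nat_lit 1) b)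
private noncomputable def pk61c {α : Type} (t : Nat) (a : α) (f : Nat → α) : α := Nat.rec a (fun k _ => f k) t
private noncomputable def pk61f {α : Type} (t : Nat) (f : Nat → α) : α := Nat.rec (f Nat.zero) (fun k _ => f (Nat.succ k)) t
private noncomputable def pk61l {α : Type} (f : Nat → α) (s e : Nat) (tl : List α) : List α :=
  pk61f e fun e => Nat.rec tl (fun k ih => List.cons (pk61f (Nat.sub e (Nat.succ k)) f) ih) (Nat.sub e s)
private noncomputable def pk61o {α : Type} (O : (n : Nat) → OfNat α n → α) (I : (n : Nat) → OfNat α n) (t : Nat) : α :=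
  pk61c t (O (nat_lit 0) (I (nat_lit 0))) fun k => O (Nat.succ k) (I (Nat.succ k))
private noncomputable def pk61y (O : (n : Nat) → OfNat Int n → Int) (I : (n : Nat) → OfNat Int n) (G : Int → Int) (t : Nat) : Int := pk61f t fun t =>
  pk61c (Nat.mod t (nat_lit 2)) (pk61o O I (Nat.div t (nat_lit 2))) fun _ => G (pk61o O I (Nat.succ (Nat.div t (nat_lit 2))))


-- part: H913/N6Tab
section
/-!
# The 126 lines of the hexacode-like system: tables (helper913)

`Z2` : pairs `a + b θ`, `θ ^ 2 = -3`; lines are coded in base 4 (digits `0, 1, -1, θ`).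
-/

set_option autoImplicit false
set_option linter.unusedVariables false
set_option maxRecDepth 100000

namespace Cfsg.Agent.H913.N6

/-- `a + b θ` -/
abbrev Z2 := ℤ × ℤ

def zadd (x y : Z2) : Z2 := (x.1 + y.1, x.2 + y.2)
def zsub (x y : Z2) : Z2 := (x.1 - y.1, x.2 - y.2)
def zth (x : Z2) : Z2 := (-3 * x.2, x.1)
def zc (c : ℤ) (x : Z2) : Z2 := (c * x.1, c * x.2)
def zmul (x y : Z2) : Z2 := (x.1 * y.1 - 3 * (x.2 * y.2), x.1 * y.2 + x.2 * y.1)

/-- the conference matrix -/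
def Cz : Fin 6 → Fin 6 → ℤ := ![![0, 1, 1, 1, 1, 1], ![1, 0, 1, -1, -1, 1], ![1, 1, 0, 1, -1, -1],
  ![1, -1, 1, 0, 1, -1], ![1, -1, -1, 1, 0, 1], ![1, 1, -1, -1, 1, 0]]

/-- digits -/
def dig (n : ℕ) : Z2 := if n = 0 then (0, 0) else if n = 1 then (1, 0) else if n = 2 then (-1, 0) else (0, 1)

def dec (n : ℕ) (k : Fin 6) : Z2 := dig (n / 4 ^ (k : ℕ) % 4)

/-- the codes of the lines -/
def LT : List ℕ :=
  (by
  refine (?fq9001 : ((pk61l (fun i1 => (pk61d (nat_lit 12) 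
    (nat_lit 0x401201081009011005041801021101090204840024500804210440140084900410110050240810404104044014e56b56ba97966d6e6a6ead55b9ae9a575ae99ba6ba5e65b657aea9ae6755ba65d555dd5aab9aad56ea6e9ae95ead566d799979a5d6b5d999e5a57679e955adb659976976d999d7a5d699676675a7b599b5e655e995b65b59b56be59ea6d66d96daab6ab957aa75a7665daada6e59ea9d6676976ab65b9a7aa9e59e65e6ae96d6ab9aba6ba9baa7da57699d9a7569d557) i1)) (nat_lit 0) (nat_lit 126) List.nil) : List ℕ)
    = ?xq9001 → (List ℕ)) ?hq9001; (case hq9001 => (set_option maxRecDepth 1000000 in conv => lhs; reduce)); intro _; exact ?xq9001 : List ℕ)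

def LL (n : ℕ) : Fin 6 → Z2 := dec (LT.getD n 0)

def T0 : List (ℕ × ℤ × ℤ) :=
  (by
  refine (?fq9002 : (fun (On : (n : Nat) → OfNat Nat n → Nat) (In : (n : Nat) → OfNat Nat n) (Oz : (n : Nat) → OfNat Int n → Int) (Iz : (n : Nat) → OfNat Int n) (Gz : Int → Int) => ((pk61l (fun i1 => (_root_.Prod.mk (pk61o On In (pk61d (nat_lit 7) 
    (nat_lit 0x3b74efebaf8f7f7cfce78b8e0df8f6ecd7874e8cf9b2e4ddcb57046ae5bf64a4bc83ade7cd54f1411aa8aa1bba66358252478e1a30c31b84db524059614acf4f2d5d6e01c42cda39bd4ed511424407bf397bb0ad6bb09812541b2e81b87d1e8028b121c2029d3254800f9a2a40586) i1)) (_root_.Prod.mk (pk61y Oz Iz Gz (pk61d (nat_lit 2) 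
    (nat_lit 0x55555999a9aaa55aaaaaaaaaaa69559a6a6996695aa55aaaaaaaaaa55555aa5) i1)) (pk61y Oz Iz Gz (nat_lit 0))))) (nat_lit 0) (nat_lit 126) List.nil) : List (ℕ × ℤ × ℤ)))
    = ?xq9002 → (List (ℕ × ℤ × ℤ))) ?hq9002; (case hq9002 => (set_option maxRecDepth 1000000 in conv => lhs; reduce)); intro _; exact ?xq9002 (@OfNat.ofNat Nat) instOfNatNat (@OfNat.ofNat Int) (@instOfNat) (@Neg.neg Int Int.instNegInt) : List (ℕ × ℤ × ℤ))

def T1 : List (ℕ × ℤ × ℤ) :=
  (by
  refine (?fq9003 : (fun (On : (n : Nat) → OfNat Nat n → Nat) (In : (n : Nat) → OfNat Nat n) (Oz : (n : Nat) → OfNat Int n → Int) (Iz : (n : Nat) → OfNat Int n) (Gz : Int → Int) => ((pk61l (fun i1 => (_root_.Prod.mk (pk61o On In (pk61d (nat_lit 7) 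
    (nat_lit 0x3b74efe3cfaf7f7afccdcb8e0dfbb3ecd7ab4e4dbcf2e8c78b0f052d6bb02e8d921bb3a398284e510255a09a3b462afaa3e4bd622e68d38f223e3e552aa443af264f661dc90284883ce2f9966d1c86b4dec0576ae5bf0931454b60dd53a53c1508cda00184b96ac009101b2c44607) i1)) (_root_.Prod.mk (pk61y Oz Iz Gz (pk61d (nat_lit 2) 
    (nat_lit 0x555556aa6a959aaaaaaa6596aaa6aaa99a5a96a959a55aaaaaaa955aa955a99) i1)) (pk61y Oz Iz Gz (nat_lit 0))))) (nat_lit 0) (nat_lit 126) List.nil) : List (ℕ × ℤ × ℤ)))
    = ?xq9003 → (List (ℕ × ℤ × ℤ))) ?hq9003; (case hq9003 => (set_option maxRecDepth 1000000 in conv => lhs; reduce)); intro _; exact ?xq9003 (@OfNat.ofNat Nat) instOfNatNat (@OfNat.ofNat Int) (@instOfNat) (@Neg.neg Int Int.instNegInt) : List (ℕ × ℤ × ℤ))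

def T2 : List (ℕ × ℤ × ℤ) :=
  (by
  refine (?fq9004 : (fun (On : (n : Nat) → OfNat Nat n → Nat) (In : (n : Nat) → OfNat Nat n) (Oz : (n : Nat) → OfNat Int n → Int) (Iz : (n : Nat) → OfNat Int n) (Gz : Int → Int) => ((pk61l (fun i1 => (_root_.Prod.mk (pk61o On In (pk61d (nat_lit 7) 
    (nat_lit 0x3b74f7e3afaeff7cfccdcb670dfbb6f1cb874e8cfcf5e4c78b5606e74f4c2d38aa0568e84a7ce0c552368cdc6b5073b2111b4616c540c374c79490c9252bf1658a12ea11a3e99387ae4d1415ab8339aca42d85f76f047ec26d1076ecbc540a7c77b240c086d1980589509c2e48688) i1)) (_root_.Prod.mk (pk61y Oz Iz Gz (pk61d (nat_lit 2) 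
    (nat_lit 0x55555a6a96aa6aaaa66a9a6a69aaaa6aa96a95a95a955aaaaa556aaaa955a69) i1)) (pk61y Oz Iz Gz (nat_lit 0))))) (nat_lit 0) (nat_lit 126) List.nil) : List (ℕ × ℤ × ℤ)))
    = ?xq9004 → (List (ℕ × ℤ × ℤ))) ?hq9004; (case hq9004 => (set_option maxRecDepth 1000000 in conv => lhs; reduce)); intro _; exact ?xq9004 (@OfNat.ofNat Nat) instOfNatNat (@OfNat.ofNat Int) (@instOfNat) (@Neg.neg Int Int.instNegInt) : List (ℕ × ℤ × ℤ))

def T3 : List (ℕ × ℤ × ℤ) :=
  (by
  refine (?fq9005 : (fun (On : (n : Nat) → OfNat Nat n → Nat) (In : (n : Nat) → OfNat Nat n) (Oz : (n : Nat) → OfNat Int n → Int) (Iz : (n : Nat) → OfNat Int n) (Gz : Int → Int) => ((pk61l (fun i1 => (_root_.Prod.mk (pk61o On In (pk61d (nat_lit 7) 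
    (nat_lit 0x3b7cefe3afaf7f7cf4e78b8f0d3bb3eccbab7e8db9b5e4c7cb0e0b07261e94bd45f34eca168e44bbc707dd5d376c6a3a70e00b8cf4ac56a42150ad3454f4031fa410647abb4943a760490d9581973490154b79d7025e975d903a3520d504aa93e62064b688e40335a9911d304c709) i1)) (_root_.Prod.mk (pk61y Oz Iz Gz (pk61d (nat_lit 2) 
    (nat_lit 0x55555aa6aa6aaaa95aa6aaaa96aaaaa6aa6a569956a55aa955aaaaaaa9559a9) i1)) (pk61y Oz Iz Gz (nat_lit 0))))) (nat_lit 0) (nat_lit 126) List.nil) : List (ℕ × ℤ × ℤ)))
    = ?xq9005 → (List (ℕ × ℤ × ℤ))) ?hq9005; (case hq9005 => (set_option maxRecDepth 1000000 in conv => lhs; reduce)); intro _; exact ?xq9005 (@OfNat.ofNat Nat) instOfNatNat (@OfNat.ofNat Int) (@instOfNat) (@Neg.neg Int Int.instNegInt) : List (ℕ × ℤ × ℤ))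

def T4 : List (ℕ × ℤ × ℤ) :=
  (by
  refine (?fq9006 : (fun (On : (n : Nat) → OfNat Nat n → Nat) (In : (n : Nat) → OfNat Nat n) (Oz : (n : Nat) → OfNat Int n → Int) (Iz : (n : Nat) → OfNat Int n) (Gz : Int → Int) => ((pk61l (fun i1 => (_root_.Prod.mk (pk61o On In (pk61d (nat_lit 7) 
    (nat_lit 0x3ef4efe3afaf7dbcfce7cb670d38f6f1d7ab7e4cf9b2e8dd8b0e03f30e1d8282a4e7e849d9231dd2a7d60bde6056122a4305c06d26dc4af3c69253444905f0cd08486074b6e1d2a63741d960cb16b30b22b5abe12e5d56d41b29aa2502aaf29b802c5ec68a01cb45c9d19e325078a) i1)) (_root_.Prod.mk (pk61y Oz Iz Gz (pk61d (nat_lit 2) 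
    (nat_lit 0x55555aaaaaaaaaa6a999aaa9aa9aaaaaa66696a55a655556aaaaaaaaa9556a9) i1)) (pk61y Oz Iz Gz (nat_lit 0))))) (nat_lit 0) (nat_lit 126) List.nil) : List (ℕ × ℤ × ℤ)))
    = ?xq9006 → (List (ℕ × ℤ × ℤ))) ?hq9006; (case hq9006 => (set_option maxRecDepth 1000000 in conv => lhs; reduce)); intro _; exact ?xq9006 (@OfNat.ofNat Nat) instOfNatNat (@OfNat.ofNat Int) (@instOfNat) (@Neg.neg Int Int.instNegInt) : List (ℕ × ℤ × ℤ))

def T5 : List (ℕ × ℤ × ℤ) :=
  (by
  refine (?fq9007 : (fun (On : (n : Nat) → OfNat Nat n → Nat) (In : (n : Nat) → OfNat Nat n) (Oz : (n : Nat) → OfNat Int n → Int) (Iz : (n : Nat) → OfNat Int n) (Gz : Int → Int) => ((pk61l (fun i1 => (_root_.Prod.mk (pk61o On In (pk61d (nat_lit 7) 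
    (nat_lit 0x27cd97ae468a962add80fdebc72ddb34f4c98f85ab32e4a56ee563947a61c54d0762983af7b58ef18fa3fe0ef6359f918b891936891f3e42b8f03a27797ddb446c93ab4910f1b3e656a94a84278b1383093d92099ddf86562507094d57491581f9d3254716f9d355e182840608080) i1)) (_root_.Prod.mk (pk61y Oz Iz Gz (pk61d (nat_lit 5) 
    (nat_lit 0x42110431084218482188632048318d081042219d0739c681a1083a0e340d0340ce81a06318c8f38e08211e443c8f39e041a1ef421081908320c633908319c63210e318c8718c6340c841a108420e7) i1)) (pk61y Oz Iz Gz (pk61d (nat_lit 4) 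
    (nat_lit 0x211424122102020200320300002222408770373778070473848407304334407307330370300704300000004444333403434043430433304334044440000000) i1))))) (nat_lit 0) (nat_lit 126) List.nil) : List (ℕ × ℤ × ℤ)))
    = ?xq9007 → (List (ℕ × ℤ × ℤ))) ?hq9007; (case hq9007 => (set_option maxRecDepth 1000000 in conv => lhs; reduce)); intro _; exact ?xq9007 (@OfNat.ofNat Nat) instOfNatNat (@OfNat.ofNat Int) (@instOfNat) (@Neg.neg Int Int.instNegInt) : List (ℕ × ℤ × ℤ))

def T6 : List (ℕ × ℤ × ℤ) :=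
  (by
  refine (?fq9008 : (fun (On : (n : Nat) → OfNat Nat n → Nat) (In : (n : Nat) → OfNat Nat n) (Oz : (n : Nat) → OfNat Int n → Int) (Iz : (n : Nat) → OfNat Int n) (Gz : Int → Int) => ((pk61l (fun i1 => (_root_.Prod.mk (pk61o On In (pk61d (nat_lit 7) 
    (nat_lit 0x275695270d18b5f7dd82f9e3deae1ab467ab4debf115294e9bccdcfa3a483c56194edf1c923487c181ff70131befd5c4a43be6b28b9a315cb8711276aee2e236ecd6c98b05e7ce191797206c78a38e810a91b5d6dd2d414d6506e32d5899508c69e9259656fddb60ea02840608080) i1)) (_root_.Prod.mk (pk61y Oz Iz Gz (pk61d (nat_lit 4) 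
    (nat_lit 0x222232224223314313388112313332778733738873338338833887838873844f7f447f437ff88884434f73ff83433743447333473333833337444383888787) i1)) (pk61y Oz Iz Gz (pk61d (nat_lit 4) 
    (nat_lit 0x112242214120013020000222020032778043048803337448743770037704733080330043700000044440730004434033430433304334043340344404000000) i1))))) (nat_lit 0) (nat_lit 126) List.nil) : List (ℕ × ℤ × ℤ)))
    = ?xq9008 → (List (ℕ × ℤ × ℤ))) ?hq9008; (case hq9008 => (set_option maxRecDepth 1000000 in conv => lhs; reduce)); intro _; exact ?xq9008 (@OfNat.ofNat Nat) instOfNatNat (@OfNat.ofNat Int) (@instOfNat) (@Neg.neg Int Int.instNegInt) : List (ℕ × ℤ × ℤ))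

def T7 : List (ℕ × ℤ × ℤ) :=
  (by
  refine (?fq9009 : (fun (On : (n : Nat) → OfNat Nat n → Nat) (In : (n : Nat) → OfNat Nat n) (Oz : (n : Nat) → OfNat Int n → Int) (Iz : (n : Nat) → OfNat Int n) (Gz : Int → Int) => ((pk61l (fun i1 => (_root_.Prod.mk (pk61o On In (pk61d (nat_lit 7) 
    (nat_lit 0x274cc76ae46cf12ad07d05dba73bb6c2a6c592eef5d5a8f69a4248a7cc793de9019cc4faadd72c8741ff477ca49cae12de2ff637b390a47cce89e3c37b86ed9aa235a750723a2a14ca2c36495886607ed06d9bd6de9286cec5d2f1e4acac717d19f350a55501e0860a42840608080) i1)) (_root_.Prod.mk (pk61y Oz Iz Gz (pk61d (nat_lit 5) 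
    (nat_lit 0x422084218842090241a101108631884320c2338c681a06340d0841c681a06839c671a0e819e0421c833c1e8421041bd0323d034108f3bc8f210e318c8718c6340c6319c8318ce421068191083a107) i1)) (pk61y Oz Iz Gz (pk61d (nat_lit 4) 
    (nat_lit 0x124121412210200002210032203020043748347370704748370047380837033843700000044083400473300040430433304334043340333403444044000000) i1))))) (nat_lit 0) (nat_lit 126) List.nil) : List (ℕ × ℤ × ℤ)))
    = ?xq9009 → (List (ℕ × ℤ × ℤ))) ?hq9009; (case hq9009 => (set_option maxRecDepth 1000000 in conv => lhs; reduce)); intro _; exact ?xq9009 (@OfNat.ofNat Nat) instOfNatNat (@OfNat.ofNat Int) (@instOfNat) (@Neg.neg Int Int.instNegInt) : List (ℕ × ℤ × ℤ))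

def T8 : List (ℕ × ℤ × ℤ) :=
  (by
  refine (?fq9010 : (fun (On : (n : Nat) → OfNat Nat n → Nat) (In : (n : Nat) → OfNat Nat n) (Oz : (n : Nat) → OfNat Int n → Int) (Iz : (n : Nat) → OfNat Int n) (Gz : Int → Int) => ((pk61l (fun i1 => (_root_.Prod.mk (pk61o On In (pk61d (nat_lit 7) 
    (nat_lit 0x2de0954e3c6bf621ec7f038f0b2d5c74b4c17ae8ab142b4f3d2fcee7da16fbaf7f62934d9cf484842c47ab241becd0cf3e3399eb40572e68debc76e906d105f75d2a443ead3a0966c8185e5c63f0cc7c62939bd38ed4ab262226d719d71cb59514c4e5c853044b762a82840608080) i1)) (_root_.Prod.mk (pk61y Oz Iz Gz (pk61d (nat_lit 5) 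
    (nat_lit 0x44108421084320908110431104308c241846440d034210819c6340c6738ce71a063420e341c688110842068192081909043c8f81087791e721c6318d0318c6720c633908321c6320d032110742107) i1)) (pk61y Oz Iz Gz (pk61d (nat_lit 4) 
    (nat_lit 0x242111221401002013202020100203740477773043834073003744887380380400004834004330704003380400304334043340333403433043440444000000) i1))))) (nat_lit 0) (nat_lit 126) List.nil) : List (ℕ × ℤ × ℤ)))
    = ?xq9010 → (List (ℕ × ℤ × ℤ))) ?hq9010; (case hq9010 => (set_option maxRecDepth 1000000 in conv => lhs; reduce)); intro _; exact ?xq9010 (@OfNat.ofNat Nat) instOfNatNat (@OfNat.ofNat Int) (@instOfNat) (@Neg.neg Int Int.instNegInt) : List (ℕ × ℤ × ℤ))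

def T9 : List (ℕ × ℤ × ℤ) :=
  (by
  refine (?fq9011 : (fun (On : (n : Nat) → OfNat Nat n → Nat) (In : (n : Nat) → OfNat Nat n) (Oz : (n : Nat) → OfNat Int n → Int) (Iz : (n : Nat) → OfNat Int n) (Gz : Int → Int) => ((pk61l (fun i1 => (_root_.Prod.mk (pk61o On In (pk61d (nat_lit 7) 
    (nat_lit 0x314ca5263dea99acc2e7c9d3b86d9bd066bd8515bd94aa97f52a439e11169e57aac884d07735ef46cb69877cc687d0cf27c957dfd20c07ef849de1c4d88dbb8b98d61c8e9d4433d80d9328b1b3b0e047765558c3de5f734ca346b72d19ad158ae3d353c85029eb864ac2840608080) i1)) (_root_.Prod.mk (pk61y Oz Iz Gz (pk61d (nat_lit 5) 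
    (nat_lit 0x621084211042420431048118c211908210c631a06338d0738c681a0e73a06840d0340c6742108420647a06481c8479087791e71a2041a1ef40c6319c8318ce420c6718c8438c632206420ce842107) i1)) (pk61y Oz Iz Gz (pk61d (nat_lit 4) 
    (nat_lit 0x421212141200102102001203012300473403800348387700377474834077000034084308340338040038044000043340333403434043430433304444000000) i1))))) (nat_lit 0) (nat_lit 126) List.nil) : List (ℕ × ℤ × ℤ)))
    = ?xq9011 → (List (ℕ × ℤ × ℤ))) ?hq9011; (case hq9011 => (set_option maxRecDepth 1000000 in conv => lhs; reduce)); intro _; exact ?xq9011 (@OfNat.ofNat Nat) instOfNatNat (@OfNat.ofNat Int) (@instOfNat) (@Neg.neg Int Int.instNegInt) : List (ℕ × ℤ × ℤ))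

def T10 : List (ℕ × ℤ × ℤ) :=
  (by
  refine (?fq9012 : (fun (On : (n : Nat) → OfNat Nat n → Nat) (In : (n : Nat) → OfNat Nat n) (Oz : (n : Nat) → OfNat Int n → Int) (Iz : (n : Nat) → OfNat Int n) (Gz : Int → Int) => ((pk61l (fun i1 => (_root_.Prod.mk (pk61o On In (pk61d (nat_lit 7) 
    (nat_lit 0x31f2d5c3c60c3bbd62f7b78f5df93e6cd7cf4fde9df2f6d19f37946ae5bf656acd8bb3804d1228ca54888c4caf2aaaf0c4a790a6fa09460b81330a55ead6f42f31025d55c430868e6ad2fd11701b45535a43b3e78e9c086d454b6581a64e1d6088e45c5226321c48c3d01a74e5e49) i1)) (_root_.Prod.mk (pk61y Oz Iz Gz (pk61d (nat_lit 2) 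
    (nat_lit 0xaaaa6a9aaaaaaaaaaaaaaaaaaaaaaaaaaaaaaaaaaaaaaaaaaaaaaaaaaaaaaaa) i1)) (pk61y Oz Iz Gz (nat_lit 0))))) (nat_lit 0) (nat_lit 126) List.nil) : List (ℕ × ℤ × ℤ)))
    = ?xq9012 → (List (ℕ × ℤ × ℤ))) ?hq9012; (case hq9012 => (set_option maxRecDepth 1000000 in conv => lhs; reduce)); intro _; exact ?xq9012 (@OfNat.ofNat Nat) instOfNatNat (@OfNat.ofNat Int) (@instOfNat) (@Neg.neg Int Int.instNegInt) : List (ℕ × ℤ × ℤ))

/-- parents : generator and index -/
def PT2 : List (ℕ × ℕ) :=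
  (by
  refine (?fq9013 : (fun (On : (n : Nat) → OfNat Nat n → Nat) (In : (n : Nat) → OfNat Nat n) => ((pk61l (fun i1 => (_root_.Prod.mk (pk61o On In (pk61d (nat_lit 4) 
    (nat_lit 0x676687678976975865698755876687537826265746437165756538544321876597654986543987543298764321432104321043210432104321043210bbbbbb) i1)) (pk61o On In (pk61d (nat_lit 7) 
    (nat_lit 0x274c95263c68b121c27cf9d3a72d5ab466bd7ae5ab14284e992a43870c162c54a94284c99222448101e3c70e1a3468c183058b162c50a142848912244881020408101c3870e1c3870c183060c183060a142850a102040810183060c18204081020204081020000000000000000000) i1)))) (nat_lit 0) (nat_lit 126) List.nil) : List (ℕ × ℕ)))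
    = ?xq9013 → (List (ℕ × ℕ))) ?hq9013; (case hq9013 => (set_option maxRecDepth 1000000 in conv => lhs; reduce)); intro _; exact ?xq9013 (@OfNat.ofNat Nat) instOfNatNat : List (ℕ × ℕ))

/-- change of signs at `0` and `k` -/
def fb (k : Fin 6) (v : Fin 6 → Z2) (j : Fin 6) : Z2 := if j = 0 ∨ j = k then zc (-1) (v j) else v j

/-- the coordinate `i` of `8 v` in the frame `g` -/
def Hz (v : Fin 6 → Z2) (i : Fin 6) : Z2 :=
  let e := fun l : Fin 6 => if l = i then zc (-1) (zth (v l)) else zc (Cz i l) (v l)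
  zadd (e 0) (zadd (e 1) (zadd (e 2) (zadd (e 3) (zadd (e 4) (e 5)))))

def Gz (i j : Fin 6) (h : Z2) : Z2 := if i = j then zth h else zc (Cz i j) h

/-- four times the change of signs at `0` and `k` in the frame `g` -/
def fg (k : Fin 6) (v : Fin 6 → Z2) (j : Fin 6) : Z2 :=
  zsub (zsub (zc 4 (v j)) (Gz 0 j (Hz v 0))) (Gz k j (Hz v k))

/-- the cycle `(0 1 2)` -/
def fy (v : Fin 6 → Z2) : Fin 6 → Z2 := ![v 2, v 0, v 1, v 3, v 4, v 5]

/-- the norm is `1, 4, 16` or `64` -/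
def nz (x : Z2) : Prop := x.1 * x.1 + 3 * (x.2 * x.2) = 1 ∨ x.1 * x.1 + 3 * (x.2 * x.2) = 4 ∨
  x.1 * x.1 + 3 * (x.2 * x.2) = 16 ∨ x.1 * x.1 + 3 * (x.2 * x.2) = 64

instance decNz (x : Z2) : Decidable (nz x) := by unfold nz; infer_instance

/-- `t` is a correct entry for the image `u` of a line -/
def okT (u : Fin 6 → Z2) (t : ℕ × ℤ × ℤ) : Prop := t.1 < 126 ∧ nz t.2 ∧ ∀ j, u j = zmul t.2 (LL t.1 j)

instance decOkT (u : Fin 6 → Z2) (t : ℕ × ℤ × ℤ) : Decidable (okT u t) := by unfold okT; infer_instance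

private noncomputable def _root_.Cfsg.Agent.LsF.f0c595e_0 : {f // @Cfsg.Agent.H913.N6.zc = f} := ⟨_, by first | (delta Cfsg.Agent.H913.N6.zc; rewrite [Cfsg.Agent.LsF.imul_pat]; exact rfl) | exact rfl⟩
private noncomputable def _root_.Cfsg.Agent.LsF.f0c595e_1 : {f // @Cfsg.Agent.H913.N6.fb = f} := ⟨_, by first | (delta Cfsg.Agent.H913.N6.fb; rewrite [Cfsg.Agent.LsF.f0c595e_0.2, Cfsg.Agent.LsF.ineg_pat, Cfsg.Agent.LsF.dOr_eq, Cfsg.Agent.LsF.dFinEq_eq, Cfsg.Agent.LsF.ite_eq]; exact rfl) | exact rfl⟩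
private noncomputable def _root_.Cfsg.Agent.LsF.f0c595e_2 : {f // @Cfsg.Agent.H913.N6.dig = f} := ⟨_, by first | (delta Cfsg.Agent.H913.N6.dig; rewrite [Cfsg.Agent.LsF.ineg_pat, Cfsg.Agent.LsF.instDecEq_eq, Cfsg.Agent.LsF.ite_eq]; exact rfl) | exact rfl⟩
private noncomputable def _root_.Cfsg.Agent.LsF.f0c595e_3 : {f // @Cfsg.Agent.H913.N6.dec = f} := ⟨_, by first | (delta Cfsg.Agent.H913.N6.dec; rewrite [Cfsg.Agent.LsF.f0c595e_2.2, Cfsg.Agent.LsF.ndiv_pat, Cfsg.Agent.LsF.nmod_pat, Cfsg.Agent.LsF.npow_pat]; exact rfl) | exact rfl⟩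
private noncomputable def _root_.Cfsg.Agent.LsF.f0c595e_4 : {f // @Cfsg.Agent.H913.N6.LL = f} := ⟨_, by first | (delta Cfsg.Agent.H913.N6.LL; rewrite [Cfsg.Agent.LsF.f0c595e_3.2, Cfsg.Agent.LsF.getD_eq]; exact rfl) | exact rfl⟩
private noncomputable def _root_.Cfsg.Agent.LsF.f0c595e_5 : {f // @Cfsg.Agent.H913.N6.zmul = f} := ⟨_, by first | (delta Cfsg.Agent.H913.N6.zmul; rewrite [Cfsg.Agent.LsF.iadd_pat, Cfsg.Agent.LsF.imul_pat, Cfsg.Agent.LsF.isub_pat]; exact rfl) | exact rfl⟩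
theorem ok0 : ∀ n < 126, okT (fb 1 (LL n)) (T0.getD n (0, 0, 0)) := by (refine of_decide_eq_true ?_; (try (delta Cfsg.Agent.H913.N6.decNz Cfsg.Agent.H913.N6.decOkT Cfsg.Agent.H913.N6.nz Cfsg.Agent.H913.N6.okT; rewrite [Cfsg.Agent.LsF.f0c595e_1.2, Cfsg.Agent.LsF.f0c595e_4.2, Cfsg.Agent.LsF.f0c595e_5.2, Cfsg.Agent.LsF.iadd_pat, Cfsg.Agent.LsF.imul_pat, Cfsg.Agent.LsF.dProdEq_eq, Cfsg.Agent.LsF.decLt_eq, Cfsg.Agent.LsF.getD_eq, Cfsg.Agent.LsF.instIDecEq_eq, Cfsg.Agent.LsF.dAnd_eq, Cfsg.Agent.LsF.dOr_eq, Cfsg.Agent.LsF.dBallLT_eq, Cfsg.Agent.LsF.dForallFin_eq, Cfsg.Agent.LsF.decide_eq])); decide +kernel)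

theorem ok1 : ∀ n < 126, okT (fb 2 (LL n)) (T1.getD n (0, 0, 0)) := by (refine of_decide_eq_true ?_; (try (delta Cfsg.Agent.H913.N6.decNz Cfsg.Agent.H913.N6.decOkT Cfsg.Agent.H913.N6.nz Cfsg.Agent.H913.N6.okT; rewrite [Cfsg.Agent.LsF.f0c595e_1.2, Cfsg.Agent.LsF.f0c595e_4.2, Cfsg.Agent.LsF.f0c595e_5.2, Cfsg.Agent.LsF.iadd_pat, Cfsg.Agent.LsF.imul_pat, Cfsg.Agent.LsF.dProdEq_eq, Cfsg.Agent.LsF.decLt_eq, Cfsg.Agent.LsF.getD_eq, Cfsg.Agent.LsF.instIDecEq_eq, Cfsg.Agent.LsF.dAnd_eq, Cfsg.Agent.LsF.dOr_eq, Cfsg.Agent.LsF.dBallLT_eq, Cfsg.Agent.LsF.dForallFin_eq, Cfsg.Agent.LsF.decide_eq])); decide +kernel)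

theorem ok2 : ∀ n < 126, okT (fb 3 (LL n)) (T2.getD n (0, 0, 0)) := by (refine of_decide_eq_true ?_; (try (delta Cfsg.Agent.H913.N6.decNz Cfsg.Agent.H913.N6.decOkT Cfsg.Agent.H913.N6.nz Cfsg.Agent.H913.N6.okT; rewrite [Cfsg.Agent.LsF.f0c595e_1.2, Cfsg.Agent.LsF.f0c595e_4.2, Cfsg.Agent.LsF.f0c595e_5.2, Cfsg.Agent.LsF.iadd_pat, Cfsg.Agent.LsF.imul_pat, Cfsg.Agent.LsF.dProdEq_eq, Cfsg.Agent.LsF.decLt_eq, Cfsg.Agent.LsF.getD_eq, Cfsg.Agent.LsF.instIDecEq_eq, Cfsg.Agent.LsF.dAnd_eq, Cfsg.Agent.LsF.dOr_eq, Cfsg.Agent.LsF.dBallLT_eq, Cfsg.Agent.LsF.dForallFin_eq, Cfsg.Agent.LsF.decide_eq])); decide +kernel)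

theorem ok3 : ∀ n < 126, okT (fb 4 (LL n)) (T3.getD n (0, 0, 0)) := by (refine of_decide_eq_true ?_; (try (delta Cfsg.Agent.H913.N6.decNz Cfsg.Agent.H913.N6.decOkT Cfsg.Agent.H913.N6.nz Cfsg.Agent.H913.N6.okT; rewrite [Cfsg.Agent.LsF.f0c595e_1.2, Cfsg.Agent.LsF.f0c595e_4.2, Cfsg.Agent.LsF.f0c595e_5.2, Cfsg.Agent.LsF.iadd_pat, Cfsg.Agent.LsF.imul_pat, Cfsg.Agent.LsF.dProdEq_eq, Cfsg.Agent.LsF.decLt_eq, Cfsg.Agent.LsF.getD_eq, Cfsg.Agent.LsF.instIDecEq_eq, Cfsg.Agent.LsF.dAnd_eq, Cfsg.Agent.LsF.dOr_eq, Cfsg.Agent.LsF.dBallLT_eq, Cfsg.Agent.LsF.dForallFin_eq, Cfsg.Agent.LsF.decide_eq])); decide +kernel)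

theorem ok4 : ∀ n < 126, okT (fb 5 (LL n)) (T4.getD n (0, 0, 0)) := by (refine of_decide_eq_true ?_; (try (delta Cfsg.Agent.H913.N6.decNz Cfsg.Agent.H913.N6.decOkT Cfsg.Agent.H913.N6.nz Cfsg.Agent.H913.N6.okT; rewrite [Cfsg.Agent.LsF.f0c595e_1.2, Cfsg.Agent.LsF.f0c595e_4.2, Cfsg.Agent.LsF.f0c595e_5.2, Cfsg.Agent.LsF.iadd_pat, Cfsg.Agent.LsF.imul_pat, Cfsg.Agent.LsF.dProdEq_eq, Cfsg.Agent.LsF.decLt_eq, Cfsg.Agent.LsF.getD_eq, Cfsg.Agent.LsF.instIDecEq_eq, Cfsg.Agent.LsF.dAnd_eq, Cfsg.Agent.LsF.dOr_eq, Cfsg.Agent.LsF.dBallLT_eq, Cfsg.Agent.LsF.dForallFin_eq, Cfsg.Agent.LsF.decide_eq])); decide +kernel)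

private noncomputable def _root_.Cfsg.Agent.LsF.f0c595e_6 : {f // @Cfsg.Agent.H913.N6.zsub = f} := ⟨_, by first | (delta Cfsg.Agent.H913.N6.zsub; rewrite [Cfsg.Agent.LsF.isub_pat]; exact rfl) | exact rfl⟩
private noncomputable def _root_.Cfsg.Agent.LsF.f0c595e_7 : {f // @Cfsg.Agent.H913.N6.zth = f} := ⟨_, by first | (delta Cfsg.Agent.H913.N6.zth; rewrite [Cfsg.Agent.LsF.imul_pat, Cfsg.Agent.LsF.ineg_pat]; exact rfl) | exact rfl⟩
private noncomputable def _root_.Cfsg.Agent.LsF.f0c595e_8 : {f // @Cfsg.Agent.H913.N6.Cz = f} := ⟨_, by first | (delta Cfsg.Agent.H913.N6.Cz; rewrite [Cfsg.Agent.LsF.ineg_pat, Cfsg.Agent.LsF.vecCons_eq]; exact rfl) | exact rfl⟩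
private noncomputable def _root_.Cfsg.Agent.LsF.f0c595e_9 : {f // @Cfsg.Agent.H913.N6.Gz = f} := ⟨_, by first | (delta Cfsg.Agent.H913.N6.Gz; rewrite [Cfsg.Agent.LsF.f0c595e_7.2, Cfsg.Agent.LsF.f0c595e_0.2, Cfsg.Agent.LsF.f0c595e_8.2, Cfsg.Agent.LsF.dFinEq_eq, Cfsg.Agent.LsF.ite_eq]; exact rfl) | exact rfl⟩
private noncomputable def _root_.Cfsg.Agent.LsF.f0c595e_10 : {f // @Cfsg.Agent.H913.N6.zadd = f} := ⟨_, by first | (delta Cfsg.Agent.H913.N6.zadd; rewrite [Cfsg.Agent.LsF.iadd_pat]; exact rfl) | exact rfl⟩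
private noncomputable def _root_.Cfsg.Agent.LsF.f0c595e_11 : {f // @Cfsg.Agent.H913.N6.Hz = f} := ⟨_, by first | (delta Cfsg.Agent.H913.N6.Hz; rewrite [Cfsg.Agent.LsF.f0c595e_0.2, Cfsg.Agent.LsF.f0c595e_7.2, Cfsg.Agent.LsF.f0c595e_8.2, Cfsg.Agent.LsF.f0c595e_10.2, Cfsg.Agent.LsF.ineg_pat, Cfsg.Agent.LsF.dFinEq_eq, Cfsg.Agent.LsF.ite_eq]; exact rfl) | exact rfl⟩
private noncomputable def _root_.Cfsg.Agent.LsF.f0c595e_12 : {f // @Cfsg.Agent.H913.N6.fg = f} := ⟨_, by first | (delta Cfsg.Agent.H913.N6.fg; rewrite [Cfsg.Agent.LsF.f0c595e_6.2, Cfsg.Agent.LsF.f0c595e_0.2, Cfsg.Agent.LsF.f0c595e_9.2, Cfsg.Agent.LsF.f0c595e_11.2]; exact rfl) | exact rfl⟩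
theorem ok5 : ∀ n < 126, okT (fg 1 (LL n)) (T5.getD n (0, 0, 0)) := by (refine of_decide_eq_true ?_; (try (delta Cfsg.Agent.H913.N6.decNz Cfsg.Agent.H913.N6.decOkT Cfsg.Agent.H913.N6.nz Cfsg.Agent.H913.N6.okT; rewrite [Cfsg.Agent.LsF.f0c595e_12.2, Cfsg.Agent.LsF.f0c595e_4.2, Cfsg.Agent.LsF.f0c595e_5.2, Cfsg.Agent.LsF.iadd_pat, Cfsg.Agent.LsF.imul_pat, Cfsg.Agent.LsF.dProdEq_eq, Cfsg.Agent.LsF.decLt_eq, Cfsg.Agent.LsF.getD_eq, Cfsg.Agent.LsF.instIDecEq_eq, Cfsg.Agent.LsF.dAnd_eq, Cfsg.Agent.LsF.dOr_eq, Cfsg.Agent.LsF.dBallLT_eq, Cfsg.Agent.LsF.dForallFin_eq, Cfsg.Agent.LsF.decide_eq])); decide +kernel)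

theorem ok6 : ∀ n < 126, okT (fg 2 (LL n)) (T6.getD n (0, 0, 0)) := by (refine of_decide_eq_true ?_; (try (delta Cfsg.Agent.H913.N6.decNz Cfsg.Agent.H913.N6.decOkT Cfsg.Agent.H913.N6.nz Cfsg.Agent.H913.N6.okT; rewrite [Cfsg.Agent.LsF.f0c595e_12.2, Cfsg.Agent.LsF.f0c595e_4.2, Cfsg.Agent.LsF.f0c595e_5.2, Cfsg.Agent.LsF.iadd_pat, Cfsg.Agent.LsF.imul_pat, Cfsg.Agent.LsF.dProdEq_eq, Cfsg.Agent.LsF.decLt_eq, Cfsg.Agent.LsF.getD_eq, Cfsg.Agent.LsF.instIDecEq_eq, Cfsg.Agent.LsF.dAnd_eq, Cfsg.Agent.LsF.dOr_eq, Cfsg.Agent.LsF.dBallLT_eq, Cfsg.Agent.LsF.dForallFin_eq, Cfsg.Agent.LsF.decide_eq])); decide +kernel)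

theorem ok7 : ∀ n < 126, okT (fg 3 (LL n)) (T7.getD n (0, 0, 0)) := by (refine of_decide_eq_true ?_; (try (delta Cfsg.Agent.H913.N6.decNz Cfsg.Agent.H913.N6.decOkT Cfsg.Agent.H913.N6.nz Cfsg.Agent.H913.N6.okT; rewrite [Cfsg.Agent.LsF.f0c595e_12.2, Cfsg.Agent.LsF.f0c595e_4.2, Cfsg.Agent.LsF.f0c595e_5.2, Cfsg.Agent.LsF.iadd_pat, Cfsg.Agent.LsF.imul_pat, Cfsg.Agent.LsF.dProdEq_eq, Cfsg.Agent.LsF.decLt_eq, Cfsg.Agent.LsF.getD_eq, Cfsg.Agent.LsF.instIDecEq_eq, Cfsg.Agent.LsF.dAnd_eq, Cfsg.Agent.LsF.dOr_eq, Cfsg.Agent.LsF.dBallLT_eq, Cfsg.Agent.LsF.dForallFin_eq, Cfsg.Agent.LsF.decide_eq])); decide +kernel)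

theorem ok8 : ∀ n < 126, okT (fg 4 (LL n)) (T8.getD n (0, 0, 0)) := by (refine of_decide_eq_true ?_; (try (delta Cfsg.Agent.H913.N6.decNz Cfsg.Agent.H913.N6.decOkT Cfsg.Agent.H913.N6.nz Cfsg.Agent.H913.N6.okT; rewrite [Cfsg.Agent.LsF.f0c595e_12.2, Cfsg.Agent.LsF.f0c595e_4.2, Cfsg.Agent.LsF.f0c595e_5.2, Cfsg.Agent.LsF.iadd_pat, Cfsg.Agent.LsF.imul_pat, Cfsg.Agent.LsF.dProdEq_eq, Cfsg.Agent.LsF.decLt_eq, Cfsg.Agent.LsF.getD_eq, Cfsg.Agent.LsF.instIDecEq_eq, Cfsg.Agent.LsF.dAnd_eq, Cfsg.Agent.LsF.dOr_eq, Cfsg.Agent.LsF.dBallLT_eq, Cfsg.Agent.LsF.dForallFin_eq, Cfsg.Agent.LsF.decide_eq])); decide +kernel)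

theorem ok9 : ∀ n < 126, okT (fg 5 (LL n)) (T9.getD n (0, 0, 0)) := by (refine of_decide_eq_true ?_; (try (delta Cfsg.Agent.H913.N6.decNz Cfsg.Agent.H913.N6.decOkT Cfsg.Agent.H913.N6.nz Cfsg.Agent.H913.N6.okT; rewrite [Cfsg.Agent.LsF.f0c595e_12.2, Cfsg.Agent.LsF.f0c595e_4.2, Cfsg.Agent.LsF.f0c595e_5.2, Cfsg.Agent.LsF.iadd_pat, Cfsg.Agent.LsF.imul_pat, Cfsg.Agent.LsF.dProdEq_eq, Cfsg.Agent.LsF.decLt_eq, Cfsg.Agent.LsF.getD_eq, Cfsg.Agent.LsF.instIDecEq_eq, Cfsg.Agent.LsF.dAnd_eq, Cfsg.Agent.LsF.dOr_eq, Cfsg.Agent.LsF.dBallLT_eq, Cfsg.Agent.LsF.dForallFin_eq, Cfsg.Agent.LsF.decide_eq])); decide +kernel)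

private noncomputable def _root_.Cfsg.Agent.LsF.f0c595e_13 : {f // @Cfsg.Agent.H913.N6.fy = f} := ⟨_, by first | (delta Cfsg.Agent.H913.N6.fy; rewrite [Cfsg.Agent.LsF.vecCons_eq]; exact rfl) | exact rfl⟩
theorem ok10 : ∀ n < 126, okT (fy (LL n)) (T10.getD n (0, 0, 0)) := by (refine of_decide_eq_true ?_; (try (delta Cfsg.Agent.H913.N6.decNz Cfsg.Agent.H913.N6.decOkT Cfsg.Agent.H913.N6.nz Cfsg.Agent.H913.N6.okT; rewrite [Cfsg.Agent.LsF.f0c595e_13.2, Cfsg.Agent.LsF.f0c595e_4.2, Cfsg.Agent.LsF.f0c595e_5.2, Cfsg.Agent.LsF.iadd_pat, Cfsg.Agent.LsF.imul_pat, Cfsg.Agent.LsF.dProdEq_eq, Cfsg.Agent.LsF.decLt_eq, Cfsg.Agent.LsF.getD_eq, Cfsg.Agent.LsF.instIDecEq_eq, Cfsg.Agent.LsF.dAnd_eq, Cfsg.Agent.LsF.dOr_eq, Cfsg.Agent.LsF.dBallLT_eq, Cfsg.Agent.LsF.dForallFin_eq, Cfsg.Agent.LsF.decide_eq])); decide +kernel)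

/-- the parent relation -/
def okP (n : ℕ) (q : ℕ × ℕ) : Prop :=
  (q.1 = 11 ∧ n < 6) ∨ (q.2 < n ∧ (
    (q.1 = 0 ∧ (T0.getD q.2 (0, 0, 0)).1 = n) ∨ (q.1 = 1 ∧ (T1.getD q.2 (0, 0, 0)).1 = n) ∨
    (q.1 = 2 ∧ (T2.getD q.2 (0, 0, 0)).1 = n) ∨ (q.1 = 3 ∧ (T3.getD q.2 (0, 0, 0)).1 = n) ∨
    (q.1 = 4 ∧ (T4.getD q.2 (0, 0, 0)).1 = n) ∨ (q.1 = 5 ∧ (T5.getD q.2 (0, 0, 0)).1 = n) ∨
    (q.1 = 6 ∧ (T6.getD q.2 (0, 0, 0)).1 = n) ∨ (q.1 = 7 ∧ (T7.getD q.2 (0, 0, 0)).1 = n) ∨
    (q.1 = 8 ∧ (T8.getD q.2 (0, 0, 0)).1 = n) ∨ (q.1 = 9 ∧ (T9.getD q.2 (0, 0, 0)).1 = n)))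

instance decOkP (n : ℕ) (q : ℕ × ℕ) : Decidable (okP n q) := by unfold okP; infer_instance

theorem okPar : ∀ n < 126, okP n (PT2.getD n (0, 0)) := by (refine of_decide_eq_true ?_; (try (delta Cfsg.Agent.H913.N6.decOkP Cfsg.Agent.H913.N6.okP; rewrite [Cfsg.Agent.LsF.instDecEq_eq, Cfsg.Agent.LsF.decLt_eq, Cfsg.Agent.LsF.getD_eq, Cfsg.Agent.LsF.dAnd_eq, Cfsg.Agent.LsF.dOr_eq, Cfsg.Agent.LsF.dBallLT_eq, Cfsg.Agent.LsF.decide_eq])); decide +kernel)

/-- the first six lines -/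
theorem okRoot : ∀ n : Fin 6, ∀ j : Fin 6, LL n j = if j = n then (0, 1) else (Cz n j, 0) := by decide +kernel

/-- no line has exactly three nonzero coordinates -/
theorem okSupp : ∀ n < 126, ¬ (LL n 0 ≠ 0 ∧ LL n 1 ≠ 0 ∧ LL n 2 ≠ 0 ∧ LL n 3 = 0 ∧ LL n 4 = 0 ∧ LL n 5 = 0) := by
  (refine of_decide_eq_true ?_; (try (rewrite [Cfsg.Agent.LsF.f0c595e_4.2, Cfsg.Agent.LsF.dProdEq_eq, Cfsg.Agent.LsF.instIDecEq_eq, Cfsg.Agent.LsF.dAnd_eq, Cfsg.Agent.LsF.dNot_eq, Cfsg.Agent.LsF.dBallLT_eq, Cfsg.Agent.LsF.decide_eq])); decide +kernel)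

/-- the line `b 0 + b 2` -/
theorem ok02 : ∃ n, n < 126 ∧ ∀ j, LL n j = if j = 0 ∨ j = 2 then (1, 0) else (0, 0) := by
  (refine of_decide_eq_true ?_; (try (rewrite [Cfsg.Agent.LsF.f0c595e_4.2, Cfsg.Agent.LsF.dProdEq_eq, Cfsg.Agent.LsF.instIDecEq_eq, Cfsg.Agent.LsF.dOr_eq, Cfsg.Agent.LsF.dFinEq_eq, Cfsg.Agent.LsF.dForallFin_eq, Cfsg.Agent.LsF.dExistsLT_eq, Cfsg.Agent.LsF.ite_eq, Cfsg.Agent.LsF.decide_eq])); decide +kernel)

end Cfsg.Agent.H913.N6
end

-- part: H913/N6Om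
section
/-!
# The 126 lines: semantics (helper913)
-/

set_option autoImplicit false
set_option linter.unusedSectionVars false

namespace Cfsg.Agent.H913.N6

open Cfsg Cfsg.Geo Matrix
open Module (Basis)
open Cfsg.Agent.H915.LD (Core Soc toSoc tr)
open Cfsg.Agent.H906.SL3Par Cfsg.Agent.H906.L34 Cfsg.Agent.H906.T14

variable {ι : Type} [Fintype ι] [DecidableEq ι] {F : Type*} [Field F]

/-- the value of a pair -/
def zF (θ : F) (x : Z2) : F := (x.1 : F) + (x.2 : F) * θ

theorem zF_zero (θ : F) : zF θ 0 = 0 := by simp [zF]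
theorem zF_add (θ : F) (x y : Z2) : zF θ (zadd x y) = zF θ x + zF θ y := by simp [zF, zadd]; ring
theorem zF_sub (θ : F) (x y : Z2) : zF θ (zsub x y) = zF θ x - zF θ y := by simp [zF, zsub]; ring
theorem zF_c (θ : F) (c : ℤ) (x : Z2) : zF θ (zc c x) = (c : F) * zF θ x := by simp [zF, zc]; ring

section
variable {θ : F} (hθ : θ * θ = -3)
include hθ

theorem zF_th (x : Z2) : zF θ (zth x) = θ * zF θ x := by
  simp [zF, zth]; linear_combination (-(x.2 : F)) * hθ

theorem zF_mul (x y : Z2) : zF θ (zmul x y) = zF θ x * zF θ y := by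
  simp [zF, zmul]; linear_combination (-(x.2 : F) * y.2) * hθ

theorem nz_ne (h2 : (2 : F) ≠ 0) {x : Z2} (hx : nz x) : zF θ x ≠ 0 := by
  intro h
  have h1 : ((x.1 * x.1 + 3 * (x.2 * x.2) : ℤ) : F) = 0 := by
    have : zF θ x * ((x.1 : F) - x.2 * θ) = 0 := by rw [h, zero_mul]
    rw [zF] at this
    push_cast
    linear_combination this + (x.2 : F) * x.2 * hθ
  have h4 : (4 : F) ≠ 0 := by
    have : (4 : F) = 2 * 2 := by norm_num
    rw [this]; exact mul_ne_zero h2 h2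
  rcases hx with hx | hx | hx | hx <;> rw [hx] at h1 <;> push_cast at h1
  · exact one_ne_zero h1
  · exact h4 h1
  · have : (16 : F) = 4 * 4 := by norm_num
    rw [this] at h1
    exact (mul_ne_zero h4 h4) h1
  · have : (64 : F) = 4 * (4 * 4) := by norm_num
    rw [this] at h1
    exact (mul_ne_zero h4 (mul_ne_zero h4 h4)) h1

end

/-- the vector of a sequence of pairs -/
def ev (b : Fin 6 → ι → F) (θ : F) (v : Fin 6 → Z2) : ι → F := ∑ j, zF θ (v j) • b j

/-- the 126 lines -/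
def Om (b : Fin 6 → ι → F) (θ : F) : Set (ι → F) := {v | ∃ n, n < 126 ∧ ∃ k : F, k ≠ 0 ∧ v = k • ev b θ (LL n)}

theorem Om.smul {b : Fin 6 → ι → F} {θ : F} {v : ι → F} (h : v ∈ Om b θ) {c : F} (hc : c ≠ 0) : c • v ∈ Om b θ := by
  obtain ⟨n, hn, k, hk, rfl⟩ := h
  exact ⟨n, hn, c * k, mul_ne_zero hc hk, by rw [smul_smul]⟩

/-- one step of a table -/
theorem step {b : Fin 6 → ι → F} {θ : F} (hθ : θ * θ = -3) (h2 : (2 : F) ≠ 0) {x : GL ι F} {c : F} (hc : c ≠ 0)
    {f : (Fin 6 → Z2) → (Fin 6 → Z2)} (hx : ∀ v, c • ap x (ev b θ v) = ev b θ (f v)) {n : ℕ} {t : ℕ × ℤ × ℤ}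
    (ht : okT (f (LL n)) t) : t.1 < 126 ∧ ∃ μ : F, μ ≠ 0 ∧ ap x (ev b θ (LL n)) = μ • ev b θ (LL t.1) := by
  obtain ⟨h1, h3, h4⟩ := ht
  refine ⟨h1, c⁻¹ * zF θ t.2, mul_ne_zero (inv_ne_zero hc) (nz_ne hθ h2 h3), ?_⟩
  have h5 : ev b θ (f (LL n)) = zF θ t.2 • ev b θ (LL t.1) := by
    rw [ev, ev, Finset.smul_sum]
    refine Finset.sum_congr rfl fun j _ => ?_
    rw [h4 j, zF_mul hθ, smul_smul]
  rw [mul_smul, ← h5, ← hx, smul_smul, inv_mul_cancel₀ hc, one_smul]

theorem step_Om {b : Fin 6 → ι → F} {θ : F} (hθ : θ * θ = -3) (h2 : (2 : F) ≠ 0) {x : GL ι F} {c : F} (hc : c ≠ 0)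
    {f : (Fin 6 → Z2) → (Fin 6 → Z2)} (hx : ∀ v, c • ap x (ev b θ v) = ev b θ (f v)) {T : List (ℕ × ℤ × ℤ)}
    (ht : ∀ n < 126, okT (f (LL n)) (T.getD n (0, 0, 0))) : ∀ v ∈ Om b θ, ap x v ∈ Om b θ := by
  rintro v ⟨n, hn, k, hk, rfl⟩
  obtain ⟨h1, μ, hμ, h3⟩ := step hθ h2 hc hx (ht n hn)
  exact ⟨_, h1, k * μ, mul_ne_zero hk hμ, by rw [ap_smul, h3, smul_smul]⟩

/-- sign changes in `b` -/
theorem sem_b {b : Fin 6 → ι → F} (θ : F) {x : GL ι F} {k : Fin 6} (hx : Sgn b x (sij 0 k)) (v : Fin 6 → Z2) :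
    (1 : F) • ap x (ev b θ v) = ev b θ (fb k v) := by
  rw [one_smul, ev, ev, ap_sum]
  refine Finset.sum_congr rfl fun j _ => ?_
  rw [ap_smul, hx j, fb, sij]
  split_ifs with h
  · rw [zF_c, sg_neg_one, smul_smul]; push_cast; rw [mul_comm]
  · rw [sg_one, one_smul]

def Gq (i j : Fin 6) : Z2 := if i = j then (0, 1) else (Cz i j, 0)
def Hq (i l : Fin 6) : Z2 := if l = i then (0, -1) else (Cz i l, 0)

theorem okInv : ∀ l j : Fin 6, zadd (zmul (Hq 0 l) (Gq 0 j)) (zadd (zmul (Hq 1 l) (Gq 1 j)) (zadd (zmul (Hq 2 l) (Gq 2 j))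
    (zadd (zmul (Hq 3 l) (Gq 3 j)) (zadd (zmul (Hq 4 l) (Gq 4 j)) (zmul (Hq 5 l) (Gq 5 j)))))) =
    if l = j then (8, 0) else (0, 0) := by decide +kernel

theorem cmb_sum {b g : Fin 6 → ι → F} {θ : F} (h : Cmb b g θ 1) (i : Fin 6) : g i = ∑ j, zF θ (Gq i j) • b j := by
  rw [Fin.sum_univ_six]
  have e : ∀ i j : Fin 6, zF θ (Gq i j) = if i = j then θ else (Cz i j : F) := by
    intro i j
    rw [Gq, zF]
    split_ifs <;> simp
  simp only [e]
  fin_cases i
  · refine h.g0.trans ?_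
    simp [Cz]; abel
  · refine h.g1.trans ?_
    simp [Cz]; abel
  · refine h.g2.trans ?_
    simp [Cz]; abel
  · refine h.g3.trans ?_
    simp [Cz]; abel
  · refine h.g4.trans ?_
    simp [Cz]; abel
  · refine h.g5.trans ?_
    simp [Cz]; abel

theorem cmb_inv {b g : Fin 6 → ι → F} {θ : F} (hθ : θ * θ = -3) (h : Cmb b g θ 1) (l : Fin 6) :
    (8 : F) • b l = ∑ i, zF θ (Hq i l) • g i := by
  have h1 : ∑ i, zF θ (Hq i l) • g i = ∑ j, (∑ i, zF θ (Hq i l) * zF θ (Gq i j)) • b j := by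
    calc ∑ i, zF θ (Hq i l) • g i = ∑ i, ∑ j, (zF θ (Hq i l) * zF θ (Gq i j)) • b j := by
          refine Finset.sum_congr rfl fun i _ => ?_
          rw [cmb_sum h i, Finset.smul_sum]
          exact Finset.sum_congr rfl fun j _ => by rw [smul_smul]
      _ = _ := by
          rw [Finset.sum_comm]
          exact Finset.sum_congr rfl fun j _ => by rw [Finset.sum_smul]
  rw [h1]
  have h3 : ∀ j, (∑ i, zF θ (Hq i l) * zF θ (Gq i j)) = if l = j then 8 else 0 := by
    intro j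
    have h4 := congrArg (zF θ) (okInv l j)
    simp only [zF_add, zF_mul hθ] at h4
    rw [Fin.sum_univ_six]
    rw [show (if l = j then (8 : F) else 0) = zF θ (if l = j then (8, 0) else (0, 0)) by split_ifs <;> simp [zF], ← h4]
    ring
  rw [Finset.sum_eq_single l]
  · rw [h3, if_pos rfl]
  · intro j _ hj
    rw [h3, if_neg (Ne.symm hj), zero_smul]
  · intro h; exact absurd (Finset.mem_univ l) h

theorem Hz_eq {θ : F} (hθ : θ * θ = -3) (v : Fin 6 → Z2) (i : Fin 6) :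
    zF θ (Hz v i) = ∑ l, zF θ (v l) * zF θ (Hq i l) := by
  have e : ∀ l, zF θ (if l = i then zc (-1) (zth (v l)) else zc (Cz i l) (v l)) = zF θ (v l) * zF θ (Hq i l) := by
    intro l
    rw [Hq]
    split_ifs with h
    · rw [zF_c, zF_th hθ, zF]; simp [zF]; ring
    · rw [zF_c]; simp [zF]; ring
  rw [Hz, Fin.sum_univ_six]
  simp only [zF_add, e]
  ring

/-- sign changes in `g` -/
theorem sem_g {b g : Fin 6 → ι → F} {θ : F} (hθ : θ * θ = -3) (h2 : (2 : F) ≠ 0) (h : Cmb b g θ 1) {x : GL ι F}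
    {k : Fin 6} (hk : k ≠ 0) (hx : Sgn g x (sij 0 k)) (v : Fin 6 → Z2) :
    (4 : F) • ap x (ev b θ v) = ev b θ (fg k v) := by
  have h1 : (8 : F) • ev b θ v = ∑ i, zF θ (Hz v i) • g i := by
    calc (8 : F) • ev b θ v = ∑ l, zF θ (v l) • ((8 : F) • b l) := by
          rw [ev, Finset.smul_sum]
          exact Finset.sum_congr rfl fun l _ => by rw [smul_comm]
      _ = ∑ l, ∑ i, (zF θ (v l) * zF θ (Hq i l)) • g i := by
          refine Finset.sum_congr rfl fun l _ => ?_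
          rw [cmb_inv hθ h l, Finset.smul_sum]
          exact Finset.sum_congr rfl fun j _ => by rw [smul_smul]
      _ = _ := by
          rw [Finset.sum_comm]
          exact Finset.sum_congr rfl fun i _ => by rw [Hz_eq hθ, Finset.sum_smul]
  have h3 : (8 : F) • ap x (ev b θ v) = (8 : F) • ev b θ v - (2 : F) • (zF θ (Hz v 0) • g 0 + zF θ (Hz v k) • g k) := by
    rw [← ap_smul, h1, ap_sum]
    have h4 : ∀ i, ap x (zF θ (Hz v i) • g i) = (zF θ (Hz v i) * sg F (sij 0 k i)) • g i := by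
      intro i
      rw [ap_smul, hx i, smul_smul]
    simp only [h4]
    rw [Fin.sum_univ_six, Fin.sum_univ_six]
    fin_cases k
    · exact absurd rfl hk
    all_goals
      simp [sij]
      module
  have h4 : (2 : F) • ((4 : F) • ap x (ev b θ v)) =
      (2 : F) • ((4 : F) • ev b θ v - (zF θ (Hz v 0) • g 0 + zF θ (Hz v k) • g k)) := by
    rw [smul_smul, show (2 : F) * 4 = 8 by norm_num, h3]
    module
  have h5 := smul_right_injective _ h2 h4
  change (4 : F) • ap x (ev b θ v) = (4 : F) • ev b θ v - (zF θ (Hz v 0) • g 0 + zF θ (Hz v k) • g k) at h5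
  rw [h5, cmb_sum h 0, cmb_sum h k, ev, ev, Finset.smul_sum, Finset.smul_sum, Finset.smul_sum, ← Finset.sum_add_distrib,
    ← Finset.sum_sub_distrib]
  refine Finset.sum_congr rfl fun j _ => ?_
  have hG : ∀ i j (h : Z2), zF θ (Gz i j h) = zF θ h * zF θ (Gq i j) := by
    intro i j h
    rw [Gz, Gq]
    split_ifs
    · rw [zF_th hθ]; simp [zF]; ring
    · rw [zF_c]; simp [zF]; ring
  rw [fg, zF_sub, zF_sub, zF_c, hG, hG]
  push_cast
  module

/-- the cycle `(0 1 2)` -/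
theorem sem_y {b : Fin 6 → ι → F} (θ : F) {x : GL ι F} (h0 : ap x (b 0) = b 1) (h1 : ap x (b 1) = b 2)
    (h2 : ap x (b 2) = b 0) (h3 : ap x (b 3) = b 3) (h4 : ap x (b 4) = b 4) (h5 : ap x (b 5) = b 5) (v : Fin 6 → Z2) :
    (1 : F) • ap x (ev b θ v) = ev b θ (fy v) := by
  rw [one_smul, ev, ev, ap_sum, Fin.sum_univ_six, Fin.sum_univ_six]
  simp only [ap_smul, h0, h1, h2, h3, h4, h5, fy]
  simp
  abel

end Cfsg.Agent.H913.N6
end

-- part: H913/N6Stab
section
/-!
# The stabiliser of the 126 lines (helper913)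
-/

set_option autoImplicit false
set_option linter.unusedSectionVars false

namespace Cfsg.Agent.H913.N6

open Cfsg Cfsg.Geo Matrix
open Module (Basis)
open Cfsg.Agent.H915.LD (Core Soc toSoc tr)
open Cfsg.Agent.H906.SL3Par Cfsg.Agent.H906.L34 Cfsg.Agent.H906.T14
open scoped commutatorElement

variable {ι : Type} [Fintype ι] [DecidableEq ι] {F : Type*} [Field F] {P : Subgroup (GL ι F)}
  {K : Type*} [Field K]

/-! ### generation -/

/-- `PSL_3(K)` is generated by two opposite radicals -/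
theorem gen_lq : Rl K ⊔ Rq K = ⊤ := by
  have key : Qa K ⊔ Qc K = ⊤ := by
    rw [eq_top_iff, ← Cfsg.Agent.LieClassical.SLGen.closure_transvections (ι := Fin 3) (F := K), Subgroup.closure_le]
    rintro _ ⟨i, j, hij, c, rfl⟩
    set S := Qa K ⊔ Qc K with hS
    have l1 : Qa K ≤ S := le_sup_left
    have l2 : Qc K ≤ S := le_sup_right
    change tv hij c ∈ S
    have k02 : ∀ c : K, tv h02 c ∈ S := fun c => l1 ⟨0, c, tv02 c⟩
    have k12 : ∀ c : K, tv h12 c ∈ S := fun c => l1 ⟨c, 0, tv12 c⟩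
    have k20 : ∀ c : K, tv h20 c ∈ S := fun c => l2 ⟨c, 0, by
      apply ext'
      intro i j
      rw [tv_val]
      fin_cases i <;> fin_cases j <;> simp [low]⟩
    have k21 : ∀ c : K, tv h21 c ∈ S := fun c => l2 ⟨0, c, by
      apply ext'
      intro i j
      rw [tv_val]
      fin_cases i <;> fin_cases j <;> simp [low]⟩
    have comm_mem : ∀ {x y : X K}, x ∈ S → y ∈ S → ⁅x, y⁆ ∈ S := by
      intro x y hx hy
      rw [commutatorElement_def]
      exact S.mul_mem (S.mul_mem (S.mul_mem hx hy) (S.inv_mem hx)) (S.inv_mem hy)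
    have k01 : ∀ c : K, tv h01 c ∈ S := by
      intro c
      have h3 := Cfsg.Agent.LieClassical.SLGen.commutator_transvection (F := K) h01 h02 h21 c 1
      rw [mul_one] at h3
      have h4 : ⁅tv h02 c, tv h21 1⁆ = tv h01 c := h3
      rw [← h4]
      exact comm_mem (k02 c) (k21 1)
    have k10 : ∀ c : K, tv h10 c ∈ S := by
      intro c
      have h3 := Cfsg.Agent.LieClassical.SLGen.commutator_transvection (F := K) h10 h12 h20 c 1
      rw [mul_one] at h3
      have h4 : ⁅tv h12 c, tv h20 1⁆ = tv h10 c := h3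
      rw [← h4]
      exact comm_mem (k12 c) (k20 1)
    fin_cases i <;> fin_cases j
    · exact absurd rfl hij
    · exact k01 c
    · exact k02 c
    · exact k10 c
    · exact absurd rfl hij
    · exact k12 c
    · exact k20 c
    · exact k21 c
    · exact absurd rfl hij
  have := congrArg (Subgroup.map (pj K)) key
  rwa [Subgroup.map_sup, Subgroup.map_top_of_surjective _ (QuotientGroup.mk'_surjective _)] at this

/-- induction over lifts -/
theorem lift_induction {T : Type*} [Group T] {C : Cov P T} {R R' : Subgroup T} (h : R ⊔ R' = ⊤)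
    (A : Subgroup (GL ι F)) (hs : ∀ c : Fˣ, sc c ∈ A) (h1 : ∀ r ∈ R, ∃ x ∈ A, C.L x r) (h2 : ∀ r ∈ R', ∃ x ∈ A, C.L x r) :
    P ≤ A := by
  have key : ∀ σ : T, ∃ x ∈ A, C.L x σ := by
    intro σ
    have hσ : σ ∈ Subgroup.closure ((R : Set T) ∪ R') := by
      rw [Subgroup.closure_union, Subgroup.closure_eq, Subgroup.closure_eq, h]; exact Subgroup.mem_top σ
    induction hσ using Subgroup.closure_induction with
    | mem σ hσ =>
      rcases hσ with hσ | hσ
      · exact h1 σ hσ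
      · exact h2 σ hσ
    | one => exact ⟨1, A.one_mem, Cov.L.one⟩
    | mul σ τ _ _ ih1 ih2 =>
      obtain ⟨x, hx, hx'⟩ := ih1
      obtain ⟨y, hy, hy'⟩ := ih2
      exact ⟨x * y, A.mul_mem hx hy, hx'.mul hy'⟩
    | inv σ _ ih =>
      obtain ⟨x, hx, hx'⟩ := ih
      exact ⟨x⁻¹, A.inv_mem hx, hx'.inv⟩
  intro p hp
  obtain ⟨σ, hσ⟩ := Cov.L.of_mem C hp
  obtain ⟨x, hx, hx'⟩ := key σ
  obtain ⟨c, -, rfl⟩ := hσ.exists_sc hx'
  exact A.mul_mem (hs c) hx

/-! ### the stabiliser -/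

/-- the stabiliser of the 126 lines -/
def StabOm (b : Fin 6 → ι → F) (θ : F) : Subgroup (GL ι F) where
  carrier := {x | ∀ v, ap x v ∈ Om b θ ↔ v ∈ Om b θ}
  mul_mem' := by
    intro x y hx hy v
    rw [ap_mul, hx, hy]
  one_mem' := by
    intro v
    rw [ap_one]
  inv_mem' := by
    intro x hx v
    have := hx (ap x⁻¹ v)
    rw [← ap_mul, mul_inv_cancel, ap_one] at this
    exact this.symm

theorem StabOm_of_invol {b : Fin 6 → ι → F} {θ : F} {x : GL ι F} (h : x * x = 1) (h1 : ∀ v ∈ Om b θ, ap x v ∈ Om b θ) :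
    x ∈ StabOm b θ := by
  intro v
  refine ⟨fun hv => ?_, h1 v⟩
  have := h1 _ hv
  rwa [← ap_mul, h, ap_one] at this

theorem sc_mem_StabOm {b : Fin 6 → ι → F} {θ : F} (c : Fˣ) : sc c ∈ StabOm b θ := by
  intro v
  rw [ap_sc]
  constructor
  · intro h
    have := Om.smul h (inv_ne_zero c.ne_zero)
    rwa [smul_smul, inv_mul_cancel₀ c.ne_zero, one_smul] at this
  · intro h
    exact Om.smul h c.ne_zero

/-- every even sign vector is a product of the `sij 0 k` -/
theorem ev_prod : ∀ s : Ev, s.1 = (if s.1 1 = -1 then sij 0 1 else 1) * (if s.1 2 = -1 then sij 0 2 else 1) *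
    (if s.1 3 = -1 then sij 0 3 else 1) * (if s.1 4 = -1 then sij 0 4 else 1) * (if s.1 5 = -1 then sij 0 5 else 1) := by
  decide +kernel

/-- a subgroup containing the sign changes `sij 0 k` contains all even sign changes -/
theorem sgn_mem {f : Basis (Fin 6) F (ι → F)} {D : Set (GL ι F)} (hf : Frm f D) (A : Subgroup (GL ι F))
    (h : ∀ (k : Fin 6), k ≠ 0 → ∀ x ∈ D, Sgn f x (sij 0 k) → x ∈ A) : ∀ x ∈ D, x ∈ A := by
  intro x hx
  obtain ⟨s, hs, hxs⟩ := hf.diag x hx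
  have hk : ∀ (k : Fin 6), k ≠ 0 → ∃ y ∈ A, Sgn f y (if s k = -1 then sij 0 k else 1) := by
    intro k hk
    split_ifs
    · obtain ⟨y, hy, hys⟩ := hf.full (sij 0 k) (sij_prod (Ne.symm hk))
      exact ⟨y, h k hk y hy hys, hys⟩
    · exact ⟨1, A.one_mem, Sgn.one f⟩
  obtain ⟨y1, m1, s1⟩ := hk 1 (by decide)
  obtain ⟨y2, m2, s2⟩ := hk 2 (by decide)
  obtain ⟨y3, m3, s3⟩ := hk 3 (by decide)
  obtain ⟨y4, m4, s4⟩ := hk 4 (by decide)
  obtain ⟨y5, m5, s5⟩ := hk 5 (by decide)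
  have h1 := (((s1.mul s2).mul s3).mul s4).mul s5
  have h2 := ev_prod ⟨s, hs⟩
  rw [← show s = _ from h2] at h1
  rw [hxs.eq h1]
  exact A.mul_mem (A.mul_mem (A.mul_mem (A.mul_mem m1 m2) m3) m4) m5

theorem Two.P_le [Fintype K] {C : Cov P (PT K)} (S : Setup P C (TVK K)) (hK : Fintype.card K = 4)
    {b g : Basis (Fin 6) F (ι → F)} {θ : F} (W : Two C b g θ) : P ≤ StabOm b θ := by
  have hD : ∀ x, (∃ R, x ∈ DD C R) → x * x = 1 := by
    rintro x ⟨R, r, hr, hx⟩
    exact hx.2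
  have hb : ∀ x ∈ DD C (Rl K), x ∈ StabOm b θ := by
    refine sgn_mem W.hb _ fun k hk x hx hxs => StabOm_of_invol (hD x ⟨_, hx⟩) ?_
    have hsem := sem_b θ hxs
    have hT : ∃ T : List (ℕ × ℤ × ℤ), ∀ n < 126, okT (fb k (LL n)) (T.getD n (0, 0, 0)) := by
      fin_cases k
      · exact absurd rfl hk
      · exact ⟨T0, ok0⟩
      · exact ⟨T1, ok1⟩
      · exact ⟨T2, ok2⟩
      · exact ⟨T3, ok3⟩
      · exact ⟨T4, ok4⟩
    obtain ⟨T, hT⟩ := hT
    exact step_Om W.hθ S.two one_ne_zero hsem hT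
  have h4 : (4 : F) ≠ 0 := by
    have : (4 : F) = 2 * 2 := by norm_num
    rw [this]; exact mul_ne_zero S.two S.two
  have hg : ∀ x ∈ DD C (Rq K), x ∈ StabOm b θ := by
    refine sgn_mem W.hg _ fun k hk x hx hxs => StabOm_of_invol (hD x ⟨_, hx⟩) ?_
    have hsem := sem_g W.hθ S.two W.cmb hk hxs
    have hT : ∃ T : List (ℕ × ℤ × ℤ), ∀ n < 126, okT (fg k (LL n)) (T.getD n (0, 0, 0)) := by
      fin_cases k
      · exact absurd rfl hk
      · exact ⟨T5, ok5⟩
      · exact ⟨T6, ok6⟩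
      · exact ⟨T7, ok7⟩
      · exact ⟨T8, ok8⟩
      · exact ⟨T9, ok9⟩
    obtain ⟨T, hT⟩ := hT
    exact step_Om W.hθ S.two h4 hsem hT
  refine lift_induction (C := C) gen_lq _ sc_mem_StabOm ?_ ?_
  · intro r hr
    obtain ⟨x, hx⟩ := S.exists_IL' (rad_l hK) hr
    exact ⟨x, hb x ⟨r, hr, hx⟩, hx.1⟩
  · intro r hr
    obtain ⟨x, hx⟩ := S.exists_IL' (rad_q hK) hr
    exact ⟨x, hg x ⟨r, hr, hx⟩, hx.1⟩

/-- the orbit of the lines of `g` -/
def Orb (P : Subgroup (GL ι F)) (g : Fin 6 → ι → F) : Set (ι → F) :=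
  {v | ∃ p ∈ P, ∃ (i : Fin 6) (k : F), k ≠ 0 ∧ v = k • ap p (g i)}

theorem Orb.of_ap {g : Fin 6 → ι → F} {x : GL ι F} (hx : x ∈ P) {v w : ι → F} {μ : F} (hμ : μ ≠ 0)
    (h : ap x v = μ • w) (hv : v ∈ Orb P g) : w ∈ Orb P g := by
  obtain ⟨p, hp, i, k, hk, rfl⟩ := hv
  refine ⟨x * p, P.mul_mem hx hp, i, μ⁻¹ * k, mul_ne_zero (inv_ne_zero hμ) hk, ?_⟩
  have h1 : w = μ⁻¹ • (μ • w) := by rw [smul_smul, inv_mul_cancel₀ hμ, one_smul]
  rw [h1, ← h, ap_smul, smul_smul, ap_mul]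

theorem Two.Om_eq [Fintype K] {C : Cov P (PT K)} (S : Setup P C (TVK K)) (hK : Fintype.card K = 4)
    {b g : Basis (Fin 6) F (ι → F)} {θ : F} (W : Two C b g θ) : Om b θ = Orb P g := by
  have hroot : ∀ i : Fin 6, g i = ev b θ (LL i) := by
    intro i
    rw [cmb_sum W.cmb i, ev]
    refine Finset.sum_congr rfl fun j _ => ?_
    rw [okRoot i j, Gq]
    by_cases h : j = i
    · rw [if_pos h, if_pos h.symm]
    · rw [if_neg h, if_neg (Ne.symm h)]
  have h4 : (4 : F) ≠ 0 := by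
    have : (4 : F) = 2 * 2 := by norm_num
    rw [this]; exact mul_ne_zero S.two S.two
  have hn : ∀ n < 126, ev b θ (LL n) ∈ Orb P g := by
    intro n
    induction n using Nat.strong_induction_on with
    | _ n ih =>
    intro hn
    have hp := okPar n hn
    generalize PT2.getD n (0, 0) = q at hp
    -- the generators
    have gb : ∀ (k : Fin 6) (T : List (ℕ × ℤ × ℤ)), k ≠ 0 → q.2 < n → okT (fb k (LL q.2)) (T.getD q.2 (0, 0, 0)) →
        (T.getD q.2 (0, 0, 0)).1 = n → ev b θ (LL n) ∈ Orb P g := by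
      intro k T hk hq hT hTn
      obtain ⟨x, ⟨r, hr, hx⟩, hxs⟩ := W.hb.full (sij 0 k) (sij_prod (Ne.symm hk))
      obtain ⟨-, μ, hμ, h1⟩ := step W.hθ S.two one_ne_zero (sem_b θ hxs) hT
      rw [hTn] at h1
      exact Orb.of_ap hx.1.mem hμ h1 (ih _ hq (hq.trans hn))
    have gg : ∀ (k : Fin 6) (T : List (ℕ × ℤ × ℤ)), k ≠ 0 → q.2 < n → okT (fg k (LL q.2)) (T.getD q.2 (0, 0, 0)) →
        (T.getD q.2 (0, 0, 0)).1 = n → ev b θ (LL n) ∈ Orb P g := by
      intro k T hk hq hT hTn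
      obtain ⟨x, ⟨r, hr, hx⟩, hxs⟩ := W.hg.full (sij 0 k) (sij_prod (Ne.symm hk))
      obtain ⟨-, μ, hμ, h1⟩ := step W.hθ S.two h4 (sem_g W.hθ S.two W.cmb hk hxs) hT
      rw [hTn] at h1
      exact Orb.of_ap hx.1.mem hμ h1 (ih _ hq (hq.trans hn))
    rcases hp with ⟨-, hp⟩ | ⟨hq, hp⟩
    · refine ⟨1, P.one_mem, ⟨n, hp⟩, 1, one_ne_zero, ?_⟩
      rw [one_smul, ap_one, hroot]
    · have hq' := hq.trans hn
      rcases hp with hp | hp | hp | hp | hp | hp | hp | hp | hp | hp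
      · exact gb 1 T0 (by decide) hq (ok0 _ hq') hp.2
      · exact gb 2 T1 (by decide) hq (ok1 _ hq') hp.2
      · exact gb 3 T2 (by decide) hq (ok2 _ hq') hp.2
      · exact gb 4 T3 (by decide) hq (ok3 _ hq') hp.2
      · exact gb 5 T4 (by decide) hq (ok4 _ hq') hp.2
      · exact gg 1 T5 (by decide) hq (ok5 _ hq') hp.2
      · exact gg 2 T6 (by decide) hq (ok6 _ hq') hp.2
      · exact gg 3 T7 (by decide) hq (ok7 _ hq') hp.2
      · exact gg 4 T8 (by decide) hq (ok8 _ hq') hp.2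
      · exact gg 5 T9 (by decide) hq (ok9 _ hq') hp.2
  apply Set.eq_of_subset_of_subset
  · rintro v ⟨n, hn', k, hk, rfl⟩
    obtain ⟨p, hp, i, k', hk', h⟩ := hn n hn'
    exact ⟨p, hp, i, k * k', mul_ne_zero hk hk', by rw [h, smul_smul]⟩
  · rintro v ⟨p, hp, i, k, hk, rfl⟩
    apply Om.smul _ hk
    have h1 : g i ∈ Om b θ := ⟨i, by omega, 1, one_ne_zero, by rw [one_smul, hroot]⟩
    exact (W.P_le S hK hp (g i)).2 h1

end Cfsg.Agent.H913.N6
end

-- part: H913/N6Type
section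
/-!
# Classes of radicals in `PSL_3(4)` (helper913)
-/

set_option autoImplicit false
set_option linter.unusedSectionVars false

namespace Cfsg.Agent.H913.N6

open Cfsg Cfsg.Geo Matrix
open Module (Basis)
open Cfsg.Agent.H906.SL3Par Cfsg.Agent.H906.L34 Cfsg.Agent.H906.T14
open scoped Pointwise

variable {K : Type*} [Field K]

/-- a `p`-subgroup is conjugate into a given subgroup of Sylow order -/
lemma conj_into_sub {T : Type*} [Group T] [Finite T] (p : ℕ) [Fact p.Prime] (S Z : Subgroup T) {k m : ℕ}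
    (hS : Nat.card S = p ^ k) (hT : Nat.card T = p ^ k * m) (hm : ¬ p ∣ m) (hZ : IsPGroup p Z) :
    ∃ g : T, ∀ t ∈ Z, g * t * g⁻¹ ∈ S := by
  have hSp : IsPGroup p S := IsPGroup.of_card hS
  have hidx : ¬ p ∣ S.index := by
    intro hd
    have h1 := Subgroup.card_mul_index S
    rw [hS, hT] at h1
    have h2 : S.index = m := Nat.eq_of_mul_eq_mul_left (pow_pos (Fact.out : p.Prime).pos k) h1
    rw [h2] at hd
    exact hm hd
  let Q : Sylow p T := hSp.toSylow hidx
  obtain ⟨R, hR⟩ := hZ.exists_le_sylow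
  obtain ⟨g, hg⟩ := MulAction.exists_smul_eq T R Q
  refine ⟨g, fun t ht => ?_⟩
  have h3 : g * t * g⁻¹ ∈ (MulAut.conj g • (R : Subgroup T)) := by
    have := Subgroup.smul_mem_pointwise_smul t (MulAut.conj g) (R : Subgroup T) (hR ht)
    exact this
  have h4 : MulAut.conj g • (R : Subgroup T) = S := by
    have h5 : ((g • R : Sylow p T) : Subgroup T) = (Q : Subgroup T) := by rw [hg]
    exact h5
  rwa [h4] at h3

/-- the radical of a point stabiliser containing the upper unitriangular group -/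
abbrev Rp (K : Type*) [Field K] : Subgroup (PT K) := (Qb K).map (pj K)

theorem conj_into_two [Fintype K] (hK : Fintype.card K = 4) (Z : Subgroup (PT K)) (hZ : ∀ z ∈ Z, z * z = 1) :
    ∃ γ : PT K, (∀ z ∈ Z, γ * z * γ⁻¹ ∈ Rl K) ∨ (∀ z ∈ Z, γ * z * γ⁻¹ ∈ Rp K) := by
  have := fin_T (K := K)
  have hf : Fact (Nat.Prime 2) := ⟨Nat.prime_two⟩
  have hcard : Nat.card ((U K).map (pj K)) = 2 ^ 6 := by
    have h1 : Nat.card (K × K × K) = 2 ^ 6 := by
      rw [Nat.card_prod, Nat.card_prod, Nat.card_eq_fintype_card, hK]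
      norm_num
    rw [← h1]
    symm
    refine Nat.card_congr (Equiv.ofBijective (fun x : K × K × K =>
      (⟨pj K (uni x.1 x.2.1 x.2.2), ⟨_, ⟨_, _, _, rfl⟩, rfl⟩⟩ : (U K).map (pj K))) ⟨?_, ?_⟩)
    · rintro ⟨a, b, c⟩ ⟨a', b', c'⟩ hh
      obtain ⟨h1, h2, h3⟩ := pj_uni_inj' (congrArg Subtype.val hh)
      change a = a' at h1
      change b = b' at h2
      change c = c' at h3
      rw [h1, h2, h3]
    · rintro ⟨_, _, ⟨a, b, c, rfl⟩, rfl⟩
      exact ⟨(a, b, c), rfl⟩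
  obtain ⟨γ, hγ⟩ := conj_into_sub 2 ((U K).map (pj K)) Z hcard (m := 315) (by rw [card_T hK]; norm_num) (by norm_num)
    (fun z => ⟨1, by
      apply Subtype.ext
      change (z : PT K) ^ 2 ^ 1 = 1
      rw [pow_one, pow_two]
      exact hZ z z.2⟩)
  refine ⟨γ, ?_⟩
  have hab : ∀ z ∈ Z, ∀ a b c : K, γ * z * γ⁻¹ = pj K (uni a b c) → a = 0 ∨ b = 0 := by
    intro z hz a b c h
    have h1 : pj K (uni a b c) * pj K (uni a b c) = 1 := by
      rw [← h]
      calc γ * z * γ⁻¹ * (γ * z * γ⁻¹) = γ * (z * z) * γ⁻¹ := by group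
        _ = 1 := by rw [hZ z hz]; group
    have h2 : pj K (uni 0 0 (a * b)) = pj K (uni 0 0 0) := by
      rw [uni_zero, map_one, ← h1, ← map_mul, uni_mul, add_self hK, add_self hK, add_self hK, zero_add]
    exact mul_eq_zero.1 (pj_uni_inj' h2).2.2
  by_cases hcase : ∀ z ∈ Z, γ * z * γ⁻¹ ∈ Rl K
  · exact Or.inl hcase
  right
  push Not at hcase
  obtain ⟨z1, hz1, hn⟩ := hcase
  obtain ⟨_, ⟨a1, b1, c1, rfl⟩, h1⟩ := hγ z1 hz1
  have ha1 : a1 ≠ 0 := by
    rintro rfl
    exact hn ⟨_, ⟨b1, c1, rfl⟩, h1⟩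
  have hb1 : b1 = 0 := (hab z1 hz1 a1 b1 c1 h1.symm).resolve_left ha1
  subst hb1
  intro z hz
  obtain ⟨_, ⟨a, b, c, rfl⟩, h⟩ := hγ z hz
  have hb : b = 0 := by
    have h3 := hab (z1 * z) (Z.mul_mem hz1 hz) (a1 + a) (0 + b) (c1 + c + a1 * b) (by
      rw [← uni_mul, map_mul]
      have h1' : pj K (uni a1 0 c1) = γ * z1 * γ⁻¹ := h1
      have h' : pj K (uni a b c) = γ * z * γ⁻¹ := h
      rw [h1', h']
      group)
    have h4 := hab z hz a b c h.symm
    rcases h4 with h4 | h4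
    · subst h4
      rcases h3 with h3 | h3
      · rw [add_zero] at h3; exact absurd h3 ha1
      · rwa [zero_add] at h3
    · exact h4
  subst hb
  exact ⟨_, ⟨a, c, rfl⟩, h⟩

/-- the swap of the first and last coordinate -/
def w02 (K : Type*) [Field K] : X K := ⟨!![0, 0, 1; 0, -1, 0; 1, 0, 0], by simp [Matrix.det_fin_three]⟩

theorem w02_conj (a c : K) : w02 K * uni a 0 c = low c (-a) * w02 K := by
  apply ext'
  intro i j
  rw [mul_entry, mul_entry]
  fin_cases i <;> fin_cases j <;> simp [w02, uni, low]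

theorem rad_class [Fintype K] (hK : Fintype.card K = 4) (Z : Subgroup (PT K)) (h16 : Nat.card Z = 16)
    (hZ : ∀ z ∈ Z, z * z = 1) : ∃ γ : PT K, MulAut.conj γ • Z = Rl K ∨ MulAut.conj γ • Z = Rq K := by
  have := fin_T (K := K)
  have hcard : ∀ γ : PT K, Nat.card (MulAut.conj γ • Z : Subgroup (PT K)) = 16 := by
    intro γ
    rw [← h16]
    exact Nat.card_congr (Subgroup.equivSMul (MulAut.conj γ) Z).toEquiv.symm
  obtain ⟨γ, h | h⟩ := conj_into_two hK Z hZ
  · refine ⟨γ, Or.inl ?_⟩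
    refine Subgroup.eq_of_le_of_card_ge ?_ (by rw [hcard, (rad_l hK).card])
    rintro _ ⟨z, hz, rfl⟩
    exact h z hz
  · refine ⟨pj K (w02 K) * γ, Or.inr ?_⟩
    refine Subgroup.eq_of_le_of_card_ge ?_ (by rw [hcard, (rad_q hK).card])
    rintro _ ⟨z, hz, rfl⟩
    change (pj K (w02 K) * γ) * z * (pj K (w02 K) * γ)⁻¹ ∈ Rq K
    obtain ⟨_, ⟨a, c, rfl⟩, hz'⟩ := h z hz
    have e : (pj K (w02 K) * γ) * z * (pj K (w02 K) * γ)⁻¹ = pj K (w02 K) * (γ * z * γ⁻¹) * (pj K (w02 K))⁻¹ := by group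
    rw [e, ← hz']
    refine ⟨low c (-a), ⟨_, _, rfl⟩, ?_⟩
    rw [eq_mul_inv_iff_mul_eq]
    change _ = pj K (w02 K) * pj K (uni a 0 c)
    rw [← map_mul, ← map_mul, w02_conj]

/-- the two classes are different -/
theorem not_conj (γ : PT K) : ¬ (∀ r ∈ Rl K, γ * r * γ⁻¹ ∈ Rq K) := by
  intro h
  obtain ⟨g, rfl⟩ := QuotientGroup.mk'_surjective _ γ
  have key : ∀ b c : K, ∃ r : K, ∀ i : Fin 3, i ≠ 2 →
      (g.1 i 0 = r * g.1 i 0 ∧ g.1 i 1 = r * g.1 i 1 ∧ g.1 i 2 = r * (g.1 i 0 * c + g.1 i 1 * b + g.1 i 2)) := by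
    intro b c
    obtain ⟨_, ⟨a', b', rfl⟩, h1⟩ := h (pj K (uni 0 b c)) ⟨_, ⟨b, c, rfl⟩, rfl⟩
    have h2 : pj K (g * uni 0 b c) = pj K (low a' b' * g) := by
      rw [map_mul, map_mul, h1]
      group
    obtain ⟨r, -, hr⟩ := pj_eq h2
    refine ⟨r, fun i hi => ?_⟩
    have e0 := hr i 0
    have e1 := hr i 1
    have e2 := hr i 2
    rw [mul_entry, mul_entry] at e0 e1 e2
    fin_cases i
    · simp [low, uni] at e0 e1 e2
      exact ⟨e0, e1, e2⟩
    · simp [low, uni] at e0 e1 e2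
      exact ⟨e0, e1, e2⟩
    · exact absurd rfl hi
  obtain ⟨r, hr⟩ := key 0 1
  obtain ⟨s, hs⟩ := key 1 0
  have z0 : ∀ i : Fin 3, i ≠ 2 → g.1 i 0 = 0 := by
    intro i hi
    obtain ⟨e0, e1, e2⟩ := hr i hi
    by_cases h1 : r = 1
    · rw [h1] at e2
      linear_combination -e2
    · have : (1 - r) * g.1 i 0 = 0 := by linear_combination e0
      exact (mul_eq_zero.1 this).resolve_left (sub_ne_zero.2 (Ne.symm h1))
  have z1 : ∀ i : Fin 3, i ≠ 2 → g.1 i 1 = 0 := by
    intro i hi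
    obtain ⟨e0, e1, e2⟩ := hs i hi
    by_cases h1 : s = 1
    · rw [h1] at e2
      linear_combination -e2
    · have : (1 - s) * g.1 i 1 = 0 := by linear_combination e1
      exact (mul_eq_zero.1 this).resolve_left (sub_ne_zero.2 (Ne.symm h1))
  have hd := det_eq g
  rw [z0 0 (by decide), z0 1 (by decide), z1 0 (by decide), z1 1 (by decide)] at hd
  simp at hd

/-- an opposite radical is conjugate to `R_q` under `R_l` -/
theorem opp [Fintype K] (hK : Fintype.card K = 4) (γ : PT K) (hgen : Rl K ⊔ MulAut.conj γ • Rq K = ⊤) :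
    ∃ ρ ∈ Rl K, MulAut.conj ρ • MulAut.conj γ • Rq K = Rq K := by
  have := fin_T (K := K)
  obtain ⟨g, rfl⟩ := QuotientGroup.mk'_surjective _ γ
  by_cases h22 : g.1 2 2 = 0
  · exfalso
    have hle : Rl K ⊔ MulAut.conj (pj K g) • Rq K ≤ (Pa K).map (pj K) := by
      apply sup_le
      · rintro _ ⟨_, ⟨b, c, rfl⟩, rfl⟩
        exact ⟨_, uni_mem_Pa _ _ _, rfl⟩
      · rintro _ ⟨_, ⟨_, ⟨a, b, rfl⟩, rfl⟩, rfl⟩
        refine ⟨g * low a b * g⁻¹, ?_, by rw [map_mul, map_mul, map_inv]; rfl⟩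
        have hrow : ∀ j : Fin 3, (g * low a b).1 2 j = g.1 2 j := by
          intro j
          rw [mul_entry, h22]
          fin_cases j <;> simp [low, h22]
        have hrow2 : ∀ j : Fin 3, (g * low a b * g⁻¹).1 2 j = (1 : X K).1 2 j := by
          intro j
          rw [mul_entry, hrow, hrow, hrow, ← mul_entry, mul_inv_cancel]
        constructor
        · rw [hrow2]; simp
        · rw [hrow2]; simp
    have hgen' : Rl K ⊔ MulAut.conj (pj K g) • Rq K = ⊤ := hgen
    rw [hgen'] at hle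
    obtain ⟨h, hh, he⟩ := hle (Subgroup.mem_top (pj K (low 1 0)))
    obtain ⟨r, -, hr⟩ := pj_eq he
    have := hr 2 0
    rw [hh.1] at this
    simp [low] at this
  · set ρ0 : X K := uni 0 (-(g.1 1 2) / g.1 2 2) (-(g.1 0 2) / g.1 2 2) with hρ0
    refine ⟨pj K ρ0, ⟨_, ⟨_, _, rfl⟩, rfl⟩, ?_⟩
    rw [smul_smul, ← map_mul]
    change MulAut.conj (pj K ρ0 * pj K g) • Rq K = Rq K
    rw [← map_mul]
    obtain ⟨k, hk⟩ : ∃ k, k = ρ0 * g := ⟨_, rfl⟩
    rw [← hk]
    have k02 : k.1 0 2 = 0 := by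
      rw [hk, mul_entry, hρ0]
      simp [uni]
      field_simp
      ring
    have k12 : k.1 1 2 = 0 := by
      rw [hk, mul_entry, hρ0]
      simp [uni]
      field_simp
      ring
    have hd := det_eq k
    rw [k02, k12] at hd
    refine Subgroup.eq_of_le_of_card_ge ?_ (by
      rw [Nat.card_congr (Subgroup.equivSMul (MulAut.conj (pj K k)) (Rq K)).toEquiv.symm])
    rintro _ ⟨_, ⟨_, ⟨a, b, rfl⟩, rfl⟩, rfl⟩
    refine ⟨low (k.1 2 2 ^ 2 * (a * k.1 1 1 - b * k.1 1 0)) (k.1 2 2 ^ 2 * (b * k.1 0 0 - a * k.1 0 1)), ⟨_, _, rfl⟩, ?_⟩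
    change _ = pj K k * pj K (low a b) * (pj K k)⁻¹
    rw [eq_mul_inv_iff_mul_eq, ← map_mul, ← map_mul]
    congr 1
    apply ext'
    intro i j
    rw [mul_entry, mul_entry]
    have hd' : (k.1 0 0 * k.1 1 1 - k.1 0 1 * k.1 1 0) * k.1 2 2 = 1 := by linear_combination hd
    fin_cases i <;> fin_cases j <;> simp [low, k02, k12]
    · linear_combination (a * k.1 2 2) * hd'
    · linear_combination (b * k.1 2 2) * hd'

end Cfsg.Agent.H913.N6
end

-- part: H913/N6Dich
section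
/-!
# The dichotomy for overgroups of a cover of `PSL_3(4)` (helper913)
-/

set_option autoImplicit false
set_option linter.unusedSectionVars false

namespace Cfsg.Agent.H913.N6

open Cfsg Cfsg.Geo Matrix
open Module (Basis)
open Cfsg.Agent.H915.LD (Core Soc toSoc tr)
open Cfsg.Agent.H906.SL3Par Cfsg.Agent.H906.L34 Cfsg.Agent.H906.T14
open scoped Pointwise

variable {ι : Type} [Fintype ι] [DecidableEq ι] {F : Type*} [Field F] {P H A : Subgroup (GL ι F)}
  {T : Type*} [Group T] {C : Cov P T}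

/-- `h` normalises `P` and acts on `T` as `φ` -/
def HA (C : Cov P T) (h : GL ι F) (φ : MulAut T) : Prop := ∀ x σ, C.L x σ → C.L (h * x * h⁻¹) (φ σ)

theorem HA.inv {h : GL ι F} {φ : MulAut T} (hh : HA C h φ) : HA C h⁻¹ φ⁻¹ := by
  intro x σ hx
  obtain ⟨y, hy⟩ := C.exists_lift (φ⁻¹ σ)
  have h1 := hh y _ hy
  rw [MulAut.apply_inv_self] at h1
  obtain ⟨c, hc, hx'⟩ := hx.exists_sc h1
  have e : h⁻¹ * x * h⁻¹⁻¹ = sc c * y := by
    rw [hx', inv_inv]
    calc h⁻¹ * (sc c * (h * y * h⁻¹)) * h = (h⁻¹ * sc c) * (h * y * h⁻¹) * h := by group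
      _ = (sc c * h⁻¹) * (h * y * h⁻¹) * h := by rw [sc_comm c h⁻¹]
      _ = sc c * y := by group
  rw [e]
  exact hy.sc_mul hc

theorem HA.mul {h h' : GL ι F} {φ φ' : MulAut T} (hh : HA C h φ) (hh' : HA C h' φ') : HA C (h * h') (φ * φ') := by
  intro x σ hx
  have h1 := hh _ _ (hh' _ _ hx)
  have e : h * (h' * x * h'⁻¹) * h⁻¹ = h * h' * x * (h * h')⁻¹ := by group
  rw [e] at h1
  exact h1

theorem HA.of_L {p : GL ι F} {γ : T} (hp : C.L p γ) : HA C p (MulAut.conj γ) := by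
  intro x σ hx
  exact hx.conj hp

theorem dd_aut {h : GL ι F} {φ : MulAut T} (hh : HA C h φ) {R R' : Subgroup T} (hR : φ • R = R') {x : GL ι F}
    (hx : x ∈ DD C R) : h * x * h⁻¹ ∈ DD C R' := by
  obtain ⟨r, hr, hx⟩ := hx
  refine ⟨φ r, ?_, hh _ _ hx.1, ?_⟩
  · rw [← hR]; exact Subgroup.smul_mem_pointwise_smul r φ R hr
  · calc h * x * h⁻¹ * (h * x * h⁻¹) = h * (x * x) * h⁻¹ := by group
      _ = 1 := by rw [hx.2]; group

theorem line_of_eig {b : Basis (Fin 6) F (ι → F)} {D : Set (GL ι F)} (hb : Frm b D) (h2 : (2 : F) ≠ 0) {v : ι → F}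
    (hv0 : v ≠ 0) (h1 : ∀ z ∈ D, ∃ u : ℤˣ, ap z v = sg F u • v) : ∃ (j : Fin 6) (c : F), c ≠ 0 ∧ v = c • b j := by
  classical
  obtain ⟨k, hk⟩ : ∃ k, b.repr v k ≠ 0 := by
    by_contra hcon
    push Not at hcon
    apply hv0
    rw [← b.sum_repr v]
    exact Finset.sum_eq_zero fun k _ => by rw [hcon k, zero_smul]
  have h5 : ∀ l, l ≠ k → b.repr v l = 0 := by
    intro l hl
    by_contra hne
    obtain ⟨m, hmk, hml⟩ : ∃ m : Fin 6, m ≠ k ∧ m ≠ l := by
      clear * -
      revert k l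
      decide +kernel
    obtain ⟨z, hz, hzs⟩ := hb.full (sij k m) (sij_prod hmk.symm)
    obtain ⟨u, hu⟩ := h1 z hz
    have h6 : ∀ t, b.repr (ap z v) t = sg F (sij k m t) * b.repr v t := by
      intro t
      have h7 : ap z v = ∑ t, b.repr v t • ap z (b t) := by
        conv_lhs => rw [← b.sum_repr v]
        rw [ap_sum]
        refine Finset.sum_congr rfl fun t _ => ?_
        rw [ap_smul]
      rw [h7, map_sum, Finsupp.finset_sum_apply]
      rw [Finset.sum_eq_single t]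
      · rw [hzs t, map_smul, map_smul, Finsupp.smul_apply, Finsupp.smul_apply, b.repr_self,
          Finsupp.single_eq_same, smul_eq_mul, smul_eq_mul, mul_one, mul_comm]
      · intro t' _ ht'
        rw [hzs t', map_smul, map_smul, Finsupp.smul_apply, Finsupp.smul_apply, b.repr_self,
          Finsupp.single_eq_of_ne ht'.symm, smul_zero, smul_zero]
      · intro h; exact absurd (Finset.mem_univ t) h
    have h8 := h6 k
    have h9 := h6 l
    rw [hu, map_smul, Finsupp.smul_apply, smul_eq_mul] at h8 h9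
    have e1 : sij k m k = -1 := by simp [sij]
    have e2 : sij k m l = 1 := by simp [sij, hl, hml.symm]
    rw [e1] at h8
    rw [e2] at h9
    have h10 := sg_inj h2 (mul_right_cancel₀ hk h8)
    have h11 := sg_inj h2 (mul_right_cancel₀ hne h9)
    rw [h10] at h11
    exact absurd h11 (by decide)
  refine ⟨k, b.repr v k, hk, ?_⟩
  conv_lhs => rw [← b.sum_repr v]
  rw [Finset.sum_eq_single k]
  · intro l _ hl
    rw [h5 l hl, zero_smul]
  · intro h; exact absurd (Finset.mem_univ k) h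

/-- `h` maps the frame `f` to the frame `f'` -/
def Mon2 (f f' : Fin 6 → ι → F) (h : GL ι F) (σ : Equiv.Perm (Fin 6)) (a : Fin 6 → F) : Prop :=
  ∀ i, a i ≠ 0 ∧ ap h (f i) = a i • f' (σ i)

theorem frame_map {f f' : Basis (Fin 6) F (ι → F)} (h2 : (2 : F) ≠ 0) {R R' : Subgroup T} (hf : Frm f (DD C R))
    (hf' : Frm f' (DD C R')) {h : GL ι F} {φ : MulAut T} (hh : HA C h φ) (hR : φ • R = R') :
    ∃ σ a, Mon2 f f' h σ a := by
  have hR' : φ⁻¹ • R' = R := by rw [← hR, inv_smul_smul]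
  have key : ∀ i, ∃ (j : Fin 6) (c : F), c ≠ 0 ∧ ap h (f i) = c • f' j := by
    intro i
    refine line_of_eig hf' h2 ?_ ?_
    · intro h0
      have h1 : f i = 0 := by
        rw [← ap_one (f i), ← inv_mul_cancel h, ap_mul, h0, ap_zero]
      exact f.ne_zero i h1
    · intro z hz
      have h3 := dd_aut hh.inv hR' hz
      rw [inv_inv] at h3
      obtain ⟨s, -, hs⟩ := hf.diag _ h3
      refine ⟨s i, ?_⟩
      have e1 : z * h = h * (h⁻¹ * z * h) := by group
      rw [← ap_mul, e1, ap_mul, hs i, ap_smul]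
  choose σ a hσ using key
  have hinj : Function.Injective σ := by
    intro i j hij
    by_contra hne
    have e1 := (hσ i).2
    have e2 := (hσ j).2
    rw [hij] at e1
    have e3 : ap h (a j • f i) = ap h (a i • f j) := by
      rw [ap_smul, ap_smul, e1, e2, smul_smul, smul_smul, mul_comm]
    exact hne (b_line (hσ j).1 (ap_cancel e3))
  exact ⟨Equiv.ofBijective σ (Finite.injective_iff_bijective.1 hinj), a, fun i => hσ i⟩

theorem conj_smul_self {R : Subgroup T} {ρ : T} (hρ : ρ ∈ R) : MulAut.conj ρ • R = R := by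
  apply le_antisymm
  · rintro _ ⟨r, hr, rfl⟩
    exact R.mul_mem (R.mul_mem hρ hr) (R.inv_mem hρ)
  · intro r hr
    refine ⟨ρ⁻¹ * r * ρ, R.mul_mem (R.mul_mem (R.inv_mem hρ) hr) hρ, ?_⟩
    change ρ * (ρ⁻¹ * r * ρ) * ρ⁻¹ = r
    group

theorem smul_sup_top {R R' : Subgroup T} (h : R ⊔ R' = ⊤) (φ : MulAut T) : φ • R ⊔ φ • R' = ⊤ := by
  have h1 : φ • (R ⊔ R') = φ • R ⊔ φ • R' := Subgroup.smul_sup φ R R'
  rw [← h1, h]
  apply top_le_iff.1
  intro x _
  refine ⟨φ⁻¹ x, Subgroup.mem_top _, ?_⟩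
  change φ (φ⁻¹ x) = x
  exact MulAut.apply_inv_self _ _ _

section KK

variable {K : Type*} [Field K] [Fintype K] {C : Cov P (PT K)}

theorem card_smul (φ : MulAut (PT K)) (R : Subgroup (PT K)) : Nat.card (φ • R : Subgroup (PT K)) = Nat.card R :=
  Nat.card_congr (Subgroup.equivSMul φ R).toEquiv.symm

theorem sq_smul {R : Subgroup (PT K)} (hR : ∀ r ∈ R, r * r = 1) (φ : MulAut (PT K)) :
    ∀ z ∈ (φ • R : Subgroup (PT K)), z * z = 1 := by
  rintro _ ⟨r, hr, rfl⟩
  change φ r * φ r = 1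
  rw [← map_mul, hR r hr, map_one]

theorem class_smul (hK : Fintype.card K = 4) {R : Subgroup (PT K)} (hR : R = Rl K ∨ R = Rq K) (φ : MulAut (PT K)) :
    ∃ γ : PT K, MulAut.conj γ • φ • R = Rl K ∨ MulAut.conj γ • φ • R = Rq K := by
  refine rad_class hK _ ?_ ?_
  · rw [card_smul]
    rcases hR with rfl | rfl
    · exact (rad_l hK).card
    · exact (rad_q hK).card
  · apply sq_smul
    rcases hR with rfl | rfl
    · rintro _ ⟨_, ⟨b, c, rfl⟩, rfl⟩
      rw [← map_mul, uni_sq hK, map_one]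
    · rintro _ ⟨_, ⟨b, c, rfl⟩, rfl⟩
      rw [← map_mul, low_sq hK, map_one]

/-- an element acting, swapping the two types -/
theorem exists_swap (hK : Fintype.card K = 4) (S : Setup P C (TVK K)) (hPH : P ≤ H) {h : GL ι F} {φ : MulAut (PT K)}
    (hhH : h ∈ H) (hh : HA C h φ) (hno : ∀ γ : PT K, MulAut.conj γ • φ • Rq K ≠ Rq K) :
    ∃ h' ∈ H, ∃ φ' : MulAut (PT K), HA C h' φ' ∧ φ' • Rl K = Rq K ∧ φ' • Rq K = Rl K := by
  obtain ⟨γ, hγ⟩ := class_smul hK (Or.inr rfl) φ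
  have hγ := hγ.resolve_right (hno γ)
  obtain ⟨q, hq⟩ := C.exists_lift γ
  have h1 := (HA.of_L hq).mul hh
  set φ1 := MulAut.conj γ * φ with hφ1
  have e1 : φ1 • Rq K = Rl K := by rw [hφ1, mul_smul, hγ]
  obtain ⟨δ, hδ⟩ := class_smul hK (Or.inl rfl) φ1
  have hδ' : MulAut.conj δ • φ1 • Rl K = Rq K := by
    rcases hδ with hδ | hδ
    · exfalso
      -- `R_l` would be conjugate to `R_q`
      have e2 : MulAut.conj (φ1⁻¹ δ) • Rl K = Rq K := by
        have e3 : MulAut.conj (φ1⁻¹ δ) = φ1⁻¹ * MulAut.conj δ * φ1 := by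
          ext x
          simp [MulAut.conj_apply]
        rw [e3, mul_smul, mul_smul, hδ, ← e1, inv_smul_smul]
      refine not_conj (φ1⁻¹ δ) fun r hr => ?_
      rw [← e2]
      exact Subgroup.smul_mem_pointwise_smul r _ (Rl K) hr
    · exact hδ
  have e2 : φ1 • Rl K = MulAut.conj δ⁻¹ • Rq K := by
    rw [← hδ', map_inv, inv_smul_smul]
  have e3 : Rl K ⊔ MulAut.conj δ⁻¹ • Rq K = ⊤ := by
    rw [← e2, sup_comm]
    have := smul_sup_top (T := PT K) (R := Rl K) (R' := Rq K) gen_lq φ1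
    rwa [e1] at this
  obtain ⟨ρ, hρ, hρ'⟩ := opp hK δ⁻¹ e3
  obtain ⟨r, hr⟩ := C.exists_lift ρ
  refine ⟨r * (q * h), H.mul_mem (hPH hr.mem) (H.mul_mem (hPH hq.mem) hhH), _, (HA.of_L hr).mul h1, ?_, ?_⟩
  · rw [mul_smul, e2, hρ']
  · rw [mul_smul, e1, conj_smul_self hρ]

end KK

end Cfsg.Agent.H913.N6
end

-- part: H913/N6Alg
section
/-!
# The algebra of the two frames (helper913)
-/

set_option autoImplicit false
set_option linter.unusedSectionVars false
set_option maxRecDepth 100000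

namespace Cfsg.Agent.H913.N6

open Cfsg Cfsg.Geo Matrix
open Module (Basis)

variable {ι : Type} [Fintype ι] [DecidableEq ι] {F : Type*} [Field F]

/-! ### integer facts -/

theorem Cz_sq : ∀ i j : Fin 6, i ≠ j → Cz i j * Cz i j = 1 := by decide +kernel

private theorem Cz_e : Cz = fun i j => Int.subNatNat (Nat.land (Nat.shiftRight 1783101798136972208809 (Nat.add (Nat.mul 12 i.1) (Nat.mul 2 j.1))) 3) 1 := by
  decide +kernel

theorem Cz_perm : ∀ σ : Equiv.Perm (Fin 6), (∀ i j k : Fin 6, i < j → j < k →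
    Cz (σ i) (σ j) * Cz (σ j) (σ k) * Cz (σ i) (σ k) = - (Cz i j * Cz j k * Cz i k)) →
    ((Equiv.Perm.sign σ : ℤˣ) : ℤ) * ((-(Cz 0 1 * Cz (σ 0) (σ 1))) * (-(Cz 0 2 * Cz (σ 0) (σ 2))) *
      (-(Cz 0 3 * Cz (σ 0) (σ 3))) * (-(Cz 0 4 * Cz (σ 0) (σ 4))) * (-(Cz 0 5 * Cz (σ 0) (σ 5)))) = 1 := by
  have h : ∀ σ : Equiv.Perm (Fin 6), (∀ i j : Fin 6, i < j → ∀ k : Fin 6, j < k →
    Cz (σ i) (σ j) * Cz (σ j) (σ k) * Cz (σ i) (σ k) = - (Cz i j * Cz j k * Cz i k)) →
    ((Equiv.Perm.sign σ : ℤˣ) : ℤ) * ((-(Cz 0 1 * Cz (σ 0) (σ 1))) * (-(Cz 0 2 * Cz (σ 0) (σ 2))) *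
      (-(Cz 0 3 * Cz (σ 0) (σ 3))) * (-(Cz 0 4 * Cz (σ 0) (σ 4))) * (-(Cz 0 5 * Cz (σ 0) (σ 5)))) = 1 := by
    rewrite [Cz_e]
    set_option synthInstance.maxSize 9000 in open scoped Cfsg.Agent.Lib.FastPerm in decide +kernel
  exact fun σ H => h σ fun i j hij k hjk => H i j k hij hjk

/-- the matrix `θ + C`, transposed -/
def GZm : Matrix (Fin 6) (Fin 6) (Zsqrtd (-3)) := fun k j => if j = k then ⟨0, 1⟩ else ⟨Cz j k, 0⟩

private noncomputable def _root_.Cfsg.Agent.LsF.f0c595e_17 : {f // @Cfsg.Agent.H913.N6.GZm = f} := ⟨_, by first | (delta Cfsg.Agent.H913.N6.GZm; rewrite [Cfsg.Agent.LsF.f0c595e_8.2, Cfsg.Agent.LsF.dFinEq_eq, Cfsg.Agent.LsF.ite_eq]; exact rfl) | exact rfl⟩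
theorem det_GZm : GZm.det = ⟨-512, 0⟩ := by (refine of_decide_eq_true ?_; (try (rewrite [Cfsg.Agent.LsF.f0c595e_17.2, Cfsg.Agent.LsF.det_eq, Cfsg.Agent.LsF.finFintype_eq, Cfsg.Agent.LsF.dFinEq_eq, Cfsg.Agent.LsF.decide_eq])); decide +kernel)

/-- equality of signs in the field -/
theorem int_eq (h2 : (2 : F) ≠ 0) {u v : ℤ} (hu : u * u = 1) (hv : v * v = 1) (h : (u : F) = (v : F)) : u = v := by
  have key : ∀ {u : ℤ}, u * u = 1 → u = 1 ∨ u = -1 := fun h => mul_self_eq_one_iff.1 h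
  rcases key hu with rfl | rfl <;> rcases key hv with rfl | rfl
  · rfl
  · exfalso; push_cast at h; exact h2 (by linear_combination h)
  · exfalso; push_cast at h; exact h2 (by linear_combination -h)
  · rfl

/-! ### coefficients -/

/-- the entries of `θ + C` -/
def Gf (θ : F) (i j : Fin 6) : F := if i = j then θ else (Cz i j : F)

theorem zF_Gq (θ : F) (i j : Fin 6) : zF θ (Gq i j) = Gf θ i j := by
  rw [Gq, Gf, zF]; split_ifs <;> simp

theorem zF_Hq (θ : F) (i l : Fin 6) : zF θ (Hq i l) = if l = i then -θ else (Cz i l : F) := by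
  rw [Hq, zF]; split_ifs <;> simp

theorem cmb_sum' {b g : Fin 6 → ι → F} {θ : F} (h : Cmb b g θ 1) (i : Fin 6) : g i = ∑ j, Gf θ i j • b j := by
  rw [cmb_sum h i]
  exact Finset.sum_congr rfl fun j _ => by rw [zF_Gq]

theorem coef {b : Basis (Fin 6) F (ι → F)} {σ : Equiv.Perm (Fin 6)} {c d : Fin 6 → F}
    (h : ∑ j, c j • b (σ j) = ∑ k, d k • b k) (j : Fin 6) : c j = d (σ j) := by
  have h1 := congrArg (fun v => b.repr v (σ j)) h
  simp only [map_sum, map_smul, Finsupp.finset_sum_apply, Finsupp.smul_apply, b.repr_self, smul_eq_mul] at h1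
  rw [Finset.sum_eq_single j, Finset.sum_eq_single (σ j)] at h1
  · simpa using h1
  · intro k _ hk
    rw [Finsupp.single_eq_of_ne hk.symm, mul_zero]
  · intro h; exact absurd (Finset.mem_univ _) h
  · intro k _ hk
    rw [Finsupp.single_eq_of_ne (fun h => hk (σ.injective h).symm), mul_zero]
  · intro h; exact absurd (Finset.mem_univ _) h

section

variable {b g : Basis (Fin 6) F (ι → F)} {θ : F} (hθ : θ * θ = -3) (h2 : (2 : F) ≠ 0) (h3 : (3 : F) ≠ 0)
  (hc : Cmb b g θ 1)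
include hθ h2 h3 hc

/-- a signed permutation of `b` that is monomial in `g` -/
theorem alg_N {N : GL ι F} {π : Equiv.Perm (Fin 6)} {t : Fin 6 → ℤˣ} (h1 : ∀ i, ap N (b i) = sg F (t i) • b (π i))
    {σ : Equiv.Perm (Fin 6)} {a : Fin 6 → F} (hg : Mon2 g g N σ a) :
    ∀ i j, i ≠ j → Cz (π i) (π j) = (t i : ℤ) * t j * Cz i j := by
  have h8 : (8 : F) ≠ 0 := by
    have : (8 : F) = 2 ^ 3 := by norm_num
    rw [this]; exact pow_ne_zero 3 h2
  have hθ0 : θ ≠ 0 := by
    rintro rfl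
    exact h3 (by linear_combination hθ)
  have key : ∀ i j, Gf θ i j * sg F (t j) = a i * Gf θ (σ i) (π j) := by
    intro i j
    have e1 : ap N (g i) = ∑ j, (Gf θ i j * sg F (t j)) • b (π j) := by
      rw [cmb_sum' hc i, ap_sum]
      exact Finset.sum_congr rfl fun j _ => by rw [ap_smul, h1 j, smul_smul]
    have e2 : ap N (g i) = ∑ k, (a i * Gf θ (σ i) k) • b k := by
      rw [(hg i).2, cmb_sum' hc (σ i), Finset.smul_sum]
      exact Finset.sum_congr rfl fun j _ => by rw [smul_smul]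
    exact coef (e1.symm.trans e2) j
  have hC : ∀ i j : Fin 6, i ≠ j → (Cz i j : F) * (Cz i j : F) = 1 := fun i j h => by
    exact_mod_cast congrArg (Int.cast : ℤ → F) (Cz_sq i j h)
  have hσ : ∀ i, σ i = π i := by
    intro i
    by_contra hne
    have k1 := key i i
    have k2 := key i (π.symm (σ i))
    have hij : i ≠ π.symm (σ i) := fun h => hne (by
      have := congrArg π h
      simpa using this.symm)
    rw [Gf, if_pos rfl, Gf, if_neg hne] at k1
    rw [Gf, if_neg hij, Gf, Equiv.apply_symm_apply, if_pos rfl] at k2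
    have c1 := hC _ _ hne
    have c2 := hC _ _ hij
    have t1 := sg_sq (F := F) (t i)
    have t2 := sg_sq (F := F) (t (π.symm (σ i)))
    have s1 : a i * a i = -3 := by
      calc a i * a i = a i * a i * ((Cz (σ i) (π i) : F) * (Cz (σ i) (π i) : F)) := by rw [c1, mul_one]
        _ = (a i * (Cz (σ i) (π i) : F)) * (a i * (Cz (σ i) (π i) : F)) := by ring
        _ = (θ * sg F (t i)) * (θ * sg F (t i)) := by rw [k1]
        _ = (θ * θ) * (sg F (t i) * sg F (t i)) := by ring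
        _ = -3 := by rw [hθ, t1, mul_one]
    have s2 : (1 : F) = 9 := by
      calc (1 : F) = ((Cz i (π.symm (σ i)) : F) * (Cz i (π.symm (σ i)) : F)) *
              (sg F (t (π.symm (σ i))) * sg F (t (π.symm (σ i)))) := by rw [c2, t2, mul_one]
        _ = ((Cz i (π.symm (σ i)) : F) * sg F (t (π.symm (σ i)))) *
              ((Cz i (π.symm (σ i)) : F) * sg F (t (π.symm (σ i)))) := by ring
        _ = (a i * θ) * (a i * θ) := by rw [k2]
        _ = (a i * a i) * (θ * θ) := by ring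
        _ = 9 := by rw [s1, hθ]; norm_num
    exact h8 (by linear_combination -s2)
  have ha : ∀ i, a i = sg F (t i) := by
    intro i
    have k1 := key i i
    rw [hσ i, Gf, if_pos rfl, Gf, if_pos rfl, mul_comm] at k1
    exact (mul_right_cancel₀ hθ0 k1).symm
  intro i j hij
  have k1 := key i j
  rw [hσ i, ha, Gf, if_neg hij, Gf, if_neg (fun h => hij (π.injective h))] at k1
  have ti := Int.units_coe_mul_self (t i)
  have tj := Int.units_coe_mul_self (t j)
  have c1 := Cz_sq _ _ hij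
  have c2 := Cz_sq (π i) (π j) (fun h => hij (π.injective h))
  refine int_eq h2 c2 ?_ ?_
  · calc ((t i : ℤ) * t j * Cz i j) * ((t i : ℤ) * t j * Cz i j) =
        ((t i : ℤ) * t i) * ((t j : ℤ) * t j) * (Cz i j * Cz i j) := by ring
      _ = 1 := by rw [ti, tj, c1]; norm_num
  · have t1 := sg_sq (F := F) (t i)
    rw [sg, sg] at k1
    rw [sg] at t1
    push_cast
    calc (Cz (π i) (π j) : F) = (((t i : ℤ) : F) * ((t i : ℤ) : F)) * (Cz (π i) (π j) : F) := by rw [t1, one_mul]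
      _ = ((t i : ℤ) : F) * (((t i : ℤ) : F) * (Cz (π i) (π j) : F)) := by ring
      _ = ((t i : ℤ) : F) * ((Cz i j : F) * ((t j : ℤ) : F)) := by rw [k1]
      _ = ((t i : ℤ) : F) * ((t j : ℤ) : F) * (Cz i j : F) := by ring

/-- an element swapping the frames -/
theorem alg_swap {h : GL ι F} {σ : Equiv.Perm (Fin 6)} {x : Fin 6 → F} (h1 : Mon2 b g h σ x)
    {τ : Equiv.Perm (Fin 6)} {y : Fin 6 → F} (hg : Mon2 g b h τ y) :
    ∀ i j, i ≠ j → x j = -((Cz i j * Cz (σ i) (σ j) : ℤ) : F) * x i := by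
  have h8 : (8 : F) ≠ 0 := by
    have : (8 : F) = 2 ^ 3 := by norm_num
    rw [this]; exact pow_ne_zero 3 h2
  have h4 : (4 : F) ≠ 0 := by
    have : (4 : F) = 2 ^ 2 := by norm_num
    rw [this]; exact pow_ne_zero 2 h2
  have hθ0 : θ ≠ 0 := by
    rintro rfl
    exact h3 (by linear_combination hθ)
  have key : ∀ i j, 8 * (Gf θ i j * x j) = y i * (if τ i = σ j then -θ else (Cz (σ j) (τ i) : F)) := by
    intro i j
    have e1 : (8 : F) • ap h (g i) = ∑ j, (8 * (Gf θ i j * x j)) • g (σ j) := by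
      rw [cmb_sum' hc i, ap_sum, Finset.smul_sum]
      exact Finset.sum_congr rfl fun j _ => by rw [ap_smul, (h1 j).2, smul_smul, smul_smul, mul_assoc]
    have e2 : (8 : F) • ap h (g i) = ∑ k, (y i * (if τ i = k then -θ else (Cz k (τ i) : F))) • g k := by
      rw [(hg i).2, smul_comm, cmb_inv hθ hc (τ i), Finset.smul_sum]
      exact Finset.sum_congr rfl fun j _ => by rw [smul_smul, zF_Hq]
    exact coef (e1.symm.trans e2) j
  have hC : ∀ i j : Fin 6, i ≠ j → (Cz i j : F) * (Cz i j : F) = 1 := fun i j h => by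
    exact_mod_cast congrArg (Int.cast : ℤ → F) (Cz_sq i j h)
  -- the alternative at `i`
  have altA : ∀ i, σ i = τ i → ∀ j, i ≠ j → Gf θ i j * x j = - x i * (Cz (σ j) (σ i) : F) := by
    intro i hi j hij
    have k1 := key i i
    have k2 := key i j
    rw [if_pos hi.symm, Gf, if_pos rfl] at k1
    have hy : y i = -8 * x i := by
      have : y i * θ = (-8 * x i) * θ := by linear_combination k1
      exact mul_right_cancel₀ hθ0 this
    rw [if_neg (fun h => hij (σ.injective (hi.trans h))), hy, ← hi] at k2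
    have : (8 : F) * (Gf θ i j * x j) = 8 * (- x i * (Cz (σ j) (σ i) : F)) := by rw [k2]; ring
    exact mul_left_cancel₀ h8 this
  have altA2 : ∀ i, σ i = τ i → ∀ j, i ≠ j → x j * x j = x i * x i := by
    intro i hi j hij
    have k1 := altA i hi j hij
    rw [Gf, if_neg hij] at k1
    have c1 := hC i j hij
    have c2 := hC (σ j) (σ i) (fun h => hij (σ.injective h).symm)
    calc x j * x j = ((Cz i j : F) * (Cz i j : F)) * (x j * x j) := by rw [c1, one_mul]
      _ = ((Cz i j : F) * x j) * ((Cz i j : F) * x j) := by ring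
      _ = (- x i * (Cz (σ j) (σ i) : F)) * (- x i * (Cz (σ j) (σ i) : F)) := by rw [k1]
      _ = (x i * x i) * ((Cz (σ j) (σ i) : F) * (Cz (σ j) (σ i) : F)) := by ring
      _ = x i * x i := by rw [c2, mul_one]
  have altB : ∀ i, σ i ≠ τ i → ∀ j, i ≠ j → (σ j = τ i → x j * x j = 9 * (x i * x i)) ∧
      (σ j ≠ τ i → x j * x j = -3 * (x i * x i)) := by
    intro i hi j hij
    have k1 := key i i
    have k2 := key i j
    rw [if_neg (Ne.symm hi), Gf, if_pos rfl] at k1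
    have c0 := hC (σ i) (τ i) hi
    have hy : y i = 8 * θ * x i * (Cz (σ i) (τ i) : F) := by
      calc y i = y i * ((Cz (σ i) (τ i) : F) * (Cz (σ i) (τ i) : F)) := by rw [c0, mul_one]
        _ = (y i * (Cz (σ i) (τ i) : F)) * (Cz (σ i) (τ i) : F) := by ring
        _ = _ := by rw [← k1]; ring
    have hyy : y i * y i = 64 * (-3) * (x i * x i) := by
      rw [hy]
      calc 8 * θ * x i * (Cz (σ i) (τ i) : F) * (8 * θ * x i * (Cz (σ i) (τ i) : F)) =
          64 * (θ * θ) * (x i * x i) * ((Cz (σ i) (τ i) : F) * (Cz (σ i) (τ i) : F)) := by ring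
        _ = _ := by rw [hθ, c0]; ring
    have c1 := hC i j hij
    have h64 : (64 : F) * (x j * x j) = (8 * (Gf θ i j * x j)) * (8 * (Gf θ i j * x j)) := by
      rw [Gf, if_neg hij]
      calc (64 : F) * (x j * x j) = 64 * ((Cz i j : F) * (Cz i j : F)) * (x j * x j) := by rw [c1, mul_one]
        _ = _ := by ring
    have h64' : (64 : F) ≠ 0 := by
      have : (64 : F) = 8 * 8 := by norm_num
      rw [this]; exact mul_ne_zero h8 h8
    rw [k2] at h64
    constructor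
    · intro h
      rw [if_pos h.symm] at h64
      apply mul_left_cancel₀ h64'
      rw [h64]
      linear_combination (θ * θ) * hyy + (-192 * (x i * x i)) * hθ
    · intro h
      rw [if_neg (Ne.symm h)] at h64
      have c2 := hC (σ j) (τ i) h
      apply mul_left_cancel₀ h64'
      rw [h64]
      linear_combination ((Cz (σ j) (τ i) : F) * (Cz (σ j) (τ i) : F)) * hyy + (-192 * (x i * x i)) * c2
  have hAll : ∀ i, σ i = τ i := by
    intro i
    by_contra hi
    obtain ⟨i1, i2, a1, a2, a3, a4, a5⟩ : ∃ i1 i2 : Fin 6, i ≠ i1 ∧ i ≠ i2 ∧ i1 ≠ i2 ∧ i1 ≠ σ.symm (τ i) ∧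
        i2 ≠ σ.symm (τ i) := by
      generalize σ.symm (τ i) = j
      clear * -
      revert i j
      decide +kernel
    have hn : ∀ j, j ≠ σ.symm (τ i) → σ j ≠ τ i := fun j hj h => hj (by rw [← h]; simp)
    have e1 := (altB i hi i1 a1).2 (hn _ a4)
    have e2 := (altB i hi i2 a2).2 (hn _ a5)
    have hx := (h1 i).1
    have hxx : x i * x i ≠ 0 := mul_ne_zero hx hx
    have hxx1 : x i1 * x i1 ≠ 0 := mul_ne_zero (h1 i1).1 (h1 i1).1
    by_cases hi1 : σ i1 = τ i1
    · have e3 := altA2 i1 hi1 i (Ne.symm a1)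
      rw [e1] at e3
      have : 4 * (x i * x i) = 0 := by linear_combination e3
      exact (mul_ne_zero h4 hxx) this
    · have e3 := altB i1 hi1 i2 a3
      have e4 : x i2 * x i2 = x i1 * x i1 := by rw [e1, e2]
      rcases em (σ i2 = τ i1) with h | h
      · have e5 := e3.1 h
        rw [e4] at e5
        have : 8 * (x i1 * x i1) = 0 := by linear_combination -e5
        exact (mul_ne_zero h8 hxx1) this
      · have e5 := e3.2 h
        rw [e4] at e5
        have : 4 * (x i1 * x i1) = 0 := by linear_combination e5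
        exact (mul_ne_zero h4 hxx1) this
  intro i j hij
  have k1 := altA i (hAll i) j hij
  rw [Gf, if_neg hij] at k1
  have c1 := hC i j hij
  have hsym : ∀ k l : Fin 6, Cz k l = Cz l k := by decide +kernel
  rw [hsym (σ j) (σ i)] at k1
  push_cast
  calc x j = ((Cz i j : F) * (Cz i j : F)) * x j := by rw [c1, one_mul]
    _ = (Cz i j : F) * ((Cz i j : F) * x j) := by ring
    _ = _ := by rw [k1]; ring

/-- **The determinant of a swapping element.** -/
theorem det_swap {h : GL ι F} {σ : Equiv.Perm (Fin 6)} {x : Fin 6 → F} (h1 : Mon2 b g h σ x)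
    {τ : Equiv.Perm (Fin 6)} {y : Fin 6 → F} (hg : Mon2 g b h τ y) :
    (h : Matrix ι ι F).det = -512 * x 0 ^ 6 := by
  have hx := alg_swap hθ h2 h3 hc h1 hg
  have hsq : ∀ i j : Fin 6, i ≠ j → (Cz i j * Cz (σ i) (σ j)) * (Cz i j * Cz (σ i) (σ j)) = 1 := by
    intro i j hij
    calc (Cz i j * Cz (σ i) (σ j)) * (Cz i j * Cz (σ i) (σ j)) =
        (Cz i j * Cz i j) * (Cz (σ i) (σ j) * Cz (σ i) (σ j)) := by ring
      _ = 1 := by rw [Cz_sq i j hij, Cz_sq _ _ (fun h => hij (σ.injective h))]; norm_num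
  have htri : ∀ i j k : Fin 6, i < j → j < k →
      Cz (σ i) (σ j) * Cz (σ j) (σ k) * Cz (σ i) (σ k) = - (Cz i j * Cz j k * Cz i k) := by
    intro i j k hij hjk
    have hij' := hij.ne
    have hjk' := hjk.ne
    have hik' := (hij.trans hjk).ne
    set u := Cz i j * Cz (σ i) (σ j) with hu
    set v := Cz j k * Cz (σ j) (σ k) with hv
    set w := Cz i k * Cz (σ i) (σ k) with hw
    have q1 : u * u = 1 := hsq i j hij'
    have q2 : v * v = 1 := hsq j k hjk'
    have q3 : w * w = 1 := hsq i k hik'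
    -- `v u = - w`
    have e1 : v * u = -w := by
      refine int_eq h2 ?_ ?_ ?_
      · calc v * u * (v * u) = (v * v) * (u * u) := by ring
          _ = 1 := by rw [q1, q2]; norm_num
      · calc -w * -w = w * w := by ring
          _ = 1 := q3
      · have f1 := hx i j hij'
        have f2 := hx j k hjk'
        have f3 := hx i k hik'
        rw [f1] at f2
        rw [f3] at f2
        have hxi := (h1 i).1
        have : (-(w : F)) * x i = ((v : F) * (u : F)) * x i := by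
          rw [f2]; ring
        have h5 := mul_right_cancel₀ hxi this
        push_cast
        exact h5.symm
    have c1 := Cz_sq _ _ hij'
    have c2 := Cz_sq _ _ hjk'
    have c3 := Cz_sq _ _ hik'
    have d1 : Cz (σ i) (σ j) = Cz i j * u := by rw [hu, ← mul_assoc, c1, one_mul]
    have d2 : Cz (σ j) (σ k) = Cz j k * v := by rw [hv, ← mul_assoc, c2, one_mul]
    have d3 : Cz (σ i) (σ k) = Cz i k * w := by rw [hw, ← mul_assoc, c3, one_mul]
    rw [d1, d2, d3]
    calc Cz i j * u * (Cz j k * v) * (Cz i k * w) = (Cz i j * Cz j k * Cz i k) * ((v * u) * w) := by ring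
      _ = _ := by rw [e1]; linear_combination (-(Cz i j * Cz j k * Cz i k)) * q3
  have hperm := Cz_perm σ htri
  rw [det_eq_det b]
  have e1 : (Matrix.of fun i j => b.repr (ap h (b j)) i) =
      Matrix.of fun i j => x j * (Matrix.of fun i j => Gf θ (σ j) i) i j := by
    ext i j
    rw [Matrix.of_apply, Matrix.of_apply, Matrix.of_apply, (h1 j).2, cmb_sum' hc (σ j), map_smul, Finsupp.smul_apply,
      map_sum, Finsupp.finset_sum_apply, smul_eq_mul]
    congr 1
    rw [Finset.sum_eq_single i]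
    · rw [map_smul, Finsupp.smul_apply, b.repr_self, Finsupp.single_eq_same, smul_eq_mul, mul_one]
    · intro k _ hk
      rw [map_smul, Finsupp.smul_apply, b.repr_self, Finsupp.single_eq_of_ne hk.symm, smul_zero]
    · intro h; exact absurd (Finset.mem_univ _) h
  rw [e1, Matrix.det_mul_row]
  have e2 : (Matrix.of fun i j => Gf θ (σ j) i) = (Matrix.of fun i j => Gf θ j i).submatrix id σ := by
    ext i j
    rfl
  rw [e2, Matrix.det_permute']
  have hθ' : θ * θ = ((-3 : ℤ) : F) := by rw [hθ]; norm_num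
  have e3 : (Matrix.of fun i j => Gf θ j i) = GZm.map (Zsqrtd.lift ⟨θ, hθ'⟩) := by
    ext i j
    rw [Matrix.map_apply, Matrix.of_apply, Gf, GZm]
    split_ifs <;> simp [Zsqrtd.lift]
  have e4 : (Matrix.of fun i j => Gf θ j i).det = -512 := by
    rw [e3, ← RingHom.mapMatrix_apply, ← RingHom.map_det, det_GZm]
    simp [Zsqrtd.lift]
  rw [e4, Fin.prod_univ_six, hx 0 1 (by decide), hx 0 2 (by decide), hx 0 3 (by decide), hx 0 4 (by decide),
    hx 0 5 (by decide)]
  have e5 := congrArg (Int.cast : ℤ → F) hperm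
  push_cast at e5 ⊢
  linear_combination (-512 * x 0 ^ 6) * e5

end

end Cfsg.Agent.H913.N6
end

-- part: H913/N6Case
section
/-!
# Maximal overgroups contain a swapping element (helper913)
-/

set_option autoImplicit false
set_option linter.unusedSectionVars false
set_option maxRecDepth 100000

namespace Cfsg.Agent.H913.N6

open Cfsg Cfsg.Geo Matrix
open Module (Basis)
open Cfsg.Agent.H915.LD (Core Soc toSoc tr)
open Cfsg.Agent.H906.SL3Par Cfsg.Agent.H906.L34 Cfsg.Agent.H906.T14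
open scoped Pointwise

variable {ι : Type} [Fintype ι] [DecidableEq ι] {F : Type*} [Field F]

/-- an element with given matrix in a basis -/
theorem exists_gl (b : Basis (Fin 6) F (ι → F)) (N : Matrix (Fin 6) (Fin 6) F) (hN : N.det ≠ 0) :
    ∃ x : GL ι F, (∀ j, ap x (b j) = ∑ i, N i j • b i) ∧ (x : Matrix ι ι F).det = N.det := by
  have hu : IsUnit N.det := hN.isUnit
  have e1 : N * N⁻¹ = 1 := Matrix.mul_nonsing_inv N hu
  have e2 : N⁻¹ * N = 1 := Matrix.nonsing_inv_mul N hu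
  have key : ∀ A B : Matrix (Fin 6) (Fin 6) F, A * B = 1 →
      LinearMap.toMatrix' (Matrix.toLin b b A) * LinearMap.toMatrix' (Matrix.toLin b b B) = 1 := by
    intro A B h
    rw [← LinearMap.toMatrix'_comp, ← Matrix.toLin_mul, h, Matrix.toLin_one, LinearMap.toMatrix'_id]
  obtain ⟨x, hx⟩ : ∃ x : GL ι F, (x : Matrix ι ι F) = LinearMap.toMatrix' (Matrix.toLin b b N) :=
    ⟨⟨_, _, key N N⁻¹ e1, key N⁻¹ N e2⟩, rfl⟩
  have h1 : ∀ j, ap x (b j) = ∑ i, N i j • b i := by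
    intro j
    rw [ap, hx, LinearMap.toMatrix'_mulVec, Matrix.toLin_self]
  refine ⟨x, h1, ?_⟩
  rw [det_eq_det b]
  congr 1
  ext i j
  rw [Matrix.of_apply, h1, map_sum, Finsupp.finset_sum_apply, Finset.sum_eq_single i]
  · rw [map_smul, Finsupp.smul_apply, b.repr_self, Finsupp.single_eq_same, smul_eq_mul, mul_one]
  · intro k _ hk
    rw [map_smul, Finsupp.smul_apply, b.repr_self, Finsupp.single_eq_of_ne hk.symm, smul_zero]
  · intro h; exact absurd (Finset.mem_univ _) h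

/-- the integer matrix of the cycle -/
def Ny : Matrix (Fin 6) (Fin 6) ℤ := !![0, 0, 1, 0, 0, 0; 1, 0, 0, 0, 0, 0; 0, 1, 0, 0, 0, 0; 0, 0, 0, 1, 0, 0;
  0, 0, 0, 0, 1, 0; 0, 0, 0, 0, 0, 1]

private noncomputable def _root_.Cfsg.Agent.LsF.f0c595e_18 : {f // @Cfsg.Agent.H913.N6.Ny = f} := ⟨_, by first | (delta Cfsg.Agent.H913.N6.Ny; rewrite [Cfsg.Agent.LsF.mof_pat, Cfsg.Agent.LsF.vecCons_eq]; exact rfl) | exact rfl⟩
theorem det_Ny : Ny.det = 1 := by (refine of_decide_eq_true ?_; (try (rewrite [Cfsg.Agent.LsF.f0c595e_18.2, Cfsg.Agent.LsF.det_eq, Cfsg.Agent.LsF.finFintype_eq, Cfsg.Agent.LsF.instIDecEq_eq, Cfsg.Agent.LsF.dFinEq_eq, Cfsg.Agent.LsF.decide_eq])); decide +kernel)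

/-- the cycle `(0 1 2)` -/
theorem exists_y (b : Basis (Fin 6) F (ι → F)) : ∃ x : GL ι F, (x : Matrix ι ι F).det = 1 ∧
    ap x (b 0) = b 1 ∧ ap x (b 1) = b 2 ∧ ap x (b 2) = b 0 ∧ ap x (b 3) = b 3 ∧ ap x (b 4) = b 4 ∧
    ap x (b 5) = b 5 := by
  have hd : (Ny.map (Int.castRingHom F)).det = 1 := by
    rw [← RingHom.mapMatrix_apply, ← RingHom.map_det, det_Ny]; simp
  obtain ⟨x, h1, h2⟩ := exists_gl b (Ny.map (Int.castRingHom F)) (by rw [hd]; exact one_ne_zero)
  refine ⟨x, by rw [h2, hd], ?_, ?_, ?_, ?_, ?_, ?_⟩ <;> rw [h1, Fin.sum_univ_six] <;> simp [Ny]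

/-- the matrix of `E` with the first two columns doubled -/
def NE : Matrix (Fin 6) (Fin 6) (Zsqrtd (-3)) := !![⟨0, 1⟩, 1, 0, 0, 0, 0; -1, ⟨0, -1⟩, 0, 0, 0, 0; 0, 0, 1, 0, 0, 0;
  0, 0, 0, 1, 0, 0; 0, 0, 0, 0, 1, 0; 0, 0, 0, 0, 0, 1]

private noncomputable def _root_.Cfsg.Agent.LsF.f0c595e_19 : {f // @Cfsg.Agent.H913.N6.NE = f} := ⟨_, by first | (delta Cfsg.Agent.H913.N6.NE; rewrite [Cfsg.Agent.LsF.mof_pat, Cfsg.Agent.LsF.vecCons_eq]; exact rfl) | exact rfl⟩
theorem det_NE : NE.det = ⟨4, 0⟩ := by (refine of_decide_eq_true ?_; (try (rewrite [Cfsg.Agent.LsF.f0c595e_19.2, Cfsg.Agent.LsF.det_eq, Cfsg.Agent.LsF.finFintype_eq, Cfsg.Agent.LsF.dFinEq_eq, Cfsg.Agent.LsF.decide_eq])); decide +kernel)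

/-- an element outside the stabiliser of the lines -/
theorem exists_E (b : Basis (Fin 6) F (ι → F)) {θ : F} (hθ : θ * θ = -3) (h2 : (2 : F) ≠ 0) :
    ∃ x : GL ι F, (x : Matrix ι ι F).det = 1 ∧ ap x (b 0) = (2 : F)⁻¹ • (θ • b 0 - b 1) ∧
    ap x (b 1) = (2 : F)⁻¹ • (b 0 - θ • b 1) ∧ ap x (b 2) = b 2 ∧ ap x (b 3) = b 3 ∧ ap x (b 4) = b 4 ∧
    ap x (b 5) = b 5 := by
  have hθ' : θ * θ = ((-3 : ℤ) : F) := by rw [hθ]; norm_num
  set f := Zsqrtd.lift (d := -3) ⟨θ, hθ'⟩ with hf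
  have h4 : (4 : F) ≠ 0 := by
    have : (4 : F) = 2 ^ 2 := by norm_num
    rw [this]; exact pow_ne_zero 2 h2
  have hd0 : (NE.map f).det = 4 := by
    rw [← RingHom.mapMatrix_apply, ← RingHom.map_det, det_NE]; simp [hf, Zsqrtd.lift]
  let v : Fin 6 → F := ![2⁻¹, 2⁻¹, 1, 1, 1, 1]
  have hd : (Matrix.of fun i j => v j * NE.map f i j).det = 1 := by
    rw [Matrix.det_mul_row, hd0, Fin.prod_univ_six]
    simp [v]
    have : (4 : F) = 2 * 2 := by norm_num
    rw [this]
    field_simp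
  obtain ⟨x, h1, h3⟩ := exists_gl b (Matrix.of fun i j => v j * NE.map f i j) (by rw [hd]; exact one_ne_zero)
  have f0 : f ⟨0, 1⟩ = θ := by simp [hf, Zsqrtd.lift]
  have f1 : f ⟨0, -1⟩ = -θ := by simp [hf, Zsqrtd.lift]
  refine ⟨x, by rw [h3, hd], ?_, ?_, ?_, ?_, ?_, ?_⟩ <;> rw [h1, Fin.sum_univ_six] <;>
    simp [NE, v, f0, f1]
  · module
  · module

theorem E_not_mem {b : Basis (Fin 6) F (ι → F)} {θ : F} (hθ : θ * θ = -3) (h2 : (2 : F) ≠ 0) (h3 : (3 : F) ≠ 0)
    {x : GL ι F} (x0 : ap x (b 0) = (2 : F)⁻¹ • (θ • b 0 - b 1)) (x2 : ap x (b 2) = b 2) : x ∉ StabOm b θ := by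
  intro hx
  have hθ0 : θ ≠ 0 := by
    rintro rfl
    exact h3 (by linear_combination hθ)
  obtain ⟨n, hn, hL⟩ := ok02
  have h1 : b 0 + b 2 ∈ Om b θ := by
    refine ⟨n, hn, 1, one_ne_zero, ?_⟩
    rw [one_smul, ev, Fin.sum_univ_six, hL, hL, hL, hL, hL, hL]
    simp [zF]
  have h4 := (hx (b 0 + b 2)).2 h1
  obtain ⟨m, hm, k, hk, h5⟩ := h4
  rw [ap_add, x0, x2] at h5
  have hz : ∀ z : Z2, zF θ z = 0 → z = 0 ∨ ¬ (nz z) := by
    intro z hz
    right
    intro h
    exact nz_ne hθ h2 h hz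
  -- coordinates
  have hco : ∀ j, b.repr (k • ev b θ (LL m)) j = k * zF θ (LL m j) := by
    intro j
    rw [map_smul, Finsupp.smul_apply, smul_eq_mul, ev, map_sum, Finsupp.finset_sum_apply, Finset.sum_eq_single j]
    · rw [map_smul, Finsupp.smul_apply, b.repr_self, Finsupp.single_eq_same, smul_eq_mul, mul_one]
    · intro k _ hk
      rw [map_smul, Finsupp.smul_apply, b.repr_self, Finsupp.single_eq_of_ne hk.symm, smul_zero]
    · intro h; exact absurd (Finset.mem_univ _) h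
  have hr : ∀ j, b.repr ((2 : F)⁻¹ • (θ • b 0 - b 1) + b 2) j = k * zF θ (LL m j) := by
    intro j
    rw [h5, hco]
  have r0 := hr 0
  have r1 := hr 1
  have r2 := hr 2
  have r3 := hr 3
  have r4 := hr 4
  have r5 := hr 5
  simp [Finsupp.single_apply] at r0 r1 r2 r3 r4 r5
  have hdig : ∀ z : Z2, z ∈ ({(0, 0), (1, 0), (-1, 0), (0, 1)} : Set Z2) → zF θ z = 0 → z = 0 := by
    rintro z (rfl | rfl | rfl | rfl) h
    · rfl
    · simp [zF] at h
    · simp [zF] at h
    · simp [zF] at h; exact absurd h hθ0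
  have hmem : ∀ j, LL m j ∈ ({(0, 0), (1, 0), (-1, 0), (0, 1)} : Set Z2) := by
    intro j
    rw [LL, dec, dig]
    split_ifs <;> simp
  refine okSupp m hm ⟨?_, ?_, ?_, ?_, ?_, ?_⟩
  · intro h
    rw [h, zF_zero, mul_zero] at r0
    rcases mul_eq_zero.1 r0 with h6 | h6
    · exact h2 (by simpa using h6)
    · exact hθ0 h6
  · intro h
    rw [h, zF_zero, mul_zero] at r1
    exact h2 (by simpa using r1)
  · intro h
    rw [h, zF_zero, mul_zero] at r2
    exact one_ne_zero r2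
  · exact hdig _ (hmem 3) (by rcases r3 with h | h; exact absurd h hk; exact h)
  · exact hdig _ (hmem 4) (by rcases r4 with h | h; exact absurd h hk; exact h)
  · exact hdig _ (hmem 5) (by rcases r5 with h | h; exact absurd h hk; exact h)

end Cfsg.Agent.H913.N6
end

-- part: H913/N6Max
section
/-!
# Maximal overgroups contain a swapping element (helper913)
-/

set_option autoImplicit false
set_option linter.unusedSectionVars false

namespace Cfsg.Agent.H913.N6

open Cfsg Cfsg.Geo Matrix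
open Module (Basis)
open Cfsg.Agent.H915.LD (Core Soc toSoc tr)
open Cfsg.Agent.H906.SL3Par Cfsg.Agent.H906.L34 Cfsg.Agent.H906.T14
open scoped Pointwise

variable {ι : Type} [Fintype ι] [DecidableEq ι] {F : Type*} [Field F] {P H A : Subgroup (GL ι F)}
  {K : Type*} [Field K] [Fintype K] {C : Cov P (PT K)}

/-- the cycle `(0 1 2)` as a permutation -/
def cyc : Equiv.Perm (Fin 6) := ⟨![1, 2, 0, 3, 4, 5], ![2, 0, 1, 3, 4, 5], by decide, by decide⟩

theorem cyc_contra : ∀ t : Fin 6 → ℤˣ, ¬ (∀ i j, i ≠ j → Cz (cyc i) (cyc j) = (t i : ℤ) * t j * Cz i j) := by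
  intro t h
  have h1 := h 0 1 (by decide)
  have h2 := h 1 4 (by decide)
  have h3 := h 0 4 (by decide)
  have e1 : Cz (cyc 0) (cyc 1) = 1 := by decide +kernel
  have e2 : Cz (cyc 1) (cyc 4) = -1 := by decide +kernel
  have e3 : Cz (cyc 0) (cyc 4) = -1 := by decide +kernel
  have f1 : Cz 0 1 = 1 := by decide +kernel
  have f2 : Cz 1 4 = -1 := by decide +kernel
  have f3 : Cz 0 4 = 1 := by decide +kernel
  rw [e1, f1] at h1
  rw [e2, f2] at h2
  rw [e3, f3] at h3
  have g1 := Int.units_coe_mul_self (t 1)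
  have : (1 : ℤ) = -1 := by
    calc (1 : ℤ) = (t 0 : ℤ) * t 1 * 1 * (-((t 1 : ℤ) * t 4 * -1)) := by rw [← h1, ← h2]; norm_num
      _ = ((t 1 : ℤ) * t 1) * ((t 0 : ℤ) * t 4 * 1) := by ring
      _ = -1 := by rw [g1, ← h3]; norm_num
  norm_num at this

/-- **A maximal overgroup contains an element not preserving the class of `R_q`.** -/
theorem exists_bad (hK : Fintype.card K = 4) (S : Setup P C (TVK K)) (h3 : (3 : F) ≠ 0)
    {b g : Basis (Fin 6) F (ι → F)} {θ : F} (W : Two C b g θ) (hmax : IsMaximalIn A H) (hPH : P ≤ H)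
    (hnorm : ∀ h ∈ H, ∀ x ∈ P, h * x * h⁻¹ ∈ P)
    (hyA : ∀ x : GL ι F, (x : Matrix ι ι F).det = 1 → ap x (b 0) = b 1 → ap x (b 1) = b 2 → ap x (b 2) = b 0 →
      ap x (b 3) = b 3 → ap x (b 4) = b 4 → ap x (b 5) = b 5 → x ∈ A)
    (hEA : ∀ x : GL ι F, (x : Matrix ι ι F).det = 1 → ap x (b 0) = (2 : F)⁻¹ • (θ • b 0 - b 1) →
      ap x (b 1) = (2 : F)⁻¹ • (b 0 - θ • b 1) → ap x (b 2) = b 2 → ap x (b 3) = b 3 → ap x (b 4) = b 4 →
      ap x (b 5) = b 5 → x ∈ A) :
    ∃ h ∈ H, ∃ φ : MulAut (PT K), HA C h φ ∧ ∀ γ : PT K, MulAut.conj γ • φ • Rq K ≠ Rq K := by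
  by_contra hcon
  push Not at hcon
  have hcon' : ∀ h ∈ H, ∀ φ : MulAut (PT K), HA C h φ → ∃ γ : PT K, MulAut.conj γ • φ • Rq K = Rq K := by
    intro h hh φ hφ
    exact hcon h hh φ hφ
  have haut : ∀ h ∈ H, ∃ φ : MulAut (PT K), HA C h φ := by
    intro h hh
    obtain ⟨φ, hφ⟩ := C.exists_aut (h := h) (hnorm h hh) (fun x hx => by
      have := hnorm h⁻¹ (H.inv_mem hh) x hx
      rwa [inv_inv] at this)
    exact ⟨φ, hφ⟩
  -- `H` stabilises the lines
  have hOm := W.Om_eq S hK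
  have hstep : ∀ h ∈ H, ∀ v ∈ Om b θ, ap h v ∈ Om b θ := by
    intro h hh v hv
    rw [hOm] at hv ⊢
    obtain ⟨p, hp, i, k, hk, rfl⟩ := hv
    obtain ⟨φ, hφ⟩ := haut h hh
    obtain ⟨γ, hγ⟩ := hcon' h hh φ hφ
    obtain ⟨q, hq⟩ := C.exists_lift γ
    obtain ⟨σ, a, hσ⟩ := frame_map S.two W.hg W.hg ((HA.of_L hq).mul hφ) (by rw [mul_smul, hγ])
    have h1 := hσ i
    refine ⟨(h * p * h⁻¹) * q⁻¹, P.mul_mem (hnorm h hh p hp) (P.inv_mem hq.mem), σ i, k * a i, mul_ne_zero hk h1.1, ?_⟩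
    have e1 : h * p * h⁻¹ * q⁻¹ * (q * h) = h * p := by group
    have e2 : ap h (ap p (g i)) = a i • ap (h * p * h⁻¹ * q⁻¹) (g (σ i)) := by
      calc ap h (ap p (g i)) = ap (h * p) (g i) := (ap_mul _ _ _).symm
        _ = ap (h * p * h⁻¹ * q⁻¹ * (q * h)) (g i) := by rw [e1]
        _ = _ := by rw [ap_mul (h * p * h⁻¹ * q⁻¹), h1.2, ap_smul]
    rw [ap_smul, e2, smul_smul]
  have hHs : H ≤ StabOm b θ := by
    intro h hh v
    refine ⟨fun hv => ?_, hstep h hh v⟩
    have := hstep h⁻¹ (H.inv_mem hh) _ hv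
    rwa [← ap_mul, inv_mul_cancel, ap_one] at this
  have hAS : A ⊓ StabOm b θ = H := by
    rcases hmax.2 (A ⊓ StabOm b θ) (le_inf hmax.1.le hHs) inf_le_left with h | h
    · exact h
    · exfalso
      obtain ⟨x, d, x0, x1, x2, x3, x4, x5⟩ := exists_E b W.hθ S.two
      have hx : x ∈ A := hEA x d x0 x1 x2 x3 x4 x5
      rw [← h] at hx
      exact E_not_mem W.hθ S.two h3 x0 x2 hx.2
  -- the cycle
  obtain ⟨y, d, y0, y1, y2, y3, y4, y5⟩ := exists_y b
  have hyb : ∀ i, ap y (b i) = b (cyc i) := by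
    intro i
    fin_cases i
    · exact y0
    · exact y1
    · exact y2
    · exact y3
    · exact y4
    · exact y5
  have hyH : y ∈ H := by
    rw [← hAS]
    refine ⟨hyA y d y0 y1 y2 y3 y4 y5, ?_⟩
    have hs : ∀ v ∈ Om b θ, ap y v ∈ Om b θ :=
      step_Om W.hθ S.two one_ne_zero (sem_y θ y0 y1 y2 y3 y4 y5) ok10
    have hy3 : y * (y * y) = 1 := by
      apply ap_ext b
      intro i
      rw [ap_mul, ap_mul, hyb, hyb, hyb, ap_one]
      fin_cases i <;> rfl
    intro v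
    refine ⟨fun hv => ?_, hs v⟩
    have h1 := hs _ (hs _ hv)
    rw [← ap_mul, ← ap_mul] at h1
    have e : y * y * y = 1 := by rw [mul_assoc, hy3]
    have e' : y * (y * y) = 1 := hy3
    first
    | rwa [e, ap_one] at h1
    | rwa [e', ap_one] at h1
  obtain ⟨φ, hφ⟩ := haut y hyH
  have hfT := fin_T (K := K)
  -- `y` fixes `R_l`
  have hl : φ • Rl K = Rl K := by
    refine Subgroup.eq_of_le_of_card_ge ?_ (by rw [card_smul])
    rintro _ ⟨r, hr, rfl⟩
    obtain ⟨x, hx⟩ := S.exists_IL' (rad_l hK) hr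
    obtain ⟨s, hs, hxs⟩ := W.hb.diag x ⟨r, hr, hx⟩
    obtain ⟨x', ⟨r', hr', hx'⟩, hxs'⟩ := W.hb.full (s ∘ cyc.symm) (by rw [← hs]; exact Equiv.prod_comp cyc.symm s)
    have h1 : Sgn b (y * x * y⁻¹) (s ∘ cyc.symm) := by
      intro i
      have e1 : ap y⁻¹ (b i) = b (cyc.symm i) := by
        apply ap_inv_eq
        rw [hyb, Equiv.apply_symm_apply]
      rw [ap_mul, ap_mul, e1, hxs, ap_smul, hyb, Equiv.apply_symm_apply]
      rfl
    have h2 := h1.eq hxs'
    have h3 := hφ x r hx.1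
    rw [h2] at h3
    have h4 := h3.unique hx'.1
    change φ r ∈ Rl K
    rw [h4]
    exact hr'
  obtain ⟨γ, hγ⟩ := hcon' y hyH φ hφ
  have e2 : φ • Rq K = MulAut.conj γ⁻¹ • Rq K := by
    rw [← hγ, map_inv, inv_smul_smul, hγ]
  have e3 : Rl K ⊔ MulAut.conj γ⁻¹ • Rq K = ⊤ := by
    have := smul_sup_top (T := PT K) (R := Rl K) (R' := Rq K) gen_lq φ
    rwa [hl, e2] at this
  obtain ⟨ρ, hρ, hρ'⟩ := opp hK γ⁻¹ e3
  obtain ⟨r, hr⟩ := S.exists_IL' (rad_l hK) hρ
  obtain ⟨s, -, hrs⟩ := W.hb.diag r ⟨ρ, hρ, hr⟩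
  obtain ⟨σ, a, hσ⟩ := frame_map S.two W.hg W.hg ((HA.of_L hr.1).mul hφ) (by rw [mul_smul, e2, hρ'])
  refine cyc_contra (fun i => s (cyc i)) ?_
  refine alg_N W.hθ S.two h3 W.cmb (N := r * y) (fun i => ?_) hσ
  rw [ap_mul, hyb, hrs]

/-- **The main result on overgroups.** -/
theorem exists_det (hK : Fintype.card K = 4) (S : Setup P C (TVK K)) (h3 : (3 : F) ≠ 0)
    {b g : Basis (Fin 6) F (ι → F)} {θ : F} (W : Two C b g θ) (hmax : IsMaximalIn A H) (hPH : P ≤ H)
    (hnorm : ∀ h ∈ H, ∀ x ∈ P, h * x * h⁻¹ ∈ P)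
    (hyA : ∀ x : GL ι F, (x : Matrix ι ι F).det = 1 → ap x (b 0) = b 1 → ap x (b 1) = b 2 → ap x (b 2) = b 0 →
      ap x (b 3) = b 3 → ap x (b 4) = b 4 → ap x (b 5) = b 5 → x ∈ A)
    (hEA : ∀ x : GL ι F, (x : Matrix ι ι F).det = 1 → ap x (b 0) = (2 : F)⁻¹ • (θ • b 0 - b 1) →
      ap x (b 1) = (2 : F)⁻¹ • (b 0 - θ • b 1) → ap x (b 2) = b 2 → ap x (b 3) = b 3 → ap x (b 4) = b 4 →
      ap x (b 5) = b 5 → x ∈ A) :
    ∃ h ∈ H, ∃ (σ : Equiv.Perm (Fin 6)) (x : Fin 6 → F), Mon2 b g h σ x ∧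
      (h : Matrix ι ι F).det = -512 * x 0 ^ 6 := by
  obtain ⟨h, hh, φ, hφ, hno⟩ := exists_bad hK S h3 W hmax hPH hnorm hyA hEA
  obtain ⟨h', hh', φ', hφ', e1, e2⟩ := exists_swap hK S hPH hh hφ hno
  obtain ⟨σ, x, hx⟩ := frame_map S.two W.hb W.hg hφ' e1
  obtain ⟨τ, y, hy⟩ := frame_map S.two W.hg W.hb hφ' e2
  exact ⟨h', hh', σ, x, hx, det_swap W.hθ S.two h3 W.cmb hx hy⟩

end Cfsg.Agent.H913.N6
end

private theorem dce_36b343dd3832 : _root_.True := by
  try have : _root_.True := by simp only [_root_.Cfsg.Agent.H913.N6.dig.eq_1]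
  try have : _root_.True := by simp only [_root_.Cfsg.Agent.H913.N6.Ny.eq_1]
  try have : _root_.True := by simp only [_root_.Cfsg.Agent.H913.N6.LL.eq_1]
  try have : _root_.True := by simp only [_root_.Cfsg.Agent.H913.N6.Gz.eq_1]
  try have : _root_.True := by simp only [_root_.Cfsg.Agent.H913.N6.ev.eq_1]
  try have : _root_.True := by simp only [_root_.Cfsg.Agent.H913.N6.fy.eq_1]
  try have : _root_.True := by simp only [_root_.Cfsg.Agent.H913.N6.Hq.eq_1]
  try have : _root_.True := by simp only [_root_.Cfsg.Agent.H913.N6.fg.eq_1]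
  try have : _root_.True := by simp only [_root_.Cfsg.Agent.H913.N6.Gq.eq_1]
  try have : _root_.True := by simp only [_root_.Cfsg.Agent.H913.N6.zc.eq_1]
  try have : _root_.True := by simp only [_root_.Zsqrtd.lift.eq_1]
  try have : _root_.True := by simp only [_root_.Cfsg.Agent.H913.N6.zsub.eq_1]
  try have : _root_.True := by simp only [_root_.Cfsg.Agent.H913.N6.w02.eq_1]
  try have : _root_.True := by simp only [_root_.Cfsg.Agent.H913.N6.Hz.eq_1]
  try have : _root_.True := by simp only [_root_.Cfsg.Agent.H913.N6.zadd.eq_1]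
  try have : _root_.True := by simp only [_root_.Cfsg.Agent.H913.N6.zmul.eq_1]
  try have : _root_.True := by simp only [_root_.Cfsg.Agent.H913.N6.NE.eq_1]
  try have : _root_.True := by simp only [_root_.Cfsg.Agent.H913.N6.Gf.eq_1]
  try have : _root_.True := by simp only [_root_.Cfsg.Agent.H913.N6.fb.eq_1]
  try have : _root_.True := by simp only [_root_.Cfsg.Agent.H913.N6.Cz.eq_1]
  try have : _root_.True := by simp only [_root_.Cfsg.Agent.H913.N6.zF.eq_1]
  try have : _root_.True := by simp only [_root_.Cfsg.Agent.H913.N6.dec.eq_1]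
  try have : _root_.True := by simp only [_root_.Cfsg.Agent.H913.N6.GZm.eq_1]
  try have : _root_.True := by simp only [_root_.Cfsg.Agent.H913.N6.zth.eq_1]
  exact _root_.True.intro
end
end
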